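import Mathlib

/-!
# Closing for the Baby Monster: the facts

`H ≤ G` is a copy of the Baby Monster, `t` a transposition (2A), `z` a 2B-involution, `P = O₂(C_H(z))` of order `2^23`,
`t ∈ P`, `M` the subgroup of index two of `C_H(t)` (the stabilizer of the axis of `t`), `t₁ ∈ P` a second transposition
commuting with `t`, `c = t t₁` (class 2B).

`Inner H P M z t t₁` : the facts about `H`.
`Facts H P M z t t₁` : in addition `C_G(t) ≤ H` and every `G`-conjugate of `t` in `M` is an `H`-conjugate of `t`.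
The pencil proof of `H = G` is `blueprints/R19/helper248/closingB.md`; the names F1, ... refer to it.
-/

set_option autoImplicit false

namespace Cfsg.Agent.BabyU.Clos

variable {G : Type*} [Group G]

/-- The conjugates of `t` under `H`. -/
def cls (H : Subgroup G) (t : G) : Set G := {d | ∃ h ∈ H, h * t * h⁻¹ = d}

/-- The conjugates of `t`. -/
def cl (t : G) : Set G := {d | ∃ g : G, g * t * g⁻¹ = d}

/-- `{1, z, c, c z}` -/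
def four (z c : G) : Set G := {a | a = 1 ∨ a = z ∨ a = c ∨ a = c * z}

/-- The transpositions of `P` whose product with `c` is a transposition. -/
def dd (H P : Subgroup G) (t c : G) : Set G := {d | d ∈ cls H t ∧ d ∈ P ∧ d * c ∈ cls H t}

/-- The facts about `H`. -/
structure Inner (H P M : Subgroup G) (z t t₁ : G) : Prop where
  t_sq : t * t = 1
  t_ne : t ≠ 1
  z_sq : z * z = 1
  z_ne : z ≠ 1
  tP : t ∈ P
  zP : z ∈ P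
  PH : P ≤ H
  MH : M ≤ H
  two : IsPGroup 2 P
  zc : ∀ q ∈ P, q * z = z * q
  P_norm : ∀ h ∈ H, h * z = z * h → ∀ q ∈ P, h * q * h⁻¹ ∈ P
  P_comm : ∀ q ∈ P, ∀ r ∈ P, q * r = r * q ∨ q * r = r * q * z
  /-- F1 -/
  fuse : ∃ q ∈ P, q * t * q⁻¹ = t * z
  /-- F2 -/
  z_notin : z ∉ cls H t
  M_comm : ∀ m ∈ M, m * t = t * m
  M_norm : ∀ g ∈ H, g * t = t * g → ∀ m ∈ M, g * m * g⁻¹ ∈ M
  M_index : ∀ g ∈ H, ∀ h ∈ H, g * t = t * g → h * t = t * h → g ∉ M → h ∉ M → g * h ∈ M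
  tM : t ∈ M
  PM : ∀ q ∈ P, q * t = t * q → q ∈ M
  /-- F3 -/
  adj : ∀ s ∈ cls H t, s ∈ M → s ≠ t → ∃ h ∈ H, h * t = t * h ∧ h * (t * z) * h⁻¹ = s
  /-- F4 -/
  sgn : ∀ g ∈ H, g * t = t * g → g * z = z * g → ∀ q ∈ P, q * t * q⁻¹ = t * z → (g ∈ M ↔ q⁻¹ * g * q ∈ M)
  /-- F5 -/
  odd : Odd (Nat.card {s : G // s ∈ cls H t ∧ s ∈ M ∧ s ≠ t})
  /-- F6 -/
  zM : ∀ h ∈ H, (h * t * h⁻¹) * z = z * (h * t * h⁻¹) → h⁻¹ * z * h ∈ M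
  /-- F7 -/
  perp : ∀ r ∈ H, r * z = z * r → r * t = t * r →
    (∀ d ∈ cls H t, d ∈ P → d * t = t * d → r * d = d * r) → r ∈ P
  /-- F8 -/
  classes : ∀ u ∈ H, u * u = 1 → u ≠ 1 →
    (∃ h ∈ H, h⁻¹ * u * h ∈ M) ∨ ∃ d ∈ cls H t, u * d = d * u ∧ u * d ∈ cls H t
  /-- F9 -/
  fourB : ∀ s ∈ cls H t, (s * t * s) * t = t * (s * t * s) → s * t * s ≠ t → s * t * s ∈ M
  /-- F10 -/
  ord : ∀ s ∈ cls H t, ∃ n : ℕ, 0 < n ∧ n ≤ 4 ∧ (s * t) ^ n = 1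
  /-- F11 -/
  uniq : ∀ d ∈ cls H t, d ∈ P → ∀ e ∈ cls H t, e ∈ P → d * e ≠ e * d → ∀ s ∈ cls H t, s ∈ P → ∀ s' ∈ cls H t, s' ∈ P →
    (s * s' = d * e ∨ s * s' = d * e * z) → s = d ∨ s = d * z ∨ s = e ∨ s = e * z
  /-- F12 -/
  rel : ∃ l : List G, (∀ w ∈ l, w ∈ cls H t ∧ w ∈ P) ∧ Odd l.length ∧ (l.prod = 1 ∨ l.prod = z)
  /-- F13 -/
  irr : ∀ N : Subgroup G, N ≤ P → (∀ h ∈ H, h * z = z * h → ∀ n ∈ N, h * n * h⁻¹ ∈ N) →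
    (∀ n ∈ N, n = 1 ∨ n = z) ∨ t ∈ N
  /-- F14 -/
  t₁D : t₁ ∈ cls H t
  t₁P : t₁ ∈ P
  t₁_comm : t₁ * t = t * t₁
  t₁_ne : t₁ ≠ t
  t₁_ne' : t₁ ≠ t * z
  trans : ∀ d ∈ cls H t, d ∈ P → d * t = t * d → d ≠ t → d ≠ t * z →
    ∃ h ∈ H, h * t = t * h ∧ h * z = z * h ∧ (h * d * h⁻¹ = t₁ ∨ h * d * h⁻¹ = t₁ * z)
  /-- F15 -/
  uniq₂ : ∀ f ∈ dd H P t (t * t₁), ∀ f' ∈ dd H P t (t * t₁), (∀ a ∈ four z (t * t₁), f' ≠ f * a) →
    ∀ s ∈ dd H P t (t * t₁), ∀ s' ∈ dd H P t (t * t₁), (∃ a ∈ four z (t * t₁), s * s' = f * f' * a) →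
    (∃ a ∈ four z (t * t₁), s = f * a) ∨ ∃ a ∈ four z (t * t₁), s = f' * a
  /-- F16 -/
  gen : ∃ f ∈ dd H P t (t * t₁), ∃ f' ∈ dd H P t (t * t₁), (∀ a ∈ four z (t * t₁), f' ≠ f * a) ∧
    ∀ x : G, (x = 1 ∨ x ∈ dd H P t (t * t₁)) → ∃ l : List G,
      (∀ h ∈ l, h ∈ H ∧ h * z = z * h ∧ (h * (t * t₁) * h⁻¹ = t * t₁ ∨ h * (t * t₁) * h⁻¹ = t * t₁ * z)) ∧
      (l.map fun h => h * (f * f' * x) * h⁻¹).prod ∈ cls H t

/-- The facts with the hypotheses on `G`. -/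
structure Facts (H P M : Subgroup G) (z t t₁ : G) : Prop extends Inner H P M z t t₁ where
  cent : ∀ g : G, g * t = t * g → g ∈ H
  /-- (u) -/
  u : ∀ s ∈ cl t, s ∈ M → s ∈ cls H t

/-- `g` is `+` on `d` -/
def Pos (M : Subgroup G) (t d g : G) : Prop := ∃ k : G, k * t * k⁻¹ = d ∧ k⁻¹ * g * k ∈ M

section basic

theorem mem_cl_self (t : G) : t ∈ cl t := ⟨1, by group⟩

theorem mem_cls_self (H : Subgroup G) (t : G) : t ∈ cls H t := ⟨1, H.one_mem, by group⟩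

theorem cls_sub (H : Subgroup G) (t : G) : cls H t ⊆ cl t := fun _ ⟨h, _, e⟩ => ⟨h, e⟩

theorem cl_conj {t d : G} (hd : d ∈ cl t) (g : G) : g * d * g⁻¹ ∈ cl t := by
  obtain ⟨k, rfl⟩ := hd
  exact ⟨g * k, by group⟩

theorem cl_conj' {t d : G} (hd : d ∈ cl t) (g : G) : g⁻¹ * d * g ∈ cl t := by
  have := cl_conj hd g⁻¹
  rwa [inv_inv] at this

theorem cls_conj {H : Subgroup G} {t d : G} (hd : d ∈ cls H t) {g : G} (hg : g ∈ H) : g * d * g⁻¹ ∈ cls H t := by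
  obtain ⟨k, hk, rfl⟩ := hd
  exact ⟨g * k, H.mul_mem hg hk, by group⟩

theorem cls_conj' {H : Subgroup G} {t d : G} (hd : d ∈ cls H t) {g : G} (hg : g ∈ H) : g⁻¹ * d * g ∈ cls H t := by
  have := cls_conj hd (H.inv_mem hg)
  rwa [inv_inv] at this

theorem cls_mem {H : Subgroup G} {t d : G} (ht : t ∈ H) (hd : d ∈ cls H t) : d ∈ H := by
  obtain ⟨k, hk, rfl⟩ := hd
  exact H.mul_mem (H.mul_mem hk ht) (H.inv_mem hk)

theorem cl_sq {t d : G} (ht : t * t = 1) (hd : d ∈ cl t) : d * d = 1 := by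
  obtain ⟨g, rfl⟩ := hd
  calc (g * t * g⁻¹) * (g * t * g⁻¹) = g * (t * t) * g⁻¹ := by group
    _ = 1 := by rw [ht]; group

theorem cl_ne {t d : G} (ht : t ≠ 1) (hd : d ∈ cl t) : d ≠ 1 := by
  obtain ⟨g, rfl⟩ := hd
  intro h
  apply ht
  have : t = g⁻¹ * (g * t * g⁻¹) * g := by group
  rw [this, h]; group

end basic

/-! ### Transport -/

section map

variable {Γ : Type*} [Group Γ] {P M : Subgroup Γ} {z t t₁ : Γ}

theorem map_mem_cls {H : Subgroup Γ} {x : Γ} (φ : Γ →* G) (hφ : Function.Injective φ) :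
    φ x ∈ cls (H.map φ) (φ t) ↔ x ∈ cls H t := by
  constructor
  · rintro ⟨_, ⟨h, hh, rfl⟩, e⟩
    exact ⟨h, hh, hφ (by rw [← e, map_mul, map_mul, map_inv])⟩
  · rintro ⟨h, hh, rfl⟩
    exact ⟨φ h, ⟨h, hh, rfl⟩, by rw [map_mul, map_mul, map_inv]⟩

theorem exists_of_mem_cls {H : Subgroup Γ} {y : G} (φ : Γ →* G) (hy : y ∈ cls (H.map φ) (φ t)) :
    ∃ x ∈ cls H t, φ x = y := by
  obtain ⟨_, ⟨h, hh, rfl⟩, e⟩ := hy
  exact ⟨h * t * h⁻¹, ⟨h, hh, rfl⟩, by rw [← e, map_mul, map_mul, map_inv]⟩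

theorem exists_of_mem_four {c : Γ} {a : G} (φ : Γ →* G) (ha : a ∈ four (φ z) (φ c)) :
    ∃ b ∈ four z c, φ b = a := by
  rcases ha with rfl | rfl | rfl | rfl
  · exact ⟨1, Or.inl rfl, map_one φ⟩
  · exact ⟨z, Or.inr (Or.inl rfl), rfl⟩
  · exact ⟨c, Or.inr (Or.inr (Or.inl rfl)), rfl⟩
  · exact ⟨c * z, Or.inr (Or.inr (Or.inr rfl)), map_mul φ _ _⟩

theorem map_mem_four {c b : Γ} (φ : Γ →* G) (hb : b ∈ four z c) : φ b ∈ four (φ z) (φ c) := by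
  rcases hb with rfl | rfl | rfl | rfl
  · exact Or.inl (map_one φ)
  · exact Or.inr (Or.inl rfl)
  · exact Or.inr (Or.inr (Or.inl rfl))
  · exact Or.inr (Or.inr (Or.inr (map_mul φ _ _)))

theorem exists_of_mem_dd {H : Subgroup Γ} {c : Γ} {y : G} (φ : Γ →* G) (hφ : Function.Injective φ)
    (hy : y ∈ dd (H.map φ) (P.map φ) (φ t) (φ c)) : ∃ x ∈ dd H P t c, φ x = y := by
  obtain ⟨h1, ⟨x, hx, rfl⟩, h3⟩ := hy
  rw [← map_mul, map_mem_cls φ hφ] at h3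
  exact ⟨x, ⟨(map_mem_cls φ hφ).1 h1, hx, h3⟩, rfl⟩

theorem map_mem_dd {H : Subgroup Γ} {c x : Γ} (φ : Γ →* G) (hφ : Function.Injective φ) (hx : x ∈ dd H P t c) :
    φ x ∈ dd (H.map φ) (P.map φ) (φ t) (φ c) := by
  obtain ⟨h1, h2, h3⟩ := hx
  exact ⟨(map_mem_cls φ hφ).2 h1, ⟨x, h2, rfl⟩, by rw [← map_mul]; exact (map_mem_cls φ hφ).2 h3⟩

end map

end Cfsg.Agent.BabyU.Clos
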