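import Cfsg.Agent.BabyU.CentT1
import Cfsg.Agent.BM.KHAll

/-!
# U-B: `CentralizerSt`, unconditionally

The presented Baby Monster is simple and finite and the centraliser of its generator `t1` has order `4 |²E₆(2)|`.
-/

set_option autoImplicit false

namespace Cfsg.Agent.BabyU.CentFinal

open Cfsg.Agent.BM

/-- **The centraliser of the generator `t1` in the presented Baby Monster.** -/
theorem centralizerSt : CentralizerSt := by
  refine ⟨KHAll.isB.1, Nat.finite_of_card_ne_zero (by rw [KHAll.card_B]; norm_num), ?_⟩
  intro K _ _ hK
  rw [CentT1.card_E K hK]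
  exact KHAll.card_cent .t1

end Cfsg.Agent.BabyU.CentFinal
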