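import Cfsg.Agent.BabyU.Setup
import Cfsg.Agent.BabyM.AbsFinal
import Cfsg.Agent.BM.Final1704
import Cfsg.Agent.S1066

/-!
The centraliser of the generator `t1` of the presented Baby Monster has order `4 |²E₆(2)|`: from the order
of the presented group (S1704), a homomorphism onto the model which maps `t1` to a transposition, and the order of the
centraliser of a transposition in the model.
-/

set_option autoImplicit false

namespace Cfsg.Agent.BabyU.CentT1

open Cfsg.Agent.BabyM.Model

/-- `|²E₆(2)|` -/
theorem card_E (K : Type*) [Field K] [Fintype K] (hK : Fintype.card K = 4) :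
    Nat.card (Cfsg.Lie.twistedE6 K 2) = 76532479683774853939200 := by
  have h := Cfsg.Agent.S1066.result (K := K) (q := 2) Nat.prime_two.isPrimePow (by rw [hK]; norm_num)
  norm_num at h
  omega

/-- conjugate elements have centralisers of the same order -/
theorem card_cent_conj {G : Type*} [Group G] (a g : G) :
    Nat.card (Subgroup.centralizer ({g * a * g⁻¹} : Set G)) = Nat.card (Subgroup.centralizer ({a} : Set G)) := by
  have h : Subgroup.centralizer ({g * a * g⁻¹} : Set G) =
      (Subgroup.centralizer ({a} : Set G)).map (MulAut.conj g).toMonoidHom := by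
    ext x
    rw [Subgroup.mem_centralizer_iff, Subgroup.mem_map]
    constructor
    · intro hx
      have hx' := hx _ rfl
      refine ⟨g⁻¹ * x * g, ?_, by simp [mul_assoc]⟩
      rw [Subgroup.mem_centralizer_iff]
      intro y hy
      rw [Set.mem_singleton_iff] at hy
      rw [hy]
      calc a * (g⁻¹ * x * g) = g⁻¹ * (g * a * g⁻¹ * x) * g := by group
        _ = g⁻¹ * (x * (g * a * g⁻¹)) * g := by rw [hx']
        _ = g⁻¹ * x * g * a := by group
    · rintro ⟨y, hy, rfl⟩ z hz
      rw [Set.mem_singleton_iff] at hz
      subst hz
      have hy' := (Subgroup.mem_centralizer_iff.1 hy) a rfl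
      show g * a * g⁻¹ * (g * y * g⁻¹) = g * y * g⁻¹ * (g * a * g⁻¹)
      calc g * a * g⁻¹ * (g * y * g⁻¹) = g * (a * y) * g⁻¹ := by group
        _ = g * (y * a) * g⁻¹ := by rw [hy']
        _ = g * y * g⁻¹ * (g * a * g⁻¹) := by group
  rw [h]
  exact (Nat.card_congr ((Subgroup.centralizer ({a} : Set G)).equivMapOfInjective
    (MulAut.conj g).toMonoidHom (MulAut.conj g).injective).toEquiv).symm

/-- an isomorphism preserves the orders of centralisers -/
theorem card_cent_equiv {G H : Type*} [Group G] [Group H] (e : G ≃* H) (a : G) :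
    Nat.card (Subgroup.centralizer ({a} : Set G)) = Nat.card (Subgroup.centralizer ({e a} : Set H)) := by
  have h : Subgroup.centralizer ({e a} : Set H) =
      (Subgroup.centralizer ({a} : Set G)).map e.toMonoidHom := by
    ext x
    rw [Subgroup.mem_centralizer_iff, Subgroup.mem_map]
    constructor
    · intro hx
      have hx' := hx _ rfl
      refine ⟨e.symm x, ?_, e.apply_symm_apply x⟩
      rw [Subgroup.mem_centralizer_iff]
      intro y hy
      rw [Set.mem_singleton_iff] at hy
      rw [hy]
      apply e.injective
      rw [map_mul, map_mul, e.apply_symm_apply]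
      exact hx'
    · rintro ⟨y, hy, rfl⟩ z hz
      rw [Set.mem_singleton_iff] at hz
      subst hz
      have hy' := (Subgroup.mem_centralizer_iff.1 hy) a rfl
      show e a * e y = e y * e a
      rw [← map_mul, hy', map_mul]
  rw [h]
  exact Nat.card_congr ((Subgroup.centralizer ({a} : Set G)).equivMapOfInjective
    e.toMonoidHom e.injective).toEquiv

/-- a surjection between groups of the order of the Baby Monster is an isomorphism -/
theorem bijective_of_isB {G X : Type*} [Group G] [Group X] (hG : IsB G) (hX : IsB X) (f : G →* X)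
    (hf : Function.Surjective f) : Function.Bijective f := by
  have h1 : Nat.card G = 4154781481226426191177580544000000 := hG.2
  have h2 : Nat.card X = 4154781481226426191177580544000000 := hX.2
  have : Finite G := Nat.finite_of_card_ne_zero (by rw [h1]; norm_num)
  exact (Nat.bijective_iff_surjective_and_card f).2 ⟨hf, by rw [h1, h2]⟩

/-- `CentralizerSt` from the model. -/
theorem of_model {W : Type} [AddCommGroup W] [Module ℚ W] {M : BData W} {K₀ : Type} [Group K₀]
    (A : BAll M K₀) (B : BTrans M) (hB : IsB Spor.BabyMonster) (f : Spor.BabyMonster →* M.G)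
    (hf : Function.Surjective f) (g : M.G)
    (hg : f (PresentedGroup.of .t1) = g * ⟨M.t₀, A.C_le_G A.t₀_C⟩ * g⁻¹) :
    CentralizerSt := by
  refine ⟨hB.1, Nat.finite_of_card_ne_zero (by rw [hB.2]; norm_num), ?_⟩
  intro K _ _ hK
  rw [card_E K hK]
  have hb := bijective_of_isB hB A.isB f hf
  rw [card_cent_equiv (MulEquiv.ofBijective f hb) (PresentedGroup.of .t1)]
  change Nat.card (Subgroup.centralizer ({f (PresentedGroup.of .t1)} : Set M.G)) = _
  rw [hg, card_cent_conj, A.card_cent B]

end Cfsg.Agent.BabyU.CentT1
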