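import Cfsg.Agent.BabyU.CentT1
import Cfsg.Agent.BM.StageWConj

/-!
`CentralizerSt` from the concrete model of the Baby Monster, S1704 and the surjectivity of the homomorphism onto the
model.
-/

set_option autoImplicit false

namespace Cfsg.Agent.BabyU.CentT1

open Cfsg.Agent.BabyM.Model Cfsg.Agent.BabyM.Inst Cfsg.Agent.BabyM.WordsInst Cfsg.Agent.BM

theorem of_stageW {K₀ : Type} [Group K₀] (A : BAll M K₀) (B : BTrans M) (O : base.Ok)
    (hB : IsB Spor.BabyMonster) (hs : Function.Surjective (StageW.hom A O)) : CentralizerSt := by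
  obtain ⟨g, hg⟩ := StageW.exists_conj A O .t1
  exact of_model A B hB (StageW.hom A O) hs g (by rw [StageW.hom_of]; exact hg)

end Cfsg.Agent.BabyU.CentT1
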