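import Cfsg.Agent.BabyU.FusGood
import Cfsg.Agent.TwoESix.Cover

/-!
# U-B (S1662), fusion: `perf` and `chain` from the relations of the double cover

`m : Fin 10 → M` satisfies `ZRels m z` and lies over the class `T` of root involutions.  The seven nodes of an `E₇`
subdiagram give `-1 ∈ W(E₇)` as ninth power of a Coxeter word and as product of seven commuting reflections.

* `perf`: the centraliser of a canonical lift has no subgroup of index two.
* `chain`: the canonical lifts of seven pairwise commuting different roots have product `z`.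
-/

set_option autoImplicit false

namespace Cfsg.Agent.BabyU.Chain

open Cfsg.Agent.TwoESix.Cox10 Cfsg.Agent.TwoESix.Lift Cfsg.Agent.BabyU.Lab

/-- palindrome words: conjugates of nodes -/
def pal (p : List (Fin 10) × Fin 10) : List (Fin 10) := p.1 ++ [p.2] ++ p.1.reverse

/-- a frame of the `E₇` of the word `W321` -/
def FA : List (List (Fin 10) × Fin 10) :=
  [([], 7), ([], 4), ([], 2), ([], 0), ([3, 7, 4, 3], 2), ([1, 2, 3, 7, 4, 3, 2, 1], 0),
    ([5, 4, 3, 7, 2, 3, 4, 1, 2, 3, 7, 5, 4, 3, 2, 1], 0)]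

/-- conjugating words of pairs of roots of `FA` to the pair of the nodes `0`, `2` -/
def GA : List (List (List (Fin 10))) := [
    [[], [3, 2, 1, 0, 4, 3, 2, 1, 5, 4, 3, 2, 7, 3, 4, 5], [1, 0, 2, 1, 3, 2, 1, 0, 7, 3, 2, 1], [1, 0, 2, 1, 3, 2,
      7, 3], [1, 0, 3, 2, 1, 0, 4, 3, 2, 1, 7, 3], [1, 0, 3, 2, 1, 4, 3, 2, 7, 3, 2, 1], [1, 0, 3, 4, 5, 7, 3, 2, 1,
      4, 3, 2, 7, 3, 4, 5]],
    [[], [], [1, 0, 2, 1, 3, 2, 1, 0, 4, 3, 2, 1], [1, 0, 2, 1, 3, 2, 4, 3], [1, 0, 3, 2, 1, 0, 7, 3, 2, 1, 4, 3],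
      [1, 0, 3, 2, 1, 4, 7, 3, 2, 1, 4, 3], [1, 0, 3, 2, 1, 4, 5, 7, 3, 2, 1, 4, 3, 2, 5, 4, 7, 3, 4, 5]],
    [[], [], [], [1, 0, 2, 1], [1, 0, 3, 2, 1, 0, 4, 3, 2, 1, 5, 4, 3, 2, 7, 3, 2, 4, 3, 5], [1, 0, 3, 4, 7, 3, 2,
      1], [1, 0, 3, 2, 1, 4, 3, 2, 5, 7, 3, 2, 1, 4, 3, 2, 7, 3, 4, 5]],
    [[], [], [], [], [3, 4, 7, 3], [1, 0, 3, 2, 1, 0, 4, 3, 2, 1, 5, 4, 3, 2, 7, 3, 2, 1, 0, 4, 3, 2, 1, 5], [1, 0,
      3, 2, 1, 4, 3, 2, 5, 4, 3, 7, 3, 2, 1, 0, 4, 3, 2, 1, 7, 3, 4, 5]],
    [[], [], [], [], [], [1, 0, 3, 2, 4, 3, 7, 3, 2, 1, 4, 3], [1, 0, 3, 2, 4, 3, 5, 7, 3, 2, 1, 4, 3, 2, 5, 4, 7,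
      3, 4, 5]],
    [[], [], [], [], [], [], [1, 0, 3, 2, 4, 3, 5, 4, 7, 3, 2, 1, 0, 4, 3, 2, 5, 4, 7, 3, 2, 1, 4, 5]],
    [[], [], [], [], [], [], []]]

/-- a frame of the `E₇` of the word `W231` -/
def FB : List (List (Fin 10) × Fin 10) :=
  [([], 7), ([], 6), ([], 4), ([], 2), ([3, 7, 4, 3], 2), ([5, 4, 3, 7, 6, 5, 4, 3], 2),
    ([1, 2, 3, 7, 4, 5, 3, 4, 2, 3, 7, 6, 5, 4, 3, 2], 1)]

/-- conjugating words of pairs of roots of `FB` to the pair of the nodes `6`, `4` -/
def GB : List (List (List (Fin 10))) := [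
    [[], [5, 4, 3, 6, 5, 4, 7, 3], [3, 4, 5, 4, 3, 6, 5, 4, 7, 3, 4, 5], [3, 2, 1, 4, 3, 2, 5, 4, 3, 6, 5, 4, 7, 3,
      2, 1], [3, 2, 4, 3, 5, 4, 3, 6, 5, 4, 7, 3], [3, 2, 5, 4, 3, 6, 5, 4, 7, 3, 4, 5], [3, 2, 1, 5, 6, 7, 3, 2, 4,
      3, 5, 4, 7, 3, 2, 1]],
    [[], [], [], [3, 2, 4, 3], [3, 2, 7, 3], [3, 2, 1, 4, 3, 2, 5, 4, 3, 2, 6, 5, 4, 3, 7, 3, 2, 1, 4, 3, 5, 4, 6,
      5], [3, 2, 1, 5, 4, 3, 2, 6, 5, 4, 3, 7, 3, 2, 4, 3, 5, 4, 6, 5, 7, 3, 2, 1]],
    [[], [], [], [3, 2, 4, 3, 5, 4, 6, 5], [3, 2, 1, 4, 3, 2, 5, 4, 3, 2, 6, 5, 4, 3, 7, 3, 2, 1, 4, 3], [3, 2, 5,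
      6, 7, 3, 4, 5], [3, 2, 1, 5, 4, 3, 6, 5, 4, 7, 3, 2, 4, 3, 5, 4, 7, 3, 2, 1]],
    [[], [], [], [], [3, 4, 5, 4, 6, 5, 7, 3, 2, 4, 3, 5], [3, 2, 5, 4, 6, 5, 7, 3, 2, 4, 3, 5], [3, 2, 1, 5, 4, 6,
      5, 7, 3, 2, 1, 4, 3, 2, 5, 4, 7, 3, 2, 1]],
    [[], [], [], [], [], [3, 2, 5, 4, 3, 6, 7, 3, 2, 4, 3, 5], [3, 2, 1, 5, 4, 3, 6, 7, 3, 2, 1, 4, 3, 2, 5, 4, 7,
      3, 2, 1]],
    [[], [], [], [], [], [], [3, 2, 1, 5, 4, 3, 2, 6, 7, 3, 2, 1, 4, 3, 2, 5, 4, 6, 7, 3, 2, 1, 4, 5]],
    [[], [], [], [], [], [], []]]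


theorem chk_FA : chk (FA.map pal).flatten (rep 9 W321) = true := by decide +kernel
theorem chk_FB : chk (FB.map pal).flatten (rep 9 W231) = true := by decide +kernel

/-- the check for a pair of palindromes -/
def pairChk (g : List (Fin 10)) (i j : Fin 10) (p q : List (Fin 10) × Fin 10) : Bool :=
  chk (pal p ++ pal q) (pal q ++ pal p) && chk (g ++ pal p ++ g.reverse) [i] && chk (g ++ pal q ++ g.reverse) [j]

/-- all pairs -/
def allChk (G : List (List (List (Fin 10)))) (i j : Fin 10) (F : List (List (Fin 10) × Fin 10)) : Bool :=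
  (List.range 7).all fun a => (List.range 7).all fun b =>
    !(Nat.blt a b) || pairChk ((G.getD a []).getD b []) i j (F.getD a ([], 0)) (F.getD b ([], 0))

theorem all_FA : allChk GA 0 2 FA = true := by decide +kernel
theorem all_FB : allChk GB 6 4 FB = true := by decide +kernel

theorem nbr : ∀ i j : Fin 10, i ≠ j → lab i j = 2 → ∃ k : Fin 10,
    (lab k i = 3 ∧ lab k j = 2) ∨ (lab k i = 2 ∧ lab k j = 3) := by decide +kernel

theorem no_triangle : ∀ a b i j : Fin 10, adj a b = true → lab i j = 3 → lab i b ≠ 3 ∨ lab j b ≠ 3 := by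
  decide +kernel

theorem m321 : ∀ i ∈ rep 9 W321, (9 : Fin 10) ≠ i ∧ lab 9 i = 2 := by decide +kernel
theorem m231 : ∀ i ∈ rep 9 W231, (9 : Fin 10) ≠ i ∧ lab 9 i = 2 := by decide +kernel
theorem l321 : (rep 9 W321).length = 63 := by decide +kernel
theorem l231 : (rep 9 W231).length = 63 := by decide +kernel

section

variable {M E : Type*} [Group M] [Group E] {π : M →* E} {z : M} {T : Set E} {m : Fin 10 → M}

theorem ev_pal (hs : M10.IsLiftable m) (p : List (Fin 10) × Fin 10) :
    ev m (pal p) = ev m p.1 * m p.2 * (ev m p.1)⁻¹ := by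
  rw [pal, ev_append, ev_append, ev_reverse hs, ev_cons, ev_nil, mul_one]

theorem ev_const {x : E} {e : Fin 10 → E} (h : ∀ i, e i = x) (w : List (Fin 10)) :
    ev e w = x ^ w.length := by
  induction w with
  | nil => simp [ev_nil]
  | cons i w ih => rw [ev_cons, ih, h, List.length_cons, pow_succ']

/-- Adjacent nodes have different images. -/
theorem adj_ne {e : Fin 10 → E} (hs : M10.IsLiftable e) (h1 : ∀ i, e i ≠ 1) (h9 : ev e W321 ^ 9 = 1)
    {i j : Fin 10} (h : lab i j = 3) : e i ≠ e j := by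
  intro hij
  have mv : ∀ a b, adj a b = true → e a = e j → e b = e j := by
    intro a b hab ha
    have hcom : e j * e b = e b * e j := by
      rcases no_triangle a b i j hab h with h3 | h3
      · rw [← hij]
        rcases lab_cases i b with ⟨_, rfl⟩ | h4 | h4
        · rfl
        · exact (comm_of hs h4).eq
        · exact absurd h4 h3
      · rcases lab_cases j b with ⟨_, rfl⟩ | h4 | h4
        · rfl
        · exact (comm_of hs h4).eq
        · exact absurd h4 h3
    have h5 := braid hs hab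
    rw [ha] at h5
    have hj : e j * e j = 1 := Cfsg.Agent.TwoESix.Cox10.sq hs j
    have hb : e b * e b = 1 := Cfsg.Agent.TwoESix.Cox10.sq hs b
    have h6 : e j * e b * e j = e b := by
      rw [hcom, mul_assoc, hj, mul_one]
    have h7 : e b * e j * e b = e j := by
      rw [← hcom, mul_assoc, hb, mul_one]
    rw [h6, h7] at h5
    exact h5
  have h3 : e 3 = e j := by
    have := all_nodes (fun k => (e k = e j ↔ e 3 = e j)) (fun a b hab hk =>
      ⟨fun hb => hk.1 (mv b a (adj_symm a b hab) hb), fun h3 => mv a b hab (hk.2 h3)⟩) Iff.rfl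
    exact (this j).1 rfl
  have hall := all_nodes (fun k => e k = e j) mv h3
  have hj : e j * e j = 1 := Cfsg.Agent.TwoESix.Cox10.sq hs j
  rw [ev_const hall, ← pow_mul] at h9
  have : W321.length * 9 = 2 * 31 + 1 := by decide
  rw [this, pow_succ, pow_mul, pow_two, hj, one_pow, one_mul] at h9
  exact h1 j h9

/-- Two nonadjacent nodes have different images, and their product is not a root. -/
theorem node_sep (R : Roots E T) (e1 : ∀ r ∈ T, ∀ s ∈ T, (r * s) ^ 4 = 1 ∨ (r * s) ^ 3 = 1)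
    {e : Fin 10 → E} (hs : M10.IsLiftable e) (hT : ∀ i, e i ∈ T) (h9 : ev e W321 ^ 9 = 1) {i j : Fin 10} (hij : i ≠ j)
    (h : lab i j = 2) : e i ≠ e j ∧ e i * e j ∉ T := by
  have hne : ∀ i, e i ≠ 1 := fun i => R.ne_one _ (hT i)
  have hsq : ∀ i, e i * e i = 1 := fun i => Cfsg.Agent.TwoESix.Cox10.sq hs i
  have key : ∀ i j k : Fin 10, lab i j = 2 → lab k i = 3 → lab k j = 2 → e i ≠ e j ∧ e i * e j ∉ T := by
    intro i j k h hki hkj
    have c1 : Commute (e k) (e j) := comm_of hs hkj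
    have c2 : Commute (e i) (e j) := comm_of hs h
    have b := braid hs (adj_of_lab k i hki)
    have ne1 := adj_ne hs hne h9 hki
    refine ⟨?_, ?_⟩
    · intro heq
      apply ne1
      rw [← heq] at c1
      have h1 : e k * e i * e k = e i := by rw [c1.eq, mul_assoc, hsq, mul_one]
      have h2 : e i * e k * e i = e k := by rw [← c1.eq, mul_assoc, hsq, mul_one]
      rw [h1, h2] at b
      exact b.symm
    · intro hin
      have c3 : Commute (e k * e i) (e j) := c1.mul_left c2
      have hp : ∀ n : ℕ, (e k * (e i * e j)) ^ n = (e k * e i) ^ n * e j ^ n := fun n => by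
        rw [← mul_assoc, c3.mul_pow]
      have h3 : (e k * e i) ^ 3 = 1 := by
        have := hs k i
        rwa [M10_apply, hki] at this
      rcases e1 _ (hT k) _ hin with h4 | h4
      · rw [hp] at h4
        have : e j ^ 4 = 1 := by
          have : (4 : ℕ) = 2 * 2 := rfl
          rw [this, pow_mul, pow_two (e j), hsq, one_pow]
        rw [this, mul_one, pow_succ, h3, one_mul] at h4
        apply ne1
        have h5 : (e k)⁻¹ = e i := inv_eq_of_mul_eq_one_right h4
        rw [← h5, inv_eq_of_mul_eq_one_right (hsq k)]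
      · rw [hp, h3, one_mul, pow_succ, pow_two, hsq, one_mul] at h4
        exact hne j h4
  obtain ⟨k, hk | hk⟩ := nbr i j hij h
  · exact key i j k h hk.1 hk.2
  · have h' : lab j i = 2 := by rw [lab_symm]; exact h
    have := key j i k h' hk.2 hk.1
    have c2 : Commute (e i) (e j) := comm_of hs h
    exact ⟨this.1.symm, by rw [c2.eq]; exact this.2⟩

/-- Either all nodes are canonical lifts or all are good lifts. -/
theorem dich (C : Cover π z) (R : Roots E T) (hs : M10.IsLiftable m) (hT : ∀ i, π (m i) ∈ T) :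
    (∀ i, m i = w π T (π (m i))) ∨ (∀ i, m i = Lab.lab π z T (π (m i))) := by
  have cj : ∀ i j, adj i j = true → (m i * m j) * m i * (m i * m j)⁻¹ = m j := fun i j h =>
    conj_braid (braid hs h)
  rcases eq_w_or_lab C R (hT 3) with h | h
  · left
    refine all_nodes _ (fun i j hij hi => ?_) h
    have h1 := w_conj C R (m i * m j) (hT i)
    rw [← hi, cj i j hij, ← map_inv, ← map_mul, ← map_mul, cj i j hij] at h1
    exact h1
  · right
    refine all_nodes _ (fun i j hij hi => ?_) h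
    have h1 := lab_conj C R (m i * m j) (hT i)
    rw [← hi, cj i j hij, ← map_inv, ← map_mul, ← map_mul, cj i j hij] at h1
    exact h1

theorem map_ev_w (hw : ∀ i, m i = w π T (π (m i))) (l : List (Fin 10)) :
    ((l.map fun i => π (m i)).map (w π T)).prod = ev m l := by
  rw [ev, List.map_map]
  congr 1
  exact List.map_congr_left fun i _ => (hw i).symm

theorem map_ev_lab (C : Cover π z) (hw : ∀ i, m i = Lab.lab π z T (π (m i))) (l : List (Fin 10)) :
    ((l.map fun i => π (m i)).map (w π T)).prod = z ^ l.length * ev m l := by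
  have h1 := prod_lab (T := T) C (l.map fun i => π (m i))
  have h2 : ((l.map fun i => π (m i)).map (Lab.lab π z T)).prod = ev m l := by
    rw [ev, List.map_map]
    congr 1
    exact List.map_congr_left fun i _ => (hw i).symm
  rw [h2, List.length_map] at h1
  have h3 : z ^ l.length * z ^ l.length = 1 := by
    rw [← pow_add, ← two_mul, pow_mul, pow_two, C.t_mul_t, one_pow]
  rw [h1, ← mul_assoc, h3, one_mul]

variable (C : Cover π z) (R : Roots E T) (hz : ZRels m z) (hT : ∀ i, π (m i) ∈ T)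
  (e1 : ∀ r ∈ T, ∀ s ∈ T, (r * s) ^ 4 = 1 ∨ (r * s) ^ 3 = 1)

include C R hz hT e1

theorem perf {b : E} (hb : b ∈ T) (H : Subgroup M) : H.relIndex (Subgroup.centralizer ({w π T b} : Set M)) ≠ 2 := by
  classical
  have hs' : M10.IsLiftable (fun i => π (m i)) := by
    intro i j
    show (π (m i) * π (m j)) ^ _ = 1
    rw [← map_mul, ← map_pow, hz.lift i j, map_one]
  have h9' : ev (fun i => π (m i)) W321 ^ 9 = 1 := by
    rw [← ev_map, ← map_pow, hz.e321, C.map_t]
  have sep : ∀ i, (9 : Fin 10) ≠ i ∧ lab 9 i = 2 →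
      π (m i) ∈ T ∧ π (m i) ≠ π (m 9) ∧ π (m i) * π (m 9) = π (m 9) * π (m i) ∧ π (m 9) * π (m i) ∉ T := by
    rintro i ⟨h1, h2⟩
    have := node_sep R e1 hs' hT h9' h1 h2
    exact ⟨hT i, this.1.symm, ((comm_of hs' h2).eq).symm, this.2⟩
  have hodd63 : z ^ 63 = z := by
    have : (63 : ℕ) = 2 * 31 + 1 := rfl
    rw [this, pow_succ, pow_mul, pow_two, C.t_mul_t, one_pow, one_mul]
  -- the root of node 9
  have base : ∀ H : Subgroup M, H.relIndex (Subgroup.centralizer ({w π T (π (m 9))} : Set M)) ≠ 2 := by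
    intro H
    have hu : ∀ l : List (Fin 10), (∀ i ∈ l, (9 : Fin 10) ≠ i ∧ lab 9 i = 2) → ∀ a ∈ l.map fun i => π (m i),
        a ∈ T ∧ a ≠ π (m 9) ∧ a * π (m 9) = π (m 9) * a ∧ π (m 9) * a ∉ T := by
      intro l hl a ha
      obtain ⟨i, hi, rfl⟩ := List.mem_map.1 ha
      exact sep i (hl i hi)
    rcases dich C R hz.lift hT with hw | hw
    · refine relIndex_ne_two C R (hT 9) ((rep 9 W231).map fun i => π (m i)) ((rep 9 W321).map fun i => π (m i))
        (hu _ m231) (hu _ m321) ?_ ?_ ?_ H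
      · rw [List.length_map, l231]; decide
      · rw [map_ev_w hw, ev_rep, hz.e231]
      · rw [map_ev_w hw, ev_rep, hz.e321]
    · refine relIndex_ne_two C R (hT 9) ((rep 9 W321).map fun i => π (m i)) ((rep 9 W231).map fun i => π (m i))
        (hu _ m321) (hu _ m231) ?_ ?_ ?_ H
      · rw [List.length_map, l321]; decide
      · rw [map_ev_lab C hw, ev_rep, hz.e321, l321, hodd63, C.t_mul_t]
      · rw [map_ev_lab C hw, ev_rep, hz.e231, l231, hodd63, mul_one]
  -- conjugation
  intro hH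
  obtain ⟨g, hg⟩ := R.one _ hb _ (hT 9)
  obtain ⟨n, rfl⟩ := C.surj g
  have h1 := w_conj C R n hb
  rw [hg] at h1
  apply base (H.map (MulAut.conj n).toMonoidHom)
  have h2 : Subgroup.centralizer ({w π T (π (m 9))} : Set M) =
      (Subgroup.centralizer ({w π T b} : Set M)).map (MulAut.conj n).toMonoidHom := by
    rw [← h1]
    ext x
    rw [Subgroup.mem_centralizer_singleton_iff, Subgroup.mem_map]
    constructor
    · intro hx
      refine ⟨n⁻¹ * x * n, ?_, by simp [mul_assoc]⟩
      rw [Subgroup.mem_centralizer_singleton_iff]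
      calc n⁻¹ * x * n * w π T b = n⁻¹ * (x * (n * w π T b * n⁻¹)) * n := by group
        _ = n⁻¹ * ((n * w π T b * n⁻¹) * x) * n := by rw [hx]
        _ = w π T b * (n⁻¹ * x * n) := by group
    · rintro ⟨y, hy, rfl⟩
      rw [Subgroup.mem_centralizer_singleton_iff] at hy
      show n * y * n⁻¹ * (n * w π T b * n⁻¹) = n * w π T b * n⁻¹ * (n * y * n⁻¹)
      calc n * y * n⁻¹ * (n * w π T b * n⁻¹) = n * (y * w π T b) * n⁻¹ := by group
        _ = n * (w π T b * y) * n⁻¹ := by rw [hy]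
        _ = _ := by group
  rw [h2, Subgroup.relIndex_map_map_of_injective _ _ (MulAut.conj n).injective]
  exact hH

theorem chain : ∃ l : List E, (∀ r ∈ l, r ∈ T) ∧ l.Pairwise (fun r s => r * s = s * r ∧ r ≠ s) ∧
    (l.map (w π T)).prod = z := by
  classical
  have hs' : M10.IsLiftable (fun i => π (m i)) := by
    intro i j
    show (π (m i) * π (m j)) ^ _ = 1
    rw [← map_mul, ← map_pow, hz.lift i j, map_one]
  have h9' : ev (fun i => π (m i)) W321 ^ 9 = 1 := by
    rw [← ev_map, ← map_pow, hz.e321, C.map_t]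
  -- roots of a frame
  have inT : ∀ p, π (ev m (pal p)) ∈ T := by
    intro p
    rw [ev_pal hz.lift, map_mul, map_mul, map_inv]
    exact R.conj _ (hT _) _
  have pw : ∀ (G : List (List (List (Fin 10)))) (i j : Fin 10) (F : List (List (Fin 10) × Fin 10)),
      i ≠ j → lab i j = 2 → F.length = 7 → allChk G i j F = true →
      (F.map fun p => π (ev m (pal p))).Pairwise (fun r s => r * s = s * r ∧ r ≠ s) := by
    intro G i j F hij hl hF hc
    rw [List.pairwise_map, List.pairwise_iff_getElem]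
    intro a b ha hb hab
    rw [allChk, List.all_eq_true] at hc
    have h1 := hc a (List.mem_range.2 (by omega))
    rw [List.all_eq_true] at h1
    have h2 := h1 b (List.mem_range.2 (by omega))
    rw [Bool.or_eq_true, Bool.not_eq_true', pairChk, Bool.and_eq_true, Bool.and_eq_true] at h2
    rcases h2 with h2 | h2
    · have : Nat.blt a b = true := by rw [Nat.blt_eq]; exact hab
      rw [this] at h2; exact absurd h2 (by decide)
    · rw [List.getD_eq_getElem _ _ ha, List.getD_eq_getElem _ _ hb] at h2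
      obtain ⟨⟨c1, c2⟩, c3⟩ := h2
      set p := F[a] with hp
      set q := F[b] with hq
      set g := (G.getD a []).getD b [] with hg
      have d1 := ev_eq_ev hz.lift c1
      have d2 := ev_eq_ev hz.lift c2
      have d3 := ev_eq_ev hz.lift c3
      rw [ev_append, ev_append] at d1
      rw [ev_append, ev_append, ev_reverse hz.lift, ev_cons, ev_nil, mul_one] at d2 d3
      refine ⟨by rw [← map_mul, d1, map_mul], ?_⟩
      intro heq
      apply (node_sep R e1 hs' hT h9' hij hl).1
      show π (m i) = π (m j)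
      rw [← d2, ← d3, map_mul, map_mul, heq, map_mul, map_mul]
  rcases dich C R hz.lift hT with hw | hw
  · refine ⟨FA.map fun p => π (ev m (pal p)), ?_, pw GA 0 2 FA (by decide) (by decide) rfl all_FA, ?_⟩
    · intro r hr
      obtain ⟨p, _, rfl⟩ := List.mem_map.1 hr
      exact inT p
    · have h1 := ev_eq_ev hz.lift chk_FA
      rw [ev_rep, hz.e321] at h1
      rw [← h1, List.map_map]
      have h2 : ∀ F : List (List (Fin 10) × Fin 10),
          (F.map (w π T ∘ fun p => π (ev m (pal p)))).prod = ev m (F.map pal).flatten := by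
        intro F
        induction F with
        | nil => rfl
        | cons p F ih =>
          rw [List.map_cons, List.prod_cons, ih, List.map_cons, List.flatten_cons, ev_append]
          congr 1
          show w π T (π (ev m (pal p))) = _
          have h3 := w_conj C R (ev m p.1) (hT p.2)
          rw [← hw p.2] at h3
          rw [ev_pal hz.lift, map_mul, map_mul, map_inv, ← h3]
      exact h2 FA
  · refine ⟨FB.map fun p => π (ev m (pal p)), ?_, pw GB 6 4 FB (by decide) (by decide) rfl all_FB, ?_⟩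
    · intro r hr
      obtain ⟨p, _, rfl⟩ := List.mem_map.1 hr
      exact inT p
    · have h1 := ev_eq_ev hz.lift chk_FB
      rw [ev_rep, hz.e231] at h1
      have h2 : ∀ F : List (List (Fin 10) × Fin 10),
          ((F.map fun p => π (ev m (pal p))).map (Lab.lab π z T)).prod = ev m (F.map pal).flatten := by
        intro F
        induction F with
        | nil => rfl
        | cons p F ih =>
          rw [List.map_cons, List.map_cons, List.prod_cons, ih, List.map_cons, List.flatten_cons, ev_append]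
          congr 1
          show Lab.lab π z T (π (ev m (pal p))) = _
          have h3 := lab_conj C R (ev m p.1) (hT p.2)
          rw [← hw p.2] at h3
          rw [ev_pal hz.lift, map_mul, map_mul, map_inv, ← h3]
      have h3 := prod_lab (T := T) C (FB.map fun p => π (ev m (pal p)))
      rw [h2 FB, h1, List.length_map] at h3
      have h4 : z ^ FB.length = z := by
        have : FB.length = 2 * 3 + 1 := rfl
        rw [this, pow_succ, pow_mul, pow_two, C.t_mul_t, one_pow, one_mul]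
      rw [h4] at h3
      have h5 : z * 1 = z * (z * ((FB.map fun p => π (ev m (pal p))).map (w π T)).prod) := by rw [← h3]
      rw [← mul_assoc, C.t_mul_t, one_mul, mul_one] at h5
      exact h5.symm

end

/-! ### In the setting of `Setup` -/

section setup

open Cfsg.Agent.TwoESix.Cover

variable {G : Type*} [Group G] {t : G} {M : Subgroup G} {E : Type*} [Group E] {π : M →* E} {T : Set E}

/-- Lifts with the relations of the double cover over `T`. -/
theorem exists_lifts [Finite HB] (S : Setup t M π) {e : Fin 10 → E} (he : Good e)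
    (hgen : Subgroup.closure (Set.range e) = ⊤) (hcard : Nat.card HB ≤ Nat.card E) (hT : ∀ i, e i ∈ T) :
    ∃ m : Fin 10 → M, ZRels m S.z ∧ ∀ i, π (m i) ∈ T := by
  obtain ⟨p, -, m, hm, hz, -⟩ := exists_zrels S.ext he hgen fun m hm hgood => by
    have hb := toHom_bijective he hgen hcard
    let f : HB ≃* E := MulEquiv.ofBijective _ hb
    refine S.nosec ((toHom hgood).comp f.symm.toMonoidHom) fun x => ?_
    have key : (π.comp (toHom hgood)) = toHom he := by
      apply PresentedGroup.ext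
      intro i
      show π (toHom hgood (s0 i)) = toHom he (s0 i)
      rw [toHom_s0, toHom_s0, hm]
    show π (toHom hgood (f.symm x)) = x
    have : π (toHom hgood (f.symm x)) = toHom he (f.symm x) := DFunLike.congr_fun key _
    rw [this]
    exact f.apply_symm_apply x
  exact ⟨m, hz, fun i => by rw [hm]; exact hT _⟩

/-- The fields `perf` and `chain` of `FusGood.Hyp`. -/
theorem perf_chain [Finite HB] (S : Setup t M π) (R : Roots E T)
    (e1 : ∀ r ∈ T, ∀ s ∈ T, (r * s) ^ 4 = 1 ∨ (r * s) ^ 3 = 1) {e : Fin 10 → E} (he : Good e)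
    (hgen : Subgroup.closure (Set.range e) = ⊤) (hcard : Nat.card HB ≤ Nat.card E) (hT : ∀ i, e i ∈ T) :
    (∀ b ∈ T, ∀ H : Subgroup M, H.relIndex (Subgroup.centralizer ({w π T b} : Set M)) ≠ 2) ∧
    ∃ l : List E, (∀ r ∈ l, r ∈ T) ∧ l.Pairwise (fun r s => r * s = s * r ∧ r ≠ s) ∧
      (((l.map (w π T)).prod : M) : G) = t := by
  obtain ⟨m, hz, hmT⟩ := exists_lifts S he hgen hcard hT
  refine ⟨fun b hb H => perf S.cover R hz hmT e1 hb H, ?_⟩
  obtain ⟨l, h1, h2, h3⟩ := chain S.cover R hz hmT e1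
  exact ⟨l, h1, h2, by rw [h3]; rfl⟩

end setup

end Cfsg.Agent.BabyU.Chain
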