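import Cfsg.Agent.BabyU.RootCfg
import Cfsg.Agent.S0283

/-!
# U-B: assembly of `RootFacts`

`RootFacts` for the class of `r0` from the local data at one opposite pair `(r0, s0)`.
-/

set_option autoImplicit false
set_option linter.unusedSectionVars false

namespace Cfsg.Agent.BabyU.ChartAsm

open Cfsg Cfsg.Agent.LieClassical.HermBasic Cfsg.Agent.R01.PSUSix
open Cfsg.Agent.ClassicalGeometry.UnitAutBasic (tau pr pr_surjective)
open Cfsg.Agent.SporadicStructure.UnitTwo (exists_omega)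
open Cfsg.Agent.BabyU.RootCfg

variable {E : Type*} [Group E] {F : Type*} [Field F] [Fintype F]

/-- The centre of `PSU 6 F 2` is trivial. -/
theorem center_eq_bot (hF : Fintype.card F = 2 ^ 2) : Subgroup.center (PSU 6 F 2) = ⊥ := by
  have : IsSimpleGroup (PSU 6 F 2) := Cfsg.Agent.S0283.result (q := 2) hF 6 (by norm_num) (by norm_num)
  rcases Subgroup.Normal.eq_bot_or_eq_top
    (inferInstance : (Subgroup.center (PSU 6 F 2)).Normal) with h | h
  · exact h
  · exfalso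
    obtain ⟨ω, hω⟩ := exists_omega hF
    have h1 := (tau_commute_iff (n := 4 + 2) hF (by norm_num) (herm_u0 (F := F) (m := 4) hF)
      (herm_v0 (m := 4) hF hω) (u0_ne_zero (F := F) (m := 4) hF)).1 (by
        have h2 : tau hF (u0 F 4) ∈ Subgroup.center (PSU 6 F 2) := by rw [h]; trivial
        exact ((Subgroup.mem_center_iff.1 h2) (tau hF (v0 4 ω))).symm)
    rw [herm_u0_v0 hF hω] at h1
    exact one_ne_zero h1

/-- The data at `r0`. -/
structure Data (hF : Fintype.card F = 2 ^ 2) (r0 s0 p70 p60 p25 : E)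
    (ψ : Subgroup.centralizer ({r0} : Set E) →* PSU 6 F 2) : Prop where
  sq : r0 * r0 = 1
  ne : r0 ≠ 1
  pair : ∀ g : E, ∃ b : E, b * r0 = r0 * b ∧ (b * (g * r0 * g⁻¹) * b⁻¹ = r0 ∨
    b * (g * r0 * g⁻¹) * b⁻¹ = p70 ∨ b * (g * r0 * g⁻¹) * b⁻¹ = p60 ∨
    b * (g * r0 * g⁻¹) * b⁻¹ = p25 ∨ b * (g * r0 * g⁻¹) * b⁻¹ = s0)
  comm70 : p70 * r0 = r0 * p70
  comm60 : p60 * r0 = r0 * p60
  ψ70 : ∀ h : p70 ∈ Subgroup.centralizer ({r0} : Set E), ψ ⟨p70, h⟩ = 1
  ψ60 : ∀ h : p60 ∈ Subgroup.centralizer ({r0} : Set E), ψ ⟨p60, h⟩ ∈ TT hF 6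
  two25 : (r0 * p25) ^ 2 ≠ 1
  four25 : (r0 * p25) ^ 4 = 1
  ne0 : r0 ≠ s0
  three0 : (r0 * s0) ^ 3 = 1
  root0 : ∃ h : E, s0 = h * r0 * h⁻¹
  ker : ∀ x : Subgroup.centralizer ({r0} : Set E), ψ x = 1 → ∃ k : ℕ, x ^ 2 ^ k = 1
  surj0 : ∀ u, ∃ x : Subgroup.centralizer ({r0} : Set E), (x : E) * s0 = s0 * x ∧ ψ x = u
  inj0 : ∀ x : Subgroup.centralizer ({r0} : Set E), (x : E) * s0 = s0 * x → ψ x = 1 → x = 1
  back0 : ∀ x : Subgroup.centralizer ({r0} : Set E), (x : E) * s0 = s0 * x → ψ x ∈ TT hF 6 →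
    ∃ g : E, (x : E) = g * r0 * g⁻¹

/-- The class of `r0`. -/
def Cls (r0 : E) : Set E := {x | ∃ g : E, x = g * r0 * g⁻¹}

/-- Conjugation as a map between centralisers. -/
def cc (a r0 : E) : Subgroup.centralizer ({a * r0 * a⁻¹} : Set E) →* Subgroup.centralizer ({r0} : Set E) where
  toFun x := ⟨a⁻¹ * x * a, by
    have h := mem_cent.1 x.2
    rw [mem_cent]
    calc a⁻¹ * (x : E) * a * r0 = a⁻¹ * ((x : E) * (a * r0 * a⁻¹)) * a := by group
      _ = a⁻¹ * ((a * r0 * a⁻¹) * x) * a := by rw [h]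
      _ = r0 * (a⁻¹ * (x : E) * a) := by group⟩
  map_one' := Subtype.ext (by simp)
  map_mul' x y := Subtype.ext (by
    simp only [Subgroup.coe_mul]
    group)

theorem cc_coe (a r0 : E) (x : Subgroup.centralizer ({a * r0 * a⁻¹} : Set E)) :
    ((cc a r0 x : Subgroup.centralizer ({r0} : Set E)) : E) = a⁻¹ * x * a := rfl

section

variable {hF : Fintype.card F = 2 ^ 2} {r0 s0 p70 p60 p25 : E}
  {ψ : Subgroup.centralizer ({r0} : Set E) →* PSU 6 F 2}

theorem conj_comm_iff {b x y : E} : b * x * b⁻¹ * (b * y * b⁻¹) = b * y * b⁻¹ * (b * x * b⁻¹) ↔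
    x * y = y * x := by
  have h1 : b * x * b⁻¹ * (b * y * b⁻¹) = b * (x * y) * b⁻¹ := by group
  have h2 : b * y * b⁻¹ * (b * x * b⁻¹) = b * (y * x) * b⁻¹ := by group
  rw [h1, h2]
  exact ⟨fun h => mul_left_cancel (mul_right_cancel h), fun h => by rw [h]⟩

theorem conj_self {b r0 : E} (hb : b * r0 = r0 * b) : b * r0 * b⁻¹ = r0 := by
  rw [hb]; group

theorem Data.ψr (D : Data hF r0 s0 p70 p60 p25 ψ) (h : r0 ∈ Subgroup.centralizer ({r0} : Set E)) :
    ψ ⟨r0, h⟩ = 1 := by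
  have h1 : ψ ⟨r0, h⟩ ∈ Subgroup.center (PSU 6 F 2) := by
    rw [Subgroup.mem_center_iff]
    intro u
    obtain ⟨x, -, rfl⟩ := D.surj0 u
    rw [← map_mul, ← map_mul]
    congr 1
    exact Subtype.ext (mem_cent.1 x.2)
  rwa [center_eq_bot hF, Subgroup.mem_bot] at h1

theorem Data.sq_cls (D : Data hF r0 s0 p70 p60 p25 ψ) {x : E} (hx : x ∈ Cls r0) : x * x = 1 := by
  obtain ⟨g, rfl⟩ := hx
  calc g * r0 * g⁻¹ * (g * r0 * g⁻¹) = g * (r0 * r0) * g⁻¹ := by group
    _ = 1 := by rw [D.sq]; group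

theorem conj_cls {x : E} (hx : x ∈ Cls r0) (b : E) : b * x * b⁻¹ ∈ Cls r0 := by
  obtain ⟨g, rfl⟩ := hx
  exact ⟨b * g, by group⟩

/-- normal form of a member of the class with respect to `r0` -/
theorem Data.cases (D : Data hF r0 s0 p70 p60 p25 ψ) {x : E} (hx : x ∈ Cls r0) :
    ∃ b : E, b * r0 = r0 * b ∧ (b * x * b⁻¹ = r0 ∨ b * x * b⁻¹ = p70 ∨ b * x * b⁻¹ = p60 ∨
      b * x * b⁻¹ = p25 ∨ b * x * b⁻¹ = s0) := by
  obtain ⟨g, rfl⟩ := hx
  exact D.pair g

theorem Data.ord0 (D : Data hF r0 s0 p70 p60 p25 ψ) {x : E} (hx : x ∈ Cls r0) :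
    (r0 * x) ^ 4 = 1 ∨ (r0 * x) ^ 3 = 1 := by
  obtain ⟨b, hb, h⟩ := D.cases hx
  have hb' := conj_self hb
  have h2 := D.sq_cls (conj_cls hx b)
  have key : b * (r0 * x) * b⁻¹ = r0 * (b * x * b⁻¹) := by
    calc b * (r0 * x) * b⁻¹ = (b * r0 * b⁻¹) * (b * x * b⁻¹) := by group
      _ = _ := by rw [hb']
  have hpow : ∀ n : ℕ, (r0 * (b * x * b⁻¹)) ^ n = 1 → (r0 * x) ^ n = 1 := by
    intro n hn
    rw [← key, conj_pow] at hn
    have := congrArg (fun y => b⁻¹ * y * b) hn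
    simpa [mul_assoc] using this
  have hcomm : ∀ y : E, y * y = 1 → y * r0 = r0 * y → (r0 * y) ^ 4 = 1 := by
    intro y hy hyr
    have h1 : (r0 * y) ^ 2 = 1 := by
      rw [pow_two]
      calc r0 * y * (r0 * y) = r0 * (y * r0) * y := by group
        _ = (r0 * r0) * (y * y) := by rw [hyr]; group
        _ = 1 := by rw [D.sq, hy, one_mul]
    rw [show (4 : ℕ) = 2 * 2 from rfl, pow_mul, h1, one_pow]
  rcases h with h | h | h | h | h
  · left
    apply hpow
    rw [h, D.sq, one_pow]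
  · left
    apply hpow
    rw [h] at h2 ⊢
    exact hcomm _ h2 D.comm70
  · left
    apply hpow
    rw [h] at h2 ⊢
    exact hcomm _ h2 D.comm60
  · left
    apply hpow
    rw [h]
    exact D.four25
  · right
    apply hpow
    rw [h]
    exact D.three0

/-- a member opposite to `r0` is conjugate to `s0` under the centraliser of `r0` -/
theorem Data.opp0 (D : Data hF r0 s0 p70 p60 p25 ψ) {x : E} (hx : x ∈ Cls r0) (ho : Opp r0 x) :
    ∃ b : E, b * r0 = r0 * b ∧ b * x * b⁻¹ = s0 := by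
  obtain ⟨b, hb, h⟩ := D.cases hx
  have h2 := D.sq_cls (conj_cls hx b)
  have ho' := ho.conj b
  rw [conj_self hb] at ho'
  refine ⟨b, hb, ?_⟩
  rcases h with h | h | h | h | h
  · exact absurd h.symm ho'.1
  · rw [h] at ho' h2
    exact absurd D.comm70.symm (ho'.not_comm D.sq h2)
  · rw [h] at ho' h2
    exact absurd D.comm60.symm (ho'.not_comm D.sq h2)
  · exfalso
    rw [h] at ho'
    apply D.two25
    have h3 := ho'.2
    have h4 := D.four25
    rw [pow_succ, h3, one_mul] at h4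
    rw [h4, one_pow]
  · exact h

theorem Data.root_aux (D : Data hF r0 s0 p70 p60 p25 ψ) (x : Subgroup.centralizer ({r0} : Set E))
    (hx : (x : E) ∈ Cls r0) : ψ x = 1 ∨ ψ x ∈ TT hF 6 := by
  obtain ⟨b, hb, h⟩ := D.cases hx
  have h2 := D.sq_cls (conj_cls hx b)
  have hxr : (x : E) * r0 = r0 * x := mem_cent.1 x.2
  have hy : b * (x : E) * b⁻¹ * r0 = r0 * (b * (x : E) * b⁻¹) := by
    have := (conj_comm_iff (b := b)).2 hxr
    rwa [conj_self hb] at this
  set b' : Subgroup.centralizer ({r0} : Set E) := ⟨b, mem_cent.2 hb⟩ with hb'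
  have hψ : ψ x = (ψ b')⁻¹ * ψ (b' * x * b'⁻¹) * ψ b' := by
    rw [map_mul, map_mul, map_inv]; group
  have hval : ((b' * x * b'⁻¹ : Subgroup.centralizer ({r0} : Set E)) : E) = b * x * b⁻¹ := rfl
  have hone : ψ (b' * x * b'⁻¹) = 1 → ψ x = 1 := by
    intro h0
    rw [hψ, h0]; group
  rcases h with h | h | h | h | h
  · left
    apply hone
    have : b' * x * b'⁻¹ = ⟨r0, mem_cent.2 rfl⟩ := Subtype.ext h
    rw [this, D.ψr]
  · left
    apply hone
    have : b' * x * b'⁻¹ = ⟨p70, mem_cent.2 D.comm70⟩ := Subtype.ext h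
    rw [this, D.ψ70]
  · right
    have : b' * x * b'⁻¹ = ⟨p60, mem_cent.2 D.comm60⟩ := Subtype.ext h
    rw [hψ, this]
    have h3 := conj_mem_TT hF (D.ψ60 (mem_cent.2 D.comm60)) (ψ b')⁻¹
    rwa [inv_inv] at h3
  · exfalso
    rw [h] at hy h2
    apply D.two25
    rw [pow_two]
    calc r0 * p25 * (r0 * p25) = r0 * (p25 * r0) * p25 := by group
      _ = (r0 * r0) * (p25 * p25) := by rw [hy]; group
      _ = 1 := by rw [D.sq, h2, one_mul]
  · exfalso
    rw [h] at hy h2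
    exact (show Opp r0 s0 from ⟨D.ne0, D.three0⟩).not_comm D.sq h2 hy.symm

theorem rootFacts (D : Data hF r0 s0 p70 p60 p25 ψ) : RootFacts hF (Cls r0) where
  sq r hr := D.sq_cls hr
  ne := by
    rintro _ ⟨g, rfl⟩ h
    apply D.ne
    have := congrArg (fun y => g⁻¹ * y * g) h
    simpa [mul_assoc] using this
  conj r hr g := conj_cls hr g
  one := by
    rintro _ ⟨a, rfl⟩ _ ⟨c, rfl⟩
    exact ⟨c * a⁻¹, by group⟩
  ord := by
    rintro _ ⟨a, rfl⟩ s hs
    have h1 := D.ord0 (conj_cls hs a⁻¹)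
    rw [inv_inv] at h1
    have key : a * (r0 * (a⁻¹ * s * a)) * a⁻¹ = a * r0 * a⁻¹ * s := by group
    have hpow : ∀ n : ℕ, (r0 * (a⁻¹ * s * a)) ^ n = 1 → (a * r0 * a⁻¹ * s) ^ n = 1 := by
      intro n hn
      rw [← key, conj_pow, hn, mul_one, mul_inv_cancel]
    exact h1.imp (hpow 4) (hpow 3)
  opp := by
    obtain ⟨h, hh⟩ := D.root0
    exact ⟨r0, ⟨1, by group⟩, s0, ⟨h, hh⟩, D.ne0, D.three0⟩
  chart := by
    rintro _ ⟨a, rfl⟩
    -- the local situation for an opposite member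
    have hopp : ∀ s ∈ Cls r0, Opp (a * r0 * a⁻¹) s →
        ∃ b : E, b * r0 = r0 * b ∧ b * (a⁻¹ * s * a) * b⁻¹ = s0 := by
      intro s hs ho
      have h1 := ho.conj a⁻¹
      have h2 : a⁻¹ * (a * r0 * a⁻¹) * a⁻¹⁻¹ = r0 := by group
      rw [h2, inv_inv] at h1
      have h3 := conj_cls hs a⁻¹
      rw [inv_inv] at h3
      exact D.opp0 h3 h1
    refine ⟨ψ.comp (cc a r0), ?_, ?_, ?_, ?_, ?_⟩
    · -- ker
      intro x hx
      obtain ⟨k, hk⟩ := D.ker _ hx
      refine ⟨k, Subtype.ext ?_⟩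
      have h1 := congrArg Subtype.val hk
      rw [Subgroup.coe_pow, cc_coe] at h1
      have h2 : (a⁻¹ * (x : E) * a) ^ 2 ^ k = a⁻¹ * (x : E) ^ 2 ^ k * a := by
        have := conj_pow (i := 2 ^ k) (a := a⁻¹) (b := (x : E))
        rwa [inv_inv] at this
      rw [h2] at h1
      rw [Subgroup.coe_pow]
      have h3 := congrArg (fun y => a * y * a⁻¹) h1
      simpa [mul_assoc] using h3
    · -- root
      intro x hx
      refine D.root_aux _ ?_
      rw [cc_coe]
      have := conj_cls hx a⁻¹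
      rwa [inv_inv] at this
    · -- surj
      intro s hs ho u
      obtain ⟨b, hb, hbs⟩ := hopp s hs ho
      set b' : Subgroup.centralizer ({r0} : Set E) := ⟨b, mem_cent.2 hb⟩ with hb'
      obtain ⟨x, hx, hxu⟩ := D.surj0 (ψ b' * u * (ψ b')⁻¹)
      set y : Subgroup.centralizer ({r0} : Set E) := b'⁻¹ * x * b' with hy
      have hyu : ψ y = u := by
        rw [hy, map_mul, map_mul, map_inv, hxu]; group
      have hys : (y : E) * (a⁻¹ * s * a) = a⁻¹ * s * a * y := by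
        have h1 : b * (y : E) * b⁻¹ = x := by
          change b * (b⁻¹ * (x : E) * b) * b⁻¹ = x
          group
        rw [← conj_comm_iff (b := b), h1, hbs]
        exact hx
      refine ⟨⟨a * y * a⁻¹, ?_⟩, ?_, ?_⟩
      · rw [mem_cent, conj_comm_iff]
        exact mem_cent.1 y.2
      · have h1 : a * (a⁻¹ * s * a) * a⁻¹ = s := by group
        have h2 := (conj_comm_iff (b := a)).2 hys
        rwa [h1] at h2
      · have h1 : cc a r0 ⟨a * y * a⁻¹, by rw [mem_cent, conj_comm_iff]; exact mem_cent.1 y.2⟩ = y := by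
          apply Subtype.ext
          rw [cc_coe]
          change a⁻¹ * (a * (y : E) * a⁻¹) * a = y
          group
        rw [MonoidHom.comp_apply, h1, hyu]
    · -- inj
      intro s hs ho x hxs hx
      obtain ⟨b, hb, hbs⟩ := hopp s hs ho
      set b' : Subgroup.centralizer ({r0} : Set E) := ⟨b, mem_cent.2 hb⟩ with hb'
      set y := cc a r0 x with hy
      have hys : (y : E) * (a⁻¹ * s * a) = a⁻¹ * s * a * y := by
        have := (conj_comm_iff (b := a⁻¹)).2 hxs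
        rwa [inv_inv] at this
      have h1 : ((b' * y * b'⁻¹ : Subgroup.centralizer ({r0} : Set E)) : E) * s0 =
          s0 * ((b' * y * b'⁻¹ : Subgroup.centralizer ({r0} : Set E)) : E) := by
        change b * (y : E) * b⁻¹ * s0 = s0 * (b * (y : E) * b⁻¹)
        rw [← hbs, conj_comm_iff]
        exact hys
      have h2 : ψ (b' * y * b'⁻¹) = 1 := by
        rw [map_mul, map_mul, map_inv]
        have h3 : ψ y = 1 := hx
        rw [h3]; group
      have h3 := D.inj0 _ h1 h2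
      have h4 : y = 1 := by
        have := congrArg (fun z => b'⁻¹ * z * b') h3
        simpa [mul_assoc] using this
      apply Subtype.ext
      have h5 := congrArg Subtype.val h4
      rw [hy, cc_coe] at h5
      have h6 := congrArg (fun z => a * z * a⁻¹) h5
      simpa [mul_assoc] using h6
    · -- back
      intro s hs ho x hxs hx
      obtain ⟨b, hb, hbs⟩ := hopp s hs ho
      set b' : Subgroup.centralizer ({r0} : Set E) := ⟨b, mem_cent.2 hb⟩ with hb'
      set y := cc a r0 x with hy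
      have hys : (y : E) * (a⁻¹ * s * a) = a⁻¹ * s * a * y := by
        have := (conj_comm_iff (b := a⁻¹)).2 hxs
        rwa [inv_inv] at this
      have h1 : ((b' * y * b'⁻¹ : Subgroup.centralizer ({r0} : Set E)) : E) * s0 =
          s0 * ((b' * y * b'⁻¹ : Subgroup.centralizer ({r0} : Set E)) : E) := by
        change b * (y : E) * b⁻¹ * s0 = s0 * (b * (y : E) * b⁻¹)
        rw [← hbs, conj_comm_iff]
        exact hys
      have h2 : ψ (b' * y * b'⁻¹) ∈ TT hF 6 := by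
        rw [map_mul, map_mul, map_inv]
        exact conj_mem_TT hF hx _
      obtain ⟨g, hg⟩ := D.back0 _ h1 h2
      have h3 : b * (y : E) * b⁻¹ = g * r0 * g⁻¹ := hg
      have h4 : (x : E) = a * (y : E) * a⁻¹ := by
        rw [hy, cc_coe]; group
      refine ⟨a * b⁻¹ * g, ?_⟩
      rw [h4]
      have h5 : (y : E) = b⁻¹ * (g * r0 * g⁻¹) * b := by
        rw [← h3]; group
      rw [h5]
      group

end

end Cfsg.Agent.BabyU.ChartAsm
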