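import Cfsg.Agent.BabyU.ClosFacts
import Cfsg.Agent.R15.Lite

/-!
# Closing for the Baby Monster: the last two steps

Steps 4 and 5 of `blueprints/R19/helper248/closingB.md`. Inputs: `D ∩ H = t^H` and `C_G(z) ≤ H`.
-/

set_option autoImplicit false

namespace Cfsg.Agent.BabyU.Clos

section home

variable {G : Type*} [Group G]

open Classical in
/-- The coset of `H` belonging to a conjugate of `t`. -/
noncomputable def home (H : Subgroup G) (t d : G) : G ⧸ H :=
  if h : ∃ g : G, g * t * g⁻¹ = d then ((h.choose : G) : G ⧸ H) else ((1 : G) : G ⧸ H)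

theorem home_conj {H : Subgroup G} {t : G} (hc : ∀ g : G, g * t = t * g → g ∈ H) (g : G) :
    home H t (g * t * g⁻¹) = (g : G ⧸ H) := by
  have h : ∃ k : G, k * t * k⁻¹ = g * t * g⁻¹ := ⟨g, rfl⟩
  rw [home, dif_pos h, QuotientGroup.eq]
  refine hc _ ?_
  have e := h.choose_spec
  generalize h.choose = k at e
  calc k⁻¹ * g * t = k⁻¹ * (g * t * g⁻¹) * g := by group
    _ = k⁻¹ * (k * t * k⁻¹) * g := by rw [e]
    _ = t * (k⁻¹ * g) := by group

end home

section inner

variable {G : Type*} [Group G] {H P M : Subgroup G} {z t t₁ : G} (F : Inner H P M z t t₁)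

include F

theorem Inner.t_inv : t⁻¹ = t := inv_eq_of_mul_eq_one_left F.t_sq

theorem Inner.tH : t ∈ H := F.PH F.tP

theorem Inner.cls_inv {d : G} (hd : d ∈ cls H t) : d⁻¹ = d :=
  inv_eq_of_mul_eq_one_left (cl_sq F.t_sq (cls_sub H t hd))

/-- (b1) -/
theorem Inner.mem_P {d : G} (hd : d ∈ cls H t) (hc : d * z = z * d) (hz : d * z ∈ cls H t) : d ∈ P := by
  obtain ⟨h, hh, rfl⟩ := hd
  have h1 : h⁻¹ * z * h ∈ M := F.zM h hh hc
  have h2 : t * (h⁻¹ * z * h) ∈ cls H t := by
    have := cls_conj' hz hh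
    have e : h⁻¹ * (h * t * h⁻¹ * z) * h = t * (h⁻¹ * z * h) := by group
    rwa [e] at this
  have h3 : t * (h⁻¹ * z * h) ≠ t := by
    intro h4
    have h5 : h⁻¹ * z * h = 1 := by simpa using h4
    apply F.z_ne
    calc z = h * (h⁻¹ * z * h) * h⁻¹ := by group
      _ = 1 := by rw [h5]; group
  obtain ⟨k, hk, hkt, hk2⟩ := F.adj _ h2 (M.mul_mem F.tM h1) h3
  have h4 : k * z * k⁻¹ = h⁻¹ * z * h := by
    have e : k * (t * z) * k⁻¹ = t * (k * z * k⁻¹) := by
      rw [← mul_assoc, hkt]; group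
    rw [e] at hk2
    exact mul_left_cancel hk2
  have h5 : (h * k) * z = z * (h * k) := by
    calc (h * k) * z = h * (k * z * k⁻¹) * k := by group
      _ = z * (h * k) := by rw [h4]; group
  have h6 := F.P_norm (h * k) (H.mul_mem hh hk) h5 t F.tP
  have e : h * k * t * (h * k)⁻¹ = h * t * h⁻¹ := by
    rw [mul_assoc h k t, hkt]; group
  rwa [e] at h6

/-- The basic contradiction. -/
theorem Inner.key {s t' : G} (hs : s ∈ cls H t) (hsM : s ∈ M) (hst : s ≠ t) (ht' : t' ∈ cls H t)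
    (hc : t' * t = t * t') (hc' : t' * s = s * t') (hp : s * t * t' ∈ cls H t) : t' ∈ M := by
  obtain ⟨h, hh, hht, rfl⟩ := F.adj s hs hsM hst
  have hht' : h⁻¹ * t = t * h⁻¹ := by
    calc h⁻¹ * t = h⁻¹ * (t * h) * h⁻¹ := by group
      _ = h⁻¹ * (h * t) * h⁻¹ := by rw [hht]
      _ = t * h⁻¹ := by group
  have h1 : h⁻¹ * t' * h ∈ cls H t := cls_conj' ht' hh
  have h2 : (h⁻¹ * t' * h) * t = t * (h⁻¹ * t' * h) := by
    calc (h⁻¹ * t' * h) * t = h⁻¹ * t' * (h * t) := by group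
      _ = h⁻¹ * (t' * t) * h := by rw [hht]; group
      _ = (h⁻¹ * t) * t' * h := by rw [hc]; group
      _ = t * (h⁻¹ * t' * h) := by rw [hht']; group
  have h3 : (h⁻¹ * t' * h) * (t * z) = (t * z) * (h⁻¹ * t' * h) := by
    calc (h⁻¹ * t' * h) * (t * z) = h⁻¹ * (t' * (h * (t * z) * h⁻¹)) * h := by group
      _ = h⁻¹ * ((h * (t * z) * h⁻¹) * t') * h := by rw [hc']
      _ = (t * z) * (h⁻¹ * t' * h) := by group
  have h4 : (h⁻¹ * t' * h) * z = z * (h⁻¹ * t' * h) := by
    have : t * ((h⁻¹ * t' * h) * z) = t * (z * (h⁻¹ * t' * h)) := by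
      rw [← mul_assoc, ← h2, mul_assoc, h3, mul_assoc]
    exact mul_left_cancel this
  have htz : t * z = z * t := F.zc t F.tP
  have h5 : (h⁻¹ * t' * h) * z ∈ cls H t := by
    have h6 := cls_conj' hp hh
    have e : h⁻¹ * (h * (t * z) * h⁻¹ * t * t') * h = (h⁻¹ * t' * h) * z := by
      calc h⁻¹ * (h * (t * z) * h⁻¹ * t * t') * h = t * z * (h⁻¹ * t) * t' * h := by group
        _ = t * z * (t * h⁻¹) * t' * h := by rw [hht']
        _ = z * (t * t) * (h⁻¹ * t' * h) := by rw [htz]; group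
        _ = (h⁻¹ * t' * h) * z := by rw [F.t_sq, mul_one, h4]
    rwa [e] at h6
  have h6 : h⁻¹ * t' * h ∈ P := F.mem_P h1 h4 h5
  have h7 := F.M_norm h hh hht _ (F.PM _ h6 h2)
  have e : h * (h⁻¹ * t' * h) * h⁻¹ = t' := by group
  rwa [e] at h7

theorem Inner.ord_conj {s t' : G} (hs : s ∈ cls H t) (ht' : t' ∈ cls H t) : ∃ n : ℕ, 0 < n ∧ n ≤ 4 ∧ (s * t') ^ n = 1 := by
  obtain ⟨h, hh, rfl⟩ := ht'
  obtain ⟨n, h1, h2, h3⟩ := F.ord (h⁻¹ * s * h) (cls_conj' hs hh)
  refine ⟨n, h1, h2, ?_⟩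
  have e : s * (h * t * h⁻¹) = h * (h⁻¹ * s * h * t) * h⁻¹ := by group
  rw [e, conj_pow, h3]
  group

/-- Uniqueness of the pair `{t, t'}` over `t t'`. -/
theorem Inner.uniq_pair {t' s : G} (ht' : t' ∈ cls H t) (hc : t' * t = t * t') (hM : t' ∉ M)
    (hs : s ∈ cls H t) (hsy : s * (t * t') ∈ cls H t) : s = t ∨ s = t' := by
  have ht'2 : t' * t' = 1 := cl_sq F.t_sq (cls_sub H t ht')
  have hs2 : s * s = 1 := cl_sq F.t_sq (cls_sub H t hs)
  have hsy2 : (s * (t * t')) * (s * (t * t')) = 1 := cl_sq F.t_sq (cls_sub H t hsy)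
  obtain ⟨y, hy⟩ : ∃ y, y = t * t' := ⟨_, rfl⟩
  rw [← hy] at hsy hsy2
  have hy2 : y * y = 1 := by
    calc y * y = t * (t' * t) * t' := by rw [hy]; group
      _ = (t * t) * (t' * t') := by rw [hc]; group
      _ = 1 := by rw [F.t_sq, ht'2, one_mul]
  have hsyc : s * y = y * s := by
    have h1 : (s * y)⁻¹ = s * y := inv_eq_of_mul_eq_one_left hsy2
    rw [mul_inv_rev, inv_eq_of_mul_eq_one_left hy2, inv_eq_of_mul_eq_one_left hs2] at h1
    exact h1.symm
  have hyt : y * t = t * y := by rw [hy, mul_assoc, hc]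
  have hty : t * y = t' := by rw [hy, ← mul_assoc, F.t_sq, one_mul]
  have hyH : y * t = t * y := hyt
  have htH := F.tH
  have hsH : s ∈ H := cls_mem htH hs
  have ht'H : t' ∈ H := cls_mem htH ht'
  have hyM : y ∉ M := by
    intro h
    apply hM
    rw [← hty]
    exact M.mul_mem F.tM h
  by_cases hst : s * t = t * s
  · -- `s` commutes with `t`
    have hst' : t' * s = s * t' := by
      rw [← hty, mul_assoc, ← hsyc, ← mul_assoc, ← hst, mul_assoc]
    by_cases hsM : s ∈ M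
    · left
      by_contra hne
      refine hM (F.key hs hsM hne ht' hc hst' ?_)
      rw [mul_assoc, ← hy]; exact hsy
    · right
      by_contra hne
      have h1 : s * y ∈ M := F.M_index s hsH y (hy ▸ H.mul_mem htH ht'H) hst hyt hsM hyM
      have h2 : s * y ≠ t := by
        intro h
        apply hne
        calc s = (s * y) * y := by rw [mul_assoc, hy2, mul_one]
          _ = t * y := by rw [h]
          _ = t' := hty
      refine hM (F.key hsy h1 h2 ht' hc ?_ ?_)
      · have hyt' : t' * y = y * t' := by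
          rw [← hty, ← mul_assoc, hyt]
        rw [← mul_assoc, hst', mul_assoc, hyt', mul_assoc]
      · have e : s * y * t * t' = s := by
          rw [mul_assoc (s * y) t t', ← hy, mul_assoc s y y, hy2, mul_one]
        rw [e]; exact hs
  · exfalso
    obtain ⟨n, hn0, hn4, hn⟩ := F.ord s hs
    obtain ⟨m, hm0, hm4, hm⟩ := F.ord_conj hs ht'
    have e1 : s * t' = (s * t) * y := by rw [← hty]; group
    have hcomm : Commute (s * t) y := by
      show s * t * y = y * (s * t)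
      rw [mul_assoc, ← hyt, ← mul_assoc, hsyc, mul_assoc]
    have hpow : ∀ k : ℕ, (s * t') ^ k = (s * t) ^ k * y ^ k := fun k => by rw [e1, hcomm.mul_pow]
    have hyn : y ≠ 1 := fun h => hyM (h ▸ M.one_mem)
    have hn1 : (s * t) ^ 1 ≠ 1 := by
      intro h
      apply hst
      rw [pow_one] at h
      have : s = t := by
        have := eq_inv_of_mul_eq_one_left h
        rwa [F.t_inv] at this
      rw [this]
    have hn2 : (s * t) ^ 2 ≠ 1 := by
      intro h
      apply hst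
      have h1 : (s * t)⁻¹ = s * t := inv_eq_of_mul_eq_one_left (by rw [← pow_two]; exact h)
      rw [mul_inv_rev, F.t_inv, inv_eq_of_mul_eq_one_left hs2] at h1
      exact h1.symm
    have hn3 : (s * t) ^ 3 ≠ 1 := by
      intro h
      have hm' := hpow m
      rw [hm] at hm'
      interval_cases m
      · -- s t = y
        rw [pow_one, pow_one] at hm'
        apply hst
        have h2 : s * t = y := by
          calc s * t = (s * t * y) * y := by rw [mul_assoc (s * t), hy2, mul_one]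
            _ = y := by rw [← hm', one_mul]
        have h3 : s = t' := by
          calc s = (s * t) * t := by rw [mul_assoc, F.t_sq, mul_one]
            _ = t' := by rw [h2, hyt, hty]
        rw [h3, hc]
      · rw [pow_two y, hy2, mul_one] at hm'
        exact hn2 hm'.symm
      · rw [h, one_mul, pow_succ, pow_two, hy2, one_mul] at hm'
        exact hyn hm'.symm
      · have : y ^ 4 = 1 := by
          rw [show (4 : ℕ) = 2 * 2 by norm_num, pow_mul, pow_two y, hy2, one_pow]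
        rw [this, mul_one, pow_succ, h, one_mul] at hm'
        exact hn1 (by rw [pow_one]; exact hm'.symm)
    have hn4 : (s * t) ^ 4 = 1 := by
      interval_cases n
      · exact absurd hn hn1
      · exact absurd hn hn2
      · exact absurd hn hn3
      · exact hn
    -- `s t s` commutes with `t`
    have hsts : (s * t * s) * t = t * (s * t * s) := by
      have h1 : (s * t * s * t) * (s * t * s * t) = 1 := by
        have : (s * t * s * t) * (s * t * s * t) = (s * t) ^ 4 := by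
          simp only [pow_succ, pow_zero, one_mul, mul_assoc]
        rw [this, hn4]
      have h2 : (s * t * s * t)⁻¹ = s * t * s * t := inv_eq_of_mul_eq_one_left h1
      rw [← h2]
      simp only [mul_inv_rev, F.t_inv, inv_eq_of_mul_eq_one_left hs2, mul_assoc]
    have hne : s * t * s ≠ t := by
      intro h
      apply hn2
      rw [pow_two, ← mul_assoc, h, F.t_sq]
    have hM1 : s * t * s ∈ M := F.fourB s hs hsts hne
    have hsi : s⁻¹ = s := inv_eq_of_mul_eq_one_left hs2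
    have h1 : s * t * s ∈ cls H t := by
      have := cls_conj (mem_cls_self H t) hsH
      rwa [hsi] at this
    have hy' : t' = y * t := by rw [hyt, hty]
    refine hM (F.key h1 hM1 hne ht' hc ?_ ?_)
    · -- t' commutes with s t s
      calc t' * (s * t * s) = y * (t * (s * t * s)) := by rw [hy']; group
        _ = y * (s * t * s) * t := by rw [← hsts]; group
        _ = (s * t * s) * (y * t) := by
            have : y * (s * t * s) = (s * t * s) * y := by
              calc y * (s * t * s) = (y * s) * t * s := by group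
                _ = s * (y * t) * s := by rw [← hsyc]; group
                _ = s * t * (y * s) := by rw [hyt]; group
                _ = (s * t * s) * y := by rw [← hsyc]; group
            rw [this, mul_assoc]
        _ = (s * t * s) * t' := by rw [← hy']
    · have e : s * t * s * t * t' = s * t' * s := by
        calc s * t * s * t * t' = s * t * (s * y) := by rw [hy]; group
          _ = s * (t * y) * s := by rw [hsyc]; group
          _ = s * t' * s := by rw [hty]
      rw [e]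
      have := cls_conj ht' hsH
      rwa [hsi] at this

end inner

section dihedral

variable {G : Type*} [Group G]

theorem dih_mem {e w y : G} (he : e * e = 1) (hw : w * w = 1) (hey : e * y = y * e) (hwy : w * y = y * w)
    (m : ℕ) : ∃ g : G, g * y = y * g ∧ g * e * g⁻¹ = e * (e * (w * e * w)) ^ m := by
  have hfy : Commute (w * e * w) y := by
    have h1 : Commute w y := hwy
    have h2 : Commute e y := hey
    exact (h1.mul_left h2).mul_left h1
  have hρy : Commute (e * (w * e * w)) y := Commute.mul_left hey hfy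
  have hwi : w⁻¹ = w := inv_eq_of_mul_eq_one_left hw
  have hei : e⁻¹ = e := inv_eq_of_mul_eq_one_left he
  have hρi : (e * (w * e * w))⁻¹ = (w * e * w) * e := by
    simp only [mul_inv_rev, hwi, hei, mul_assoc]
  have hsemi : ∀ k : ℕ, e * (e * (w * e * w)) ^ k = ((e * (w * e * w)) ^ k)⁻¹ * e := by
    intro k
    have h : SemiconjBy e (e * (w * e * w)) (e * (w * e * w))⁻¹ := by
      show e * (e * (w * e * w)) = (e * (w * e * w))⁻¹ * e
      rw [hρi, ← mul_assoc, he, one_mul, mul_assoc (w * e * w) e e, he, mul_one]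
    have h1 := h.pow_right k
    rw [inv_pow] at h1
    exact h1
  obtain ⟨l, rfl | rfl⟩ := Nat.even_or_odd' m
  · refine ⟨((e * (w * e * w)) ^ l)⁻¹, ?_, ?_⟩
    · exact ((hρy.pow_left l).inv_left)
    · rw [inv_inv, ← hsemi, mul_assoc, ← pow_add, two_mul]
  · refine ⟨((e * (w * e * w)) ^ l)⁻¹ * w, ?_, ?_⟩
    · exact ((hρy.pow_left l).inv_left).mul_left (show Commute w y from hwy)
    · have e0 : w * e * w = e * (e * (w * e * w)) := by rw [← mul_assoc, he, one_mul]
      calc ((e * (w * e * w)) ^ l)⁻¹ * w * e * (((e * (w * e * w)) ^ l)⁻¹ * w)⁻¹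
          = ((e * (w * e * w)) ^ l)⁻¹ * (w * e * w) * (e * (w * e * w)) ^ l := by
            rw [mul_inv_rev, inv_inv, hwi]; group
        _ = ((e * (w * e * w)) ^ l)⁻¹ * (e * (e * (w * e * w))) * (e * (w * e * w)) ^ l := by
            rw [← e0]
        _ = (((e * (w * e * w)) ^ l)⁻¹ * e) * ((e * (w * e * w)) * (e * (w * e * w)) ^ l) := by
            simp only [mul_assoc]
        _ = e * (e * (w * e * w)) ^ (2 * l + 1) := by
            rw [← hsemi, mul_assoc, ← pow_succ', ← pow_add]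
            congr 2
            ring

/-- The dihedral group `⟨e, w e w⟩` modulo a central involution `y`. -/
theorem dih_swap [Finite G] {e w y : G} (he : e * e = 1) (hw : w * w = 1) (hy : y * y = 1)
    (hey : e * y = y * e) (hwy : w * y = y * w)
    (hcase : ∀ x : G, (∃ g : G, g * y = y * g ∧ g * e * g⁻¹ = x) →
      (x * e * x⁻¹ = e ∨ x * e * x⁻¹ = e * y) → x = e ∨ x = e * y) :
    ∃ x : G, (∃ g : G, g * y = y * g ∧ g * e * g⁻¹ = x) ∧
      (x * e * x⁻¹ = w * e * w ∨ x * e * x⁻¹ = w * e * w * y) ∧ (w * x * w⁻¹ = x ∨ w * x * w⁻¹ = x * y) := by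
  classical
  have hfy : Commute (w * e * w) y := by
    have h1 : Commute w y := hwy
    have h2 : Commute e y := hey
    exact (h1.mul_left h2).mul_left h1
  have hρy : Commute (e * (w * e * w)) y := Commute.mul_left hey hfy
  have hwi : w⁻¹ = w := inv_eq_of_mul_eq_one_left hw
  have hei : e⁻¹ = e := inv_eq_of_mul_eq_one_left he
  have hyi : y⁻¹ = y := inv_eq_of_mul_eq_one_left hy
  have hρi : (e * (w * e * w))⁻¹ = (w * e * w) * e := by
    simp only [mul_inv_rev, hwi, hei, mul_assoc]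
  have hmem := dih_mem he hw hey hwy
  have hwe : w * e * w = e * (e * (w * e * w)) := by rw [← mul_assoc, he, one_mul]
  have hwρ : w * (e * (w * e * w)) * w = (e * (w * e * w))⁻¹ := by
    rw [hρi]
    calc w * (e * (w * e * w)) * w = w * e * w * e * (w * w) := by group
      _ = w * e * w * e := by rw [hw, mul_one]
  have hsemi : ∀ k : ℕ, e * (e * (w * e * w)) ^ k = ((e * (w * e * w)) ^ k)⁻¹ * e := by
    intro k
    have h : SemiconjBy e (e * (w * e * w)) (e * (w * e * w))⁻¹ := by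
      show e * (e * (w * e * w)) = (e * (w * e * w))⁻¹ * e
      rw [hρi, ← mul_assoc, he, one_mul, mul_assoc (w * e * w) e e, he, mul_one]
    have h1 := h.pow_right k
    rw [inv_pow] at h1
    exact h1
  generalize hρ : e * (w * e * w) = ρ at *
  have hinv : ∀ k : ℕ, (e * ρ ^ k) * (e * ρ ^ k) = 1 := by
    intro k
    calc (e * ρ ^ k) * (e * ρ ^ k) = (e * ρ ^ k) * ((ρ ^ k)⁻¹ * e) := by rw [← hsemi]
      _ = 1 := by rw [mul_assoc, mul_inv_cancel_left, he]
  have hinv' : ∀ k : ℕ, (e * ρ ^ k)⁻¹ = e * ρ ^ k := fun k => inv_eq_of_mul_eq_one_left (hinv k)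
  have hexe : ∀ k : ℕ, (e * ρ ^ k) * e * (e * ρ ^ k)⁻¹ = e * ρ ^ (2 * k) := by
    intro k
    rw [hinv']
    calc (e * ρ ^ k) * e * (e * ρ ^ k) = (e * ρ ^ k) * (e * e) * ρ ^ k := by group
      _ = e * ρ ^ (2 * k) := by rw [he, mul_one, mul_assoc, ← pow_add, two_mul]
  have hex : ∃ n : ℕ, 0 < n ∧ (ρ ^ n = 1 ∨ ρ ^ n = y) := ⟨orderOf ρ, orderOf_pos ρ, Or.inl (pow_orderOf_eq_one ρ)⟩
  obtain ⟨hn0, hn⟩ := Nat.find_spec hex
  have hmin : ∀ k, 0 < k → k < Nat.find hex → ¬ (ρ ^ k = 1 ∨ ρ ^ k = y) := fun k h1 h2 h3 =>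
    Nat.find_min hex h2 ⟨h1, h3⟩
  generalize Nat.find hex = n at *
  obtain ⟨k, hk | hk⟩ := Nat.even_or_odd' n
  · exfalso
    have h1 : e * ρ ^ k = e ∨ e * ρ ^ k = e * y := by
      refine hcase _ (hmem k) ?_
      rw [hexe, ← hk]
      rcases hn with h | h
      · left; rw [h, mul_one]
      · right; rw [h]
    refine hmin k (by omega) (by omega) ?_
    rcases h1 with h | h
    · left; exact mul_left_cancel (h.trans (mul_one e).symm)
    · right; exact mul_left_cancel h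
  · refine ⟨e * ρ ^ (k + 1), hmem (k + 1), ?_, ?_⟩
    · rw [hexe, hwe, show 2 * (k + 1) = (2 * k + 1) + 1 by ring, ← hk, pow_succ' ρ n]
      rcases hn with h | h
      · left; rw [h, mul_one]
      · right; rw [h, mul_assoc]
    · have hwpow : w * ρ ^ (k + 1) * w = (ρ ^ (k + 1))⁻¹ := by
        have h1 : w * ρ ^ (k + 1) * w⁻¹ = (w * ρ * w⁻¹) ^ (k + 1) := (conj_pow).symm
        rw [hwi] at h1
        rw [h1, hwρ, inv_pow]
      have h2 : w * (e * ρ ^ (k + 1)) * w⁻¹ = e * ρ ^ (k + 1) * (ρ ^ n)⁻¹ := by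
        rw [hwi]
        calc w * (e * ρ ^ (k + 1)) * w = (w * e * w) * (w⁻¹ * ρ ^ (k + 1) * w) := by group
          _ = (w * e * w) * (ρ ^ (k + 1))⁻¹ := by rw [hwi, hwpow]
          _ = e * ρ * (ρ ^ (k + 1))⁻¹ := by rw [hwe]
          _ = e * ρ ^ (k + 1) * (ρ ^ n)⁻¹ := by
            rw [hk]
            have h3 : ρ * (ρ ^ (k + 1))⁻¹ = (ρ ^ k)⁻¹ := by
              rw [pow_succ, mul_inv_rev, mul_inv_cancel_left]
            have h4 : ρ ^ (k + 1) * (ρ ^ (2 * k + 1))⁻¹ = (ρ ^ k)⁻¹ := by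
              rw [show 2 * k + 1 = k + (k + 1) by ring, pow_add ρ k (k + 1), mul_inv_rev, mul_inv_cancel_left]
            rw [mul_assoc, h3, mul_assoc, h4]
      rw [h2]
      rcases hn with h | h
      · left; rw [h, inv_one, mul_one]
      · right; rw [h, hyi]

end dihedral

section lite

open R15.Lite

variable {G Ω : Type*} [Group G] [MulAction G Ω] {D : Set G} {p : G → Ω} (H : R15.Lite.Hyp D p)

include H

/-- Elements of `D` at different points commuting with `u` are conjugate in `C(u)`. -/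
theorem conj_of_ne [Finite G] {u x y : G} (hx : x ∈ D) (hy : y ∈ D) (hxu : x * u = u * x) (hyu : y * u = u * y)
    (hne : p x ≠ p y) : ∃ c : G, c * u = u * c ∧ c * x * c⁻¹ = y := by
  obtain ⟨n, hn⟩ := odd_orderOf H hx hy hne
  refine ⟨x * (x * y) ^ (n + 1), ?_, ?_⟩
  · have h1 : (x * y) * u = u * (x * y) := by rw [mul_assoc, hyu, ← mul_assoc, hxu, mul_assoc]
    have h2 : (x * y) ^ (n + 1) * u = u * (x * y) ^ (n + 1) :=
      ((show Commute (x * y) u from h1).pow_left (n + 1))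
    rw [mul_assoc, h2, ← mul_assoc, hxu, mul_assoc]
  · rw [inv_eq H (mul_pow_mem H hx hy _)]
    calc x * (x * y) ^ (n + 1) * x * (x * (x * y) ^ (n + 1))
        = x * (x * y) ^ (n + 1) * (x * x) * (x * y) ^ (n + 1) := by group
      _ = x * ((x * y) ^ (n + 1) * (x * y) ^ (n + 1)) := by rw [H.sq x hx, mul_one, mul_assoc]
      _ = x * (x * y) := by
          congr 1
          rw [← pow_add, show n + 1 + (n + 1) = (2 * n + 1) + 1 by ring, ← hn, pow_succ,
            pow_orderOf_eq_one, one_mul]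
      _ = y := by rw [← mul_assoc, H.sq x hx, one_mul]

/-- **Lemma LITE, variant.** Let `w` be an involution such that all elements of `D` commuting with `w` have
the same point. Then `w` or some `w * x` with `x ∈ D` commuting with `w` acts trivially. -/
theorem lite_plus [Finite G] (surj : ∀ a : Ω, ∃ d ∈ D, p d = a) {w : G} (hw : w * w = 1) {p₀ : Ω}
    (hcent : ∀ x ∈ D, x * w = w * x → p x = p₀) :
    (∀ a : Ω, w • a = a) ∨ ∃ x ∈ D, x * w = w * x ∧ ∀ a : Ω, (w * x) • a = a := by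
  by_contra hcon
  push Not at hcon
  obtain ⟨⟨a, ha⟩, hcon⟩ := hcon
  obtain ⟨d, hd, rfl⟩ := surj a
  obtain ⟨x, hx, hxw, hxd, hxp⟩ := exists_commuting_swap H hd hw ha
  obtain ⟨b, hb⟩ := hcon x hx hxw
  obtain ⟨f, hf, rfl⟩ := surj b
  have hvv : (w * x) * (w * x) = 1 := by
    calc (w * x) * (w * x) = w * (x * w) * x := by group
      _ = (w * w) * (x * x) := by rw [hxw]; group
      _ = 1 := by rw [hw, H.sq x hx, one_mul]
  obtain ⟨y, hy, hyv, hyf, hyp⟩ := exists_commuting_swap H hf hvv hb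
  have hxv : x * (w * x) = (w * x) * x := by rw [← mul_assoc, hxw]
  have hpxd : p x ≠ p d := fun h => hxp ((H.fix x hx _).2 h.symm)
  obtain ⟨c, hc, hcy⟩ : ∃ c : G, c * (w * x) = w * x * c ∧ c * y * c⁻¹ = x := by
    by_cases hpy : p y = p x
    · obtain ⟨c1, hc1, hc1'⟩ := conj_of_ne H hy hd hyv hxd.symm (by rw [hpy]; exact hpxd)
      obtain ⟨c2, hc2, hc2'⟩ := conj_of_ne H hd hx hxd.symm hxv hpxd.symm
      refine ⟨c2 * c1, by rw [mul_assoc, hc1, ← mul_assoc, hc2, mul_assoc], ?_⟩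
      rw [← hc2', ← hc1']
      group
    · exact conj_of_ne H hy hx hyv hxv hpy
  have h1 : c * ((w * x) * y) * c⁻¹ = w := by
    calc c * ((w * x) * y) * c⁻¹ = (c * (w * x)) * y * c⁻¹ := by group
      _ = (w * x) * (c * y * c⁻¹) := by rw [hc]; group
      _ = w := by rw [hcy, mul_assoc, H.sq x hx, mul_one]
  have h2 : p (c * f * c⁻¹) = p₀ := by
    apply hcent _ (H.conj f hf c)
    rw [← h1]
    calc c * f * c⁻¹ * (c * ((w * x) * y) * c⁻¹) = c * (f * ((w * x) * y)) * c⁻¹ := by group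
      _ = c * ((w * x) * y) * c⁻¹ * (c * f * c⁻¹) := by rw [← hyf]; group
  have h3 : p (c * y * c⁻¹) = p₀ := by rw [hcy]; exact hcent x hx hxw
  rw [← h3, p_conj H hf, p_conj H hy] at h2
  exact hyp ((H.fix y hy _).2 (smul_left_cancel c h2))

end lite

section final

variable {G : Type*} [Group G] {H P M : Subgroup G} {z t t₁ : G} (F : Facts H P M z t t₁)
  (mem : ∀ d ∈ cl t, d ∈ H → d ∈ cls H t)

include F

theorem Facts.home_conj (g : G) : home H t (g * t * g⁻¹) = (g : G ⧸ H) := Clos.home_conj F.cent g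

theorem Facts.home_smul {d : G} (hd : d ∈ cl t) (g : G) : home H t (g * d * g⁻¹) = g • home H t d := by
  obtain ⟨k, rfl⟩ := hd
  have e : g * (k * t * k⁻¹) * g⁻¹ = (g * k) * t * (g * k)⁻¹ := by group
  rw [e, F.home_conj, F.home_conj]
  rfl

theorem Facts.home_cls {d : G} (hd : d ∈ cls H t) : home H t d = ((1 : G) : G ⧸ H) := by
  obtain ⟨h, hh, rfl⟩ := hd
  rw [F.home_conj, QuotientGroup.eq]
  simpa using hh

include mem

theorem Facts.fix {d : G} (hd : d ∈ cl t) (a : G ⧸ H) : d • a = a ↔ a = home H t d := by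
  obtain ⟨g, rfl⟩ := hd
  obtain ⟨k, rfl⟩ := QuotientGroup.mk_surjective a
  rw [F.home_conj]
  constructor
  · intro h
    have h1 : k⁻¹ * (g * t * g⁻¹) * k ∈ H := by
      have h2 : ((g * t * g⁻¹ * k : G) : G ⧸ H) = (k : G ⧸ H) := h
      have h3 := QuotientGroup.eq.1 h2.symm
      have e : k⁻¹ * (g * t * g⁻¹) * k = k⁻¹ * (g * t * g⁻¹ * k) := by group
      rwa [e]
    obtain ⟨l, hl, h3⟩ := mem _ (cl_conj' ⟨g, rfl⟩ k) h1
    rw [QuotientGroup.eq]
    have h4 : l⁻¹ * (k⁻¹ * g) ∈ H := by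
      apply F.cent
      calc l⁻¹ * (k⁻¹ * g) * t = l⁻¹ * (k⁻¹ * (g * t * g⁻¹) * k) * (k⁻¹ * g) := by group
        _ = l⁻¹ * (l * t * l⁻¹) * (k⁻¹ * g) := by rw [h3]
        _ = t * (l⁻¹ * (k⁻¹ * g)) := by group
    have h5 := H.mul_mem hl h4
    rwa [mul_inv_cancel_left] at h5
  · intro h
    rw [h]
    show ((g * t * g⁻¹ * g : G) : G ⧸ H) = (g : G ⧸ H)
    rw [QuotientGroup.eq]
    have e : (g * t * g⁻¹ * g)⁻¹ * g = t⁻¹ := by group
    rw [e]
    exact H.inv_mem F.toInner.tH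

omit mem in
/-- Only the elements of `t^H` have home `H`. -/
theorem Facts.cls_of_home {d : G} (hd : d ∈ cl t) (h : home H t d = ((1 : G) : G ⧸ H)) : d ∈ cls H t := by
  obtain ⟨g, rfl⟩ := hd
  rw [F.home_conj, QuotientGroup.eq] at h
  have hg : g ∈ H := by simpa using H.inv_mem h
  exact ⟨g, hg, rfl⟩

/-- Step 4. -/
theorem Facts.cent_pair [Finite G] (centz : ∀ g : G, g * z = z * g → g ∈ H) {t' : G} (ht' : t' ∈ cls H t)
    (hc : t' * t = t * t') (hM : t' ∉ M) : ∀ g : G, g * (t * t') = t * t' * g → g ∈ H := by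
  have I := F.toInner
  have ht'2 : t' * t' = 1 := cl_sq F.t_sq (cls_sub H t ht')
  obtain ⟨y, hy⟩ : ∃ y, y = t * t' := ⟨_, rfl⟩
  have hy2 : y * y = 1 := by
    calc y * y = t * (t' * t) * t' := by rw [hy]; group
      _ = (t * t) * (t' * t') := by rw [hc]; group
      _ = 1 := by rw [F.t_sq, ht'2, one_mul]
  have hyt : y * t = t * y := by rw [hy, mul_assoc, hc]
  have hty : t * y = t' := by rw [hy, ← mul_assoc, F.t_sq, one_mul]
  have htH := I.tH
  have ht'H : t' ∈ H := cls_mem htH ht'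
  have hyH : y ∈ H := hy ▸ H.mul_mem htH ht'H
  rw [← hy]
  intro u hu
  by_contra huH
  have hui : u⁻¹ * y = y * u⁻¹ := by
    calc u⁻¹ * y = u⁻¹ * (y * u) * u⁻¹ := by group
      _ = u⁻¹ * (u * y) * u⁻¹ := by rw [hu]
      _ = y * u⁻¹ := by group
  -- the uniqueness in `U = C_G(y)`
  have uniq : ∀ k : G, k * y = y * k → ∀ x : G, (∃ g : G, g * y = y * g ∧ g * t * g⁻¹ = x) →
      home H t x = (k : G ⧸ H) → x = k * t * k⁻¹ ∨ x = k * t * k⁻¹ * y := by
    rintro k hk x ⟨g, hg, rfl⟩ hx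
    have hki : k⁻¹ * y = y * k⁻¹ := by
      calc k⁻¹ * y = k⁻¹ * (y * k) * k⁻¹ := by group
        _ = k⁻¹ * (k * y) * k⁻¹ := by rw [hk]
        _ = y * k⁻¹ := by group
    have hgi : g⁻¹ * y = y * g⁻¹ := by
      calc g⁻¹ * y = g⁻¹ * (y * g) * g⁻¹ := by group
        _ = g⁻¹ * (g * y) * g⁻¹ := by rw [hg]
        _ = y * g⁻¹ := by group
    rw [F.home_conj, QuotientGroup.eq] at hx
    have hx' : k⁻¹ * g ∈ H := by simpa using H.inv_mem hx
    have h1 : (k⁻¹ * g) * t * (k⁻¹ * g)⁻¹ ∈ cls H t := ⟨_, hx', rfl⟩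
    have h2 : (k⁻¹ * g) * t * (k⁻¹ * g)⁻¹ * (t * t') ∈ cls H t := by
      have h3 : (k⁻¹ * g) * t' * (k⁻¹ * g)⁻¹ ∈ cls H t := cls_conj ht' hx'
      have e : (k⁻¹ * g) * t' * (k⁻¹ * g)⁻¹ = (k⁻¹ * g) * t * (k⁻¹ * g)⁻¹ * (t * t') := by
        rw [← hy, ← hty]
        calc k⁻¹ * g * (t * y) * (k⁻¹ * g)⁻¹ = k⁻¹ * g * t * (y * g⁻¹) * k := by group
          _ = k⁻¹ * g * t * g⁻¹ * (y * k) := by rw [← hgi]; group
          _ = k⁻¹ * g * t * (k⁻¹ * g)⁻¹ * y := by rw [← hk]; group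
      rwa [← e]
    rcases I.uniq_pair ht' hc hM h1 h2 with h | h
    · left
      calc g * t * g⁻¹ = k * ((k⁻¹ * g) * t * (k⁻¹ * g)⁻¹) * k⁻¹ := by group
        _ = k * t * k⁻¹ := by rw [h]
    · right
      calc g * t * g⁻¹ = k * ((k⁻¹ * g) * t * (k⁻¹ * g)⁻¹) * k⁻¹ := by group
        _ = k * t' * k⁻¹ := by rw [h]
        _ = k * t * (y * k⁻¹) := by rw [← hty]; group
        _ = k * t * k⁻¹ * y := by rw [← hki]; group
  -- homes
  have home_y : ∀ g : G, g * y = y * g → home H t (g * t * g⁻¹ * y) = (g : G ⧸ H) := by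
    intro g hg
    have hgi : g⁻¹ * y = y * g⁻¹ := by
      calc g⁻¹ * y = g⁻¹ * (y * g) * g⁻¹ := by group
        _ = g⁻¹ * (g * y) * g⁻¹ := by rw [hg]
        _ = y * g⁻¹ := by group
    have e : g * t * g⁻¹ * y = g * t' * g⁻¹ := by
      rw [mul_assoc, hgi, ← mul_assoc, mul_assoc g t y, hty]
    rw [e, F.home_smul (cls_sub H t ht'), F.home_cls ht']
    show ((g * 1 : G) : G ⧸ H) = (g : G ⧸ H)
    rw [mul_one]
  have hne : (u : G ⧸ H) ≠ ((1 : G) : G ⧸ H) := by
    rw [Ne, QuotientGroup.eq]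
    intro h
    exact huH (by simpa using H.inv_mem h)
  have hyu : y • (u : G ⧸ H) = (u : G ⧸ H) := by
    show ((y * u : G) : G ⧸ H) = (u : G ⧸ H)
    rw [← hu, QuotientGroup.eq]
    have e : (u * y)⁻¹ * u = y⁻¹ := by group
    rw [e]; exact H.inv_mem hyH
  have hyf : ∀ x, (∃ g : G, g * y = y * g ∧ g * (u * t * u⁻¹) * g⁻¹ = x) → home H t (x * y) = home H t x := by
    rintro x ⟨g, hg, rfl⟩
    have hgu : (g * u) * y = y * (g * u) := by rw [mul_assoc, hu, ← mul_assoc, hg, mul_assoc]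
    have e : g * (u * t * u⁻¹) * g⁻¹ = (g * u) * t * (g * u)⁻¹ := by group
    rw [e, home_y _ hgu, F.home_conj]
  have he2 : (u * t * u⁻¹) * (u * t * u⁻¹) = 1 := by
    calc (u * t * u⁻¹) * (u * t * u⁻¹) = u * (t * t) * u⁻¹ := by group
      _ = 1 := by rw [F.t_sq]; group
  have hey : (u * t * u⁻¹) * y = y * (u * t * u⁻¹) := by
    calc (u * t * u⁻¹) * y = u * t * (u⁻¹ * y) := by group
      _ = u * (t * y) * u⁻¹ := by rw [hui]; group
      _ = (u * y) * t * u⁻¹ := by rw [← hyt]; group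
      _ = y * (u * t * u⁻¹) := by rw [hu]; group
  have hecl : ∀ x, (∃ g : G, g * y = y * g ∧ g * (u * t * u⁻¹) * g⁻¹ = x) → x ∈ cl t := by
    rintro x ⟨g, hg, rfl⟩
    exact cl_conj (cl_conj (mem_cl_self t) u) g
  -- every `w ∈ D₀ ∩ C(y)` maps `u H` to `t u H`
  have hw : ∀ w ∈ cls H t, w * y = y * w → w • (u : G ⧸ H) = t • (u : G ⧸ H) := by
    intro w hw hwy
    have hw2 : w * w = 1 := cl_sq F.t_sq (cls_sub H t hw)
    obtain ⟨x, hx, hxe, hwx⟩ := dih_swap (e := u * t * u⁻¹) he2 hw2 hy2 hey hwy (by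
      rintro x hx hxe
      have h1 : x • (u : G ⧸ H) = (u : G ⧸ H) := by
        have h2 : home H t (x * (u * t * u⁻¹) * x⁻¹) = x • (u : G ⧸ H) := by
          rw [F.home_smul (cl_conj (mem_cl_self t) u), F.home_conj]
        rcases hxe with h | h
        · rw [← h2, h, F.home_conj]
        · rw [← h2, h, home_y u hu]
      have h3 := (F.fix mem (hecl x hx) _).1 h1
      obtain ⟨g, hg, hgx⟩ := hx
      have hgu : (g * u) * y = y * (g * u) := by rw [mul_assoc, hu, ← mul_assoc, hg, mul_assoc]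
      exact uniq u hu x ⟨g * u, hgu, by rw [← hgx]; group⟩ h3.symm)
    have hxcl := hecl x hx
    have hwi : w⁻¹ = w := inv_eq_of_mul_eq_one_left hw2
    -- the home of `x` is `H`
    have h1 : w • home H t x = home H t x := by
      rw [← F.home_smul hxcl w]
      rcases hwx with h | h
      · rw [h]
      · rw [h, hyf x hx]
    have h2 : home H t x = ((1 : G) : G ⧸ H) := by
      rw [(F.fix mem (cls_sub H t hw) _).1 h1, F.home_cls hw]
    have h3 : x • (u : G ⧸ H) = w • (u : G ⧸ H) := by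
      have h4 : home H t (x * (u * t * u⁻¹) * x⁻¹) = x • (u : G ⧸ H) := by
        rw [F.home_smul (cl_conj (mem_cl_self t) u), F.home_conj]
      have h5 : home H t (w * (u * t * u⁻¹) * w) = w • (u : G ⧸ H) := by
        rw [← F.home_conj u, ← F.home_smul (cl_conj (mem_cl_self t) u), hwi]
      have h6 : home H t (w * (u * t * u⁻¹) * w * y) = w • (u : G ⧸ H) := by
        rw [hyf _ ⟨w, hwy, by rw [hwi]⟩, h5]
      rcases hxe with h | h
      · rw [← h4, h, h5]
      · rw [← h4, h, h6]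
    obtain ⟨g, hg, hgx⟩ := hx
    have hgu : (g * u) * y = y * (g * u) := by rw [mul_assoc, hu, ← mul_assoc, hg, mul_assoc]
    rcases uniq 1 (by group) x ⟨g * u, hgu, by rw [← hgx]; group⟩ h2 with h | h
    · rw [← h3, h, one_mul, inv_one, mul_one]
    · rw [← h3, h, one_mul, inv_one, mul_one, mul_smul, hyu]
  -- an element of `D₀ ∩ M` commuting with `t'`
  obtain ⟨L, hL, hLM, hLt, hLt'⟩ : ∃ L ∈ cls H t, L ∈ M ∧ L ≠ t ∧ t' * L = L * t' := by
    let f : {s : G // s ∈ cls H t ∧ s ∈ M ∧ s ≠ t} → {s : G // s ∈ cls H t ∧ s ∈ M ∧ s ≠ t} := fun s =>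
      ⟨t' * s.1 * t'⁻¹, cls_conj s.2.1 ht'H, F.M_norm t' ht'H hc _ s.2.2.1, by
        intro h
        apply s.2.2.2
        calc s.1 = t'⁻¹ * (t' * s.1 * t'⁻¹) * t' := by group
          _ = t'⁻¹ * (t' * t) := by rw [h, mul_assoc, ← hc]
          _ = t := by group⟩
    have hff : ∀ s, f (f s) = s := by
      intro s
      apply Subtype.ext
      show t' * (t' * s.1 * t'⁻¹) * t'⁻¹ = s.1
      rw [inv_eq_of_mul_eq_one_left ht'2]
      calc t' * (t' * s.1 * t') * t' = (t' * t') * s.1 * (t' * t') := by group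
        _ = s.1 := by rw [ht'2, one_mul, mul_one]
    obtain ⟨s, hs⟩ := R15.Lite.exists_fixed_of_odd F.odd (⟨f, f, hff, hff⟩ : Equiv.Perm _) (Equiv.ext hff)
    refine ⟨s.1, s.2.1, s.2.2.1, s.2.2.2, ?_⟩
    have h1 : t' * s.1 * t'⁻¹ = s.1 := congrArg Subtype.val hs
    calc t' * s.1 = (t' * s.1 * t'⁻¹) * t' := by group
      _ = s.1 * t' := by rw [h1]
  have hLc : L * t = t * L := F.M_comm L hLM
  have hLy : L * y = y * L := by
    rw [hy, ← mul_assoc, hLc, mul_assoc, ← hLt', mul_assoc]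
  have hL2 : L * L = 1 := cl_sq F.t_sq (cls_sub H t hL)
  have hLa : (t * L) • (u : G ⧸ H) = (u : G ⧸ H) := by
    rw [mul_smul, hw L hL hLy, ← mul_smul, F.t_sq, one_smul]
  -- `t L` is a conjugate of `z`
  obtain ⟨h, hh, hht, hhL⟩ := F.adj L hL hLM hLt
  have hz : t * L = h * z * h⁻¹ := by
    rw [← hhL]
    calc t * (h * (t * z) * h⁻¹) = (t * h) * (t * z) * h⁻¹ := by group
      _ = h * (t * t) * z * h⁻¹ := by rw [← hht]; group
      _ = h * z * h⁻¹ := by rw [F.t_sq, mul_one]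
  have hcen : ∀ g : G, g * (t * L) = t * L * g → g ∈ H := by
    intro g hg
    rw [hz] at hg
    have h1 : h⁻¹ * g * h ∈ H := by
      apply centz
      calc h⁻¹ * g * h * z = h⁻¹ * (g * (h * z * h⁻¹)) * h := by group
        _ = h⁻¹ * (h * z * h⁻¹ * g) * h := by rw [hg]
        _ = z * (h⁻¹ * g * h) := by group
    have h2 := H.mul_mem (H.mul_mem hh h1) (H.inv_mem hh)
    have e : h * (h⁻¹ * g * h) * h⁻¹ = g := by group
    rwa [e] at h2
  -- an element of `D` over `u H` commuting with `t L`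
  obtain ⟨e, he, hec⟩ : ∃ e : G, (∃ k ∈ H, u * k * t * (u * k)⁻¹ = e) ∧ e * (t * L) = t * L * e := by
    have hb : u⁻¹ * (t * L) * u ∈ H := by
      have h2 : ((t * L * u : G) : G ⧸ H) = (u : G ⧸ H) := hLa
      have h3 := QuotientGroup.eq.1 h2.symm
      have e : u⁻¹ * (t * L) * u = u⁻¹ * (t * L * u) := by group
      rwa [e]
    have hb2 : (u⁻¹ * (t * L) * u) * (u⁻¹ * (t * L) * u) = 1 := by
      calc (u⁻¹ * (t * L) * u) * (u⁻¹ * (t * L) * u) = u⁻¹ * (t * (L * t) * L) * u := by group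
        _ = u⁻¹ * ((t * t) * (L * L)) * u := by rw [hLc]; group
        _ = 1 := by rw [F.t_sq, hL2]; group
    have hb1 : u⁻¹ * (t * L) * u ≠ 1 := by
      intro h
      apply hLt
      have h1 : t * L = 1 := by
        calc t * L = u * (u⁻¹ * (t * L) * u) * u⁻¹ := by group
          _ = 1 := by rw [h]; group
      have h2 := eq_inv_of_mul_eq_one_right h1
      rw [h2, I.t_inv]
    rcases F.classes _ hb hb2 hb1 with ⟨k, hk, hkM⟩ | ⟨d, hd, hdc, -⟩
    · refine ⟨_, ⟨k, hk, rfl⟩, ?_⟩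
      have h1 := F.M_comm _ hkM
      calc u * k * t * (u * k)⁻¹ * (t * L)
          = u * k * (t * (k⁻¹ * (u⁻¹ * (t * L) * u) * k)) * (u * k)⁻¹ := by group
        _ = u * k * ((k⁻¹ * (u⁻¹ * (t * L) * u) * k) * t) * (u * k)⁻¹ := by rw [h1]
        _ = t * L * (u * k * t * (u * k)⁻¹) := by group
    · obtain ⟨k, hk, rfl⟩ := hd
      refine ⟨_, ⟨k, hk, rfl⟩, ?_⟩
      calc u * k * t * (u * k)⁻¹ * (t * L) = u * ((k * t * k⁻¹) * (u⁻¹ * (t * L) * u)) * u⁻¹ := by group
        _ = u * ((u⁻¹ * (t * L) * u) * (k * t * k⁻¹)) * u⁻¹ := by rw [hdc]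
        _ = t * L * (u * k * t * (u * k)⁻¹) := by group
  obtain ⟨k, hk, rfl⟩ := he
  have h1 := mem _ ⟨_, rfl⟩ (hcen _ hec)
  have h2 := F.home_cls h1
  rw [F.home_conj] at h2
  apply hne
  rw [← h2, QuotientGroup.eq]
  have e : u⁻¹ * (u * k) = k := by group
  rw [e]; exact hk

/-- `G` on the cosets of `H`. -/
theorem Facts.hyp [Finite G] (centz : ∀ g : G, g * z = z * g → g ∈ H) : R15.Lite.Hyp (cl t) (home H t) where
  sq d hd := cl_sq F.t_sq hd
  ne d hd := cl_ne F.t_ne hd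
  conj d hd g := cl_conj hd g
  fix d hd a := F.fix mem hd a
  cent := by
    rintro _ ⟨k, rfl⟩ e he hne hc g hg
    have h1 : k⁻¹ * e * k ∈ cl t := cl_conj' he k
    have h2 : (k⁻¹ * e * k) * t = t * (k⁻¹ * e * k) := by
      calc (k⁻¹ * e * k) * t = k⁻¹ * (e * (k * t * k⁻¹)) * k := by group
        _ = k⁻¹ * ((k * t * k⁻¹) * e) * k := by rw [hc]
        _ = t * (k⁻¹ * e * k) := by group
    have h3 : k⁻¹ * e * k ∈ cls H t := mem _ h1 (F.cent _ h2)
    have h4 : k⁻¹ * e * k ≠ t := by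
      intro h
      apply hne
      rw [← h]; group
    have h5 : (k⁻¹ * g * k) * (t * (k⁻¹ * e * k)) = t * (k⁻¹ * e * k) * (k⁻¹ * g * k) := by
      calc (k⁻¹ * g * k) * (t * (k⁻¹ * e * k)) = k⁻¹ * (g * (k * t * k⁻¹ * e)) * k := by group
        _ = k⁻¹ * (k * t * k⁻¹ * e * g) * k := by rw [hg]
        _ = t * (k⁻¹ * e * k) * (k⁻¹ * g * k) := by group
    have h6 : k⁻¹ * g * k ∈ H := by
      by_cases hM : k⁻¹ * e * k ∈ M
      · obtain ⟨h, hh, hht, hhL⟩ := F.adj _ h3 hM h4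
        have hz : t * (k⁻¹ * e * k) = h * z * h⁻¹ := by
          rw [← hhL]
          calc t * (h * (t * z) * h⁻¹) = (t * h) * (t * z) * h⁻¹ := by group
            _ = h * (t * t) * z * h⁻¹ := by rw [← hht]; group
            _ = h * z * h⁻¹ := by rw [F.t_sq, mul_one]
        rw [hz] at h5
        have h7 : h⁻¹ * (k⁻¹ * g * k) * h ∈ H := by
          apply centz
          calc h⁻¹ * (k⁻¹ * g * k) * h * z = h⁻¹ * ((k⁻¹ * g * k) * (h * z * h⁻¹)) * h := by group
            _ = h⁻¹ * (h * z * h⁻¹ * (k⁻¹ * g * k)) * h := by rw [h5]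
            _ = z * (h⁻¹ * (k⁻¹ * g * k) * h) := by group
        have h8 := H.mul_mem (H.mul_mem hh h7) (H.inv_mem hh)
        have e' : h * (h⁻¹ * (k⁻¹ * g * k) * h) * h⁻¹ = k⁻¹ * g * k := by group
        rwa [e'] at h8
      · exact F.cent_pair mem centz h3 h2 hM _ h5
    rw [F.home_conj]
    show ((g * k : G) : G ⧸ H) = (k : G ⧸ H)
    rw [QuotientGroup.eq]
    have e' : (g * k)⁻¹ * k = (k⁻¹ * g * k)⁻¹ := by group
    rw [e']
    exact H.inv_mem h6

/-- **Closing** (Steps 4 and 5). -/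
theorem Facts.eq_top [Finite G] [IsSimpleGroup G] (centz : ∀ g : G, g * z = z * g → g ∈ H) : H = ⊤ := by
  have I := F.toInner
  have htriv : ∀ v : G, v ≠ 1 → (∀ a : G ⧸ H, v • a = a) → H = ⊤ := by
    intro v hv hva
    have h1 : v ∈ H.normalCore := by
      intro g
      have h2 : ((v * g⁻¹ : G) : G ⧸ H) = (g⁻¹ : G) := hva (g⁻¹ : G)
      have h3 := QuotientGroup.eq.1 h2.symm
      have e : g * v * g⁻¹ = g⁻¹⁻¹ * (v * g⁻¹) := by group
      rw [e]; exact h3
    rcases (Subgroup.normalCore_normal H).eq_bot_or_eq_top with h | h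
    · rw [h] at h1
      exact absurd (Subgroup.mem_bot.1 h1) hv
    · exact top_le_iff.1 (h ▸ H.normalCore_le)
  have Hyp := F.hyp mem centz
  have surj : ∀ a : G ⧸ H, ∃ d ∈ cl t, home H t d = a := by
    intro a
    obtain ⟨g, rfl⟩ := QuotientGroup.mk_surjective a
    exact ⟨g * t * g⁻¹, ⟨g, rfl⟩, F.home_conj g⟩
  rcases lite_plus Hyp surj F.z_sq (p₀ := ((1 : G) : G ⧸ H)) (fun x hx hxz =>
    F.home_cls (mem x hx (centz x hxz))) with h | ⟨x, hx, hxz, h⟩
  · exact htriv z F.z_ne h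
  · refine htriv (z * x) ?_ h
    intro h1
    have h2 : z = x := by
      have := eq_inv_of_mul_eq_one_left h1
      rwa [inv_eq_of_mul_eq_one_left (cl_sq F.t_sq hx)] at this
    have h3 : x ∈ cls H t := mem x hx (centz x hxz)
    exact F.z_notin (h2 ▸ h3)

end final

end Cfsg.Agent.BabyU.Clos
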