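import Cfsg.Agent.BabyU.ClosFacts

/-!
# Closing for the Baby Monster: Steps 1 and 2

`mem_cls` : every conjugate of `t` in `H` is conjugate to `t` under `H`.

Text: `blueprints/R19/helper248/closingB.md`.
-/

set_option autoImplicit false

namespace Cfsg.Agent.BabyU.ClosFus

open Clos

variable {G : Type*} [Group G] {H P M : Subgroup G} {z t t₁ : G}

/-! ### Facts inside `H` -/

section inner

variable (F : Inner H P M z t t₁)

include F

theorem tH : t ∈ H := F.PH F.tP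

theorem zH : z ∈ H := F.PH F.zP

theorem zt : z * t = t * z := (F.zc t F.tP).symm

theorem tzP : t * z ∈ P := P.mul_mem F.tP F.zP

theorem tzM : t * z ∈ M := F.PM _ (tzP F) (by rw [mul_assoc, zt F])

theorem zM' : z ∈ M := F.PM _ F.zP (zt F)

theorem tz_ne : t * z ≠ t := fun h => F.z_ne (mul_eq_left.1 h)

theorem sq_of {d : G} (hd : d ∈ cls H t) : d * d = 1 := cl_sq F.t_sq (cls_sub H t hd)

theorem inv_of {d : G} (hd : d ∈ cls H t) : d⁻¹ = d := inv_eq_of_mul_eq_one_left (sq_of F hd)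

/-- elements of the centre of `P` -/
theorem centre (n : G) (hn : n ∈ P) (hc : ∀ q ∈ P, q * n = n * q) : n = 1 ∨ n = z := by
  have h := F.irr (P ⊓ Subgroup.centralizer (P : Set G)) inf_le_left (by
    intro h hh hz n hn
    obtain ⟨hn1, hn2⟩ := Subgroup.mem_inf.1 hn
    refine Subgroup.mem_inf.2 ⟨F.P_norm h hh hz n hn1, ?_⟩
    rw [Subgroup.mem_centralizer_iff] at hn2 ⊢
    intro q hq
    have hz' : h⁻¹ * z = z * h⁻¹ := by
      have : h⁻¹ * (h * z) * h⁻¹ = h⁻¹ * (z * h) * h⁻¹ := by rw [hz]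
      have e1 : h⁻¹ * (h * z) * h⁻¹ = z * h⁻¹ := by group
      have e2 : h⁻¹ * (z * h) * h⁻¹ = h⁻¹ * z := by group
      rw [e1, e2] at this
      exact this.symm
    have hq' := F.P_norm h⁻¹ (H.inv_mem hh) hz' q hq
    rw [inv_inv] at hq'
    have := hn2 _ hq'
    calc q * (h * n * h⁻¹) = h * ((h⁻¹ * q * h) * n) * h⁻¹ := by group
      _ = h * (n * (h⁻¹ * q * h)) * h⁻¹ := by rw [this]
      _ = h * n * h⁻¹ * q := by group)
  rcases h with h | h
  · exact h n (Subgroup.mem_inf.2 ⟨hn, Subgroup.mem_centralizer_iff.2 fun q hq => hc q hq⟩)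
  · exfalso
    obtain ⟨q, hq, e⟩ := F.fuse
    have h1 := Subgroup.mem_centralizer_iff.1 (Subgroup.mem_inf.1 h).2 q hq
    rw [h1, mul_inv_cancel_right] at e
    exact tz_ne F e.symm

/-- `d ∈ P` is conjugate to `d z` in `P`. -/
theorem exists_fuse {d : G} (hd : d ∈ cls H t) (hP : d ∈ P) : ∃ q ∈ P, q * d * q⁻¹ = d * z := by
  by_contra hcon
  push Not at hcon
  rcases centre F d hP (fun q hq => by
    rcases F.P_comm q hq d hP with h | h
    · exact h
    · exfalso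
      apply hcon q hq
      have hq' := F.zc q hq
      calc q * d * q⁻¹ = d * (q * z) * q⁻¹ := by rw [h]; group
        _ = d * (z * q) * q⁻¹ := by rw [hq']
        _ = d * z := by group) with h | h
  · exact cl_ne F.t_ne (cls_sub H t hd) h
  · exact F.z_notin (h ▸ hd)

theorem mul_z_mem {d : G} (hd : d ∈ cls H t) (hP : d ∈ P) : d * z ∈ cls H t := by
  obtain ⟨q, hq, e⟩ := exists_fuse F hd hP
  rw [← e]
  exact cls_conj hd (F.PH hq)

/-- F3 with the conjugating element. -/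
theorem exists_adj {h s : G} (hh : h ∈ H) (hs : s ∈ cls H t) (hM : h⁻¹ * s * h ∈ M) (hne : s ≠ h * t * h⁻¹) :
    ∃ k ∈ H, k * t * k⁻¹ = h * t * h⁻¹ ∧ k * (t * z) * k⁻¹ = s := by
  obtain ⟨k, hk, hkt, e⟩ := F.adj _ (cls_conj' hs hh) hM (by
    intro h1
    apply hne
    rw [← h1]; group)
  refine ⟨h * k, H.mul_mem hh hk, ?_, ?_⟩
  · calc h * k * t * (h * k)⁻¹ = h * (k * t) * k⁻¹ * h⁻¹ := by group
      _ = h * (t * k) * k⁻¹ * h⁻¹ := by rw [hkt]
      _ = h * t * h⁻¹ := by group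
  · calc h * k * (t * z) * (h * k)⁻¹ = h * (k * (t * z) * k⁻¹) * h⁻¹ := by group
      _ = h * (h⁻¹ * s * h) * h⁻¹ := by rw [e]
      _ = s := by group

/-- (b1), with the conjugating element. -/
theorem exists_C {d : G} (hd : d ∈ cls H t) (hz : d * z = z * d) (hdz : d * z ∈ cls H t) :
    ∃ h ∈ H, h * z = z * h ∧ h * t * h⁻¹ = d := by
  obtain ⟨h, hh, rfl⟩ := hd
  have h1 := F.zM h hh hz
  obtain ⟨k, hk, e1, e2⟩ := exists_adj F hh hdz (by
    have : h⁻¹ * (h * t * h⁻¹ * z) * h = t * (h⁻¹ * z * h) := by group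
    rw [this]
    exact M.mul_mem F.tM h1) (fun h => F.z_ne (mul_eq_left.1 h))
  refine ⟨k, hk, ?_, e1⟩
  have e3 : k * (t * z) * k⁻¹ = (k * t * k⁻¹) * (k * z * k⁻¹) := by group
  rw [e3, e1] at e2
  have e4 := mul_left_cancel e2
  exact mul_inv_eq_iff_eq_mul.1 e4

/-- (b1) -/
theorem mem_P {d : G} (hd : d ∈ cls H t) (hz : d * z = z * d) (hdz : d * z ∈ cls H t) : d ∈ P := by
  obtain ⟨h, hh, hhz, rfl⟩ := exists_C F hd hz hdz
  exact F.P_norm h hh hhz t F.tP

theorem exists_C' {d : G} (hd : d ∈ cls H t) (hP : d ∈ P) : ∃ h ∈ H, h * z = z * h ∧ h * t * h⁻¹ = d :=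
  exists_C F hd (F.zc d hP) (mul_z_mem F hd hP)

omit F in
theorem comm_inv {a b : G} (h : a * b = b * a) : a⁻¹ * b = b * a⁻¹ := by
  calc a⁻¹ * b = a⁻¹ * (b * a) * a⁻¹ := by group
    _ = a⁻¹ * (a * b) * a⁻¹ := by rw [h]
    _ = b * a⁻¹ := by group

omit F in
theorem comm_of {a b c : G} (e : c = a * b) (h : a * b = b * a) : a * c = c * a := by
  rw [e]
  calc a * (a * b) = a * (b * a) := by rw [h]
    _ = a * b * a := (mul_assoc _ _ _).symm

/-- (b1') : a second transposition of `P` commuting with the first is `+`. -/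
theorem pos_P {h d : G} (hh : h ∈ H) (hP : h * t * h⁻¹ ∈ P) (hdP : d ∈ P)
    (hc : (h * t * h⁻¹) * d = d * (h * t * h⁻¹)) : h⁻¹ * d * h ∈ M := by
  obtain ⟨k, hk, hkz, e⟩ := exists_C' F ⟨h, hh, rfl⟩ hP
  have h1 : k⁻¹ * d * k ∈ P := by
    have := F.P_norm k⁻¹ (H.inv_mem hk) (comm_inv hkz) d hdP
    rwa [inv_inv] at this
  have h2 : (k⁻¹ * d * k) * t = t * (k⁻¹ * d * k) := by
    calc (k⁻¹ * d * k) * t = k⁻¹ * (d * (k * t * k⁻¹)) * k := by group
      _ = k⁻¹ * ((k * t * k⁻¹) * d) * k := by rw [e, hc]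
      _ = _ := by group
  have h3 := F.PM _ h1 h2
  have h4 : (h⁻¹ * k) * t = t * (h⁻¹ * k) := by
    calc (h⁻¹ * k) * t = h⁻¹ * (k * t * k⁻¹) * k := by group
      _ = h⁻¹ * (h * t * h⁻¹) * k := by rw [e]
      _ = _ := by group
  have h5 := F.M_norm (h⁻¹ * k) (H.mul_mem (H.inv_mem hh) hk) h4 _ h3
  have e5 : h⁻¹ * k * (k⁻¹ * d * k) * (h⁻¹ * k)⁻¹ = h⁻¹ * d * h := by group
  rwa [e5] at h5

theorem pos_P' {d : G} (hdP : d ∈ P) (hc : t * d = d * t) : d ∈ M := F.PM d hdP hc.symm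

/-- `t t'` is not a conjugate of `z` if `t'` is `-` on `t`. -/
theorem ne_z {t' : G} (ht' : t' ∈ cls H t) (hc : t * t' = t' * t) (hM : t' ∉ M) {h : G} (hh : h ∈ H) :
    h * z * h⁻¹ ≠ t * t' := by
  intro e
  have hd : h⁻¹ * t * h ∈ cls H t := cls_conj' (mem_cls_self H t) hh
  have hd' : h⁻¹ * t' * h ∈ cls H t := cls_conj' ht' hh
  have e1 : z = (h⁻¹ * t * h) * (h⁻¹ * t' * h) := by
    calc z = h⁻¹ * (h * z * h⁻¹) * h := by group
      _ = h⁻¹ * (t * t') * h := by rw [e]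
      _ = _ := by group
  have e2 : (h⁻¹ * t * h) * z = h⁻¹ * t' * h := by
    calc (h⁻¹ * t * h) * z = (h⁻¹ * t * h) * ((h⁻¹ * t * h) * (h⁻¹ * t' * h)) := by rw [← e1]
      _ = ((h⁻¹ * t * h) * (h⁻¹ * t * h)) * (h⁻¹ * t' * h) := by group
      _ = _ := by rw [sq_of F hd, one_mul]
  have hcc : (h⁻¹ * t * h) * (h⁻¹ * t' * h) = (h⁻¹ * t' * h) * (h⁻¹ * t * h) := by
    calc (h⁻¹ * t * h) * (h⁻¹ * t' * h) = h⁻¹ * (t * t') * h := by group
      _ = h⁻¹ * (t' * t) * h := by rw [hc]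
      _ = _ := by group
  have hz : (h⁻¹ * t * h) * z = z * (h⁻¹ * t * h) := comm_of e1 hcc
  have hP := mem_P F hd hz (e2 ▸ hd')
  have hP' : h⁻¹ * t' * h ∈ P := by rw [← e2]; exact P.mul_mem hP F.zP
  have h1 := pos_P F (h := h⁻¹) (H.inv_mem hh) (by rwa [inv_inv]) hP' (by rwa [inv_inv])
  rw [inv_inv] at h1
  have e3 : h * (h⁻¹ * t' * h) * h⁻¹ = t' := by group
  rw [e3] at h1
  exact hM h1

/-- **Lemma A** -/
theorem lemA {t' L : G} (ht' : t' ∈ cls H t) (hc : t * t' = t' * t) (hM : t' ∉ M) (hL : L ∈ cls H t)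
    (hLM : L ∈ M) (hLt : L ≠ t) (hLt' : L * t' = t' * L) : L * (t * t') ∉ cls H t := by
  intro hmem
  obtain ⟨h, hh, hht, e⟩ := F.adj L hL hLM hLt
  have hd' : h⁻¹ * t' * h ∈ cls H t := cls_conj' ht' hh
  have hth : h⁻¹ * t * h = t := by
    calc h⁻¹ * t * h = h⁻¹ * (t * h) := by group
      _ = h⁻¹ * (h * t) := by rw [hht]
      _ = t := by group
  have e1 : h⁻¹ * (L * (t * t')) * h = (h⁻¹ * t' * h) * z := by
    have hLz : L = h * (t * z) * h⁻¹ := e.symm
    have h1 : L * (t * t') = t' * (L * t) := by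
      rw [hc, ← mul_assoc, hLt', mul_assoc]
    have h2 : L * t = h * z * h⁻¹ := by
      have : t = h * t * h⁻¹ := by rw [hht]; group
      calc L * t = (h * (t * z) * h⁻¹) * (h * t * h⁻¹) := by rw [← hLz, ← this]
        _ = h * ((t * z) * t) * h⁻¹ := by group
        _ = h * (z * (t * t)) * h⁻¹ := by rw [← zt F]; group
        _ = _ := by rw [F.t_sq, mul_one]
    rw [h1, h2]; group
  have hz : (h⁻¹ * t' * h) * z = z * (h⁻¹ * t' * h) := by
    have h2 : h * z * h⁻¹ = L * t := by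
      have : t = h * t * h⁻¹ := by rw [hht]; group
      calc h * z * h⁻¹ = h * (z * (t * t)) * h⁻¹ := by rw [F.t_sq, mul_one]
        _ = h * ((t * z) * t) * h⁻¹ := by rw [← zt F]; group
        _ = (h * (t * z) * h⁻¹) * (h * t * h⁻¹) := by group
        _ = L * t := by rw [e, ← this]
    have h3 : z = h⁻¹ * (L * t) * h := by rw [← h2]; group
    calc (h⁻¹ * t' * h) * z = (h⁻¹ * t' * h) * (h⁻¹ * (L * t) * h) := by rw [← h3]
      _ = h⁻¹ * (t' * L * t) * h := by group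
      _ = h⁻¹ * (L * t' * t) * h := by rw [← hLt']
      _ = h⁻¹ * (L * (t' * t)) * h := by rw [mul_assoc L]
      _ = h⁻¹ * (L * (t * t')) * h := by rw [hc]
      _ = (h⁻¹ * (L * t) * h) * (h⁻¹ * t' * h) := by group
      _ = _ := by rw [← h3]
  have hP := mem_P F hd' hz (by rw [← e1]; exact cls_conj' hmem hh)
  have h1 := pos_P' F hP (by
    calc t * (h⁻¹ * t' * h) = h⁻¹ * (h * t) * (h⁻¹ * t' * h) := by group
      _ = h⁻¹ * (t * h) * (h⁻¹ * t' * h) := by rw [hht]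
      _ = h⁻¹ * (t * t') * h := by group
      _ = h⁻¹ * (t' * t) * h := by rw [hc]
      _ = (h⁻¹ * t' * h) * (h⁻¹ * t * h) := by group
      _ = _ := by rw [hth])
  have h2 := F.M_norm h hh hht _ h1
  have e3 : h * (h⁻¹ * t' * h) * h⁻¹ = t' := by group
  rw [e3] at h2
  exact hM h2

end inner

/-! ### Maximal `2`-subgroups -/

section max

theorem exists_max [Finite G] (K T : Subgroup G) (hT : IsPGroup 2 T) (hTK : T ≤ K) :
    ∃ S : Subgroup G, IsPGroup 2 S ∧ S ≤ K ∧ T ≤ S ∧ ∀ R : Subgroup G, IsPGroup 2 R → R ≤ K → S ≤ R → R ≤ S := by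
  obtain ⟨S, hTS, hS⟩ := (Set.toFinite {R : Subgroup G | IsPGroup 2 R ∧ R ≤ K}).exists_le_maximal
    (show T ∈ {R : Subgroup G | IsPGroup 2 R ∧ R ≤ K} from ⟨hT, hTK⟩)
  exact ⟨S, hS.prop.1, hS.prop.2, hTS, fun R h1 h2 h3 => hS.le_of_ge ⟨h1, h2⟩ h3⟩

theorem max_sup {K S R : Subgroup G} (hS : IsPGroup 2 S) (hSK : S ≤ K)
    (hmax : ∀ R : Subgroup G, IsPGroup 2 R → R ≤ K → S ≤ R → R ≤ S) (hR : IsPGroup 2 R) (hRK : R ≤ K)
    (hn : ∀ a ∈ S, ∀ r ∈ R, a * r * a⁻¹ ∈ R) : R ≤ S := by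
  have h1 : S ≤ Subgroup.normalizer (R : Set G) := by
    intro a ha
    rw [Subgroup.mem_normalizer_iff]
    intro r
    constructor
    · exact hn a ha r
    · intro h
      have := hn a⁻¹ (S.inv_mem ha) _ h
      have e : a⁻¹ * (a * r * a⁻¹) * a⁻¹⁻¹ = r := by group
      rwa [e] at this
  have h2 := IsPGroup.to_sup_of_normal_right' hS hR h1
  exact le_sup_right.trans (hmax _ h2 (sup_le hSK hRK) le_sup_left)

theorem max_mem {K S : Subgroup G} (hS : IsPGroup 2 S) (hSK : S ≤ K)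
    (hmax : ∀ R : Subgroup G, IsPGroup 2 R → R ≤ K → S ≤ R → R ≤ S) {x : G} (hxK : x ∈ K) (hx : x * x = 1)
    (hc : ∀ a ∈ S, a * x = x * a) : x ∈ S := by
  have h1 : IsPGroup 2 (Subgroup.zpowers x) := by
    rintro ⟨_, k, rfl⟩
    refine ⟨1, Subtype.ext ?_⟩
    show (x ^ k) ^ 2 ^ 1 = 1
    rw [pow_one, pow_two, ← (Commute.refl x).mul_zpow, hx, one_zpow]
  refine max_sup hS hSK hmax h1 (by rwa [Subgroup.zpowers_le]) ?_ (Subgroup.mem_zpowers x)
  rintro a ha _ ⟨k, rfl⟩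
  have h2 : Commute a (x ^ k) := (show Commute a x from hc a ha).zpow_right k
  refine ⟨k, ?_⟩
  show x ^ k = a * x ^ k * a⁻¹
  rw [h2.eq, mul_inv_cancel_right]

theorem exists_normalizing [Finite G] {T S : Subgroup G} (hS : IsPGroup 2 S) (hTS : T ≤ S) (hne : ¬ S ≤ T) :
    ∃ n ∈ S, n ∉ T ∧ ∀ a : G, a ∈ T ↔ n * a * n⁻¹ ∈ T := by
  have hnil : Group.IsNilpotent S := hS.isNilpotent
  have hN : NormalizerCondition S := Group.normalizerCondition_of_isNilpotent
  have hlt : T.subgroupOf S < ⊤ := by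
    rw [lt_top_iff_ne_top]
    intro h
    rw [Subgroup.subgroupOf_eq_top] at h
    exact hne h
  obtain ⟨n, hn1, hn2⟩ := SetLike.exists_of_lt (hN _ hlt)
  refine ⟨n, n.2, hn2, ?_⟩
  intro a
  rw [Subgroup.mem_normalizer_iff] at hn1
  constructor
  · intro ha
    exact (hn1 ⟨a, hTS ha⟩).1 ha
  · intro ha
    have haS : a ∈ S := by
      have := S.mul_mem (S.mul_mem (S.inv_mem n.2) (hTS ha)) n.2
      have e : (n : G)⁻¹ * ((n : G) * a * (n : G)⁻¹) * (n : G) = a := by group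
      rwa [e] at this
    exact (hn1 ⟨a, haS⟩).2 ha

theorem exists_fixed [Finite G] {T : Subgroup G} (hT : IsPGroup 2 T) {S : Set G} (hodd : Odd (Nat.card S))
    (hS : ∀ g ∈ T, ∀ s ∈ S, g * s * g⁻¹ ∈ S) : ∃ s ∈ S, ∀ g ∈ T, g * s = s * g := by
  have : Fact (Nat.Prime 2) := ⟨Nat.prime_two⟩
  let _ : MulAction T S :=
    { smul := fun g s => ⟨(g : G) * s * (g : G)⁻¹, hS g g.2 s s.2⟩
      one_smul := fun s => Subtype.ext (by show (1 : G) * s * (1 : G)⁻¹ = s; group)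
      mul_smul := fun g h s => Subtype.ext (by
        show ((g : G) * h) * s * ((g : G) * h)⁻¹ = (g : G) * ((h : G) * s * (h : G)⁻¹) * (g : G)⁻¹
        group) }
  have h := hT.card_modEq_card_fixedPoints (α := S)
  have h1 : Nat.card (MulAction.fixedPoints T S) ≠ 0 := by
    intro h0
    rw [h0] at h
    have := (Nat.modEq_zero_iff_dvd.1 h)
    rw [← Nat.not_even_iff_odd] at hodd
    exact hodd (even_iff_two_dvd.2 this)
  obtain ⟨⟨s, hs⟩⟩ := (Nat.card_ne_zero.1 h1).1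
  refine ⟨s, s.2, fun g hg => ?_⟩
  have := congrArg Subtype.val (hs ⟨g, hg⟩)
  have h2 : g * (s : G) * g⁻¹ = s := this
  exact mul_inv_eq_iff_eq_mul.1 h2

end max

/-! ### Signs in `G` -/

section facts

variable (F : Facts H P M z t t₁)

include F

theorem Mt {m : G} (hm : m ∈ M) : m * t = t * m := F.M_comm m hm

theorem pos_iff {k d x : G} (hk : k * t * k⁻¹ = d) : Pos M t d x ↔ k⁻¹ * x * k ∈ M := by
  constructor
  · rintro ⟨k', hk', h⟩
    have hc : (k⁻¹ * k') * t = t * (k⁻¹ * k') := by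
      calc (k⁻¹ * k') * t = k⁻¹ * (k' * t * k'⁻¹) * k' := by group
        _ = k⁻¹ * (k * t * k⁻¹) * k' := by rw [hk', hk]
        _ = _ := by group
    have := F.M_norm _ (F.cent _ hc) hc _ h
    have e : k⁻¹ * k' * (k'⁻¹ * x * k') * (k⁻¹ * k')⁻¹ = k⁻¹ * x * k := by group
    rwa [e] at this
  · exact fun h => ⟨k, hk, h⟩

theorem pos_t {x : G} : Pos M t t x ↔ x ∈ M := by
  rw [pos_iff F (k := 1) (by group)]
  simp

omit F in
theorem pos_conj {d x : G} (g : G) (h : Pos M t d x) : Pos M t (g * d * g⁻¹) (g * x * g⁻¹) := by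
  obtain ⟨k, rfl, h⟩ := h
  refine ⟨g * k, by group, ?_⟩
  have e : (g * k)⁻¹ * (g * x * g⁻¹) * (g * k) = k⁻¹ * x * k := by group
  rwa [e]

theorem pos_self {d : G} (hd : d ∈ cl t) : Pos M t d d := by
  obtain ⟨k, rfl⟩ := hd
  refine ⟨k, rfl, ?_⟩
  have e : k⁻¹ * (k * t * k⁻¹) * k = t := by group
  rw [e]; exact F.tM

theorem pos_comm {d x : G} (h : Pos M t d x) : x * d = d * x := by
  obtain ⟨k, rfl, h⟩ := h
  have := F.M_comm _ h
  calc x * (k * t * k⁻¹) = k * ((k⁻¹ * x * k) * t) * k⁻¹ := by group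
    _ = k * (t * (k⁻¹ * x * k)) * k⁻¹ := by rw [this]
    _ = _ := by group

theorem pos_mul {d x y : G} (hx : Pos M t d x) (hy : Pos M t d y) : Pos M t d (x * y) := by
  obtain ⟨k, hk, h⟩ := hx
  have h2 := (pos_iff F hk).1 hy
  refine ⟨k, hk, ?_⟩
  have e : k⁻¹ * (x * y) * k = (k⁻¹ * x * k) * (k⁻¹ * y * k) := by group
  rw [e]
  exact M.mul_mem h h2

/-- The product of two `-` elements is `+`. -/
theorem pos_two {d x y : G} (hd : d ∈ cl t) (hx : x * d = d * x) (hy : y * d = d * y) (hx' : ¬ Pos M t d x)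
    (hy' : ¬ Pos M t d y) : Pos M t d (x * y) := by
  obtain ⟨k, rfl⟩ := hd
  rw [pos_iff F rfl] at hx' hy' ⊢
  have conj : ∀ v : G, v * (k * t * k⁻¹) = (k * t * k⁻¹) * v → (k⁻¹ * v * k) * t = t * (k⁻¹ * v * k) := by
    intro v hv
    calc (k⁻¹ * v * k) * t = k⁻¹ * (v * (k * t * k⁻¹)) * k := by group
      _ = k⁻¹ * ((k * t * k⁻¹) * v) * k := by rw [hv]
      _ = _ := by group
  have e : k⁻¹ * (x * y) * k = (k⁻¹ * x * k) * (k⁻¹ * y * k) := by group
  rw [e]
  exact F.M_index _ (F.cent _ (conj x hx)) _ (F.cent _ (conj y hy)) (conj x hx) (conj y hy) hx' hy'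

/-- a conjugate of `t` which is `+` on `g t g⁻¹` is conjugate to it in the home of `g t g⁻¹`. -/
theorem mem_of_pos {k e : G} (hk : k ∈ H) (he : e ∈ cl t) (h : Pos M t (k * t * k⁻¹) e) : e ∈ cls H t := by
  rw [pos_iff F rfl] at h
  have h1 := F.u _ (cl_conj' he k) h
  have h2 := cls_conj h1 hk
  have e1 : k * (k⁻¹ * e * k) * k⁻¹ = e := by group
  rwa [e1] at h2

theorem mem_of_M {e : G} (he : e ∈ cl t) (h : e ∈ M) : e ∈ cls H t := F.u e he h

theorem exists_pair {d e : G} (hd : d ∈ cl t) (he : e ∈ cl t) (h : Pos M t d e) (hne : e ≠ d) :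
    ∃ k, k * t * k⁻¹ = d ∧ k * (t * z) * k⁻¹ = e := by
  obtain ⟨g, rfl⟩ := hd
  rw [pos_iff F rfl] at h
  obtain ⟨k, hk, hkt, ek⟩ := F.adj _ (F.u _ (cl_conj' he g) h) h (by
    intro h1
    apply hne
    rw [← h1]; group)
  refine ⟨g * k, ?_, ?_⟩
  · calc g * k * t * (g * k)⁻¹ = g * (k * t) * k⁻¹ * g⁻¹ := by group
      _ = g * (t * k) * k⁻¹ * g⁻¹ := by rw [hkt]
      _ = g * t * g⁻¹ := by group
  · calc g * k * (t * z) * (g * k)⁻¹ = g * (k * (t * z) * k⁻¹) * g⁻¹ := by group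
      _ = g * (g⁻¹ * e * g) * g⁻¹ := by rw [ek]
      _ = e := by group

/-- (sym) -/
theorem sym {d e : G} (hd : d ∈ cl t) (he : e ∈ cl t) (h : Pos M t d e) : Pos M t e d := by
  by_cases hne : e = d
  · rw [hne]; exact pos_self F hd
  obtain ⟨k, rfl, rfl⟩ := exists_pair F hd he h hne
  apply pos_conj
  obtain ⟨q, hq, e⟩ := F.fuse
  refine ⟨q, e, ?_⟩
  have h1 : q⁻¹ * t * q = t * z := by
    have hz := F.zc q hq
    have h2 : q * (t * z) * q⁻¹ = t := by
      calc q * (t * z) * q⁻¹ = (q * t * q⁻¹) * (q * z) * q⁻¹ := by group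
        _ = (t * z) * (z * q) * q⁻¹ := by rw [e, hz]
        _ = t * (z * z) := by group
        _ = t := by rw [F.z_sq, mul_one]
    calc q⁻¹ * t * q = q⁻¹ * (q * (t * z) * q⁻¹) * q := by rw [h2]
      _ = t * z := by group
  rw [h1]
  exact tzM F.toInner

/-- (S) -/
theorem sgn' {d e g : G} (hd : d ∈ cl t) (he : e ∈ cl t) (h : Pos M t d e) (hne : e ≠ d) (hgd : g * d = d * g)
    (hge : g * e = e * g) : Pos M t d g ↔ Pos M t e g := by
  obtain ⟨k, rfl, rfl⟩ := exists_pair F hd he h hne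
  obtain ⟨q, hq, e⟩ := F.fuse
  have conj : ∀ w : G, g * (k * w * k⁻¹) = (k * w * k⁻¹) * g → (k⁻¹ * g * k) * w = w * (k⁻¹ * g * k) := by
    intro w hw
    calc (k⁻¹ * g * k) * w = k⁻¹ * (g * (k * w * k⁻¹)) * k := by group
      _ = k⁻¹ * ((k * w * k⁻¹) * g) * k := by rw [hw]
      _ = _ := by group
  have h1 := conj _ hgd
  have h2 := conj _ hge
  have h3 : (k⁻¹ * g * k) * z = z * (k⁻¹ * g * k) := by
    have : t * ((k⁻¹ * g * k) * z) = t * (z * (k⁻¹ * g * k)) := by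
      calc t * ((k⁻¹ * g * k) * z) = (t * (k⁻¹ * g * k)) * z := by group
        _ = ((k⁻¹ * g * k) * t) * z := by rw [h1]
        _ = (k⁻¹ * g * k) * (t * z) := by group
        _ = (t * z) * (k⁻¹ * g * k) := h2
        _ = _ := by group
    exact mul_left_cancel this
  rw [pos_iff F rfl, pos_iff F (k := k * q) (by rw [← e]; group),
    F.sgn _ (F.cent _ h1) h1 h3 q hq e]
  have e4 : (k * q)⁻¹ * g * (k * q) = q⁻¹ * (k⁻¹ * g * k) * q := by group
  rw [e4]

/-- Case `s` commutes with `t`, both `+`. -/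
theorem case_pp {t' s : G} (ht' : t' ∈ cls H t) (hc : t * t' = t' * t) (hM : t' ∉ M) (hs : s ∈ cl t)
    (hsy : s * (t * t') ∈ cl t) (h1 : s ∈ M) (h2 : Pos M t t' s) : False := by
  have hst : Pos M t s t := sym F (mem_cl_self t) hs ((pos_t F).2 h1)
  have hst' : Pos M t s t' := sym F (cls_sub H t ht') hs h2
  have hy := pos_mul F hst hst'
  have hsy' := pos_mul F (pos_self F hs) hy
  obtain ⟨k, hk, rfl⟩ := mem_of_M F hs h1
  have hsyD := mem_of_pos F hk hsy hsy'
  obtain ⟨k', hk', e1, e2⟩ := exists_adj F.toInner hk hsyD ((pos_iff F rfl).1 hsy') (by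
    intro h
    have h3 : t * t' = 1 := mul_eq_left.1 h
    apply hM
    have : t' = t := by
      calc t' = (t * t) * t' := by rw [F.t_sq, one_mul]
        _ = t * (t * t') := by group
        _ = t := by rw [h3, mul_one]
    rw [this]; exact F.tM)
  refine ne_z F.toInner ht' hc hM hk' ?_
  have h4 : k' * (t * z) * k'⁻¹ = (k' * t * k'⁻¹) * (k' * z * k'⁻¹) := by group
  rw [h4, e1] at e2
  exact mul_left_cancel e2

/-- Case `s` commutes with `t`, opposite signs. -/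
theorem case_pm {t' s : G} (ht' : t' ∈ cls H t) (hc : t * t' = t' * t) (hM : t' ∉ M) (hs : s ∈ cl t)
    (hne : s ≠ t) (hsy : s * (t * t') ∈ cl t) (h1 : s ∈ M) (h2 : Pos M t t' (s * (t * t'))) : False := by
  have hsD := mem_of_M F hs h1
  have hst' : s * t' = t' * s := by
    have h3 := pos_comm F h2
    have hst := F.M_comm s h1
    have h4 : s * (t * t') * t' = s * t := by
      calc s * (t * t') * t' = s * t * (t' * t') := by group
        _ = s * t := by rw [sq_of F.toInner ht', mul_one]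
    have h5 : t' * (s * (t * t')) = t' * s * t' * t := by
      rw [hc]; group
    have h6 : t' * s * t' = s := by
      have h7 : t' * s * t' * t = s * t := by rw [← h5, ← h3, h4]
      exact mul_right_cancel h7
    calc s * t' = (t' * s * t') * t' := by rw [h6]
      _ = t' * s * (t' * t') := by group
      _ = t' * s := by rw [sq_of F.toInner ht', mul_one]
  obtain ⟨k, hk, e⟩ := id ht'
  have hD := mem_of_pos F hk hsy (by rwa [e])
  exact lemA F.toInner ht' hc hM hsD h1 hne hst' hD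

/-- Case `s` commutes with `t`. -/
theorem case_comm {t' s : G} (ht' : t' ∈ cls H t) (hc : t * t' = t' * t) (hM : t' ∉ M)
    (hty : ¬ Pos M t t' (t * t')) (hs : s ∈ cl t)
    (hne : s ≠ t) (hne' : s ≠ t') (hsy : s * (t * t') ∈ cl t) (hst : s * t = t * s) (hst' : s * t' = t' * s) :
    False := by
  have htt := F.t_sq
  have htt' := sq_of F.toInner ht'
  have hM' : t * t' ∉ M := by
    intro h
    apply hM
    have := M.mul_mem F.tM h
    rwa [← mul_assoc, htt, one_mul] at this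
  have hyt : (t * t') * t = t * (t * t') := by rw [mul_assoc, ← hc]
  have hyt' : (t * t') * t' = t' * (t * t') := by rw [← mul_assoc, ← hc]
  have hyy : (t * t') * (t * t') = 1 := by
    calc (t * t') * (t * t') = t * (t' * t) * t' := by group
      _ = t * (t * t') * t' := by rw [hc]
      _ = (t * t) * (t' * t') := by group
      _ = 1 := by rw [htt, htt', one_mul]
  have hsyy : s * (t * t') * (t * t') = s := by rw [mul_assoc, hyy, mul_one]
  have hsyc : s * (t * t') = (t * t') * s := by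
    calc s * (t * t') = (s * t) * t' := by group
      _ = t * (s * t') := by rw [hst]; group
      _ = (t * t') * s := by rw [hst']; group
  have hss := cl_sq F.t_sq hs
  -- signs on `t`
  have hsyt : (s * (t * t')) * t = t * (s * (t * t')) := by
    rw [mul_assoc, hyt, ← mul_assoc, hst, mul_assoc]
  have hsyt' : (s * (t * t')) * t' = t' * (s * (t * t')) := by
    rw [mul_assoc, hyt', ← mul_assoc, hst', mul_assoc]
  have hprod : s * (s * (t * t')) = t * t' := by rw [← mul_assoc, hss, one_mul]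
  have p1 : s ∈ M → s * (t * t') ∉ M := by
    intro h1 h2
    apply hM'
    have := M.mul_mem h1 h2
    rwa [hprod] at this
  have p2 : s ∉ M → s * (t * t') ∈ M := by
    intro h1
    by_contra h2
    apply hM'
    have := F.M_index s (F.cent s hst) _ (F.cent _ hsyt) hst hsyt h1 h2
    rwa [hprod] at this
  have q1 : Pos M t t' s → ¬ Pos M t t' (s * (t * t')) := by
    intro h1 h2
    apply hty
    have := pos_mul F h1 h2
    rwa [hprod] at this
  have q2 : ¬ Pos M t t' s → Pos M t t' (s * (t * t')) := by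
    intro h1
    by_contra h2
    apply hty
    have := pos_two F (cls_sub H t ht') hst' hsyt' h1 h2
    rwa [hprod] at this
  have hne2 : s * (t * t') ≠ t := by
    intro h
    apply hne'
    have h1 : s * (t * t') = t' * (s * t) := by rw [hc, ← mul_assoc, hst', mul_assoc]
    have h2 : s = t * (t * t') := by rw [← hsyy, h]
    rw [h2, ← mul_assoc, htt, one_mul]
  by_cases h1 : s ∈ M
  · by_cases h2 : Pos M t t' s
    · exact case_pp F ht' hc hM hs hsy h1 h2
    · exact case_pm F ht' hc hM hs hne hsy h1 (q2 h2)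
  · by_cases h2 : Pos M t t' s
    · exact case_pm F ht' hc hM hsy hne2 (by rwa [hsyy]) (p2 h1) (by rwa [hsyy])
    · exact case_pp F ht' hc hM hsy (by rwa [hsyy]) (p2 h1) (q2 h2)

/-- A transposition commuting with a given `2`-subgroup of `C(t)` and `+` on `t`. -/
theorem exists_L [Finite G] (K : Subgroup G) (hK : IsPGroup 2 K) (hKt : ∀ k ∈ K, k * t = t * k) :
    ∃ h ∈ H, h * t = t * h ∧ ∀ k ∈ K, k * (h * (t * z) * h⁻¹) = (h * (t * z) * h⁻¹) * k := by
  obtain ⟨s, ⟨hs1, hs2, hs3⟩, hs⟩ := exists_fixed hK (S := {s : G | s ∈ cls H t ∧ s ∈ M ∧ s ≠ t}) F.odd (by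
    rintro g hg s ⟨h1, h2, h3⟩
    have hgt := hKt g hg
    have hgH := F.cent g hgt
    refine ⟨cls_conj h1 hgH, F.M_norm g hgH hgt s h2, ?_⟩
    intro h4
    apply h3
    calc s = g⁻¹ * (g * s * g⁻¹) * g := by group
      _ = g⁻¹ * t * g := by rw [h4]
      _ = g⁻¹ * (g * t) := by rw [hgt]; group
      _ = t := by group)
  obtain ⟨h, hh, hht, e⟩ := F.adj s hs1 hs2 hs3
  exact ⟨h, hh, hht, fun k hk => by rw [e]; exact hs k hk⟩

/-- Part (A). -/
theorem partA [Finite G] {t' : G} (hc : t * t' = t' * t) {g₀ : G}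
    (hg₀ : g₀ * t * g₀⁻¹ = t * t') (hyt : ¬ Pos M t (t * t') t)
    {T : Subgroup G} (hT : IsPGroup 2 T) (hTy : ∀ a ∈ T, a * (t * t') = (t * t') * a)
    (hTN : ∀ a ∈ T, a * t * a⁻¹ = t ∨ a * t * a⁻¹ = t * (t * t')) (htT : t ∈ T)
    (hmax : ∀ R : Subgroup G, IsPGroup 2 R → R ≤ Subgroup.centralizer {t * t'} → T ≤ R → R ≤ T) : False := by
  have hyt2 : (t * t') * t = t * (t * t') := by rw [mul_assoc, ← hc]
  -- the transposition centralized by `T`
  obtain ⟨h, hh, hht, hfix⟩ := exists_L F (T.map (MulAut.conj g₀⁻¹).toMonoidHom) (hT.map _) (by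
    rintro _ ⟨a, ha, rfl⟩
    have ha' := hTy a ha
    show g₀⁻¹ * a * g₀⁻¹⁻¹ * t = t * (g₀⁻¹ * a * g₀⁻¹⁻¹)
    calc g₀⁻¹ * a * g₀⁻¹⁻¹ * t = g₀⁻¹ * (a * (g₀ * t * g₀⁻¹)) * g₀ := by group
      _ = g₀⁻¹ * ((g₀ * t * g₀⁻¹) * a) * g₀ := by rw [hg₀, ha']
      _ = _ := by group)
  obtain ⟨g, hgdef⟩ : ∃ g, g = g₀ * h := ⟨_, rfl⟩
  have hg : g * t * g⁻¹ = t * t' := by
    rw [hgdef]
    calc g₀ * h * t * (g₀ * h)⁻¹ = g₀ * (h * t) * h⁻¹ * g₀⁻¹ := by group
      _ = g₀ * (t * h) * h⁻¹ * g₀⁻¹ := by rw [hht]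
      _ = g₀ * t * g₀⁻¹ := by group
      _ = _ := hg₀
  have hTtz : ∀ a ∈ T, a * (g * (t * z) * g⁻¹) = (g * (t * z) * g⁻¹) * a := by
    intro a ha
    have h1 := hfix (g₀⁻¹ * a * g₀⁻¹⁻¹) ⟨a, ha, rfl⟩
    rw [hgdef]
    calc a * (g₀ * h * (t * z) * (g₀ * h)⁻¹)
        = g₀ * ((g₀⁻¹ * a * g₀⁻¹⁻¹) * (h * (t * z) * h⁻¹)) * g₀⁻¹ := by group
      _ = g₀ * ((h * (t * z) * h⁻¹) * (g₀⁻¹ * a * g₀⁻¹⁻¹)) * g₀⁻¹ := by rw [h1]
      _ = _ := by group
  -- `b = g⁻¹ a g` commutes with `t` and `z`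
  have hb1 : ∀ a ∈ T, (g⁻¹ * a * g) * t = t * (g⁻¹ * a * g) := by
    intro a ha
    calc (g⁻¹ * a * g) * t = g⁻¹ * (a * (g * t * g⁻¹)) * g := by group
      _ = g⁻¹ * ((g * t * g⁻¹) * a) * g := by rw [hg, hTy a ha]
      _ = _ := by group
  have hb2 : ∀ a ∈ T, (g⁻¹ * a * g) * z = z * (g⁻¹ * a * g) := by
    intro a ha
    have h2 : (g⁻¹ * a * g) * (t * z) = (t * z) * (g⁻¹ * a * g) := by
      calc (g⁻¹ * a * g) * (t * z) = g⁻¹ * (a * (g * (t * z) * g⁻¹)) * g := by group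
        _ = g⁻¹ * ((g * (t * z) * g⁻¹) * a) * g := by rw [hTtz a ha]
        _ = _ := by group
    have : t * ((g⁻¹ * a * g) * z) = t * (z * (g⁻¹ * a * g)) := by
      calc t * ((g⁻¹ * a * g) * z) = (t * (g⁻¹ * a * g)) * z := by group
        _ = ((g⁻¹ * a * g) * t) * z := by rw [hb1 a ha]
        _ = (g⁻¹ * a * g) * (t * z) := by group
        _ = (t * z) * (g⁻¹ * a * g) := h2
        _ = _ := by group
    exact mul_left_cancel this
  -- the group `g C_P(t) g⁻¹`
  have hR : (P ⊓ Subgroup.centralizer {t}).map (MulAut.conj g).toMonoidHom ≤ T := by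
    refine max_sup (K := Subgroup.centralizer {t * t'}) hT ?_ hmax ((F.two.to_le inf_le_left).map _) ?_ ?_
    · intro a ha
      rw [Subgroup.mem_centralizer_singleton_iff]
      exact hTy a ha
    · rintro _ ⟨p, hp, rfl⟩
      obtain ⟨hp1, hp2⟩ := Subgroup.mem_inf.1 hp
      rw [Subgroup.mem_centralizer_singleton_iff] at hp2 ⊢
      show g * p * g⁻¹ * (t * t') = t * t' * (g * p * g⁻¹)
      rw [← hg]
      calc g * p * g⁻¹ * (g * t * g⁻¹) = g * (p * t) * g⁻¹ := by group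
        _ = g * (t * p) * g⁻¹ := by rw [hp2]
        _ = _ := by group
    · rintro a ha _ ⟨p, hp, rfl⟩
      obtain ⟨hp1, hp2⟩ := Subgroup.mem_inf.1 hp
      rw [Subgroup.mem_centralizer_singleton_iff] at hp2
      refine ⟨(g⁻¹ * a * g) * p * (g⁻¹ * a * g)⁻¹, Subgroup.mem_inf.2 ⟨?_, ?_⟩, ?_⟩
      · exact F.P_norm _ (F.cent _ (hb1 a ha)) (hb2 a ha) p hp1
      · rw [Subgroup.mem_centralizer_singleton_iff]
        have h3 := hb1 a ha
        have h4 := comm_inv h3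
        calc (g⁻¹ * a * g) * p * (g⁻¹ * a * g)⁻¹ * t = (g⁻¹ * a * g) * p * ((g⁻¹ * a * g)⁻¹ * t) := by group
          _ = (g⁻¹ * a * g) * p * (t * (g⁻¹ * a * g)⁻¹) := by rw [h4]
          _ = (g⁻¹ * a * g) * (p * t) * (g⁻¹ * a * g)⁻¹ := by group
          _ = (g⁻¹ * a * g) * (t * p) * (g⁻¹ * a * g)⁻¹ := by rw [hp2]
          _ = ((g⁻¹ * a * g) * t) * p * (g⁻¹ * a * g)⁻¹ := by group
          _ = (t * (g⁻¹ * a * g)) * p * (g⁻¹ * a * g)⁻¹ := by rw [h3]
          _ = _ := by group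
      · show g * ((g⁻¹ * a * g) * p * (g⁻¹ * a * g)⁻¹) * g⁻¹ = a * (g * p * g⁻¹) * a⁻¹
        group
  -- `r = g⁻¹ t g`
  have hrt : (g⁻¹ * t * g) * t = t * (g⁻¹ * t * g) := hb1 t htT
  have hrz : (g⁻¹ * t * g) * z = z * (g⁻¹ * t * g) := hb2 t htT
  have hrH := F.cent _ hrt
  have hrr : (g⁻¹ * t * g) * (g⁻¹ * t * g) = 1 := by
    calc (g⁻¹ * t * g) * (g⁻¹ * t * g) = g⁻¹ * (t * t) * g := by group
      _ = 1 := by rw [F.t_sq]; group
  have hrinv : (g⁻¹ * t * g)⁻¹ = g⁻¹ * t * g := inv_eq_of_mul_eq_one_left hrr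
  have hry : g⁻¹ * (t * (t * t')) * g = (g⁻¹ * t * g) * t := by
    rw [← hg]; group
  have hperp : ∀ d ∈ cls H t, d ∈ P → d * t = t * d → (g⁻¹ * t * g) * d = d * (g⁻¹ * t * g) := by
    intro d hd hdP hdt
    have h5 := hTN _ (hR ⟨d, Subgroup.mem_inf.2 ⟨hdP, Subgroup.mem_centralizer_singleton_iff.2 hdt⟩, rfl⟩)
    have e5 : (MulAut.conj g).toMonoidHom d = g * d * g⁻¹ := rfl
    rw [e5] at h5
    have e6 : g⁻¹ * ((g * d * g⁻¹) * t * (g * d * g⁻¹)⁻¹) * g = d * (g⁻¹ * t * g) * d⁻¹ := by group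
    rcases h5 with h5 | h5
    · rw [h5] at e6
      exact (mul_inv_eq_iff_eq_mul.1 e6.symm).symm
    · exfalso
      rw [h5, hry] at e6
      -- `r d r = t d`
      have h6 : (g⁻¹ * t * g) * d * (g⁻¹ * t * g)⁻¹ = t * d := by
        have h7 : (g⁻¹ * t * g) * t * d = d * (g⁻¹ * t * g) := by rw [e6]; group
        have h8 : t * d = (g⁻¹ * t * g) * (d * (g⁻¹ * t * g)) := by
          calc t * d = ((g⁻¹ * t * g) * (g⁻¹ * t * g)) * (t * d) := by rw [hrr, one_mul]
            _ = (g⁻¹ * t * g) * ((g⁻¹ * t * g) * t * d) := by group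
            _ = _ := by rw [h7]
        rw [hrinv, h8, mul_assoc]
      have h7 : t * d ∈ cls H t := by rw [← h6]; exact cls_conj hd hrH
      have h8 : t * d ∈ P := P.mul_mem F.tP hdP
      obtain ⟨k, hk, rfl⟩ := id hd
      have h9 := pos_P F.toInner hk hdP h8 (by
        calc (k * t * k⁻¹) * (t * (k * t * k⁻¹)) = ((k * t * k⁻¹) * t) * (k * t * k⁻¹) := by group
          _ = (t * (k * t * k⁻¹)) * (k * t * k⁻¹) := by rw [hdt])
      obtain ⟨k', hk', e1, e2⟩ := exists_adj F.toInner hk h7 h9 (fun h => F.t_ne (mul_eq_right.1 h))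
      apply F.z_notin
      refine ⟨k'⁻¹, H.inv_mem hk', ?_⟩
      have e3 : t = k' * z * k'⁻¹ := by
        have e4 : k' * (t * z) * k'⁻¹ = (k' * t * k'⁻¹) * (k' * z * k'⁻¹) := by group
        rw [e4, e1, ← hdt] at e2
        exact (mul_left_cancel e2).symm
      calc k'⁻¹ * t * k'⁻¹⁻¹ = k'⁻¹ * (k' * z * k'⁻¹) * k' := by rw [← e3]; group
        _ = z := by group
  have hrP := F.perp _ hrH hrz hrt hperp
  have hrM := F.PM _ hrP hrt
  exact hyt ((pos_iff F hg).2 hrM)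

/-- **Step 1**: `t t'` is not a conjugate of `t` if `t'` is `-` on `t`. -/
theorem step1 [Finite G] {t' : G} (ht' : t' ∈ cls H t) (hc : t * t' = t' * t) (hM : t' ∉ M) : t * t' ∉ cl t := by
  intro hy
  have htt := F.t_sq
  have htt' := sq_of F.toInner ht'
  have htc := mem_cl_self t
  have htc' := cls_sub H t ht'
  have hM' : t * t' ∉ M := by
    intro h
    apply hM
    have := M.mul_mem F.tM h
    rwa [← mul_assoc, htt, one_mul] at this
  have hyt : (t * t') * t = t * (t * t') := by rw [mul_assoc, ← hc]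
  have hyt' : (t * t') * t' = t' * (t * t') := by rw [← mul_assoc, ← hc]
  have hyy : (t * t') * (t * t') = 1 := by
    calc (t * t') * (t * t') = t * (t' * t) * t' := by group
      _ = t * (t * t') * t' := by rw [hc]
      _ = (t * t) * (t' * t') := by group
      _ = 1 := by rw [htt, htt', one_mul]
  have hty : t * (t * t') = t' := by rw [← mul_assoc, htt, one_mul]
  have nyt : ¬ Pos M t (t * t') t := fun h => hM' ((pos_t F).1 (sym F hy htc h))
  have nt't : ¬ Pos M t t' t := fun h => hM ((pos_t F).1 (sym F htc' htc h))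
  have nt'y : ¬ Pos M t t' (t * t') := by
    intro h
    apply nt't
    have := pos_mul F h (pos_self F htc')
    rwa [mul_assoc, htt', mul_one] at this
  obtain ⟨g₀, hg₀⟩ := id hy
  -- the group `N`
  let N : Subgroup G :=
    { carrier := {g | g * (t * t') = (t * t') * g ∧ (g * t * g⁻¹ = t ∨ g * t * g⁻¹ = t * (t * t'))}
      one_mem' := ⟨by group, Or.inl (by group)⟩
      mul_mem' := by
        rintro a b ⟨ha1, ha2⟩ ⟨hb1, hb2⟩
        refine ⟨by rw [mul_assoc, hb1, ← mul_assoc, ha1, mul_assoc], ?_⟩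
        have e : a * b * t * (a * b)⁻¹ = a * (b * t * b⁻¹) * a⁻¹ := by group
        have e2 : a * (t * (t * t')) * a⁻¹ = (a * t * a⁻¹) * (t * t') := by
          calc a * (t * (t * t')) * a⁻¹ = (a * t * a⁻¹) * (a * (t * t')) * a⁻¹ := by group
            _ = (a * t * a⁻¹) * ((t * t') * a) * a⁻¹ := by rw [ha1]
            _ = _ := by group
        rw [e]
        rcases hb2 with hb2 | hb2
        · rw [hb2]; exact ha2
        · rw [hb2, e2]
          rcases ha2 with ha2 | ha2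
          · rw [ha2]; exact Or.inr rfl
          · rw [ha2, mul_assoc, hyy, mul_one]; exact Or.inl rfl
      inv_mem' := by
        rintro a ⟨ha1, ha2⟩
        have ha1' := comm_inv ha1
        refine ⟨ha1', ?_⟩
        rw [inv_inv]
        rcases ha2 with ha2 | ha2
        · left
          calc a⁻¹ * t * a = a⁻¹ * (a * t * a⁻¹) * a := by rw [ha2]
            _ = t := by group
        · right
          have e3 : a * (t * (t * t')) * a⁻¹ = t := by
            calc a * (t * (t * t')) * a⁻¹ = (a * t * a⁻¹) * (a * (t * t')) * a⁻¹ := by group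
              _ = (a * t * a⁻¹) * ((t * t') * a) * a⁻¹ := by rw [ha1]
              _ = (a * t * a⁻¹) * (t * t') := by group
              _ = t := by rw [ha2, mul_assoc, hyy, mul_one]
          calc a⁻¹ * t * a = a⁻¹ * (a * (t * (t * t')) * a⁻¹) * a := by rw [e3]
            _ = _ := by group }
  -- maximal `2`-subgroups
  obtain ⟨T₁, hT₁, hT₁K, -, hmax₁⟩ := exists_max (G := G) (Subgroup.centralizer {t} ⊓ Subgroup.centralizer {t * t'}) ⊥
    IsPGroup.of_bot bot_le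
  have hT₁t : ∀ a ∈ T₁, a * t = t * a := fun a ha =>
    Subgroup.mem_centralizer_singleton_iff.1 (Subgroup.mem_inf.1 (hT₁K ha)).1
  have hT₁y : ∀ a ∈ T₁, a * (t * t') = (t * t') * a := fun a ha =>
    Subgroup.mem_centralizer_singleton_iff.1 (Subgroup.mem_inf.1 (hT₁K ha)).2
  have hT₁N : T₁ ≤ N := fun a ha => ⟨hT₁y a ha, Or.inl (by rw [hT₁t a ha, mul_inv_cancel_right])⟩
  obtain ⟨T, hT, hTN, hT₁T, hmax⟩ := exists_max N T₁ hT₁ hT₁N
  have htT₁ : t ∈ T₁ := max_mem hT₁ hT₁K hmax₁ (Subgroup.mem_inf.2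
    ⟨Subgroup.mem_centralizer_singleton_iff.2 rfl, Subgroup.mem_centralizer_singleton_iff.2 hyt.symm⟩) htt hT₁t
  have hyT₁ : t * t' ∈ T₁ := max_mem hT₁ hT₁K hmax₁ (Subgroup.mem_inf.2
    ⟨Subgroup.mem_centralizer_singleton_iff.2 hyt, Subgroup.mem_centralizer_singleton_iff.2 rfl⟩) hyy hT₁y
  have htT := hT₁T htT₁
  -- an element `n`
  obtain ⟨n, hny, hnN, hnT⟩ : ∃ n : G, n * (t * t') = (t * t') * n ∧ n ∉ N ∧ ∀ a : G, a ∈ T ↔ n * a * n⁻¹ ∈ T := by
    by_contra hcon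
    push Not at hcon
    obtain ⟨S, hS, hSK, hTS, hmaxS⟩ := exists_max (Subgroup.centralizer {t * t'}) T hT (fun a ha =>
      Subgroup.mem_centralizer_singleton_iff.2 (hTN ha).1)
    have hST : S ≤ T := by
      by_contra hne
      obtain ⟨n, hnS, hnT, hn⟩ := exists_normalizing hS hTS hne
      have hny := Subgroup.mem_centralizer_singleton_iff.1 (hSK hnS)
      by_cases hnN : n ∈ N
      · apply hnT
        refine hmax (T ⊔ Subgroup.zpowers n) (hS.to_le (sup_le hTS (by rwa [Subgroup.zpowers_le])))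
          (sup_le hTN (by rwa [Subgroup.zpowers_le])) le_sup_left ?_
        exact (le_sup_right : Subgroup.zpowers n ≤ T ⊔ Subgroup.zpowers n) (Subgroup.mem_zpowers n)
      · obtain ⟨a, ha⟩ := hcon n hny hnN
        rcases ha with ha | ha
        · exact ha.2 ((hn a).1 ha.1)
        · exact ha.1 ((hn a).2 ha.2)
    have hTS' : T = S := le_antisymm hTS hST
    exact partA F hc hg₀ nyt hT (fun a ha => (hTN ha).1) (fun a ha => (hTN ha).2) htT
      (fun R h1 h2 h3 => by rw [hTS'] at h3 ⊢; exact hmaxS R h1 h2 h3)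
  obtain ⟨s, hsdef⟩ : ∃ s, s = n * t * n⁻¹ := ⟨_, rfl⟩
  have hs : s ∈ cl t := ⟨n, hsdef.symm⟩
  have hsT : s ∈ T := by rw [hsdef]; exact (hnT t).1 htT
  have hne : s ≠ t := fun h => hnN ⟨hny, Or.inl (hsdef ▸ h)⟩
  have hne' : s ≠ t' := fun h => hnN ⟨hny, Or.inr (by rw [hty]; exact hsdef ▸ h)⟩
  have hsy : s * (t * t') = n * t' * n⁻¹ := by
    rw [hsdef]
    calc n * t * n⁻¹ * (t * t') = n * t * (n⁻¹ * (t * t')) := by group
      _ = n * t * ((t * t') * n⁻¹) := by rw [comm_inv hny]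
      _ = n * (t * (t * t')) * n⁻¹ := by group
      _ = _ := by rw [hty]
  have hsyc : s * (t * t') ∈ cl t := by rw [hsy]; exact cl_conj htc' n
  have hss := cl_sq htt hs
  have hsyy : s * (t * t') = (t * t') * s := (hTN hsT).1
  have hTs : ∀ x ∈ T, x * s * x⁻¹ = s ∨ x * s * x⁻¹ = s * (t * t') := by
    intro x hx
    have hx' : n⁻¹ * x * n ∈ T := by
      rw [hnT]
      have e : n * (n⁻¹ * x * n) * n⁻¹ = x := by group
      rwa [e]
    have e1 : x * s * x⁻¹ = n * ((n⁻¹ * x * n) * t * (n⁻¹ * x * n)⁻¹) * n⁻¹ := by rw [hsdef]; group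
    rw [e1]
    rcases (hTN hx').2 with h | h
    · left; rw [h, hsdef]
    · right; rw [h, hty, hsy]
  rcases (hTN hsT).2 with hst | hst
  · -- `s` commutes with `t`
    have hst1 : s * t = t * s := mul_inv_eq_iff_eq_mul.1 hst
    have hst' : s * t' = t' * s := by
      calc s * t' = s * (t * (t * t')) := by rw [hty]
        _ = (s * t) * (t * t') := by group
        _ = t * (s * (t * t')) := by rw [hst1]; group
        _ = t * ((t * t') * s) := by rw [hsyy]
        _ = (t * (t * t')) * s := by group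
        _ = t' * s := by rw [hty]
    exact case_comm F ht' hc hM nt'y hs hne hne' hsyc hst1 hst'
  · -- `s` swaps `t` and `t'`
    rw [hty] at hst
    obtain ⟨h, hh, hht, hL⟩ := exists_L F T₁ hT₁ hT₁t
    obtain ⟨L, hLdef⟩ : ∃ L, L = h * (t * z) * h⁻¹ := ⟨_, rfl⟩
    rw [← hLdef] at hL
    have hLM : L ∈ M := by rw [hLdef]; exact F.M_norm h hh hht _ (tzM F.toInner)
    have hLD : L ∈ cls H t := by
      rw [hLdef]
      exact cls_conj (mul_z_mem F.toInner (mem_cls_self H t) F.tP) hh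
    have hLL := cl_sq htt (cls_sub H t hLD)
    have hLt : L ≠ t := by
      intro h1
      rw [hLdef] at h1
      apply tz_ne F.toInner
      calc t * z = h⁻¹ * (h * (t * z) * h⁻¹) * h := by group
        _ = h⁻¹ * (t * h) := by rw [h1]; group
        _ = h⁻¹ * (h * t) := by rw [hht]
        _ = t := by group
    have hLt1 : L * t = t * L := F.M_comm L hLM
    have hLy : L * (t * t') = (t * t') * L := (hL _ hyT₁).symm
    have hLt' : L * t' = t' * L := by
      calc L * t' = L * (t * (t * t')) := by rw [hty]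
        _ = (L * t) * (t * t') := by group
        _ = t * (L * (t * t')) := by rw [hLt1]; group
        _ = t * ((t * t') * L) := by rw [hLy]
        _ = (t * (t * t')) * L := by group
        _ = t' * L := by rw [hty]
    have hLT : L ∈ T := hT₁T (max_mem hT₁ hT₁K hmax₁ (Subgroup.mem_inf.2
      ⟨Subgroup.mem_centralizer_singleton_iff.2 hLt1, Subgroup.mem_centralizer_singleton_iff.2 hLy⟩) hLL hL)
    have hPL : Pos M t t' (s * L * s⁻¹) := by
      rw [← hst]
      exact pos_conj s ((pos_t F).2 hLM)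
    rcases hTs L hLT with h1 | h1
    · -- `s L s⁻¹ = L`
      have h2 : s * L * s⁻¹ = L := by
        have : L * s = s * L := mul_inv_eq_iff_eq_mul.1 h1
        rw [← this, mul_inv_cancel_right]
      rw [h2] at hPL
      have h3 := sym F htc' (cls_sub H t hLD) hPL
      have h4 := (sgn' F htc (cls_sub H t hLD) ((pos_t F).2 hLM) hLt hc.symm hLt'.symm).2 h3
      exact hM ((pos_t F).1 h4)
    · -- `s L s⁻¹ = L y`
      have h2 : s * L * s⁻¹ = L * (t * t') := by
        have hsinv : s⁻¹ = s := inv_eq_of_mul_eq_one_left hss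
        have h3 : L * s = s * ((t * t') * L) := by
          rw [← mul_assoc, ← mul_inv_eq_iff_eq_mul]
          exact h1
        have h4 : s * (L * s) = (t * t') * L := by
          rw [h3, ← mul_assoc, hss, one_mul]
        rw [hsinv, mul_assoc, h4, hLy]
      have h5 : L * (t * t') ∈ cl t := by
        rw [← h2]
        exact cl_conj (cls_sub H t hLD) s
      rw [h2] at hPL
      obtain ⟨k, hk, e⟩ := id ht'
      have h6 := mem_of_pos F hk h5 (by rwa [e])
      exact lemA F.toInner ht' hc hM hLD hLM hLt hLt' h6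

/-- **Steps 1 and 2**: `t^G ∩ H = t^H`. -/
theorem mem_cls [Finite G] {d : G} (hd : d ∈ cl t) (hdH : d ∈ H) : d ∈ cls H t := by
  rcases F.classes d hdH (cl_sq F.t_sq hd) (cl_ne F.t_ne hd) with ⟨h, hh, hM⟩ | ⟨e, he, hde, hdeD⟩
  · have h1 := F.u _ (cl_conj' hd h) hM
    have h2 := cls_conj h1 hh
    have e1 : h * (h⁻¹ * d * h) * h⁻¹ = d := by group
    rwa [e1] at h2
  · obtain ⟨k, hk, rfl⟩ := id he
    -- conjugate to `t`
    have hd' : k⁻¹ * d * k ∈ cl t := cl_conj' hd k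
    have hx : k⁻¹ * (d * (k * t * k⁻¹)) * k ∈ cls H t := cls_conj' hdeD hk
    have e1 : k⁻¹ * (d * (k * t * k⁻¹)) * k = (k⁻¹ * d * k) * t := by group
    rw [e1] at hx
    have hc : t * (k⁻¹ * d * k) = (k⁻¹ * d * k) * t := by
      calc t * (k⁻¹ * d * k) = k⁻¹ * ((k * t * k⁻¹) * d) * k := by group
        _ = k⁻¹ * (d * (k * t * k⁻¹)) * k := by rw [hde]
        _ = _ := e1
    have e2 : t * ((k⁻¹ * d * k) * t) = k⁻¹ * d * k := by
      rw [← hc, ← mul_assoc, F.t_sq, one_mul]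
    have hc' : t * ((k⁻¹ * d * k) * t) = ((k⁻¹ * d * k) * t) * t := by
      rw [e2, mul_assoc _ t t, F.t_sq, mul_one]
    have h3 : k⁻¹ * d * k ∈ cls H t := by
      by_cases hM : (k⁻¹ * d * k) * t ∈ M
      · have := M.mul_mem F.tM hM
        rw [e2] at this
        exact F.u _ hd' this
      · exact absurd (e2.symm ▸ hd') (step1 F hx hc' hM)
    have h4 := cls_conj h3 hk
    have e3 : k * (k⁻¹ * d * k) * k⁻¹ = d := by group
    rwa [e3] at h4

end facts

end Cfsg.Agent.BabyU.ClosFus
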