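import Cfsg.Agent.BabyU.ClosPts

/-!
# Closing, Step 3: `C_G(z) ≤ H`
-/

set_option autoImplicit false

namespace Cfsg.Agent.BabyU.Clos

variable {G : Type*} [Group G]

section sub

/-- `W ∪ kW` -/
theorem exists_adj (W : Subgroup G) (k : G) (hk : ∀ w ∈ W, k * w * k⁻¹ ∈ W) (hk2 : k * k ∈ W) :
    ∃ W' : Subgroup G, ∀ a, a ∈ W' ↔ a ∈ W ∨ k⁻¹ * a ∈ W := by
  have hk' : ∀ w ∈ W, k⁻¹ * w * k ∈ W := by
    intro w hw
    have e : k⁻¹ * w * k = (k * k)⁻¹ * (k * w * k⁻¹) * (k * k) := by group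
    rw [e]
    exact W.mul_mem (W.mul_mem (W.inv_mem hk2) (hk w hw)) hk2
  refine ⟨⟨⟨⟨{a | a ∈ W ∨ k⁻¹ * a ∈ W}, ?_⟩, Or.inl W.one_mem⟩, ?_⟩, fun a => Iff.rfl⟩
  · rintro a b (ha | ha) (hb | hb)
    · exact Or.inl (W.mul_mem ha hb)
    · right
      have e : k⁻¹ * (a * b) = (k⁻¹ * a * k) * (k⁻¹ * b) := by group
      rw [e]
      exact W.mul_mem (hk' a ha) hb
    · right
      rw [← mul_assoc]
      exact W.mul_mem ha hb
    · left
      have e : a * b = (k * (k⁻¹ * a) * k⁻¹) * (k * k) * (k⁻¹ * b) := by group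
      show a * b ∈ W
      rw [e]
      exact W.mul_mem (W.mul_mem (hk _ ha) hk2) hb
  · rintro a (ha | ha)
    · exact Or.inl (W.inv_mem ha)
    · right
      have e : k⁻¹ * a⁻¹ = ((k * (k⁻¹ * a) * k⁻¹) * (k * k))⁻¹ := by group
      rw [e]
      exact W.inv_mem (W.mul_mem (hk _ ha) hk2)

/-- commuting with `k` modulo `W` -/
theorem exists_com (U W : Subgroup G) (hn : ∀ u ∈ U, ∀ w ∈ W, u * w * u⁻¹ ∈ W) (k : G) :
    ∃ U' : Subgroup G, ∀ g, g ∈ U' ↔ g ∈ U ∧ g * k * g⁻¹ * k⁻¹ ∈ W := by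
  refine ⟨⟨⟨⟨{g | g ∈ U ∧ g * k * g⁻¹ * k⁻¹ ∈ W}, ?_⟩, ?_⟩, ?_⟩, fun a => Iff.rfl⟩
  · rintro a b ⟨ha, ha'⟩ ⟨hb, hb'⟩
    refine ⟨U.mul_mem ha hb, ?_⟩
    have e : a * b * k * (a * b)⁻¹ * k⁻¹ = (a * (b * k * b⁻¹ * k⁻¹) * a⁻¹) * (a * k * a⁻¹ * k⁻¹) := by group
    rw [e]
    exact W.mul_mem (hn a ha _ hb') ha'
  · refine ⟨U.one_mem, ?_⟩
    have e : 1 * k * 1⁻¹ * k⁻¹ = (1 : G) := by group
    rw [e]
    exact W.one_mem
  · rintro a ⟨ha, ha'⟩
    refine ⟨U.inv_mem ha, ?_⟩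
    have e : a⁻¹ * k * a⁻¹⁻¹ * k⁻¹ = a⁻¹ * (a * k * a⁻¹ * k⁻¹)⁻¹ * a⁻¹⁻¹ := by group
    rw [e]
    exact hn a⁻¹ (U.inv_mem ha) _ (W.inv_mem ha')

theorem exists_two {z : G} (hz : z * z = 1) : ∃ W : Subgroup G, ∀ a, a ∈ W ↔ a = 1 ∨ a = z := by
  obtain ⟨W, hW⟩ := exists_adj (⊥ : Subgroup G) z (by
    intro w hw
    rw [Subgroup.mem_bot] at hw ⊢
    rw [hw]; group) (Subgroup.mem_bot.2 hz)
  refine ⟨W, fun a => ?_⟩
  rw [hW, Subgroup.mem_bot, Subgroup.mem_bot, inv_mul_eq_one]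
  constructor
  · rintro (h | h)
    · exact Or.inl h
    · exact Or.inr h.symm
  · rintro (h | h)
    · exact Or.inl h
    · exact Or.inr h.symm

theorem exists_four {z c : G} (hz : z * z = 1) (hc : c * z = z * c) (hcc : c * c = 1 ∨ c * c = z) :
    ∃ W : Subgroup G, ∀ a, a ∈ W ↔ a ∈ four z c := by
  obtain ⟨W₀, hW₀⟩ := exists_two hz
  obtain ⟨W, hW⟩ := exists_adj W₀ c (by
    intro w hw
    rw [hW₀] at hw ⊢
    rcases hw with rfl | rfl
    · left; group
    · right; rw [hc]; group) ((hW₀ _).2 hcc)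
  refine ⟨W, fun a => ?_⟩
  rw [hW, hW₀, hW₀, inv_mul_eq_one, inv_mul_eq_iff_eq_mul]
  constructor
  · rintro ((h | h) | (h | h))
    · exact Or.inl h
    · exact Or.inr (Or.inl h)
    · exact Or.inr (Or.inr (Or.inl h.symm))
    · exact Or.inr (Or.inr (Or.inr h))
  · rintro (h | h | h | h)
    · exact Or.inl (Or.inl h)
    · exact Or.inl (Or.inr h)
    · exact Or.inr (Or.inl h.symm)
    · exact Or.inr (Or.inr h)

/-- centralising `z` and `c` modulo `z` -/
theorem exists_U {z c : G} (hz : z * z = 1) (hc : c * z = z * c) :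
    ∃ U : Subgroup G, ∀ g, g ∈ U ↔ g * z = z * g ∧ (g * c * g⁻¹ = c ∨ g * c * g⁻¹ = c * z) := by
  obtain ⟨W₀, hW₀⟩ := exists_two hz
  obtain ⟨U, hU⟩ := exists_com (Subgroup.centralizer {z}) W₀ (by
    intro u hu w hw
    rw [Subgroup.mem_centralizer_singleton_iff] at hu
    rw [hW₀] at hw ⊢
    rcases hw with rfl | rfl
    · left; group
    · right
      rw [hu]; group) c
  refine ⟨U, fun g => ?_⟩
  rw [hU, Subgroup.mem_centralizer_singleton_iff, hW₀, mul_inv_eq_one, mul_inv_eq_iff_eq_mul (b := c), hc]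

theorem U_W {U W : Subgroup G} {z c : G} (hc : c * z = z * c)
    (hU : ∀ g, g ∈ U ↔ g * z = z * g ∧ (g * c * g⁻¹ = c ∨ g * c * g⁻¹ = c * z))
    (hW : ∀ a, a ∈ W ↔ a ∈ four z c) (hz : z * z = 1) : ∀ u ∈ U, ∀ w ∈ W, u * w * u⁻¹ ∈ W := by
  intro u hu w hw
  obtain ⟨h1, h2⟩ := (hU u).1 hu
  have hzu : u * z * u⁻¹ = z := by rw [h1]; group
  rw [hW] at hw ⊢
  rcases hw with rfl | rfl | rfl | rfl
  · left; group
  · right; left; exact hzu
  · rcases h2 with h2 | h2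
    · rw [h2]; exact Or.inr (Or.inr (Or.inl rfl))
    · rw [h2]; exact Or.inr (Or.inr (Or.inr rfl))
  · have e : u * (c * z) * u⁻¹ = (u * c * u⁻¹) * (u * z * u⁻¹) := by group
    rw [e, hzu]
    rcases h2 with h2 | h2
    · rw [h2]; exact Or.inr (Or.inr (Or.inr rfl))
    · rw [h2, mul_assoc, hz, mul_one]; exact Or.inr (Or.inr (Or.inl rfl))

theorem W_U {U W : Subgroup G} {z c : G} (hc : c * z = z * c)
    (hU : ∀ g, g ∈ U ↔ g * z = z * g ∧ (g * c * g⁻¹ = c ∨ g * c * g⁻¹ = c * z))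
    (hW : ∀ a, a ∈ W ↔ a ∈ four z c) : W ≤ U := by
  intro w hw
  rw [hW] at hw
  have hzU : z ∈ U := (hU z).2 ⟨rfl, Or.inl (by rw [← hc]; group)⟩
  have hcU : c ∈ U := (hU c).2 ⟨hc, Or.inl (by group)⟩
  rcases hw with rfl | rfl | rfl | rfl
  · exact U.one_mem
  · exact hzU
  · exact hcU
  · exact U.mul_mem hcU hzU

end sub

namespace Inner

variable {H P M : Subgroup G} {z t t₁ : G} (F : Inner H P M z t t₁)

include F

theorem tHz : t ∈ H := F.PH F.tP

theorem zH : z ∈ H := F.PH F.zP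

theorem z_inv : z⁻¹ = z := inv_eq_of_mul_eq_one_left F.z_sq

theorem t_invz : t⁻¹ = t := inv_eq_of_mul_eq_one_left F.t_sq

theorem tz : t * z = z * t := F.zc t F.tP

theorem d_inv {d : G} (hd : d ∈ cls H t) : d⁻¹ = d :=
  inv_eq_of_mul_eq_one_left (cl_sq F.t_sq (cls_sub H t hd))

theorem comm_cases {q r : G} (hq : q ∈ P) (hr : r ∈ P) : q * r * q⁻¹ = r ∨ q * r * q⁻¹ = r * z := by
  rcases F.P_comm q hq r hr with h | h
  · left; rw [h]; group
  · right
    rw [h]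
    have := F.zc q⁻¹ (P.inv_mem hq)
    calc r * q * z * q⁻¹ = r * q * (z * q⁻¹) := by group
      _ = r * q * (q⁻¹ * z) := by rw [this]
      _ = r * z := by group

/-- no conjugate of `z` is a transposition -/
theorem z_conj {h : G} (hh : h ∈ H) : h * z * h⁻¹ ∉ cls H t := by
  intro hc
  have := cls_conj' hc hh
  have e : h⁻¹ * (h * z * h⁻¹) * h = z := by group
  rw [e] at this
  exact F.z_notin this

/-- (b1) -/
theorem b1 {d : G} (hd : d ∈ cls H t) (hc : d * z = z * d) (hdz : d * z ∈ cls H t) :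
    ∃ h ∈ H, h * z = z * h ∧ h * t * h⁻¹ = d := by
  obtain ⟨h, hh, rfl⟩ := hd
  have h1 := F.zM h hh hc
  have h2 : t * (h⁻¹ * z * h) ∈ cls H t := by
    have := cls_conj' hdz hh
    have e : h⁻¹ * (h * t * h⁻¹ * z) * h = t * (h⁻¹ * z * h) := by group
    rwa [e] at this
  have h3 : t * (h⁻¹ * z * h) ∈ M := M.mul_mem F.tM h1
  have h4 : t * (h⁻¹ * z * h) ≠ t := by
    intro e
    apply F.z_ne
    have e1 : h⁻¹ * z * h = 1 := by
      have := mul_eq_left.1 e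
      exact this
    calc z = h * (h⁻¹ * z * h) * h⁻¹ := by group
      _ = 1 := by rw [e1]; group
  obtain ⟨k, hk, hkt, e⟩ := F.adj _ h2 h3 h4
  have e2 : k * z * k⁻¹ = h⁻¹ * z * h := by
    have e3 : k * t * k⁻¹ = t := by rw [hkt]; group
    have e4 : k * (t * z) * k⁻¹ = (k * t * k⁻¹) * (k * z * k⁻¹) := by group
    rw [e4, e3] at e
    exact mul_left_cancel e
  refine ⟨h * k, H.mul_mem hh hk, ?_, ?_⟩
  · calc h * k * z = h * (k * z * k⁻¹) * k := by group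
      _ = h * (h⁻¹ * z * h) * k := by rw [e2]
      _ = z * (h * k) := by group
  · calc h * k * t * (h * k)⁻¹ = h * (k * t) * k⁻¹ * h⁻¹ := by group
      _ = h * t * h⁻¹ := by rw [hkt]; group

theorem b1P {d : G} (hd : d ∈ cls H t) (hc : d * z = z * d) (hdz : d * z ∈ cls H t) : d ∈ P := by
  obtain ⟨h, hh, hz, e⟩ := F.b1 hd hc hdz
  rw [← e]
  exact F.P_norm h hh hz t F.tP

/-- every transposition of `P` is conjugate under `P` to its product with `z` -/
theorem dz {d : G} (hd : d ∈ cls H t) (hP : d ∈ P) : ∃ q ∈ P, q * d * q⁻¹ = d * z := by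
  by_contra hcon
  push Not at hcon
  -- `d` is central in `P`
  have hcen : ∀ q ∈ P, q * d = d * q := by
    intro q hq
    rcases F.comm_cases hq hP with h | h
    · calc q * d = (q * d * q⁻¹) * q := by group
        _ = d * q := by rw [h]
    · exact absurd h (hcon q hq)
  let N : Subgroup G := P ⊓ Subgroup.centralizer (P : Set G)
  have hNm : ∀ n, n ∈ N ↔ n ∈ P ∧ ∀ q ∈ P, q * n = n * q := by
    intro n
    rw [Subgroup.mem_inf, Subgroup.mem_centralizer_iff]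
    rfl
  have hN : ∀ h ∈ H, h * z = z * h → ∀ n ∈ N, h * n * h⁻¹ ∈ N := by
    intro h hh hz n hn
    obtain ⟨hn1, hn2⟩ := (hNm n).1 hn
    refine (hNm _).2 ⟨F.P_norm h hh hz n hn1, ?_⟩
    intro q hq
    have hz' : h⁻¹ * z = z * h⁻¹ := by
      calc h⁻¹ * z = h⁻¹ * (z * h) * h⁻¹ := by group
        _ = h⁻¹ * (h * z) * h⁻¹ := by rw [hz]
        _ = z * h⁻¹ := by group
    have h1 := F.P_norm h⁻¹ (H.inv_mem hh) hz' q hq
    have h2 := hn2 _ h1
    calc q * (h * n * h⁻¹) = h * ((h⁻¹ * q * h⁻¹⁻¹) * n) * h⁻¹ := by group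
      _ = h * (n * (h⁻¹ * q * h⁻¹⁻¹)) * h⁻¹ := by rw [h2]
      _ = h * n * h⁻¹ * q := by group
  have hdN : d ∈ N := (hNm d).2 ⟨hP, hcen⟩
  rcases F.irr N inf_le_left hN with h | h
  · rcases h d hdN with h | h
    · exact cl_ne F.t_ne (cls_sub H t hd) h
    · rw [h] at hd
      exact F.z_notin hd
  · obtain ⟨q, hq, e⟩ := F.fuse
    have h3 := ((hNm t).1 h).2 q hq
    apply F.z_ne
    have : t * z = t := by
      rw [← e, h3]; group
    exact mul_eq_left.1 this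

theorem dz_mem {d : G} (hd : d ∈ cls H t) (hP : d ∈ P) : d * z ∈ cls H t := by
  obtain ⟨q, hq, e⟩ := F.dz hd hP
  rw [← e]
  exact cls_conj hd (F.PH hq)

end Inner

/-- An element of `G` conjugating an element of `D ∩ H` into `H` is in `H`. -/
theorem Ctx.mem_of_conj {H : Subgroup G} {t : G} (C : Ctx H t) {x e : G} (hx : x ∈ cl t) (hxH : x ∈ H)
    (he : e * x * e⁻¹ ∈ H) : e ∈ H := by
  have h1 : x • (QuotientGroup.mk e⁻¹ : G ⧸ H) = QuotientGroup.mk e⁻¹ := by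
    rw [smul_mk_eq, inv_inv]; exact he
  have h2 := C.fix_uniq hx h1 (Ctx.mk_one_fix.2 hxH)
  rw [QuotientGroup.eq, inv_inv, mul_one] at h2
  exact h2

/-- An element of `G` all of whose fixed points... : a transposition `d ∈ H` with `u⁻¹ d u ∈ H` has `u ∈ H`. -/
theorem Ctx.mem_of_conj' {H : Subgroup G} {t : G} (C : Ctx H t) {x e : G} (hx : x ∈ cl t) (hxH : x ∈ H)
    (he : e⁻¹ * x * e ∈ H) : e ∈ H := by
  have := C.mem_of_conj (e := e⁻¹) hx hxH (by rwa [inv_inv])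
  have h2 := H.inv_mem this
  rwa [inv_inv] at h2

/-- The `U`-conjugates of the elements of `S`. -/
def orb (U : Subgroup G) (S : Set G) : Set G := {x | ∃ g ∈ U, ∃ s ∈ S, g * s * g⁻¹ = x}

theorem mem_orb {U : Subgroup G} {S : Set G} {s : G} (hs : s ∈ S) : s ∈ orb U S := ⟨1, U.one_mem, s, hs, by group⟩

theorem orb_conj {U : Subgroup G} {S : Set G} {s : G} (hs : s ∈ orb U S) {g : G} (hg : g ∈ U) :
    g * s * g⁻¹ ∈ orb U S := by
  obtain ⟨k, hk, s, hs, rfl⟩ := hs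
  exact ⟨g * k, U.mul_mem hg hk, s, hs, by group⟩

theorem Dat.of {H U W : Subgroup G} {t : G} (C : Ctx H t) (WU : W ≤ U) (WH : W ≤ H)
    (Wn : ∀ u ∈ U, ∀ w ∈ W, u * w * u⁻¹ ∈ W) (S : Set G) (hS : ∀ s ∈ S, s ∈ U ∧ s ∈ cl t) (hne : ∃ s ∈ S, s ∈ H) :
    Dat H U W t (orb U S) where
  ctx := C
  WU := WU
  WH := WH
  Wn := Wn
  EU := by
    rintro _ ⟨g, hg, s, hs, rfl⟩
    exact U.mul_mem (U.mul_mem hg (hS s hs).1) (U.inv_mem hg)
  Et := by
    rintro _ ⟨g, hg, s, hs, rfl⟩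
    exact cl_conj (hS s hs).2 g
  conj := fun x hx g hg => orb_conj hx hg
  ex := by
    obtain ⟨s, hs, h⟩ := hne
    exact ⟨s, mem_orb hs, h⟩

namespace Facts

variable {H P M : Subgroup G} {z t t₁ : G} (F : Facts H P M z t t₁) (mem : ∀ d ∈ cl t, d ∈ H → d ∈ cls H t)

include F mem

theorem ctx : Ctx H t := ⟨F.t_sq, F.cent, mem⟩

/-- A conjugate under `C_G(z)` of an element of `D₀ ∩ P` contained in `H` is in `D₀ ∩ P`. -/
theorem inP {g f : G} (hg : g * z = z * g) (hf : f ∈ cls H t) (hfP : f ∈ P) (hx : g * f * g⁻¹ ∈ H) :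
    g * f * g⁻¹ ∈ cls H t ∧ g * f * g⁻¹ ∈ P := by
  have hzg : g * z * g⁻¹ = z := by rw [hg]; group
  have h1 : g * f * g⁻¹ ∈ cls H t := mem _ (cl_conj (cls_sub H t hf) g) hx
  have e : g * (f * z) * g⁻¹ = g * f * g⁻¹ * z := by
    calc g * (f * z) * g⁻¹ = g * f * g⁻¹ * (g * z * g⁻¹) := by group
      _ = _ := by rw [hzg]
  have h2 : g * f * g⁻¹ * z ∈ cls H t := by
    have h3 := cl_conj (cls_sub H t (F.dz_mem hf hfP)) g
    rw [e] at h3
    exact mem _ h3 (H.mul_mem hx F.zH)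
  have h4 : g * f * g⁻¹ * z = z * (g * f * g⁻¹) := by
    rw [← e, F.zc f hfP]
    calc g * (z * f) * g⁻¹ = (g * z * g⁻¹) * (g * f * g⁻¹) := by group
      _ = _ := by rw [hzg]
  exact ⟨h1, F.b1P h1 h4 h2⟩

omit mem in
/-- the odd relation lies in the relevant groups -/
theorem rel' {U W : Subgroup G} (hU : ∀ p ∈ P, p ∈ U) (h1 : (1 : G) ∈ W) (hz : z ∈ W) :
    ∃ l : List G, (∀ w ∈ l, w ∈ U ∧ w ∈ cl t ∧ w ∈ H) ∧ Odd l.length ∧ l.prod ∈ W := by
  obtain ⟨l, hl, hodd, hp⟩ := F.rel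
  refine ⟨l, fun w hw => ⟨hU w (hl w hw).2, cls_sub H t (hl w hw).1, F.PH (hl w hw).2⟩, hodd, ?_⟩
  rcases hp with h | h
  · rw [h]; exact h1
  · rw [h]; exact hz

/-- Step 3a. -/
theorem st3a [Finite G] {d e : G} (hd : d ∈ cls H t) (hdP : d ∈ P) (he : e ∈ cls H t) (heP : e ∈ P)
    (hne : d * e ≠ e * d) {g : G} (hgz : g * z = z * g)
    (hgc : g * (d * e) * g⁻¹ = d * e ∨ g * (d * e) * g⁻¹ = d * e * z) : g ∈ H := by
  have hcP : d * e ∈ P := P.mul_mem hdP heP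
  have hcz : d * e * z = z * (d * e) := F.zc _ hcP
  have hdd : d * d = 1 := cl_sq F.t_sq (cls_sub H t hd)
  have hee : e * e = 1 := cl_sq F.t_sq (cls_sub H t he)
  have hcc : (d * e) * (d * e) = z := by
    rcases F.P_comm d hdP e heP with h | h
    · exact absurd h hne
    · calc (d * e) * (d * e) = (d * e) * (e * d * z) := congrArg (fun x => d * e * x) h
        _ = d * (e * e) * d * z := by group
        _ = z := by rw [hee, mul_one, hdd, one_mul]
  obtain ⟨W, hW⟩ := exists_four F.z_sq hcz (Or.inr hcc)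
  obtain ⟨U, hU⟩ := exists_U F.z_sq hcz
  have hPU : ∀ p ∈ P, p ∈ U := fun p hp => (hU p).2 ⟨F.zc p hp, F.comm_cases hp hcP⟩
  have D : Dat H U W t (orb U {d}) := Dat.of (F.ctx mem) (W_U hcz hU hW) (by
      intro w hw
      rw [hW] at hw
      rcases hw with rfl | rfl | rfl | rfl
      · exact H.one_mem
      · exact F.zH
      · exact F.PH hcP
      · exact F.PH (P.mul_mem hcP F.zP)) (U_W hcz hU hW F.z_sq) {d} (by
      rintro s rfl
      exact ⟨hPU s hdP, cls_sub H t hd⟩) ⟨d, rfl, cls_mem F.tHz hd⟩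
  obtain ⟨l, hl, hodd, hp⟩ := F.rel' hPU W.one_mem ((hW z).2 (Or.inr (Or.inl rfl)))
  refine D.iso (d := d) (mem_orb rfl) (cls_mem F.tHz hd) ?_ hl hodd hp ((hU g).2 ⟨hgz, hgc⟩)
  rintro x ⟨k, hk, s, rfl, rfl⟩ hxH
  obtain ⟨hkz, hkc⟩ := (hU k).1 hk
  obtain ⟨hx1, hxP⟩ := F.inP mem hkz hd hdP hxH
  have hxx : k * s * k⁻¹ * (k * s * k⁻¹) = 1 := cl_sq F.t_sq (cls_sub H t hx1)
  have e1 : k * e * k⁻¹ = k * s * k⁻¹ * (k * (s * e) * k⁻¹) := by
    calc k * e * k⁻¹ = k * ((s * s) * e) * k⁻¹ := by rw [hdd, one_mul]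
      _ = _ := by group
  have hyH : k * e * k⁻¹ ∈ H := by
    rw [e1]
    refine H.mul_mem hxH ?_
    rcases hkc with h | h
    · rw [h]; exact F.PH hcP
    · rw [h]; exact F.PH (P.mul_mem hcP F.zP)
  obtain ⟨hy1, hyP⟩ := F.inP mem hkz he heP hyH
  have exy : k * s * k⁻¹ * (k * e * k⁻¹) = k * (s * e) * k⁻¹ := by group
  have hu := F.uniq s hd hdP e he heP hne _ hx1 hxP _ hy1 hyP (by rw [exy]; exact hkc)
  rw [hW]
  have hsi : s⁻¹ = s := F.d_inv hd
  rcases hu with h | h | h | h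
  · left; rw [h]; group
  · right; left; rw [h]; group
  · right; right; left; rw [h, hsi]
  · right; right; right; rw [h, hsi]; group

omit mem in
theorem cP : t * t₁ ∈ P := P.mul_mem F.tP F.t₁P

omit mem in
theorem cc : t * t₁ * (t * t₁) = 1 := by
  have h1 : t₁ * t₁ = 1 := cl_sq F.t_sq (cls_sub H t F.t₁D)
  calc t * t₁ * (t * t₁) = t * (t₁ * t) * t₁ := by group
    _ = t * t * (t₁ * t₁) := by rw [F.t₁_comm]; group
    _ = 1 := by rw [F.t_sq, h1, one_mul]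

theorem inD {k f : G} (hkz : k * z = z * k)
    (hkc : k * (t * t₁) * k⁻¹ = t * t₁ ∨ k * (t * t₁) * k⁻¹ = t * t₁ * z)
    (hf : f ∈ dd H P t (t * t₁)) (hx : k * f * k⁻¹ ∈ H) : k * f * k⁻¹ ∈ dd H P t (t * t₁) := by
  obtain ⟨h1, h2⟩ := F.inP mem hkz hf.1 hf.2.1 hx
  refine ⟨h1, h2, ?_⟩
  have h3 := cl_conj (cls_sub H t hf.2.2) k
  have e : k * (f * (t * t₁)) * k⁻¹ = k * f * k⁻¹ * (k * (t * t₁) * k⁻¹) := by group
  rw [e] at h3
  rcases hkc with h | h
  · rw [h] at h3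
    exact mem _ h3 (H.mul_mem hx (F.PH F.cP))
  · rw [h] at h3
    have h4 := mem _ h3 (H.mul_mem hx (F.PH (P.mul_mem F.cP F.zP)))
    have h5 := F.dz_mem h4 (P.mul_mem h2 (P.mul_mem F.cP F.zP))
    have e2 : k * f * k⁻¹ * (t * t₁ * z) * z = k * f * k⁻¹ * (t * t₁) * (z * z) := by group
    rwa [e2, F.z_sq, mul_one] at h5

omit mem in
theorem four_P {a : G} (ha : a ∈ four z (t * t₁)) : a ∈ P := by
  rcases ha with rfl | rfl | rfl | rfl
  · exact P.one_mem
  · exact F.zP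
  · exact F.cP
  · exact P.mul_mem F.cP F.zP

/-- Step 3b. -/
theorem st3b [Finite G] {f f' : G} (hf : f ∈ dd H P t (t * t₁)) (hf' : f' ∈ dd H P t (t * t₁))
    (hne : ∀ a ∈ four z (t * t₁), f' ≠ f * a) {g : G} (hgz : g * z = z * g)
    (hgc : g * (t * t₁) * g⁻¹ = t * t₁ ∨ g * (t * t₁) * g⁻¹ = t * t₁ * z)
    (hgf : g * (f * f') * g⁻¹ * (f * f')⁻¹ ∈ four z (t * t₁)) : g ∈ H := by
  have hcz : t * t₁ * z = z * (t * t₁) := F.zc _ F.cP
  have hff : f * f = 1 := cl_sq F.t_sq (cls_sub H t hf.1)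
  have hff' : f' * f' = 1 := cl_sq F.t_sq (cls_sub H t hf'.1)
  have hkP : f * f' ∈ P := P.mul_mem hf.2.1 hf'.2.1
  obtain ⟨V, hV⟩ := exists_four F.z_sq hcz (Or.inl F.cc)
  obtain ⟨U₀, hU₀⟩ := exists_U F.z_sq hcz
  have hPU₀ : ∀ p ∈ P, p ∈ U₀ := fun p hp => (hU₀ p).2 ⟨F.zc p hp, F.comm_cases hp F.cP⟩
  have hn₀ := U_W hcz hU₀ hV F.z_sq
  have hzV : z ∈ V := (hV z).2 (Or.inr (Or.inl rfl))
  have hkk : f * f' * (f * f') ∈ V := by
    rcases F.P_comm f hf.2.1 f' hf'.2.1 with h | h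
    · have : f * f' * (f * f') = 1 := by
        calc f * f' * (f * f') = f * f' * (f' * f) := congrArg (fun x => f * f' * x) h
          _ = f * (f' * f') * f := by group
          _ = 1 := by rw [hff', mul_one, hff]
      rw [this]; exact V.one_mem
    · have : f * f' * (f * f') = z := by
        calc f * f' * (f * f') = f * f' * (f' * f * z) := congrArg (fun x => f * f' * x) h
          _ = f * (f' * f') * f * z := by group
          _ = z := by rw [hff', mul_one, hff, one_mul]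
      rw [this]; exact hzV
  obtain ⟨W, hW⟩ := exists_adj V (f * f') (hn₀ _ (hPU₀ _ hkP)) hkk
  obtain ⟨U, hU⟩ := exists_com U₀ V hn₀ (f * f')
  have hVW : ∀ a ∈ V, a ∈ W := fun a ha => (hW a).2 (Or.inl ha)
  have hPU : ∀ p ∈ P, p ∈ U := by
    intro p hp
    refine (hU p).2 ⟨hPU₀ p hp, ?_⟩
    rcases F.comm_cases hp hkP with h | h
    · rw [h, mul_inv_cancel]; exact V.one_mem
    · rw [h, F.zc _ hkP, mul_inv_cancel_right]; exact hzV
  have hVP : ∀ a ∈ V, a ∈ P := fun a ha => F.four_P ((hV a).1 ha)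
  have hWP : ∀ a ∈ W, a ∈ P := by
    intro a ha
    rcases (hW a).1 ha with h | h
    · exact hVP a h
    · have := P.mul_mem hkP (hVP _ h)
      rwa [mul_inv_cancel_left] at this
  have Wn : ∀ u ∈ U, ∀ w ∈ W, u * w * u⁻¹ ∈ W := by
    intro u hu w hw
    obtain ⟨hu1, hu2⟩ := (hU u).1 hu
    rcases (hW w).1 hw with h | h
    · exact hVW _ (hn₀ u hu1 w h)
    · have e : u * w * u⁻¹ = (u * (f * f') * u⁻¹ * (f * f')⁻¹) * (f * f') * (u * ((f * f')⁻¹ * w) * u⁻¹) := by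
        group
      rw [e]
      exact W.mul_mem (W.mul_mem (hVW _ hu2) ((hW _).2 (Or.inr (by rw [inv_mul_cancel]; exact V.one_mem))))
        (hVW _ (hn₀ u hu1 _ h))
  have D : Dat H U W t (orb U {f}) := Dat.of (F.ctx mem) (fun w hw => hPU w (hWP w hw))
    (fun w hw => F.PH (hWP w hw)) Wn {f} (by
      rintro s rfl
      exact ⟨hPU s hf.2.1, cls_sub H t hf.1⟩) ⟨f, rfl, cls_mem F.tHz hf.1⟩
  obtain ⟨l, hl, hodd, hp⟩ := F.rel' hPU W.one_mem (hVW z hzV)
  refine D.iso (d := f) (mem_orb rfl) (cls_mem F.tHz hf.1) ?_ hl hodd hp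
    ((hU g).2 ⟨(hU₀ g).2 ⟨hgz, hgc⟩, (hV _).2 hgf⟩)
  rintro x ⟨k, hk, s, rfl, rfl⟩ hxH
  obtain ⟨hk0, hkf⟩ := (hU k).1 hk
  obtain ⟨hkz, hkc⟩ := (hU₀ k).1 hk0
  have hx1 := F.inD mem hkz hkc hf hxH
  have hxx : k * s * k⁻¹ * (k * s * k⁻¹) = 1 := cl_sq F.t_sq (cls_sub H t hx1.1)
  have e1 : k * f' * k⁻¹ = k * s * k⁻¹ * ((k * (s * f') * k⁻¹ * (s * f')⁻¹) * (s * f')) := by
    calc k * f' * k⁻¹ = k * ((s * s) * f') * k⁻¹ := by rw [hff, one_mul]
      _ = _ := by group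
  have hyH : k * f' * k⁻¹ ∈ H := by
    rw [e1]
    exact H.mul_mem hxH (H.mul_mem (F.PH (hVP _ hkf)) (F.PH hkP))
  have hy1 := F.inD mem hkz hkc hf' hyH
  obtain ⟨a, ha, e⟩ : ∃ a ∈ four z (t * t₁), k * s * k⁻¹ * (k * f' * k⁻¹) = s * f' * a := by
    refine ⟨(s * f')⁻¹ * ((k * (s * f') * k⁻¹ * (s * f')⁻¹)) * (s * f'), ?_, by group⟩
    rw [← hV]
    have := hn₀ (s * f')⁻¹ (hPU₀ _ (P.inv_mem hkP)) _ hkf
    rwa [inv_inv] at this
  rcases F.uniq₂ s hf f' hf' hne _ hx1 _ hy1 ⟨a, ha, e⟩ with ⟨b, hb, h⟩ | ⟨b, hb, h⟩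
  · rw [h, inv_mul_cancel_left]
    exact hVW _ ((hV b).2 hb)
  · rw [h, F.d_inv hf.1, ← mul_assoc]
    exact W.mul_mem ((hW _).2 (Or.inr (by rw [inv_mul_cancel]; exact V.one_mem))) (hVW _ ((hV b).2 hb))

/-- Step 3c. -/
theorem st3c [Finite G] {g : G} (hgz : g * z = z * g)
    (hgc : g * (t * t₁) * g⁻¹ = t * t₁ ∨ g * (t * t₁) * g⁻¹ = t * t₁ * z) : g ∈ H := by
  have C := F.ctx mem
  have hcz : t * t₁ * z = z * (t * t₁) := F.zc _ F.cP
  obtain ⟨V, hV⟩ := exists_four F.z_sq hcz (Or.inl F.cc)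
  obtain ⟨U, hU⟩ := exists_U F.z_sq hcz
  have hPU : ∀ p ∈ P, p ∈ U := fun p hp => (hU p).2 ⟨F.zc p hp, F.comm_cases hp F.cP⟩
  have hn := U_W hcz hU hV F.z_sq
  have hVP : ∀ a ∈ V, a ∈ P := fun a ha => F.four_P ((hV a).1 ha)
  have hVH : ∀ a ∈ V, a ∈ H := fun a ha => F.PH (hVP a ha)
  obtain ⟨f, hf, f', hf', hne, hgen⟩ := F.gen
  have D : Dat H U V t (orb U (dd H P t (t * t₁))) := Dat.of C (W_U hcz hU hV) hVH hn _
    (fun s hs => ⟨hPU s hs.2.1, cls_sub H t hs.1⟩) ⟨f, hf, cls_mem F.tHz hf.1⟩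
  have hEH : ∀ x ∈ orb U (dd H P t (t * t₁)), x ∈ H → x ∈ dd H P t (t * t₁) := by
    rintro x ⟨k, hk, s, hs, rfl⟩ hxH
    obtain ⟨hkz, hkc⟩ := (hU k).1 hk
    exact F.inD mem hkz hkc hs hxH
  -- Lemma L
  have hw2 : f * f' * (f * f') ∈ V := by
    rw [hV]
    have hff : f * f = 1 := cl_sq F.t_sq (cls_sub H t hf.1)
    have hff' : f' * f' = 1 := cl_sq F.t_sq (cls_sub H t hf'.1)
    rcases F.P_comm f hf.2.1 f' hf'.2.1 with h | h
    · left
      calc f * f' * (f * f') = f * f' * (f' * f) := congrArg (fun x => f * f' * x) h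
        _ = f * (f' * f') * f := by group
        _ = 1 := by rw [hff', mul_one, hff]
    · right; left
      calc f * f' * (f * f') = f * f' * (f' * f * z) := congrArg (fun x => f * f' * x) h
        _ = f * (f' * f') * f * z := by group
        _ = z := by rw [hff', mul_one, hff, one_mul]
  have key := D.lite (w := f * f') (by
    intro x hx hxH y hy j hj hjV hjx hxj hyj
    have hx1 := hEH x hx hxH
    have hxi := F.d_inv hx1.1
    have hxx : x * x = 1 := cl_sq F.t_sq (cls_sub H t hx1.1)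
    have hjH : j * x ∈ H := by
      refine C.mem_of_conj (D.Et x hx) hxH ?_
      have e : j * x * x * (j * x)⁻¹ = (x⁻¹ * (x * j * x⁻¹ * j⁻¹))⁻¹ := by group
      rw [e]
      exact H.inv_mem (H.mul_mem (H.inv_mem hxH) (hVH _ hxj))
    have hjx1 := hEH _ hjx hjH
    obtain ⟨hyz, hyc⟩ := (hU y).1 (D.EU y hy)
    have ej : j * x * x = j := by rw [mul_assoc, hxx, mul_one]
    refine F.st3b mem hjx1 hx1 ?_ hyz hyc ?_
    · intro a ha h
      apply hjV
      have : j = x * a⁻¹ * x⁻¹ := by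
        rw [eq_mul_inv_iff_mul_eq, eq_mul_inv_iff_mul_eq]; exact h.symm
      rw [this]
      exact hn x (D.EU x hx) _ (V.inv_mem ((hV a).2 ha))
    · rw [ej, ← hV]; exact hyj) (hPU _ (P.mul_mem hf.2.1 hf'.2.1)) hw2 (by
    intro x hx hxw
    obtain ⟨hxz, hxc⟩ := (hU x).1 (D.EU x hx)
    exact F.st3b mem hf hf' hne hxz hxc ((hV _).1 hxw))
  obtain ⟨x, hx, hk⟩ : ∃ x, (x = 1 ∨ x ∈ dd H P t (t * t₁)) ∧ ∀ u ∈ U, u⁻¹ * (f * f' * x) * u ∈ H := by
    rcases key with h | ⟨x, hx, hxH, -, h⟩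
    · exact ⟨1, Or.inl rfl, by rwa [mul_one]⟩
    · exact ⟨x, Or.inr (hEH x hx hxH), h⟩
  obtain ⟨l, hl, hδ⟩ := hgen x hx
  have hlU : ∀ u ∈ U, u⁻¹ * (l.map fun h => h * (f * f' * x) * h⁻¹).prod * u ∈ H := by
    intro u hu
    clear hδ
    induction l with
    | nil => 
      rw [List.map_nil, List.prod_nil]
      have e : u⁻¹ * 1 * u = 1 := by group
      rw [e]; exact H.one_mem
    | cons h l ih =>
      rw [List.map_cons, List.prod_cons]
      have e : u⁻¹ * (h * (f * f' * x) * h⁻¹ * (l.map fun h => h * (f * f' * x) * h⁻¹).prod) * u =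
          ((h⁻¹ * u)⁻¹ * (f * f' * x) * (h⁻¹ * u)) * (u⁻¹ * (l.map fun h => h * (f * f' * x) * h⁻¹).prod * u) := by
        group
      rw [e]
      obtain ⟨h1, h2, h3⟩ := hl h List.mem_cons_self
      exact H.mul_mem (hk _ (U.mul_mem (U.inv_mem ((hU h).2 ⟨h2, h3⟩)) hu))
        (ih fun h' hh' => hl h' (List.mem_cons_of_mem _ hh'))
  exact C.mem_of_conj' (cls_sub H t hδ) (cls_mem F.tHz hδ) (hlU g ((hU g).2 ⟨hgz, hgc⟩))

omit mem in
/-- a product of two commuting transpositions of `P` with different homes... is no transposition -/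
theorem prod_notin {s : G} (hs : s ∈ cls H t) (hsP : s ∈ P) (hc : s * t = t * s) (hne : s ≠ t) :
    t * s ∉ cls H t := by
  obtain ⟨h, hh, hht, e⟩ := F.adj s hs (F.PM s hsP hc) hne
  have e2 : t * s = h * z * h⁻¹ := by
    rw [← e]
    have e3 : h * t * h⁻¹ = t := by rw [hht]; group
    calc t * (h * (t * z) * h⁻¹) = t * ((h * t * h⁻¹) * (h * z * h⁻¹)) := by group
      _ = (t * t) * (h * z * h⁻¹) := by rw [e3, ← mul_assoc]
      _ = _ := by rw [F.t_sq, one_mul]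
  rw [e2]
  exact F.z_conj hh

/-- **Step 3**: `C_G(z) ≤ H`. -/
theorem cent_z [Finite G] : ∀ g : G, g * z = z * g → g ∈ H := by
  have C := F.ctx mem
  obtain ⟨W, hW⟩ := exists_two F.z_sq
  have hU : ∀ g, g ∈ Subgroup.centralizer {z} ↔ g * z = z * g := fun g => Subgroup.mem_centralizer_singleton_iff
  have hPU : ∀ p ∈ P, p ∈ Subgroup.centralizer {z} := fun p hp => (hU p).2 (F.zc p hp)
  have hWP : ∀ a ∈ W, a ∈ P := by
    intro a ha
    rcases (hW a).1 ha with h | h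
    · rw [h]; exact P.one_mem
    · rw [h]; exact F.zP
  have hn : ∀ u ∈ Subgroup.centralizer {z}, ∀ w ∈ W, u * w * u⁻¹ ∈ W := by
    intro u hu w hw
    rw [hU] at hu
    rw [hW] at hw ⊢
    rcases hw with rfl | rfl
    · left; group
    · right; rw [hu]; group
  have D : Dat H (Subgroup.centralizer {z}) W t (orb (Subgroup.centralizer {z}) {t}) :=
    Dat.of C (fun w hw => hPU w (hWP w hw)) (fun w hw => F.PH (hWP w hw)) hn _ (by
      rintro s rfl
      exact ⟨hPU s F.tP, mem_cl_self s⟩) ⟨t, rfl, F.tHz⟩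
  have hEH : ∀ x ∈ orb (Subgroup.centralizer {z}) {t}, x ∈ H → x ∈ cls H t ∧ x ∈ P := by
    rintro x ⟨k, hk, s, rfl, rfl⟩ hxH
    exact F.inP mem ((hU k).1 hk) (mem_cls_self H s) F.tP hxH
  have hcc : t * t₁ * (t * t₁) ∈ W := by rw [F.cc]; exact W.one_mem
  have key := D.lite (w := t * t₁) (by
    intro x hx hxH y hy j hj hjW hjx hxj hyj
    obtain ⟨hx1, hxP⟩ := hEH x hx hxH
    have hxx : x * x = 1 := cl_sq F.t_sq (cls_sub H t hx1)
    have hjH : j * x ∈ H := by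
      refine C.mem_of_conj (D.Et x hx) hxH ?_
      have e : j * x * x * (j * x)⁻¹ = (x⁻¹ * (x * j * x⁻¹ * j⁻¹))⁻¹ := by group
      rw [e]
      exact H.inv_mem (H.mul_mem (H.inv_mem hxH) (F.PH (hWP _ hxj)))
    obtain ⟨hs1, hsP⟩ := hEH _ hjx hjH
    have hyz := (hU y).1 (D.EU y hy)
    have ej : j * x * x = j := by rw [mul_assoc, hxx, mul_one]
    -- `y` commutes with `j` modulo `z`
    have hyj' : y * j * y⁻¹ = j ∨ y * j * y⁻¹ = j * z := by
      rcases (hW _).1 hyj with h | h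
      · left; exact mul_inv_eq_one.1 h
      · right
        rw [mul_inv_eq_iff_eq_mul] at h
        rw [h]; exact ((hU j).1 hj).symm
    by_cases hc : (j * x) * x = x * (j * x)
    · -- commuting: conjugate to `t`, `t₁`
      obtain ⟨h, hh, hhz, e⟩ := F.b1 hx1 (F.zc x hxP) (F.dz_mem hx1 hxP)
      have hhz' : h⁻¹ * z = z * h⁻¹ := by
        calc h⁻¹ * z = h⁻¹ * (z * h) * h⁻¹ := by group
          _ = h⁻¹ * (h * z) * h⁻¹ := by rw [hhz]
          _ = z * h⁻¹ := by group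
      have hs2 : h⁻¹ * (j * x) * h ∈ cls H t := cls_conj' hs1 hh
      have hs3 : h⁻¹ * (j * x) * h ∈ P := by
        have := F.P_norm h⁻¹ (H.inv_mem hh) hhz' _ hsP
        rwa [inv_inv] at this
      have et : h⁻¹ * x * h = t := by rw [← e]; group
      have hs4 : h⁻¹ * (j * x) * h * t = t * (h⁻¹ * (j * x) * h) := by
        rw [← et]
        calc h⁻¹ * (j * x) * h * (h⁻¹ * x * h) = h⁻¹ * ((j * x) * x) * h := by group
          _ = h⁻¹ * (x * (j * x)) * h := by rw [hc]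
          _ = _ := by group
      have hs5 : h⁻¹ * (j * x) * h ≠ t := by
        intro h5
        apply hjW
        have : j = 1 := by
          have h6 : j * x = x := by
            calc j * x = h * (h⁻¹ * (j * x) * h) * h⁻¹ := by group
              _ = h * (h⁻¹ * x * h) * h⁻¹ := by rw [h5, et]
              _ = x := by group
          exact mul_eq_right.1 h6
        rw [this]; exact W.one_mem
      have hs6 : h⁻¹ * (j * x) * h ≠ t * z := by
        intro h5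
        apply hjW
        have h6 : j * x = x * z := by
          calc j * x = h * (h⁻¹ * (j * x) * h) * h⁻¹ := by group
            _ = h * (h⁻¹ * x * h * z) * h⁻¹ := by rw [h5, et]
            _ = x * h * (z * h⁻¹) := by group
            _ = x * h * (h⁻¹ * z) := by rw [hhz']
            _ = x * z := by group
        have : j = z := by
          rw [← ej, h6, F.zc x hxP, mul_assoc, hxx, mul_one]
        rw [this]; exact (hW z).2 (Or.inr rfl)
      obtain ⟨k, hk, hkt, hkz, hk2⟩ := F.trans _ hs2 hs3 hs4 hs5 hs6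
      have hm : k * h⁻¹ * j * (k * h⁻¹)⁻¹ = t * t₁ ∨ k * h⁻¹ * j * (k * h⁻¹)⁻¹ = t * t₁ * z := by
        have e1 : k * h⁻¹ * j * (k * h⁻¹)⁻¹ = (k * (h⁻¹ * (j * x) * h) * k⁻¹) * (k * (h⁻¹ * x * h) * k⁻¹)⁻¹ := by
          group
        have e2 : k * t * k⁻¹ = t := by rw [hkt]; group
        rw [e1, et, e2, F.t_invz]
        rcases hk2 with h | h
        · left; rw [h, F.t₁_comm]
        · right
          rw [h]
          calc t₁ * z * t = t₁ * (z * t) := by group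
            _ = t₁ * (t * z) := by rw [F.tz]
            _ = t₁ * t * z := by group
            _ = _ := by rw [F.t₁_comm]
      have hmz : k * h⁻¹ * z = z * (k * h⁻¹) := by rw [mul_assoc, hhz', ← mul_assoc, hkz, mul_assoc]
      have hmH : k * h⁻¹ ∈ H := H.mul_mem hk (H.inv_mem hh)
      have hfin : k * h⁻¹ * y * (k * h⁻¹)⁻¹ ∈ H := by
        set m := k * h⁻¹ with hmdef
        have hmz' : m * z * m⁻¹ = z := by rw [hmz]; group
        refine F.st3c mem ?_ ?_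
        · calc m * y * m⁻¹ * z = m * y * m⁻¹ * (m * z * m⁻¹) := by rw [hmz']
            _ = m * (y * z) * m⁻¹ := by group
            _ = m * (z * y) * m⁻¹ := by rw [hyz]
            _ = (m * z * m⁻¹) * (m * y * m⁻¹) := by group
            _ = _ := by rw [hmz']
        · have hcz : t * t₁ * z = z * (t * t₁) := F.zc _ F.cP
          have hyz' : y * z * y⁻¹ = z := by rw [hyz]; group
          have hmj : m * (y * j * y⁻¹) * m⁻¹ = m * j * m⁻¹ ∨ m * (y * j * y⁻¹) * m⁻¹ = m * j * m⁻¹ * z := by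
            rcases hyj' with h | h
            · left; rw [h]
            · right; rw [h]
              calc m * (j * z) * m⁻¹ = (m * j * m⁻¹) * (m * z * m⁻¹) := by group
                _ = _ := by rw [hmz']
          have e1 : m * y * m⁻¹ * (m * j * m⁻¹) * (m * y * m⁻¹)⁻¹ = m * (y * j * y⁻¹) * m⁻¹ := by group
          rw [← e1] at hmj
          have hmyz : m * y * m⁻¹ * z * (m * y * m⁻¹)⁻¹ = z := by
            calc m * y * m⁻¹ * z * (m * y * m⁻¹)⁻¹ = m * (y * (m⁻¹ * z * m) * y⁻¹) * m⁻¹ := by group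
              _ = m * (y * z * y⁻¹) * m⁻¹ := by
                have : m⁻¹ * z * m = z := by
                  calc m⁻¹ * z * m = m⁻¹ * (m * z * m⁻¹) * m := by rw [hmz']
                    _ = z := by group
                rw [this]
              _ = z := by rw [hyz', hmz']
          rcases hm with h | h
          · rw [h] at hmj
            exact hmj
          · rw [h] at hmj
            have e5 : m * y * m⁻¹ * (t * t₁ * z) * (m * y * m⁻¹)⁻¹ =
                (m * y * m⁻¹ * (t * t₁) * (m * y * m⁻¹)⁻¹) * z := by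
              calc m * y * m⁻¹ * (t * t₁ * z) * (m * y * m⁻¹)⁻¹ =
                (m * y * m⁻¹ * (t * t₁) * (m * y * m⁻¹)⁻¹) * (m * y * m⁻¹ * z * (m * y * m⁻¹)⁻¹) := by group
                _ = _ := by rw [hmyz]
            rw [e5] at hmj
            rcases hmj with h' | h'
            · left; exact mul_right_cancel h'
            · right; exact mul_right_cancel h'
      have e6 : y = (k * h⁻¹)⁻¹ * (k * h⁻¹ * y * (k * h⁻¹)⁻¹) * (k * h⁻¹) := by group
      rw [e6]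
      exact H.mul_mem (H.mul_mem (H.inv_mem hmH) hfin) hmH
    · refine F.st3a mem hs1 hsP hx1 hxP hc hyz ?_
      rw [ej]; exact hyj') (hPU _ F.cP) hcc (by
    intro x hx hxc
    have hxz := (hU x).1 (D.EU x hx)
    refine F.st3c mem hxz ?_
    rcases (hW _).1 hxc with h | h
    · left; exact mul_inv_eq_one.1 h
    · right
      rw [mul_inv_eq_iff_eq_mul] at h
      rw [h]; exact (F.zc _ F.cP).symm)
  -- the kernel
  let N : Subgroup G := ⨅ u : Subgroup.centralizer {z}, P ⊓ H.map (MulAut.conj (u : G)).toMonoidHom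
  have hN : ∀ n, n ∈ N ↔ n ∈ P ∧ ∀ u : G, u * z = z * u → u⁻¹ * n * u ∈ H := by
    intro n
    rw [Subgroup.mem_iInf]
    constructor
    · intro h
      refine ⟨(h ⟨1, Subgroup.one_mem _⟩).1, fun u hu => ?_⟩
      obtain ⟨x, hx, e⟩ := (h ⟨u, (hU u).2 hu⟩).2
      have e' : u * x * u⁻¹ = n := e
      rw [← e']
      have : u⁻¹ * (u * x * u⁻¹) * u = x := by group
      rw [this]; exact hx
    · rintro ⟨h1, h2⟩ u
      refine ⟨h1, _, h2 u ((hU u).1 u.2), ?_⟩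
      show (u : G) * ((u : G)⁻¹ * n * u) * (u : G)⁻¹ = n
      group
  have hNn : ∀ h ∈ H, h * z = z * h → ∀ n ∈ N, h * n * h⁻¹ ∈ N := by
    intro h hh hz n hn
    obtain ⟨h1, h2⟩ := (hN n).1 hn
    refine (hN _).2 ⟨F.P_norm h hh hz n h1, fun u hu => ?_⟩
    have e : u⁻¹ * (h * n * h⁻¹) * u = (h⁻¹ * u)⁻¹ * n * (h⁻¹ * u) := by group
    rw [e]
    apply h2
    rw [mul_assoc, hu, ← mul_assoc, ← mul_assoc]
    congr 1
    calc h⁻¹ * z = h⁻¹ * (z * h) * h⁻¹ := by group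
      _ = h⁻¹ * (h * z) * h⁻¹ := by rw [hz]
      _ = z * h⁻¹ := by group
  obtain ⟨k, hkN, hk1, hkz⟩ : ∃ k ∈ N, k ≠ 1 ∧ k ≠ z := by
    have hcz : ∀ x, (x ∈ cls H t ∧ x ∈ P) → t * t₁ ≠ x ∧ t * t₁ ≠ x * z := by
      rintro x ⟨hx1, hxP⟩
      constructor
      · intro h
        rw [← h] at hx1
        exact F.prod_notin F.t₁D F.t₁P F.t₁_comm F.t₁_ne hx1
      · intro h
        have h1 : t₁ * z ∈ cls H t := F.dz_mem F.t₁D F.t₁P
        have h2 : t₁ * z * t = t * (t₁ * z) := by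
          calc t₁ * z * t = t₁ * (z * t) := by group
            _ = t₁ * (t * z) := by rw [F.tz]
            _ = t₁ * t * z := by group
            _ = t * t₁ * z := by rw [F.t₁_comm]
            _ = _ := by group
        have h3 : t₁ * z ≠ t := by
          intro h4
          apply F.t₁_ne'
          rw [← h4, mul_assoc, F.z_sq, mul_one]
        apply F.prod_notin h1 (P.mul_mem F.t₁P F.zP) h2 h3
        rw [← mul_assoc, h, mul_assoc, F.z_sq, mul_one]
        exact hx1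
    rcases key with h | ⟨x, hx, hxH, -, h⟩
    · refine ⟨t * t₁, (hN _).2 ⟨F.cP, fun u hu => h u ((hU u).2 hu)⟩, ?_, ?_⟩
      · intro h1
        apply F.t₁_ne
        calc t₁ = t * (t * t₁) := by rw [← mul_assoc, F.t_sq, one_mul]
          _ = t := by rw [h1, mul_one]
      · intro h1
        apply F.t₁_ne'
        rw [← h1, ← mul_assoc, F.t_sq, one_mul]
    · obtain ⟨hx1, hxP⟩ := hEH x hx hxH
      have hxx : x * x = 1 := cl_sq F.t_sq (cls_sub H t hx1)
      refine ⟨t * t₁ * x, (hN _).2 ⟨P.mul_mem F.cP hxP, fun u hu => h u ((hU u).2 hu)⟩, ?_, ?_⟩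
      · intro h1
        apply (hcz x ⟨hx1, hxP⟩).1
        calc t * t₁ = t * t₁ * x * x := by rw [mul_assoc _ x x, hxx, mul_one]
          _ = x := by rw [h1, one_mul]
      · intro h1
        apply (hcz x ⟨hx1, hxP⟩).2
        calc t * t₁ = t * t₁ * x * x := by rw [mul_assoc _ x x, hxx, mul_one]
          _ = z * x := by rw [h1]
          _ = x * z := (F.zc x hxP).symm
  rcases F.irr N (fun n hn => ((hN n).1 hn).1) hNn with h | h
  · rcases h k hkN with h | h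
    · exact absurd h hk1
    · exact absurd h hkz
  · intro g hg
    exact C.mem_of_conj' (mem_cl_self t) F.tHz (((hN t).1 h).2 g hg)

end Facts

end Cfsg.Agent.BabyU.Clos
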