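import Cfsg.Agent.BabyU.ClosFinal
import Cfsg.Agent.BabyU.ClosFus
import Cfsg.Agent.BabyU.ClosZ
import Cfsg.Agent.BabyU.Setup

/-!
# Closing for the Baby Monster: the hypothesis (u)

`facts` : from a `Setup`, the class list of the conjugates of `t` in `M` (they lie over root involutions), and the
facts `Inner` about a subgroup `H` containing the centraliser of a conjugate `τ` of `t`, one gets `Facts`;
`eq_top` : so `H = ⊤` if `G` is a finite simple group.
-/

set_option autoImplicit false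

namespace Cfsg.Agent.BabyU.ClosGlue

open Cfsg.Agent.BabyU.Clos Cfsg.Agent.R01.Lifts
open scoped commutatorElement

/-- A non-split double cover of a non-commutative simple group is perfect. -/
theorem perfect {M E : Type*} [Group M] [Group E] [IsSimpleGroup E] {π : M →* E} {z : M} (h : Ext π z)
    (hno : ∀ σ : E →* M, ¬ ∀ x, π (σ x) = x) (hE : ∃ a b : E, a * b ≠ b * a) : commutator M = ⊤ := by
  have hEE : commutator E = ⊤ := by
    rcases (inferInstance : (commutator E).Normal).eq_bot_or_eq_top with h1 | h1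
    · exfalso
      obtain ⟨a, b, hab⟩ := hE
      apply hab
      have h2 : ⁅a, b⁆ ∈ commutator E := Subgroup.commutator_mem_commutator (Subgroup.mem_top a) (Subgroup.mem_top b)
      rw [h1, Subgroup.mem_bot, commutatorElement_eq_one_iff_mul_comm] at h2
      exact h2
    · exact h1
  have hmap : (commutator M).map π = ⊤ := by
    rw [commutator_def, Subgroup.map_commutator, ← MonoidHom.range_eq_map, MonoidHom.range_eq_top.2 h.surj,
      ← commutator_def, hEE]
  have hsurj : ∀ x : E, ∃ n ∈ commutator M, π n = x := fun x => by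
    have : x ∈ (commutator M).map π := hmap ▸ Subgroup.mem_top x
    exact this
  by_cases hz : z ∈ commutator M
  · rw [Subgroup.eq_top_iff']
    intro m
    obtain ⟨n, hn, hnm⟩ := hsurj (π m)
    have h1 : π (m * n⁻¹) = 1 := by rw [map_mul, map_inv, hnm, mul_inv_cancel]
    have h2 : m * n⁻¹ ∈ commutator M := by
      rcases (h.ker _).1 h1 with h3 | h3
      · rw [h3]; exact Subgroup.one_mem _
      · rw [h3]; exact hz
    have := Subgroup.mul_mem _ h2 hn
    rwa [inv_mul_cancel_right] at this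
  · exfalso
    -- the restriction to the derived group is bijective
    let f : commutator M →* E := π.comp (commutator M).subtype
    have hb : Function.Bijective f := by
      constructor
      · rw [← MonoidHom.ker_eq_bot_iff, Subgroup.eq_bot_iff_forall]
        intro x hx
        rcases (h.ker (x : M)).1 hx with h3 | h3
        · exact Subtype.ext h3
        · exact absurd (h3 ▸ x.2) hz
      · intro x
        obtain ⟨n, hn, hnm⟩ := hsurj x
        exact ⟨⟨n, hn⟩, hnm⟩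
    let e := MulEquiv.ofBijective f hb
    refine hno ((commutator M).subtype.comp e.symm.toMonoidHom) fun x => ?_
    exact e.apply_symm_apply x

variable {G : Type*} [Group G] {t : G} {M : Subgroup G} {E : Type*} [Group E] {π : M →* E} {R : Set E}

theorem perfect_setup [IsSimpleGroup E] (S : Setup t M π)
    (hE : ∃ a b : E, a * b ≠ b * a) : commutator M = ⊤ := perfect S.ext S.nosec hE

section

variable {H P M₁ : Subgroup G} {z τ τ₁ : G} {h : G}

/-- the conjugate of the perfect group `M` is in `M₁` -/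
theorem conj_mem (S : Setup t M π) (hperf : commutator M = ⊤) (I : Inner H P M₁ z τ τ₁) (hτ : h * t * h⁻¹ = τ)
    (cent : ∀ g : G, g * τ = τ * g → g ∈ H) {m : G} (hm : m ∈ M) : h * m * h⁻¹ ∈ M₁ := by
  have hc : ∀ a ∈ M, (h * a * h⁻¹) * τ = τ * (h * a * h⁻¹) := by
    intro a ha
    rw [← hτ]
    calc h * a * h⁻¹ * (h * t * h⁻¹) = h * (a * t) * h⁻¹ := by group
      _ = h * (t * a) * h⁻¹ := by rw [S.comm a ha]
      _ = h * t * h⁻¹ * (h * a * h⁻¹) := by group
  have hinv : ∀ {g : G}, g * τ = τ * g → g⁻¹ * τ = τ * g⁻¹ := by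
    intro g hg
    calc g⁻¹ * τ = g⁻¹ * (τ * g) * g⁻¹ := by group
      _ = g⁻¹ * (g * τ) * g⁻¹ := by rw [hg]
      _ = τ * g⁻¹ := by group
  have hcomm : ∀ a b : G, a * τ = τ * a → b * τ = τ * b → a * b * a⁻¹ * b⁻¹ ∈ M₁ := by
    intro a b ha hb
    have haH := cent a ha
    have hbH := cent b hb
    by_cases h1 : a ∈ M₁
    · have h2 : b * a⁻¹ * b⁻¹ ∈ M₁ := I.M_norm b hbH hb _ (M₁.inv_mem h1)
      have := M₁.mul_mem h1 h2
      rwa [← mul_assoc, ← mul_assoc] at this
    by_cases h2 : b ∈ M₁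
    · exact M₁.mul_mem (I.M_norm a haH ha _ h2) (M₁.inv_mem h2)
    · have h3 := I.M_index a haH b hbH ha hb h1 h2
      have h4 := I.M_index a⁻¹ (H.inv_mem haH) b⁻¹ (H.inv_mem hbH) (hinv ha) (hinv hb)
        (fun h' => h1 (by simpa using M₁.inv_mem h')) (fun h' => h2 (by simpa using M₁.inv_mem h'))
      have := M₁.mul_mem h3 h4
      rwa [← mul_assoc] at this
  let N : Subgroup M := (M₁.comap (MulAut.conj h).toMonoidHom).subgroupOf M
  have hN : commutator M ≤ N := by
    rw [commutator_def, Subgroup.commutator_le]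
    intro a _ b _
    show h * (((⁅a, b⁆ : M)) : G) * h⁻¹ ∈ M₁
    have e : h * (((⁅a, b⁆ : M)) : G) * h⁻¹ =
        (h * a * h⁻¹) * (h * b * h⁻¹) * (h * a * h⁻¹)⁻¹ * (h * b * h⁻¹)⁻¹ := by
      rw [commutatorElement_def]
      simp only [Subgroup.coe_mul, Subgroup.coe_inv]
      group
    rw [e]
    exact hcomm _ _ (hc a a.2) (hc b b.2)
  have := hN (hperf ▸ Subgroup.mem_top (⟨m, hm⟩ : M))
  exact this

/-- and conversely -/
theorem mem_of_conj (S : Setup t M π) (hperf : commutator M = ⊤) (I : Inner H P M₁ z τ τ₁) (hτ : h * t * h⁻¹ = τ)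
    (cent : ∀ g : G, g * τ = τ * g → g ∈ H) (hprop : ∃ g : G, g * τ = τ * g ∧ g ∉ M₁) {g : G} (hg : g ∈ M₁) :
    h⁻¹ * g * h ∈ M := by
  by_contra hcon
  obtain ⟨k, hk, hkM⟩ := hprop
  have hback : ∀ {x : G}, x * τ = τ * x → (h⁻¹ * x * h) * t = t * (h⁻¹ * x * h) := by
    intro x hx
    have e : t = h⁻¹ * τ * h := by rw [← hτ]; group
    rw [e]
    calc h⁻¹ * x * h * (h⁻¹ * τ * h) = h⁻¹ * (x * τ) * h := by group
      _ = h⁻¹ * (τ * x) * h := by rw [hx]
      _ = h⁻¹ * τ * h * (h⁻¹ * x * h) := by group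
  have hfwd : ∀ {x : G}, h⁻¹ * x * h ∈ M → x ∈ M₁ := by
    intro x hx
    have := conj_mem S hperf I hτ cent hx
    have e : h * (h⁻¹ * x * h) * h⁻¹ = x := by group
    rwa [e] at this
  have h1 : h⁻¹ * k * h ∉ M := fun h' => hkM (hfwd h')
  have h2 := S.index _ _ (hback (I.M_comm g hg)) (hback hk) hcon h1
  have h3 : g * k ∈ M₁ := by
    apply hfwd
    have e : h⁻¹ * (g * k) * h = h⁻¹ * g * h * (h⁻¹ * k * h) := by group
    rw [e]; exact h2
  exact hkM (by simpa using M₁.mul_mem (M₁.inv_mem hg) h3)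

/-- **The facts for the closing.** -/
theorem facts (S : Setup t M π) (hperf : commutator M = ⊤)
    (xor : ∀ m : M, π m ∈ R → Xor (∃ g : G, g * t * g⁻¹ = m) (∃ g : G, g * t * g⁻¹ = t * m))
    (one : ∀ r ∈ R, ∀ s ∈ R, ∃ g : E, g * r * g⁻¹ = s)
    (root : ∀ m : M, (∃ g : G, g * t * g⁻¹ = m) → (m : G) ≠ t → π m ∈ R)
    (I : Inner H P M₁ z τ τ₁) (hτ : h * t * h⁻¹ = τ) (cent : ∀ g : G, g * τ = τ * g → g ∈ H)
    (hprop : ∃ g : G, g * τ = τ * g ∧ g ∉ M₁) : Facts H P M₁ z τ τ₁ where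
  toInner := I
  cent := cent
  u := by
    intro s hs hsM
    by_cases hst : s = τ
    · exact ⟨1, H.one_mem, by rw [hst]; group⟩
    -- the second conjugate `τ z`
    obtain ⟨q, hq, hqz⟩ := I.fuse
    have hzP := I.zP
    have hτP := I.tP
    have hs0M : τ * z ∈ M₁ := I.PM _ (P.mul_mem hτP hzP) (by
      rw [mul_assoc, I.zc τ hτP])
    have hs0ne : τ * z ≠ τ := fun h' => I.z_ne (mul_eq_left.1 h')
    -- an element `s` of `M₁`, conjugate to `τ`, different from `τ`
    have key : ∀ s : G, s ∈ cl τ → s ∈ M₁ → s ≠ τ → ∃ m : M, h * (m : G) * h⁻¹ = s ∧ π m ∈ R ∧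
        ∃ g : G, g * t * g⁻¹ = m := by
      intro s hs hsM hne
      have h1 := mem_of_conj S hperf I hτ cent hprop hsM
      obtain ⟨k, hk⟩ := hs
      have h2 : ∃ g : G, g * t * g⁻¹ = h⁻¹ * s * h := by
        refine ⟨h⁻¹ * k * h, ?_⟩
        rw [← hk, ← hτ]
        group
      refine ⟨⟨h⁻¹ * s * h, h1⟩, by show h * (h⁻¹ * s * h) * h⁻¹ = s; group, root _ h2 ?_, h2⟩
      intro h3
      apply hne
      have h4 : h⁻¹ * s * h = t := h3
      rw [← hτ, ← h4]
      group
    obtain ⟨m, hm, hmR, hmc⟩ := key s hs hsM hst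
    obtain ⟨m0, hm0, hm0R, hm0c⟩ := key (τ * z) ⟨q, hqz⟩ hs0M hs0ne
    obtain ⟨e, he⟩ := one _ hm0R _ hmR
    obtain ⟨k, rfl⟩ := S.surj e
    have hk : π (m * (k * m0 * k⁻¹)⁻¹) = 1 := by
      rw [map_mul, map_inv, map_mul, map_mul, map_inv, he, mul_inv_cancel]
    have hconj : ∃ g : G, g * t * g⁻¹ = ((k * m0 * k⁻¹ : M) : G) := by
      obtain ⟨g, hg⟩ := hm0c
      refine ⟨k * g, ?_⟩
      simp only [Subgroup.coe_mul, Subgroup.coe_inv]
      rw [← hg]; group
    have hkR : π (k * m0 * k⁻¹) ∈ R := by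
      rw [map_mul, map_mul, map_inv, he]; exact hmR
    have heq : (m : G) = k * m0 * (k : G)⁻¹ := by
      rcases (S.ker _).1 hk with h3 | h3
      · rw [Subgroup.coe_mul, Subgroup.coe_inv, mul_inv_eq_one] at h3
        rw [h3]; rfl
      · exfalso
        have h4 : (m : G) = t * ((k * m0 * k⁻¹ : M) : G) := by
          rw [Subgroup.coe_mul, Subgroup.coe_inv, mul_inv_eq_iff_eq_mul] at h3
          exact h3
        have h5 := xor _ hkR
        rcases h5 with h6 | h6
        · apply h6.2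
          rw [← h4]; exact hmc
        · exact h6.2 hconj
    -- conjugate in `H`
    have hkH : h * (k : G) * h⁻¹ ∈ H := I.MH (conj_mem S hperf I hτ cent k.2)
    have hqH := I.PH hq
    refine ⟨h * (k : G) * h⁻¹ * q, H.mul_mem hkH hqH, ?_⟩
    calc h * (k : G) * h⁻¹ * q * τ * (h * (k : G) * h⁻¹ * q)⁻¹
        = h * (k : G) * h⁻¹ * (q * τ * q⁻¹) * h * (k : G)⁻¹ * h⁻¹ := by group
      _ = h * (k : G) * h⁻¹ * (h * m0 * h⁻¹) * h * (k : G)⁻¹ * h⁻¹ := by rw [hqz, hm0]
      _ = h * (k * m0 * (k : G)⁻¹) * h⁻¹ := by group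
      _ = s := by rw [← heq, hm]

/-- **The closing.** -/
theorem eq_top [Finite G] [IsSimpleGroup G] (S : Setup t M π) (hperf : commutator M = ⊤)
    (xor : ∀ m : M, π m ∈ R → Xor (∃ g : G, g * t * g⁻¹ = m) (∃ g : G, g * t * g⁻¹ = t * m))
    (one : ∀ r ∈ R, ∀ s ∈ R, ∃ g : E, g * r * g⁻¹ = s)
    (root : ∀ m : M, (∃ g : G, g * t * g⁻¹ = m) → (m : G) ≠ t → π m ∈ R)
    (I : Inner H P M₁ z τ τ₁) (hτ : h * t * h⁻¹ = τ) (cent : ∀ g : G, g * τ = τ * g → g ∈ H)
    (hprop : ∃ g : G, g * τ = τ * g ∧ g ∉ M₁) : H = ⊤ := by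
  have F := facts S hperf xor one root I hτ cent hprop
  have hm : ∀ d ∈ cl τ, d ∈ H → d ∈ cls H τ := fun d hd hdH => ClosFus.mem_cls F hd hdH
  exact F.eq_top hm (F.cent_z hm)

end

end Cfsg.Agent.BabyU.ClosGlue
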