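import Cfsg.Agent.BabyU.ClosFacts
import Cfsg.Agent.BabyM.AbsFinal

/-!
# Closing for the Baby Monster: the facts F1-F7, F9, F10, F13 in the abstract model

`A : BAll M K₀`, `B : BTrans M` (facts of the 4371-dimensional model) and `Pairs M` (facts on pairs of axes, from the
tables) give the corresponding fields of `Clos.Inner ⊤ (PP M) (MM M) (zz A) (tt A) t₁` in the group `M.G`.
-/

set_option autoImplicit false

namespace Cfsg.Agent.BabyU.ClosModel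

open Cfsg.Agent.BabyM.Model Cfsg.Agent.BabyU.Clos

variable {W : Type} [AddCommGroup W] [Module ℚ W]

/-- Facts on pairs of axes. -/
structure Pairs (M : BData W) : Prop where
  pair : ∀ j, ∃ g ∈ M.G, g M.d₀ = M.d j ∧ ∀ h ∈ M.C,
    (h * M.t₀ * h⁻¹ = g * M.t₀ * g⁻¹) ∨
    (M.F (h M.d₀) (M.d j) = 1 ∨ M.F (h M.d₀) (M.d j) = -1) ∨
    (h * M.t₀ * h⁻¹) (M.d j) = - M.d j ∨
    ((h * M.t₀ * h⁻¹) (M.d j) ≠ M.d j ∧
      (((h * M.t₀ * h⁻¹) * (g * M.t₀ * g⁻¹)) ^ 3 = 1 ∨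
        (g * M.t₀ * g⁻¹) ((h * M.t₀ * h⁻¹) (M.d j)) = (h * M.t₀ * h⁻¹) (M.d j)))
  nz : ∀ j, ∃ b ∈ M.S, M.F b (M.d j) ≠ 0

variable (M : BData W)

/-- `O₂(C(z))` -/
def PP : Subgroup M.G := M.Q.subgroupOf M.G

/-- the stabilizer of the base axis -/
def MM : Subgroup M.G where
  carrier := {g | (g : W ≃ₗ[ℚ] W) M.d₀ = M.d₀}
  mul_mem' := fun {a b} ha hb => by
    show ((a * b : M.G) : W ≃ₗ[ℚ] W) M.d₀ = M.d₀
    have ha' : (a : W ≃ₗ[ℚ] W) M.d₀ = M.d₀ := ha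
    have hb' : (b : W ≃ₗ[ℚ] W) M.d₀ = M.d₀ := hb
    rw [Subgroup.coe_mul, LinearEquiv.mul_apply, hb', ha']
  one_mem' := rfl
  inv_mem' := fun {a} ha => by
    show ((a⁻¹ : M.G) : W ≃ₗ[ℚ] W) M.d₀ = M.d₀
    have ha' : (a : W ≃ₗ[ℚ] W) M.d₀ = M.d₀ := ha
    rw [Subgroup.coe_inv]
    conv_lhs => rw [← ha']
    rw [inv_apply_self']

variable {M}

theorem mem_PP {g : M.G} : g ∈ PP M ↔ (g : W ≃ₗ[ℚ] W) ∈ M.Q := Subgroup.mem_subgroupOf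

theorem mem_MM {g : M.G} : g ∈ MM M ↔ (g : W ≃ₗ[ℚ] W) M.d₀ = M.d₀ := Iff.rfl

variable {K₀ : Type} [Group K₀] (A : BAll M K₀)

/-- the transposition -/
def tt : M.G := ⟨M.t₀, A.C_le_G A.t₀_C⟩

/-- the central involution -/
def zz : M.G := ⟨M.z, A.C_le_G A.grp.z_mem_C⟩

theorem t_sq : tt A * tt A = 1 := Subtype.ext A.rep.t₀_sq

theorem t_ne : tt A ≠ 1 := fun h => A.rep.t₀_ne (congrArg Subtype.val h)

theorem z_sq : zz A * zz A = 1 := Subtype.ext A.grp.z_sq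

theorem z_ne : zz A ≠ 1 := fun h => A.grp.z_ne (congrArg Subtype.val h)

theorem tP : tt A ∈ PP M := mem_PP.2 A.rep.t₀_mem

theorem zP : zz A ∈ PP M := mem_PP.2 A.grp.z_mem

include A in
theorem two : IsPGroup 2 (PP M) := by
  refine IsPGroup.of_card (n := 23) ?_
  rw [← A.grp.Q_card]
  exact Nat.card_congr (Subgroup.subgroupOfEquivOfLe fun q hq => A.C_le_G (A.grp.Q_le hq)).toEquiv

theorem mem_C_of {h : M.G} (hz : h * zz A = zz A * h) : (h : W ≃ₗ[ℚ] W) ∈ M.C :=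
  A.cent_z h h.2 (congrArg Subtype.val hz)

theorem zc : ∀ q ∈ PP M, q * zz A = zz A * q := fun q hq =>
  Subtype.ext (A.grp.z_comm q (A.grp.Q_le (mem_PP.1 hq)))

theorem P_norm : ∀ h ∈ (⊤ : Subgroup M.G), h * zz A = zz A * h → ∀ q ∈ PP M, h * q * h⁻¹ ∈ PP M := by
  intro h _ hz q hq
  exact mem_PP.2 (A.grp.Q_normal h (mem_C_of A hz) q (mem_PP.1 hq))

theorem P_comm : ∀ q ∈ PP M, ∀ r ∈ PP M, q * r = r * q ∨ q * r = r * q * zz A := by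
  intro q hq r hr
  rcases A.grp.Q_comm q (mem_PP.1 hq) r (mem_PP.1 hr) with h | h
  · exact Or.inl (Subtype.ext h)
  · exact Or.inr (Subtype.ext h)

theorem fuse : ∃ q ∈ PP M, q * tt A * q⁻¹ = tt A * zz A := by
  obtain ⟨q, hq, -, h⟩ := A.d₁_mem'
  exact ⟨⟨q, A.C_le_G (A.grp.Q_le hq)⟩, mem_PP.2 hq, Subtype.ext (A.q₀_conj hq h)⟩

theorem M_comm : ∀ m ∈ MM M, m * tt A = tt A * m := fun m hm =>
  Subtype.ext (A.t₀_comm m (A.G_le m.2) (Or.inl hm))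

include A in
theorem F_self {x : W} (hx : x ∈ M.D) : M.F x x = 7 := A.F_D x hx

include A in
theorem ne_neg {x : W} (hx : x ∈ M.D) : x ≠ - x := by
  intro h
  have h1 := A.F_D x hx
  have h2 : M.F x x = M.F (-x) x := by rw [← h]
  rw [map_neg, LinearMap.neg_apply, h1] at h2
  norm_num at h2

include A in
theorem apply_mem {g : W ≃ₗ[ℚ] W} (hg : g ∈ M.G) {x : W} (hx : x ∈ M.D) : g x ∈ M.D :=
  ((A.G_le hg).2 x).2 hx

include A in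
theorem F_inv {g : W ≃ₗ[ℚ] W} (hg : g ∈ M.G) (x y : W) : M.F (g x) (g y) = M.F x y := (A.G_le hg).1 x y

/-- `t₀` fixes the base axis -/
theorem tM : tt A ∈ MM M := by
  show M.t₀ (M.u₀ + M.e₀) = M.u₀ + M.e₀
  rw [map_add, A.rep.Q_u₀ _ A.rep.t₀_mem, A.rep.Q_e₀_pos _ A.rep.t₀_mem rfl]

theorem PM : ∀ q ∈ PP M, q * tt A = tt A * q → q ∈ MM M := by
  intro q hq h
  show (q : W ≃ₗ[ℚ] W) (M.u₀ + M.e₀) = M.u₀ + M.e₀
  rw [map_add, A.rep.Q_u₀ _ (mem_PP.1 hq), A.rep.Q_e₀_pos _ (mem_PP.1 hq) (congrArg Subtype.val h)]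

theorem irr : ∀ N : Subgroup M.G, N ≤ PP M → (∀ h ∈ (⊤ : Subgroup M.G), h * zz A = zz A * h → ∀ n ∈ N, h * n * h⁻¹ ∈ N) →
    (∀ n ∈ N, n = 1 ∨ n = zz A) ∨ tt A ∈ N := by
  intro N hN h
  have hmem : ∀ x : W ≃ₗ[ℚ] W, x ∈ N.map M.G.subtype ↔ ∃ y ∈ N, (y : W ≃ₗ[ℚ] W) = x := fun x => Subgroup.mem_map
  rcases A.grp.Q_irred (N.map M.G.subtype) (by
      intro x hx
      obtain ⟨y, hy, rfl⟩ := (hmem x).1 hx
      exact mem_PP.1 (hN hy)) (by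
      intro g hg n hn
      obtain ⟨y, hy, rfl⟩ := (hmem n).1 hn
      exact (hmem _).2 ⟨⟨g, A.C_le_G hg⟩ * y * ⟨g, A.C_le_G hg⟩⁻¹,
        h _ (Subgroup.mem_top _) (Subtype.ext (A.grp.z_comm g hg)) y hy, rfl⟩) with h1 | h1
  · left
    intro n hn
    rcases h1 n ((hmem _).2 ⟨n, hn, rfl⟩) with h2 | h2
    · exact Or.inl (Subtype.ext h2)
    · exact Or.inr (Subtype.ext h2)
  · right
    have h2 : M.t₀ ∈ N.map M.G.subtype := by rw [h1]; exact A.rep.t₀_mem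
    obtain ⟨y, hy, h3⟩ := (hmem _).1 h2
    have : y = tt A := Subtype.ext h3
    rwa [← this]

section

variable (B : BTrans M)

include A B in
theorem pm_of_comm {g : M.G} (h : g * tt A = tt A * g) :
    (g : W ≃ₗ[ℚ] W) M.d₀ = M.d₀ ∨ (g : W ≃ₗ[ℚ] W) M.d₀ = - M.d₀ :=
  A.comm_t₀ B g g.2 (congrArg Subtype.val h)

theorem comm_of_pm {g : M.G} (h : (g : W ≃ₗ[ℚ] W) M.d₀ = M.d₀ ∨ (g : W ≃ₗ[ℚ] W) M.d₀ = - M.d₀) :
    g * tt A = tt A * g := Subtype.ext (A.t₀_comm g (A.G_le g.2) h)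

include A B in
theorem neg_of_notMem {g : M.G} (h : g * tt A = tt A * g) (hn : g ∉ MM M) : (g : W ≃ₗ[ℚ] W) M.d₀ = - M.d₀ := by
  rcases pm_of_comm A B h with h1 | h1
  · exact absurd h1 hn
  · exact h1

include B in
theorem M_norm : ∀ g ∈ (⊤ : Subgroup M.G), g * tt A = tt A * g → ∀ m ∈ MM M, g * m * g⁻¹ ∈ MM M := by
  intro g _ h m hm
  have hm' : (m : W ≃ₗ[ℚ] W) M.d₀ = M.d₀ := hm
  show ((g * m * g⁻¹ : M.G) : W ≃ₗ[ℚ] W) M.d₀ = M.d₀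
  rw [Subgroup.coe_mul, Subgroup.coe_mul, Subgroup.coe_inv, LinearEquiv.mul_apply, LinearEquiv.mul_apply]
  rcases pm_of_comm A B h with h1 | h1
  · have h2 : (g : W ≃ₗ[ℚ] W)⁻¹ M.d₀ = M.d₀ := by conv_lhs => rw [← h1, inv_apply_self']
    rw [h2, hm', h1]
  · have h2 : (g : W ≃ₗ[ℚ] W)⁻¹ M.d₀ = - M.d₀ := by
      have : (g : W ≃ₗ[ℚ] W)⁻¹ (- M.d₀) = M.d₀ := by conv_lhs => rw [← h1, inv_apply_self']
      rw [map_neg] at this
      exact neg_eq_iff_eq_neg.1 this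
    rw [h2, map_neg, hm', map_neg, h1, neg_neg]

include B in
theorem M_index : ∀ g ∈ (⊤ : Subgroup M.G), ∀ h ∈ (⊤ : Subgroup M.G), g * tt A = tt A * g → h * tt A = tt A * h →
    g ∉ MM M → h ∉ MM M → g * h ∈ MM M := by
  intro g _ h _ hg hh hgn hhn
  show ((g * h : M.G) : W ≃ₗ[ℚ] W) M.d₀ = M.d₀
  rw [Subgroup.coe_mul, LinearEquiv.mul_apply, neg_of_notMem A B hh hhn, map_neg, neg_of_notMem A B hg hgn, neg_neg]

include B in
/-- F2: `z` is not a transposition -/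
theorem z_notin : zz A ∉ cls (⊤ : Subgroup M.G) (tt A) := by
  rintro ⟨g, -, h⟩
  have := A.finite_G
  have h1 : Nat.card (Subgroup.centralizer ({tt A} : Set M.G)) = Nat.card (Subgroup.centralizer ({zz A} : Set M.G)) := by
    rw [← h]
    refine Nat.card_congr ⟨fun x => ⟨g * x * g⁻¹, ?_⟩, fun x => ⟨g⁻¹ * x * g, ?_⟩, fun x => ?_, fun x => ?_⟩
    · have hx := Subgroup.mem_centralizer_singleton_iff.1 x.2
      rw [Subgroup.mem_centralizer_singleton_iff]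
      calc g * ↑x * g⁻¹ * (g * tt A * g⁻¹) = g * (↑x * tt A) * g⁻¹ := by group
        _ = g * (tt A * ↑x) * g⁻¹ := by rw [hx]
        _ = g * tt A * g⁻¹ * (g * ↑x * g⁻¹) := by group
    · have hx := Subgroup.mem_centralizer_singleton_iff.1 x.2
      rw [Subgroup.mem_centralizer_singleton_iff]
      calc g⁻¹ * ↑x * g * tt A = g⁻¹ * (↑x * (g * tt A * g⁻¹)) * g := by group
        _ = g⁻¹ * (g * tt A * g⁻¹ * ↑x) * g := by rw [hx]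
        _ = tt A * (g⁻¹ * ↑x * g) := by group
    · exact Subtype.ext (by simp only []; group)
    · exact Subtype.ext (by simp only []; group)
  have h2 : Nat.card (Subgroup.centralizer ({zz A} : Set M.G)) = Nat.card M.C := by
    refine Nat.card_congr ⟨fun x => ⟨x.1.1, mem_C_of A (Subgroup.mem_centralizer_singleton_iff.1 x.2)⟩,
      fun x => ⟨⟨x.1, A.C_le_G x.2⟩, Subgroup.mem_centralizer_singleton_iff.2 (Subtype.ext (A.grp.z_comm x x.2))⟩,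
      fun x => rfl, fun x => rfl⟩
  have h3 : Nat.card (Subgroup.centralizer ({tt A} : Set M.G)) = 306129918735099415756800 := A.card_cent B
  rw [h3, h2, A.grp.card_C] at h1
  norm_num at h1

/-- F4 -/
theorem sgn : ∀ g ∈ (⊤ : Subgroup M.G), g * tt A = tt A * g → g * zz A = zz A * g → ∀ q ∈ PP M,
    q * tt A * q⁻¹ = tt A * zz A → (g ∈ MM M ↔ q⁻¹ * g * q ∈ MM M) := by
  intro g _ hg hz q hq hqt
  have hgC := mem_C_of A hz
  have hqC := A.grp.Q_le (mem_PP.1 hq)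
  have hq' : (q : W ≃ₗ[ℚ] W) M.e₀ = - M.e₀ := by
    refine A.rep.Q_e₀_neg q (mem_PP.1 hq) fun h => ?_
    have h1 : q * tt A = tt A * q := Subtype.ext h
    rw [h1, mul_inv_cancel_right] at hqt
    exact z_ne A (by rw [left_eq_mul] at hqt; exact hqt)
  have hqd : (q : W ≃ₗ[ℚ] W) M.d₀ = M.d₁ := by
    show (q : W ≃ₗ[ℚ] W) (M.u₀ + M.e₀) = M.u₀ - M.e₀
    rw [map_add, A.rep.Q_u₀ _ (mem_PP.1 hq), hq', sub_eq_add_neg]
  have hinv : q⁻¹ * g * q ∈ MM M ↔ (g : W ≃ₗ[ℚ] W) M.d₁ = M.d₁ := by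
    show ((q⁻¹ * g * q : M.G) : W ≃ₗ[ℚ] W) M.d₀ = M.d₀ ↔ _
    rw [Subgroup.coe_mul, Subgroup.coe_mul, Subgroup.coe_inv, LinearEquiv.mul_apply, LinearEquiv.mul_apply, hqd]
    constructor
    · intro h
      have := congrArg (q : W ≃ₗ[ℚ] W) h
      rwa [apply_inv_self', hqd] at this
    · intro h
      rw [h, ← hqd, inv_apply_self']
  rw [hinv, mem_MM]
  have hu := A.C_U g hgC _ A.u₀_mem
  have he := A.C_E g hgC _ A.e₀_mem
  unfold BData.d₀ BData.d₁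
  constructor
  · intro h
    rw [map_add] at h
    obtain ⟨h1, h2⟩ := A.parts hu A.u₀_mem he A.e₀_mem h
    rw [map_sub, h1, h2]
  · intro h
    rw [map_sub, sub_eq_add_neg, sub_eq_add_neg] at h
    obtain ⟨h1, h2⟩ := A.parts hu A.u₀_mem (M.E.neg_mem he) (M.E.neg_mem A.e₀_mem) h
    rw [map_add, h1, neg_inj.1 h2]

/-! ### Pairs of axes -/

/-- the transposition of an axis -/
theorem conj_axis {g h : M.G} (e : (g : W ≃ₗ[ℚ] W) M.d₀ = (h : W ≃ₗ[ℚ] W) M.d₀ ∨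
    (g : W ≃ₗ[ℚ] W) M.d₀ = - (h : W ≃ₗ[ℚ] W) M.d₀) : g * tt A * g⁻¹ = h * tt A * h⁻¹ := by
  have := A.conj_t 1 g h M.Γ.one_mem (A.G_le g.2) (A.G_le h.2) e
  rw [one_mul, inv_one, mul_one] at this
  exact Subtype.ext this

include B in
/-- the axis of a transposition is unique up to sign -/
theorem axis_of {g h : M.G} (e : g * tt A * g⁻¹ = h * tt A * h⁻¹) :
    (g : W ≃ₗ[ℚ] W) M.d₀ = (h : W ≃ₗ[ℚ] W) M.d₀ ∨ (g : W ≃ₗ[ℚ] W) M.d₀ = - (h : W ≃ₗ[ℚ] W) M.d₀ := by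
  have h1 : (h⁻¹ * g) * tt A = tt A * (h⁻¹ * g) := by
    calc (h⁻¹ * g) * tt A = h⁻¹ * (g * tt A * g⁻¹) * g := by group
      _ = h⁻¹ * (h * tt A * h⁻¹) * g := by rw [e]
      _ = tt A * (h⁻¹ * g) := by group
  rcases pm_of_comm A B h1 with h2 | h2
  · left
    have := congrArg (h : W ≃ₗ[ℚ] W) h2
    rwa [Subgroup.coe_mul, Subgroup.coe_inv, LinearEquiv.mul_apply, apply_inv_self'] at this
  · right
    have := congrArg (h : W ≃ₗ[ℚ] W) h2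
    rwa [Subgroup.coe_mul, Subgroup.coe_inv, LinearEquiv.mul_apply, apply_inv_self', map_neg] at this

end

/-- The five relations of a pair of transpositions. -/
theorem std (P : Pairs M) (h : M.G) :
    h * tt A * h⁻¹ = tt A ∨
    (M.F ((h : W ≃ₗ[ℚ] W) M.d₀) M.d₀ = 1 ∨ M.F ((h : W ≃ₗ[ℚ] W) M.d₀) M.d₀ = -1) ∨
    ((h * tt A * h⁻¹ : M.G) : W ≃ₗ[ℚ] W) M.d₀ = - M.d₀ ∨
    (h * tt A * h⁻¹ ∉ MM M ∧ ((h * tt A * h⁻¹ * tt A) ^ 3 = 1 ∨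
      M.t₀ (((h * tt A * h⁻¹ : M.G) : W ≃ₗ[ℚ] W) M.d₀) = ((h * tt A * h⁻¹ : M.G) : W ≃ₗ[ℚ] W) M.d₀)) := by
  obtain ⟨j, c, hc, e⟩ := apply_mem A (M.G.inv_mem h.2) A.d₀_mem
  obtain ⟨g, hg, hgd, hp⟩ := P.pair j
  have hp := hp c⁻¹ (M.C.inv_mem hc)
  rw [inv_inv] at hp
  -- `k d_j = d₀`
  let k : W ≃ₗ[ℚ] W := (h : W ≃ₗ[ℚ] W) * c
  have hk : k ∈ M.G := M.G.mul_mem h.2 (A.C_le_G hc)
  have hkd : k (M.d j) = M.d₀ := by
    show (h : W ≃ₗ[ℚ] W) (c (M.d j)) = M.d₀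
    rw [← e, apply_inv_self']
  have hkd' : k⁻¹ M.d₀ = M.d j := by rw [← hkd, inv_apply_self']
  have es : ((h * tt A * h⁻¹ : M.G) : W ≃ₗ[ℚ] W) = k * (c⁻¹ * M.t₀ * c) * k⁻¹ := by
    show (h : W ≃ₗ[ℚ] W) * M.t₀ * (h : W ≃ₗ[ℚ] W)⁻¹ = (h : W ≃ₗ[ℚ] W) * c * (c⁻¹ * M.t₀ * c) * ((h : W ≃ₗ[ℚ] W) * c)⁻¹
    group
  have et : M.t₀ = k * (g * M.t₀ * g⁻¹) * k⁻¹ := by
    have := A.conj_t k g 1 (A.G_le hk) (A.G_le hg) M.Γ.one_mem (Or.inl (by rw [hgd, hkd]; rfl))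
    rw [one_mul, inv_one, mul_one] at this
    exact this.symm
  have esd : ((h * tt A * h⁻¹ : M.G) : W ≃ₗ[ℚ] W) M.d₀ = k ((c⁻¹ * M.t₀ * c) (M.d j)) := by
    rw [es, LinearEquiv.mul_apply, LinearEquiv.mul_apply, hkd']
  rcases hp with h1 | h1 | h1 | ⟨h0, h1⟩
  · left
    refine Subtype.ext ?_
    rw [es, h1, ← et]
    rfl
  · right; left
    have ex : (h : W ≃ₗ[ℚ] W) M.d₀ = k (c⁻¹ M.d₀) := by
      show (h : W ≃ₗ[ℚ] W) M.d₀ = (h : W ≃ₗ[ℚ] W) (c (c⁻¹ M.d₀))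
      rw [apply_inv_self']
    have : M.F ((h : W ≃ₗ[ℚ] W) M.d₀) M.d₀ = M.F (c⁻¹ M.d₀) (M.d j) := by
      rw [ex]
      have h2 := F_inv A hk (c⁻¹ M.d₀) (M.d j)
      rwa [hkd] at h2
    rw [this]
    exact h1
  · right; right; left
    rw [esd, h1, map_neg, hkd]
  · right; right; right
    refine ⟨fun hM => h0 ?_, ?_⟩
    · have hM' : ((h * tt A * h⁻¹ : M.G) : W ≃ₗ[ℚ] W) M.d₀ = M.d₀ := hM
      rw [esd] at hM'
      conv_rhs at hM' => rw [← hkd]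
      exact k.injective hM'
    · rcases h1 with h1 | h1
      · left
        refine Subtype.ext ?_
        have e3 : ((h * tt A * h⁻¹ * tt A : M.G) : W ≃ₗ[ℚ] W) =
            k * ((c⁻¹ * M.t₀ * c) * (g * M.t₀ * g⁻¹)) * k⁻¹ := by
          calc ((h * tt A * h⁻¹ * tt A : M.G) : W ≃ₗ[ℚ] W) =
            ((h * tt A * h⁻¹ : M.G) : W ≃ₗ[ℚ] W) * M.t₀ := rfl
            _ = k * (c⁻¹ * M.t₀ * c) * k⁻¹ * M.t₀ := by rw [es]
            _ = k * (c⁻¹ * M.t₀ * c) * k⁻¹ * (k * (g * M.t₀ * g⁻¹) * k⁻¹) :=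
              congrArg (fun x => k * (c⁻¹ * M.t₀ * c) * k⁻¹ * x) et
            _ = k * ((c⁻¹ * M.t₀ * c) * (g * M.t₀ * g⁻¹)) * k⁻¹ := by group
        rw [Subgroup.coe_pow, e3, conj_pow, h1, mul_one, mul_inv_cancel]
        rfl
      · right
        rw [esd]
        have h2 := congrArg (fun f : W ≃ₗ[ℚ] W => f (k ((c⁻¹ * M.t₀ * c) (M.d j)))) et
        have h3 : (k * (g * M.t₀ * g⁻¹) * k⁻¹) (k ((c⁻¹ * M.t₀ * c) (M.d j))) = k ((c⁻¹ * M.t₀ * c) (M.d j)) := by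
          rw [LinearEquiv.mul_apply (k * (g * M.t₀ * g⁻¹)), LinearEquiv.mul_apply k, inv_apply_self', h1]
        exact h2.trans h3

theorem adj_of (h : M.G) (hF : M.F ((h : W ≃ₗ[ℚ] W) M.d₀) M.d₀ = 1 ∨ M.F ((h : W ≃ₗ[ℚ] W) M.d₀) M.d₀ = -1) :
    ∃ g : M.G, (g : W ≃ₗ[ℚ] W) M.d₀ = M.d₀ ∧ g * (tt A * zz A) * g⁻¹ = h * tt A * h⁻¹ := by
  obtain ⟨q₀, hq₀, hq₀d, hq₀t⟩ := A.d₁_mem'
  have key : ∀ b, b ∈ M.R → (b = (h : W ≃ₗ[ℚ] W) M.d₀ ∨ b = - (h : W ≃ₗ[ℚ] W) M.d₀) →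
      ∃ g : M.G, (g : W ≃ₗ[ℚ] W) M.d₀ = M.d₀ ∧ g * (tt A * zz A) * g⁻¹ = h * tt A * h⁻¹ := by
    intro b hb hbh
    obtain ⟨g, hg, h1, h2⟩ := A.trans_R b hb
    let q : M.G := ⟨q₀, A.C_le_G (A.grp.Q_le hq₀)⟩
    have hq : tt A * zz A = q * tt A * q⁻¹ := Subtype.ext (A.q₀_conj hq₀ hq₀t).symm
    refine ⟨⟨g, hg⟩, h1, ?_⟩
    have h3 := conj_axis A (g := ⟨g, hg⟩ * q) (h := h) (by
      have : (((⟨g, hg⟩ * q : M.G)) : W ≃ₗ[ℚ] W) M.d₀ = b := by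
        show g (q₀ M.d₀) = b
        rw [hq₀d, h2]
      rw [this]
      exact hbh)
    rw [hq, ← h3]
    group
  rcases hF with hF | hF
  · refine key (- (h : W ≃ₗ[ℚ] W) M.d₀) ⟨A.neg_D _ (apply_mem A h.2 A.d₀_mem), ?_⟩ (Or.inr rfl)
    rw [map_neg, LinearMap.neg_apply, hF]
  · exact key ((h : W ≃ₗ[ℚ] W) M.d₀) ⟨apply_mem A h.2 A.d₀_mem, hF⟩ (Or.inl rfl)

/-- F3 -/
theorem adj (P : Pairs M) : ∀ s ∈ cls (⊤ : Subgroup M.G) (tt A), s ∈ MM M → s ≠ tt A →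
    ∃ h ∈ (⊤ : Subgroup M.G), h * tt A = tt A * h ∧ h * (tt A * zz A) * h⁻¹ = s := by
  rintro s ⟨h, -, rfl⟩ hs hst
  rcases std A P h with h1 | h1 | h1 | ⟨h0, -⟩
  · exact absurd h1 hst
  · obtain ⟨g, hg, e⟩ := adj_of A h h1
    exact ⟨g, Subgroup.mem_top _, comm_of_pm A (Or.inl hg), e⟩
  · have hs' : ((h * tt A * h⁻¹ : M.G) : W ≃ₗ[ℚ] W) M.d₀ = M.d₀ := hs
    rw [h1] at hs'
    exact absurd hs'.symm (ne_neg A A.d₀_mem)
  · exact absurd hs h0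

theorem eq_of_pow {G : Type*} [Group G] {s t : G} (hs : s * s = 1) (ht : t * t = 1) (h3 : (s * t) ^ 3 = 1)
    (h : s * t * s * t = t * (s * t * s)) : s = t := by
  have hs' : s⁻¹ = s := inv_eq_of_mul_eq_one_left hs
  have ht' : t⁻¹ = t := inv_eq_of_mul_eq_one_left ht
  have h4 : (s * t) * (s * t) = ((s * t) * (s * t))⁻¹ := by
    rw [mul_inv_rev, mul_inv_rev, hs', ht']
    calc s * t * (s * t) = s * t * s * t := by group
      _ = t * (s * t * s) := h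
      _ = t * s * (t * s) := by group
  have h5 : (s * t) * (s * t) * ((s * t) * (s * t)) = 1 := by
    nth_rewrite 1 [h4]
    exact inv_mul_cancel _
  have h6 : s * t = 1 := by
    calc s * t = (s * t) ^ 3 * (s * t) := by rw [h3, one_mul]
      _ = (s * t) * (s * t) * ((s * t) * (s * t)) := by simp only [pow_succ, pow_zero, one_mul, mul_assoc]
      _ = 1 := h5
  rw [eq_inv_of_mul_eq_one_left h6, ht']

theorem cls_sq {s : M.G} (hs : s ∈ cls (⊤ : Subgroup M.G) (tt A)) : s * s = 1 :=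
  cl_sq (t_sq A) (cls_sub _ _ hs)

/-- F9 -/
theorem fourB (P : Pairs M) : ∀ s ∈ cls (⊤ : Subgroup M.G) (tt A), (s * tt A * s) * tt A = tt A * (s * tt A * s) →
    s * tt A * s ≠ tt A → s * tt A * s ∈ MM M := by
  intro s hs hc hne
  have hss := cls_sq A hs
  have hcomm : s * tt A = tt A * s → False := fun h => hne (by rw [h, mul_assoc, hss, mul_one])
  obtain ⟨h, -, e⟩ := hs
  rcases std A P h with h1 | h1 | h1 | ⟨-, h1 | h1⟩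
  · rw [e] at h1
    exact absurd (by rw [h1]) hcomm
  · obtain ⟨g, hg, e'⟩ := adj_of A h h1
    rw [e] at e'
    refine absurd ?_ hcomm
    have hgt := comm_of_pm A (g := g) (Or.inl hg)
    have hgt' : g⁻¹ * tt A = tt A * g⁻¹ := by
      calc g⁻¹ * tt A = g⁻¹ * (tt A * g) * g⁻¹ := by group
        _ = g⁻¹ * (g * tt A) * g⁻¹ := by rw [hgt]
        _ = tt A * g⁻¹ := by group
    have hzt : zz A * tt A = tt A * zz A := (zc A _ (tP A)).symm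
    rw [← e']
    calc g * (tt A * zz A) * g⁻¹ * tt A = g * (tt A * (zz A * (g⁻¹ * tt A))) := by group
      _ = g * (tt A * ((zz A * tt A) * g⁻¹)) := by rw [hgt']; group
      _ = (g * tt A) * (tt A * zz A) * g⁻¹ := by rw [hzt]; group
      _ = tt A * (g * (tt A * zz A) * g⁻¹) := by rw [hgt]; group
  · rw [e] at h1
    exact absurd (comm_of_pm A (Or.inr h1)) hcomm
  · rw [e] at h1
    exact absurd (by rw [eq_of_pow hss (t_sq A) h1 hc]) hcomm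
  · rw [e] at h1
    show ((s * tt A * s : M.G) : W ≃ₗ[ℚ] W) M.d₀ = M.d₀
    have h2 : ((s * tt A * s : M.G) : W ≃ₗ[ℚ] W) M.d₀ = (s : W ≃ₗ[ℚ] W) (M.t₀ ((s : W ≃ₗ[ℚ] W) M.d₀)) := rfl
    have h3 : (s : W ≃ₗ[ℚ] W) * (s : W ≃ₗ[ℚ] W) = 1 := congrArg Subtype.val hss
    rw [h2, h1, ← LinearEquiv.mul_apply, h3]
    rfl

section

variable (B : BTrans M)

include B

/-- F10 -/
theorem ord : ∀ s ∈ cls (⊤ : Subgroup M.G) (tt A), ∃ n : ℕ, 0 < n ∧ n ≤ 4 ∧ (s * tt A) ^ n = 1 := by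
  rintro s ⟨h, -, rfl⟩
  obtain ⟨j, c, hc, e⟩ := apply_mem A (M.G.inv_mem h.2) A.d₀_mem
  obtain ⟨g, hg, hgd, hp⟩ := B.order_le j
  obtain ⟨n, hn, hn', h1⟩ := hp c⁻¹ (M.C.inv_mem hc)
  rw [inv_inv] at h1
  refine ⟨n, hn, hn', Subtype.ext ?_⟩
  let k : W ≃ₗ[ℚ] W := (h : W ≃ₗ[ℚ] W) * c
  have hk : k ∈ M.G := M.G.mul_mem h.2 (A.C_le_G hc)
  have hkd : k (M.d j) = M.d₀ := by
    show (h : W ≃ₗ[ℚ] W) (c (M.d j)) = M.d₀
    rw [← e, apply_inv_self']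
  have es : ((h * tt A * h⁻¹ : M.G) : W ≃ₗ[ℚ] W) = k * (c⁻¹ * M.t₀ * c) * k⁻¹ := by
    show (h : W ≃ₗ[ℚ] W) * M.t₀ * (h : W ≃ₗ[ℚ] W)⁻¹ = (h : W ≃ₗ[ℚ] W) * c * (c⁻¹ * M.t₀ * c) * ((h : W ≃ₗ[ℚ] W) * c)⁻¹
    group
  have et : M.t₀ = k * (g * M.t₀ * g⁻¹) * k⁻¹ := by
    have := A.conj_t k g 1 (A.G_le hk) (A.G_le hg) M.Γ.one_mem (Or.inl (by rw [hgd, hkd]; rfl))
    rw [one_mul, inv_one, mul_one] at this
    exact this.symm
  have e3 : ((h * tt A * h⁻¹ * tt A : M.G) : W ≃ₗ[ℚ] W) = k * ((c⁻¹ * M.t₀ * c) * (g * M.t₀ * g⁻¹)) * k⁻¹ := by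
    calc ((h * tt A * h⁻¹ * tt A : M.G) : W ≃ₗ[ℚ] W) =
      ((h * tt A * h⁻¹ : M.G) : W ≃ₗ[ℚ] W) * M.t₀ := rfl
      _ = k * (c⁻¹ * M.t₀ * c) * k⁻¹ * M.t₀ := by rw [es]
      _ = k * (c⁻¹ * M.t₀ * c) * k⁻¹ * (k * (g * M.t₀ * g⁻¹) * k⁻¹) :=
        congrArg (fun x => k * (c⁻¹ * M.t₀ * c) * k⁻¹ * x) et
      _ = k * ((c⁻¹ * M.t₀ * c) * (g * M.t₀ * g⁻¹)) * k⁻¹ := by group
  rw [Subgroup.coe_pow, e3, conj_pow, h1, mul_one, mul_inv_cancel]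
  rfl

/-- F6 -/
theorem zM (P : Pairs M) : ∀ h ∈ (⊤ : Subgroup M.G), (h * tt A * h⁻¹) * zz A = zz A * (h * tt A * h⁻¹) →
    h⁻¹ * zz A * h ∈ MM M := by
  intro h _ hc
  have h1 : (h⁻¹ * zz A * h) * tt A = tt A * (h⁻¹ * zz A * h) := by
    calc (h⁻¹ * zz A * h) * tt A = h⁻¹ * (zz A * (h * tt A * h⁻¹)) * h := by group
      _ = h⁻¹ * ((h * tt A * h⁻¹) * zz A) * h := by rw [hc]
      _ = tt A * (h⁻¹ * zz A * h) := by group
  rcases pm_of_comm A B h1 with h2 | h2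
  · exact h2
  · exfalso
    obtain ⟨j, c, hc, e⟩ := apply_mem A h.2 A.d₀_mem
    have h3 : M.z ((h : W ≃ₗ[ℚ] W) M.d₀) = - (h : W ≃ₗ[ℚ] W) M.d₀ := by
      have := congrArg (h : W ≃ₗ[ℚ] W) h2
      rw [map_neg] at this
      rw [← this]
      show M.z ((h : W ≃ₗ[ℚ] W) M.d₀) = (h : W ≃ₗ[ℚ] W) ((h : W ≃ₗ[ℚ] W)⁻¹ (M.z ((h : W ≃ₗ[ℚ] W) M.d₀)))
      rw [apply_inv_self']
    have h4 : M.z (M.d j) = - M.d j := by
      have h5 : (c : W ≃ₗ[ℚ] W) (M.z (M.d j)) = M.z (c (M.d j)) := congrArg (fun f : W ≃ₗ[ℚ] W => f (M.d j)) (A.grp.z_comm c hc)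
      rw [e] at h3
      rw [h3, ← map_neg] at h5
      exact c.injective h5
    obtain ⟨b, ⟨k, hk, rfl⟩, hb⟩ := P.nz j
    have h5 : M.z (k M.d₀) = k M.d₀ := by
      show M.z (k (M.u₀ + M.e₀)) = k (M.u₀ + M.e₀)
      rw [map_add, map_add, A.z_U _ (A.C_U k hk _ A.u₀_mem), A.z_E _ (A.C_E k hk _ A.e₀_mem)]
    have h6 := A.rep.C_isom M.z A.grp.z_mem_C (k M.d₀) (M.d j)
    rw [h5, h4, map_neg] at h6
    apply hb
    linarith

/-- F5 -/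
theorem odd (P : Pairs M) : Odd (Nat.card {s : M.G // s ∈ cls (⊤ : Subgroup M.G) (tt A) ∧ s ∈ MM M ∧ s ≠ tt A}) := by
  classical
  have hch : ∀ b : M.R, ∃ h : M.G, (b : W) = (h : W ≃ₗ[ℚ] W) M.d₀ := fun b => by
    obtain ⟨g, hg, e⟩ := (A.D_eq b).1 b.2.1
    exact ⟨⟨g, hg⟩, e⟩
  choose f hf using hch
  have hzd : M.z M.d₀ = M.d₀ := by
    show M.z (M.u₀ + M.e₀) = M.u₀ + M.e₀
    rw [map_add, A.z_U _ A.u₀_mem, A.z_E _ A.e₀_mem]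
  have key : ∀ b : M.R, f b * tt A * (f b)⁻¹ ∈ cls (⊤ : Subgroup M.G) (tt A) ∧ f b * tt A * (f b)⁻¹ ∈ MM M ∧
      f b * tt A * (f b)⁻¹ ≠ tt A := by
    intro b
    refine ⟨⟨f b, Subgroup.mem_top _, rfl⟩, ?_, ?_⟩
    · obtain ⟨g, hg, e⟩ := adj_of A (f b) (Or.inr (by rw [← hf]; exact b.2.2))
      have hgM : g ∈ MM M := hg
      rw [← e]
      exact (MM M).mul_mem ((MM M).mul_mem hgM ((MM M).mul_mem (tM A) hzd)) ((MM M).inv_mem hgM)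
    · intro h
      have h1 := axis_of A B (g := f b) (h := 1) (by rw [h]; group)
      have h2 : M.F ((f b : W ≃ₗ[ℚ] W) M.d₀) M.d₀ = -1 := by rw [← hf]; exact b.2.2
      rcases h1 with h1 | h1
      · have h3 : ((f b : W ≃ₗ[ℚ] W)) M.d₀ = M.d₀ := h1
        rw [h3, A.F_d₀] at h2
        norm_num at h2
      · have h3 : ((f b : W ≃ₗ[ℚ] W)) M.d₀ = - M.d₀ := h1
        rw [h3, map_neg, LinearMap.neg_apply, A.F_d₀] at h2
        norm_num at h2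
  have hcard := Nat.card_congr (Equiv.ofBijective (fun b : M.R => (⟨f b * tt A * (f b)⁻¹, key b⟩ :
    {s : M.G // s ∈ cls (⊤ : Subgroup M.G) (tt A) ∧ s ∈ MM M ∧ s ≠ tt A})) ⟨?_, ?_⟩)
  · rw [← hcard, A.card_R]
    decide
  · intro b b' h
    have h1 := axis_of A B (congrArg Subtype.val h)
    rw [← hf, ← hf] at h1
    rcases h1 with h1 | h1
    · exact Subtype.ext h1
    · exfalso
      have h2 := b.2.2
      rw [h1, map_neg, LinearMap.neg_apply, b'.2.2] at h2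
      norm_num at h2
  · rintro ⟨s, ⟨h, -, rfl⟩, hs, hst⟩
    have hF : M.F ((h : W ≃ₗ[ℚ] W) M.d₀) M.d₀ = 1 ∨ M.F ((h : W ≃ₗ[ℚ] W) M.d₀) M.d₀ = -1 := by
      rcases std A P h with h1 | h1 | h1 | ⟨h0, -⟩
      · exact absurd h1 hst
      · exact h1
      · have hs' : ((h * tt A * h⁻¹ : M.G) : W ≃ₗ[ℚ] W) M.d₀ = M.d₀ := hs
        rw [h1] at hs'
        exact absurd hs'.symm (ne_neg A A.d₀_mem)
      · exact absurd hs h0
    rcases hF with hF | hF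
    · refine ⟨⟨- (h : W ≃ₗ[ℚ] W) M.d₀, A.neg_D _ (apply_mem A h.2 A.d₀_mem), by
        rw [map_neg, LinearMap.neg_apply, hF]⟩, Subtype.ext ?_⟩
      refine conj_axis A (Or.inr ?_)
      rw [← hf]
    · refine ⟨⟨(h : W ≃ₗ[ℚ] W) M.d₀, apply_mem A h.2 A.d₀_mem, hF⟩, Subtype.ext ?_⟩
      refine conj_axis A (Or.inl ?_)
      rw [← hf]

end

include A in
/-- the transpositions of `Q` commuting with `t₀` -/
theorem comm_of_neg_one {k : W ≃ₗ[ℚ] W} (hk : k ∈ M.C) (h : M.F (k M.u₀) M.u₀ = -1) :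
    (k * M.t₀ * k⁻¹) * M.t₀ = M.t₀ * (k * M.t₀ * k⁻¹) := by
  have hne : ¬ (k M.u₀ = M.u₀ ∨ k M.u₀ = - M.u₀) := by
    rintro (h1 | h1)
    · rw [h1, A.rep.u₀_norm] at h; norm_num at h
    · rw [h1, map_neg, LinearMap.neg_apply, A.rep.u₀_norm] at h; norm_num at h
  have he : ¬ (k M.e₀ = M.e₀ ∨ k M.e₀ = - M.e₀) := fun h1 => hne (A.rep.stab_e₀ k hk h1)
  rw [not_or] at he
  have hF : M.F (k M.d₀) M.d₀ = -1 := by
    show M.F (k (M.u₀ + M.e₀)) (M.u₀ + M.e₀) = -1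
    rw [map_add, map_add, map_add, LinearMap.add_apply, LinearMap.add_apply, h, A.F_e k hk he.1 he.2,
      A.U_E_orth _ (A.C_U k hk _ A.u₀_mem) _ A.e₀_mem, A.E_U_orth _ (A.C_E k hk _ A.e₀_mem) _ A.u₀_mem]
    norm_num
  have h1 := A.orb.t_d M.j₀ k hk (by rw [← A.d₀_eq]; exact hF)
  rw [← A.d₀_eq] at h1
  exact A.t₀_comm _ (A.G_le (M.G.mul_mem (M.G.mul_mem (A.C_le_G hk) (A.C_le_G A.t₀_C)) (M.G.inv_mem (A.C_le_G hk))))
    (Or.inl h1)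

/-- F7 -/
theorem perp (B : BTrans M) : ∀ r ∈ (⊤ : Subgroup M.G), r * zz A = zz A * r → r * tt A = tt A * r →
    (∀ d ∈ cls (⊤ : Subgroup M.G) (tt A), d ∈ PP M → d * tt A = tt A * d → r * d = d * r) → r ∈ PP M := by
  intro r _ hz ht hd
  have hrC := mem_C_of A hz
  -- sign of `r` on `u₀`
  have hu0 : ∃ ε : ℚ, (ε = 1 ∨ ε = -1) ∧ (r : W ≃ₗ[ℚ] W) M.u₀ = ε • M.u₀ := by
    have hu := A.C_U r hrC _ A.u₀_mem
    have he := A.C_E r hrC _ A.e₀_mem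
    rcases pm_of_comm A B ht with h | h
    · refine ⟨1, Or.inl rfl, ?_⟩
      unfold BData.d₀ at h
      rw [map_add] at h
      rw [one_smul]
      exact (A.parts hu A.u₀_mem he A.e₀_mem h).1
    · refine ⟨-1, Or.inr rfl, ?_⟩
      unfold BData.d₀ at h
      rw [map_add, neg_add] at h
      rw [neg_smul, one_smul]
      exact (A.parts hu (M.U.neg_mem A.u₀_mem) he (M.E.neg_mem A.e₀_mem) h).1
  obtain ⟨ε, hε, h0⟩ := hu0
  -- `r` acts by `ε` on the generators of `U`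
  have h1 : ∀ k ∈ M.C, M.F (k M.u₀) M.u₀ = -1 → (r : W ≃ₗ[ℚ] W) (k M.u₀) = ε • k M.u₀ := by
    intro k hk hF
    have hkG := A.C_le_G hk
    let d : M.G := ⟨k, hkG⟩ * tt A * ⟨k, hkG⟩⁻¹
    have hrd : r * d = d * r := hd d ⟨⟨k, hkG⟩, Subgroup.mem_top _, rfl⟩
      (mem_PP.2 (A.grp.Q_normal k hk _ A.rep.t₀_mem)) (Subtype.ext (comm_of_neg_one A hk hF))
    have hrk : (⟨k, hkG⟩⁻¹ * r * ⟨k, hkG⟩ : M.G) * tt A = tt A * (⟨k, hkG⟩⁻¹ * r * ⟨k, hkG⟩) := by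
      calc (⟨k, hkG⟩⁻¹ * r * ⟨k, hkG⟩ : M.G) * tt A = ⟨k, hkG⟩⁻¹ * (r * d) * ⟨k, hkG⟩ := by
            simp only [d]; group
        _ = ⟨k, hkG⟩⁻¹ * (d * r) * ⟨k, hkG⟩ := by rw [hrd]
        _ = tt A * (⟨k, hkG⟩⁻¹ * r * ⟨k, hkG⟩) := by simp only [d]; group
    have hsgn : (r : W ≃ₗ[ℚ] W) (k M.u₀) = k M.u₀ ∨ (r : W ≃ₗ[ℚ] W) (k M.u₀) = - k M.u₀ := by
      have hmem : (r : W ≃ₗ[ℚ] W) * k ∈ M.C := M.C.mul_mem hrC hk
      have hu := A.C_U _ hmem _ A.u₀_mem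
      have he := A.C_E _ hmem _ A.e₀_mem
      have hu' := A.C_U _ hk _ A.u₀_mem
      have he' := A.C_E _ hk _ A.e₀_mem
      have hk1 : ∀ x, k (k⁻¹ ((r : W ≃ₗ[ℚ] W) (k x))) = (r : W ≃ₗ[ℚ] W) (k x) := fun x => apply_inv_self' _ _
      rcases pm_of_comm A B hrk with h | h
      · left
        have h2 := congrArg k h
        have h3 : (r : W ≃ₗ[ℚ] W) (k M.d₀) = k M.d₀ := by rw [← hk1]; exact h2
        unfold BData.d₀ at h3
        rw [map_add, map_add] at h3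
        exact (A.parts hu hu' he he' h3).1
      · right
        have h2 := congrArg k h
        rw [map_neg] at h2
        have h3 : (r : W ≃ₗ[ℚ] W) (k M.d₀) = - k M.d₀ := by rw [← hk1]; exact h2
        unfold BData.d₀ at h3
        rw [map_add, map_add, neg_add] at h3
        exact (A.parts hu (M.U.neg_mem hu') he (M.E.neg_mem he') h3).1
    have hFr := A.rep.C_isom r hrC (k M.u₀) M.u₀
    rw [h0, hF] at hFr
    rcases hsgn with h | h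
    · rw [h, map_smul, hF, smul_eq_mul] at hFr
      have : ε = 1 := by linarith
      rw [h, this, one_smul]
    · rw [h, map_neg, LinearMap.neg_apply, map_smul, hF, smul_eq_mul] at hFr
      have : ε = -1 := by linarith
      rw [h, this, neg_smul, one_smul]
  have h2 : ∀ g ∈ M.C, (r : W ≃ₗ[ℚ] W) (g M.u₀) = ε • g M.u₀ := by
    intro g hg
    have h3 : ∀ x ∈ Submodule.span ℚ {x | ∃ h ∈ M.C, M.F (h M.u₀) M.u₀ = -1 ∧ x = h M.u₀},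
        (r : W ≃ₗ[ℚ] W) x = ε • x := by
      intro x hx
      induction hx using Submodule.span_induction with
      | mem x hx =>
        obtain ⟨k, hk, hF, rfl⟩ := hx
        exact h1 k hk hF
      | zero => rw [map_zero, smul_zero]
      | add x y _ _ hx hy => rw [map_add, hx, hy, smul_add]
      | smul a x _ hx => rw [map_smul, hx, smul_comm]
    exact h3 _ (A.rep.U_span g hg)
  rcases hε with rfl | rfl
  · exact mem_PP.2 (A.rigid₁ r (A.G_le r.2) (congrArg Subtype.val hz) fun g hg => by rw [h2 g hg, one_smul])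
  · exfalso
    have h3 := A.rigid₁ (negE W * r) (M.Γ.mul_mem A.neg_mem (A.G_le r.2)) (by
        have hz' : (r : W ≃ₗ[ℚ] W) * M.z = M.z * r := congrArg Subtype.val hz
        rw [mul_assoc, hz', ← mul_assoc, ← A.negE_comm, mul_assoc]) fun g hg => by
      show - (r : W ≃ₗ[ℚ] W) (g M.u₀) = g M.u₀
      rw [h2 g hg, neg_smul, one_smul, neg_neg]
    apply A.neg_notMem
    have h4 := M.G.mul_mem (A.C_le_G (A.grp.Q_le h3)) (M.G.inv_mem r.2)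
    rwa [mul_inv_cancel_right] at h4

end Cfsg.Agent.BabyU.ClosModel
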