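import Cfsg.Agent.BabyM.ClosUniq
import Cfsg.Agent.BabyM.ClosGen
import Cfsg.Agent.BabyU.ClosModel

/-!
# Closing for the Baby Monster: the fields `uniq`, `rel`, `gen` of `Inner` for the concrete model (helper33)

In the form used by `ClosInnerOf.inner`: `H = ⊤` in `↥M.G`.
-/

set_option autoImplicit false

namespace Cfsg.Agent.BabyU.ClosM2

open Cfsg.Agent.BabyM Cfsg.Agent.BabyM.Model Cfsg.Agent.BabyU.Clos Cfsg.Agent.BabyU.ClosModel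
open Cfsg.Agent.BabyM.KCore Cfsg.Agent.BabyM.Conc Cfsg.Agent.Monster.VecSpace Cfsg.Agent.BabyM.KTabData

section top

variable {G : Type*} [Group G] {G₀ P : Subgroup G} {t z t₁ : G₀}

theorem mem_dd_top {c d : G₀} : d ∈ dd ⊤ (P.subgroupOf G₀) t c ↔ (d : G) ∈ dd G₀ P (t : G) (c : G) := by
  constructor
  · rintro ⟨h1, h2, h3⟩
    exact ⟨ClosUniq.mem_cls_top.1 h1, h2, ClosUniq.mem_cls_top.1 h3⟩
  · rintro ⟨h1, h2, h3⟩
    exact ⟨ClosUniq.mem_cls_top.2 h1, h2, ClosUniq.mem_cls_top.2 h3⟩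

theorem coe_four {c a : G₀} (h : a ∈ four z c) : (a : G) ∈ four (z : G) (c : G) := by
  rcases h with rfl | rfl | rfl | rfl
  · exact Or.inl rfl
  · exact Or.inr (Or.inl rfl)
  · exact Or.inr (Or.inr (Or.inl rfl))
  · exact Or.inr (Or.inr (Or.inr rfl))

theorem exists_list {l : List G} (h : ∀ g ∈ l, g ∈ G₀) : ∃ l' : List G₀, l'.map Subtype.val = l := by
  induction l with
  | nil => exact ⟨[], rfl⟩
  | cons a l ih =>
    obtain ⟨l', hl'⟩ := ih fun w hw => h w (by simp [hw])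
    exact ⟨⟨a, h a (by simp)⟩ :: l', by rw [List.map_cons, hl']⟩

/-- `gen` for a group and its subgroup. -/
theorem gen_top (hP : P ≤ G₀)
    (h : ∃ f ∈ dd G₀ P (t : G) (t * t₁), ∃ f' ∈ dd G₀ P (t : G) (t * t₁), (∀ a ∈ four (z : G) (t * t₁), f' ≠ f * a) ∧
      ∀ x : G, (x = 1 ∨ x ∈ dd G₀ P (t : G) (t * t₁)) → ∃ l : List G,
        (∀ h ∈ l, h ∈ G₀ ∧ h * z = z * h ∧ (h * (t * t₁) * h⁻¹ = t * t₁ ∨ h * (t * t₁) * h⁻¹ = t * t₁ * z)) ∧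
        (l.map fun h => h * (f * f' * x) * h⁻¹).prod ∈ cls G₀ (t : G)) :
    ∃ f ∈ dd ⊤ (P.subgroupOf G₀) t (t * t₁), ∃ f' ∈ dd ⊤ (P.subgroupOf G₀) t (t * t₁),
      (∀ a ∈ four z (t * t₁), f' ≠ f * a) ∧
      ∀ x : G₀, (x = 1 ∨ x ∈ dd ⊤ (P.subgroupOf G₀) t (t * t₁)) → ∃ l : List G₀,
        (∀ h ∈ l, h ∈ (⊤ : Subgroup G₀) ∧ h * z = z * h ∧
          (h * (t * t₁) * h⁻¹ = t * t₁ ∨ h * (t * t₁) * h⁻¹ = t * t₁ * z)) ∧
        (l.map fun h => h * (f * f' * x) * h⁻¹).prod ∈ cls ⊤ t := by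
  obtain ⟨f, hf, f', hf', hne, h⟩ := h
  refine ⟨⟨f, hP hf.2.1⟩, mem_dd_top.2 hf, ⟨f', hP hf'.2.1⟩, mem_dd_top.2 hf', ?_, ?_⟩
  · intro a ha e
    exact hne a (coe_four ha) (congrArg Subtype.val e)
  · intro x hx
    obtain ⟨l, h1, h2⟩ := h x (by
      rcases hx with rfl | hx
      · exact Or.inl rfl
      · exact Or.inr (mem_dd_top.1 hx))
    obtain ⟨l', rfl⟩ := exists_list (G₀ := G₀) fun g hg => (h1 g hg).1
    refine ⟨l', ?_, ?_⟩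
    · intro g hg
      obtain ⟨-, h3, h4⟩ := h1 g (List.mem_map_of_mem hg)
      refine ⟨trivial, Subtype.ext h3, ?_⟩
      rcases h4 with h4 | h4
      · exact Or.inl (Subtype.ext h4)
      · exact Or.inr (Subtype.ext h4)
    · refine ClosUniq.mem_cls_top.2 ?_
      rw [List.map_map] at h2
      have e : ((l'.map fun h => h * (⟨f, hP hf.2.1⟩ * ⟨f', hP hf'.2.1⟩ * x) * h⁻¹).prod : G₀).1 =
          (l'.map ((fun h => h * (f * f' * (x : G)) * h⁻¹) ∘ Subtype.val)).prod := by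
        show G₀.subtype _ = _
        rw [map_list_prod, List.map_map]
        rfl
      rw [e]
      exact h2

end top

section

variable {w : Lane U → ℚ} {K₀ : Type} [Group K₀]

/-- **F11** -/
theorem uniq (h : Link KTab.Cd KTab.u w Inst.M Inst.laneB) (A : BAll Inst.M K₀) (B : BTrans Inst.M) :
    ∀ d ∈ cls (⊤ : Subgroup Inst.M.G) (tt A), d ∈ PP Inst.M → ∀ e ∈ cls (⊤ : Subgroup Inst.M.G) (tt A), e ∈ PP Inst.M →
      d * e ≠ e * d → ∀ s ∈ cls (⊤ : Subgroup Inst.M.G) (tt A), s ∈ PP Inst.M →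
      ∀ s' ∈ cls (⊤ : Subgroup Inst.M.G) (tt A), s' ∈ PP Inst.M →
      (s * s' = d * e ∨ s * s' = d * e * zz A) → s = d ∨ s = d * zz A ∨ s = e ∨ s = e * zz A :=
  ClosUniq.uniq_top (t := tt A) (z := zz A) (ClosUniq.uniq h A B)

/-- **F12** -/
theorem rel (h : Link KTab.Cd KTab.u w Inst.M Inst.laneB) (A : BAll Inst.M K₀) (B : BTrans Inst.M) :
    ∃ l : List Inst.M.G, (∀ w ∈ l, w ∈ cls (⊤ : Subgroup Inst.M.G) (tt A) ∧ w ∈ PP Inst.M) ∧ Odd l.length ∧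
      (l.prod = 1 ∨ l.prod = zz A) :=
  ClosUniq.rel_top (t := tt A) (z := zz A) (fun _ hg => A.C_le_G (A.grp.Q_le hg)) (ClosUniq.rel h A B)

/-- The second transposition `R 0x475`. -/
noncomputable def t₁ (h : Link KTab.Cd KTab.u w Inst.M Inst.laneB) (A : BAll Inst.M K₀) : Inst.M.G :=
  ⟨ClosGen.t₁, A.C_le_G (A.grp.Q_le (h.mem_Q.mpr ⟨_, rfl⟩))⟩

/-- **F16** -/
theorem gen (h : Link KTab.Cd KTab.u w Inst.M Inst.laneB) (A : BAll Inst.M K₀) (B : BTrans Inst.M) :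
    ∃ f ∈ dd (⊤ : Subgroup Inst.M.G) (PP Inst.M) (tt A) (tt A * t₁ h A),
      ∃ f' ∈ dd (⊤ : Subgroup Inst.M.G) (PP Inst.M) (tt A) (tt A * t₁ h A),
      (∀ a ∈ four (zz A) (tt A * t₁ h A), f' ≠ f * a) ∧
      ∀ x : Inst.M.G, (x = 1 ∨ x ∈ dd (⊤ : Subgroup Inst.M.G) (PP Inst.M) (tt A) (tt A * t₁ h A)) →
        ∃ l : List Inst.M.G,
        (∀ g ∈ l, g ∈ (⊤ : Subgroup Inst.M.G) ∧ g * zz A = zz A * g ∧
          (g * (tt A * t₁ h A) * g⁻¹ = tt A * t₁ h A ∨ g * (tt A * t₁ h A) * g⁻¹ = tt A * t₁ h A * zz A)) ∧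
        (l.map fun g => g * (f * f' * x) * g⁻¹).prod ∈ cls (⊤ : Subgroup Inst.M.G) (tt A) :=
  gen_top (t := tt A) (z := zz A) (t₁ := t₁ h A) (fun _ hg => A.C_le_G (A.grp.Q_le hg)) (ClosGen.gen h A B)

end

end Cfsg.Agent.BabyU.ClosM2
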