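import Cfsg.Agent.BabyU.ClosLane
import Cfsg.Agent.BabyU.ClosM2

/-!
# Closing for the Baby Monster: F14, F15 in the form of `ClosInnerOf.inner` (helper404)

The fields `t₁D`, `t₁P`, `t₁_comm`, `t₁_ne`, `t₁_ne'`, `trans`, `uniq₂` for `H = ⊤` in `↥M.G`, `t₁ = ClosM2.t₁ h A`.
-/

set_option autoImplicit false

namespace Cfsg.Agent.BabyU.ClosLaneTop

open Cfsg.Agent.BabyM Cfsg.Agent.BabyM.Model Cfsg.Agent.BabyU.Clos Cfsg.Agent.BabyU.ClosModel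
open Cfsg.Agent.BabyM.KCore Cfsg.Agent.BabyM.Conc Cfsg.Agent.Monster.VecSpace Cfsg.Agent.BabyM.KTabData

section top

variable {G : Type*} [Group G] {G₀ P : Subgroup G} {t z t₁ : G₀}

theorem trans_top (hP : P ≤ G₀)
    (h : ∀ d ∈ cls G₀ (t : G), d ∈ P → d * t = t * d → d ≠ t → d ≠ t * z →
      ∃ h ∈ G₀, h * t = t * h ∧ h * z = z * h ∧ (h * d * h⁻¹ = t₁ ∨ h * d * h⁻¹ = t₁ * z)) :
    ∀ d ∈ cls (⊤ : Subgroup G₀) t, d ∈ P.subgroupOf G₀ → d * t = t * d → d ≠ t → d ≠ t * z →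
      ∃ h ∈ (⊤ : Subgroup G₀), h * t = t * h ∧ h * z = z * h ∧ (h * d * h⁻¹ = t₁ ∨ h * d * h⁻¹ = t₁ * z) := by
  intro d hd hdP hc h1 h2
  obtain ⟨g, hg, e1, e2, e3⟩ := h d (ClosUniq.mem_cls_top.1 hd) hdP (congrArg Subtype.val hc)
    (fun e => h1 (Subtype.ext e)) (fun e => h2 (Subtype.ext e))
  refine ⟨⟨g, hg⟩, trivial, Subtype.ext e1, Subtype.ext e2, ?_⟩
  rcases e3 with e3 | e3
  · exact Or.inl (Subtype.ext e3)
  · exact Or.inr (Subtype.ext e3)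

theorem four_top {c : G₀} {a : G} (h : a ∈ four (z : G) (c : G)) : ∃ b ∈ four z c, (b : G) = a := by
  rcases h with rfl | rfl | rfl | rfl
  · exact ⟨1, Or.inl rfl, rfl⟩
  · exact ⟨z, Or.inr (Or.inl rfl), rfl⟩
  · exact ⟨c, Or.inr (Or.inr (Or.inl rfl)), rfl⟩
  · exact ⟨c * z, Or.inr (Or.inr (Or.inr rfl)), rfl⟩

theorem uniq₂_top
    (h : ∀ f ∈ dd G₀ P (t : G) (t * t₁), ∀ f' ∈ dd G₀ P (t : G) (t * t₁), (∀ a ∈ four (z : G) (t * t₁), f' ≠ f * a) →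
      ∀ s ∈ dd G₀ P (t : G) (t * t₁), ∀ s' ∈ dd G₀ P (t : G) (t * t₁), (∃ a ∈ four (z : G) (t * t₁), s * s' = f * f' * a) →
      (∃ a ∈ four (z : G) (t * t₁), s = f * a) ∨ ∃ a ∈ four (z : G) (t * t₁), s = f' * a) :
    ∀ f ∈ dd (⊤ : Subgroup G₀) (P.subgroupOf G₀) t (t * t₁), ∀ f' ∈ dd (⊤ : Subgroup G₀) (P.subgroupOf G₀) t (t * t₁),
      (∀ a ∈ four z (t * t₁), f' ≠ f * a) → ∀ s ∈ dd (⊤ : Subgroup G₀) (P.subgroupOf G₀) t (t * t₁),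
      ∀ s' ∈ dd (⊤ : Subgroup G₀) (P.subgroupOf G₀) t (t * t₁), (∃ a ∈ four z (t * t₁), s * s' = f * f' * a) →
      (∃ a ∈ four z (t * t₁), s = f * a) ∨ ∃ a ∈ four z (t * t₁), s = f' * a := by
  intro f hf f' hf' hne s hs s' hs' hss
  obtain ⟨q, hq, e⟩ := hss
  have conv : ∀ {x y : G₀}, (∃ a ∈ four (z : G) (t * t₁), (x : G) = y * a) → ∃ a ∈ four z (t * t₁), x = y * a := by
    rintro x y ⟨a, ha, e⟩
    obtain ⟨b, hb, rfl⟩ := four_top (c := t * t₁) ha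
    exact ⟨b, hb, Subtype.ext e⟩
  rcases h f (ClosM2.mem_dd_top.1 hf) f' (ClosM2.mem_dd_top.1 hf') (by
      intro a ha e'
      obtain ⟨b, hb, rfl⟩ := four_top (c := t * t₁) ha
      exact hne b hb (Subtype.ext e')) s (ClosM2.mem_dd_top.1 hs) s' (ClosM2.mem_dd_top.1 hs')
      ⟨q, ClosM2.coe_four hq, congrArg Subtype.val e⟩ with h1 | h1
  · exact Or.inl (conv h1)
  · exact Or.inr (conv h1)

end top

section

variable {w : Lane U → ℚ} {K₀ : Type} [Group K₀]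

theorem t₁D (h : Link KTab.Cd KTab.u w Inst.M Inst.laneB) (A : BAll Inst.M K₀) :
    ClosM2.t₁ h A ∈ cls (⊤ : Subgroup Inst.M.G) (tt A) := ClosUniq.mem_cls_top.2 ClosLane.t1_mem

theorem t₁P (h : Link KTab.Cd KTab.u w Inst.M Inst.laneB) (A : BAll Inst.M K₀) : ClosM2.t₁ h A ∈ PP Inst.M :=
  mem_PP.2 ClosLane.t1_Q

theorem t₁_comm (h : Link KTab.Cd KTab.u w Inst.M Inst.laneB) (A : BAll Inst.M K₀) :
    ClosM2.t₁ h A * tt A = tt A * ClosM2.t₁ h A := Subtype.ext ClosLane.t1_comm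

theorem t₁_ne (h : Link KTab.Cd KTab.u w Inst.M Inst.laneB) (A : BAll Inst.M K₀) : ClosM2.t₁ h A ≠ tt A :=
  fun e => ClosLane.t1_ne (congrArg Subtype.val e)

theorem t₁_ne' (h : Link KTab.Cd KTab.u w Inst.M Inst.laneB) (A : BAll Inst.M K₀) : ClosM2.t₁ h A ≠ tt A * zz A :=
  fun e => ClosLane.t1_ne' (congrArg Subtype.val e)

/-- **F14** -/
theorem trans (h : Link KTab.Cd KTab.u w Inst.M Inst.laneB) (A : BAll Inst.M K₀) :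
    ∀ d ∈ cls (⊤ : Subgroup Inst.M.G) (tt A), d ∈ PP Inst.M → d * tt A = tt A * d → d ≠ tt A → d ≠ tt A * zz A →
      ∃ g ∈ (⊤ : Subgroup Inst.M.G), g * tt A = tt A * g ∧ g * zz A = zz A * g ∧
        (g * d * g⁻¹ = ClosM2.t₁ h A ∨ g * d * g⁻¹ = ClosM2.t₁ h A * zz A) :=
  trans_top (t := tt A) (z := zz A) (t₁ := ClosM2.t₁ h A) (fun _ hg => A.C_le_G (A.grp.Q_le hg)) ClosLane.trans

/-- **F15** -/
theorem uniq₂ (h : Link KTab.Cd KTab.u w Inst.M Inst.laneB) (A : BAll Inst.M K₀) :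
    ∀ f ∈ dd (⊤ : Subgroup Inst.M.G) (PP Inst.M) (tt A) (tt A * ClosM2.t₁ h A),
      ∀ f' ∈ dd (⊤ : Subgroup Inst.M.G) (PP Inst.M) (tt A) (tt A * ClosM2.t₁ h A),
      (∀ a ∈ four (zz A) (tt A * ClosM2.t₁ h A), f' ≠ f * a) →
      ∀ s ∈ dd (⊤ : Subgroup Inst.M.G) (PP Inst.M) (tt A) (tt A * ClosM2.t₁ h A),
      ∀ s' ∈ dd (⊤ : Subgroup Inst.M.G) (PP Inst.M) (tt A) (tt A * ClosM2.t₁ h A),
      (∃ a ∈ four (zz A) (tt A * ClosM2.t₁ h A), s * s' = f * f' * a) →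
      (∃ a ∈ four (zz A) (tt A * ClosM2.t₁ h A), s = f * a) ∨
        ∃ a ∈ four (zz A) (tt A * ClosM2.t₁ h A), s = f' * a :=
  uniq₂_top (t := tt A) (z := zz A) (t₁ := ClosM2.t₁ h A) ClosLane.uniq₂

end

end Cfsg.Agent.BabyU.ClosLaneTop
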