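import Cfsg.Agent.BabyU.ClosInnerOf
import Cfsg.Agent.BabyU.ClosLaneTop

/-!
# Closing for the Baby Monster: `Inner` for the concrete model from F8 alone (helper404)
-/

set_option autoImplicit false

namespace Cfsg.Agent.BabyU.ClosInnerAll

open Cfsg.Agent.BabyM Cfsg.Agent.BabyM.Model Cfsg.Agent.BabyU.Clos Cfsg.Agent.BabyU.ClosModel

/-- **`Inner` for the concrete model**; the only remaining hypothesis is `classes` (F8). -/
theorem inner
    (classes : ∀ u ∈ (⊤ : Subgroup Inst.M.G), u * u = 1 → u ≠ 1 →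
      (∃ h ∈ (⊤ : Subgroup Inst.M.G), h⁻¹ * u * h ∈ MM Inst.M) ∨
        ∃ d ∈ cls (⊤ : Subgroup Inst.M.G) (tt Instance.all), u * d = d * u ∧
          u * d ∈ cls (⊤ : Subgroup Inst.M.G) (tt Instance.all)) :
    Inner (⊤ : Subgroup Inst.M.G) (PP Inst.M) (MM Inst.M) (zz Instance.all) (tt Instance.all)
      (ClosM2.t₁ KLink.link Instance.all) :=
  ClosInnerOf.inner Instance.all Instance.tr ClosInnerOf.pairs _ classes
    (ClosM2.uniq KLink.link Instance.all Instance.tr) (ClosM2.rel KLink.link Instance.all Instance.tr)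
    (ClosLaneTop.t₁D KLink.link Instance.all) (ClosLaneTop.t₁P KLink.link Instance.all)
    (ClosLaneTop.t₁_comm KLink.link Instance.all) (ClosLaneTop.t₁_ne KLink.link Instance.all)
    (ClosLaneTop.t₁_ne' KLink.link Instance.all) (ClosLaneTop.trans KLink.link Instance.all)
    (ClosLaneTop.uniq₂ KLink.link Instance.all) (ClosM2.gen KLink.link Instance.all Instance.tr)

end Cfsg.Agent.BabyU.ClosInnerAll
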