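import Cfsg.Agent.BabyU.ClosModelInst
import Cfsg.Agent.BabyM.Instance

/-!
# Closing for the Baby Monster: `Inner` for the concrete model from the remaining facts
-/

set_option autoImplicit false

namespace Cfsg.Agent.BabyU.ClosInnerOf

open Cfsg.Agent.BabyM.Model Cfsg.Agent.BabyU.Clos Cfsg.Agent.BabyU.ClosModel

section abstract

variable {W : Type} [AddCommGroup W] [Module ℚ W] {M : BData W} {K₀ : Type} [Group K₀] (A : BAll M K₀)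
  (B : BTrans M) (P : Pairs M)

include B P in
/-- `Inner` from the fields F8, F11, F12, F14, F15, F16. -/
theorem inner (t₁ : M.G)
    (classes : ∀ u ∈ (⊤ : Subgroup M.G), u * u = 1 → u ≠ 1 →
      (∃ h ∈ (⊤ : Subgroup M.G), h⁻¹ * u * h ∈ MM M) ∨
        ∃ d ∈ cls (⊤ : Subgroup M.G) (tt A), u * d = d * u ∧ u * d ∈ cls (⊤ : Subgroup M.G) (tt A))
    (uniq : ∀ d ∈ cls (⊤ : Subgroup M.G) (tt A), d ∈ PP M → ∀ e ∈ cls (⊤ : Subgroup M.G) (tt A), e ∈ PP M →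
      d * e ≠ e * d → ∀ s ∈ cls (⊤ : Subgroup M.G) (tt A), s ∈ PP M → ∀ s' ∈ cls (⊤ : Subgroup M.G) (tt A), s' ∈ PP M →
      (s * s' = d * e ∨ s * s' = d * e * zz A) → s = d ∨ s = d * zz A ∨ s = e ∨ s = e * zz A)
    (rel : ∃ l : List M.G, (∀ w ∈ l, w ∈ cls (⊤ : Subgroup M.G) (tt A) ∧ w ∈ PP M) ∧ Odd l.length ∧
      (l.prod = 1 ∨ l.prod = zz A))
    (t₁D : t₁ ∈ cls (⊤ : Subgroup M.G) (tt A)) (t₁P : t₁ ∈ PP M) (t₁_comm : t₁ * tt A = tt A * t₁)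
    (t₁_ne : t₁ ≠ tt A) (t₁_ne' : t₁ ≠ tt A * zz A)
    (trans : ∀ d ∈ cls (⊤ : Subgroup M.G) (tt A), d ∈ PP M → d * tt A = tt A * d → d ≠ tt A → d ≠ tt A * zz A →
      ∃ h ∈ (⊤ : Subgroup M.G), h * tt A = tt A * h ∧ h * zz A = zz A * h ∧
        (h * d * h⁻¹ = t₁ ∨ h * d * h⁻¹ = t₁ * zz A))
    (uniq₂ : ∀ f ∈ dd (⊤ : Subgroup M.G) (PP M) (tt A) (tt A * t₁), ∀ f' ∈ dd (⊤ : Subgroup M.G) (PP M) (tt A) (tt A * t₁),
      (∀ a ∈ four (zz A) (tt A * t₁), f' ≠ f * a) → ∀ s ∈ dd (⊤ : Subgroup M.G) (PP M) (tt A) (tt A * t₁),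
      ∀ s' ∈ dd (⊤ : Subgroup M.G) (PP M) (tt A) (tt A * t₁), (∃ a ∈ four (zz A) (tt A * t₁), s * s' = f * f' * a) →
      (∃ a ∈ four (zz A) (tt A * t₁), s = f * a) ∨ ∃ a ∈ four (zz A) (tt A * t₁), s = f' * a)
    (gen : ∃ f ∈ dd (⊤ : Subgroup M.G) (PP M) (tt A) (tt A * t₁), ∃ f' ∈ dd (⊤ : Subgroup M.G) (PP M) (tt A) (tt A * t₁),
      (∀ a ∈ four (zz A) (tt A * t₁), f' ≠ f * a) ∧
      ∀ x : M.G, (x = 1 ∨ x ∈ dd (⊤ : Subgroup M.G) (PP M) (tt A) (tt A * t₁)) → ∃ l : List M.G,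
      (∀ h ∈ l, h ∈ (⊤ : Subgroup M.G) ∧ h * zz A = zz A * h ∧
        (h * (tt A * t₁) * h⁻¹ = tt A * t₁ ∨ h * (tt A * t₁) * h⁻¹ = tt A * t₁ * zz A)) ∧
      (l.map fun h => h * (f * f' * x) * h⁻¹).prod ∈ cls (⊤ : Subgroup M.G) (tt A)) :
    Inner (⊤ : Subgroup M.G) (PP M) (MM M) (zz A) (tt A) t₁ where
  t_sq := t_sq A
  t_ne := t_ne A
  z_sq := z_sq A
  z_ne := z_ne A
  tP := tP A
  zP := zP A
  PH := le_top
  MH := le_top
  two := ClosModel.two A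
  zc := ClosModel.zc A
  P_norm := ClosModel.P_norm A
  P_comm := ClosModel.P_comm A
  fuse := ClosModel.fuse A
  z_notin := ClosModel.z_notin A B
  M_comm := ClosModel.M_comm A
  M_norm := ClosModel.M_norm A B
  M_index := ClosModel.M_index A B
  tM := ClosModel.tM A
  PM := ClosModel.PM A
  adj := ClosModel.adj A P
  sgn := ClosModel.sgn A
  odd := ClosModel.odd A B P
  zM := ClosModel.zM A B P
  perp := ClosModel.perp A B
  classes := classes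
  fourB := ClosModel.fourB A P
  ord := ClosModel.ord A B
  uniq := uniq
  rel := rel
  irr := ClosModel.irr A
  t₁D := t₁D
  t₁P := t₁P
  t₁_comm := t₁_comm
  t₁_ne := t₁_ne
  t₁_ne' := t₁_ne'
  trans := trans
  uniq₂ := uniq₂
  gen := gen

end abstract

/-- the pairs of the concrete model -/
theorem pairs : Pairs Cfsg.Agent.BabyM.Inst.M := ClosModelInst.pairs Cfsg.Agent.BabyM.Instance.all

end Cfsg.Agent.BabyU.ClosInnerOf
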