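import Cfsg.Agent.BabyM.Instance
import Cfsg.Agent.BabyU.ClosFacts
import Cfsg.Agent.BabyU.ClosLaneTab

/-!
# Closing for the Baby Monster: the facts on the lanes (helper404)

The fields `uniq`, `rel`, `t₁D`, `t₁P`, `t₁_comm`, `t₁_ne`, `t₁_ne'`, `trans`, `uniq₂`, `gen` (F11, F12, F14, F15, F16) of
`Clos.Inner` for the concrete model, `H = Inst.M.G`, `P = Inst.M.Q`, `z = Inst.M.z`, `t = Inst.M.t₀`, `t₁ = t1`.
-/

set_option autoImplicit false

namespace Cfsg.Agent.BabyU.ClosLane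

open Cfsg.Agent.Monster Cfsg.Agent.Monster.VecEngine Cfsg.Agent.Monster.VecSpace
open Cfsg.Agent.Monster.PauliBasic Cfsg.Agent.Monster.PauliRep Cfsg.Agent.Monster.PauliClif Cfsg.Agent.Monster.PauliBits
open Cfsg.Agent.BabyM Cfsg.Agent.BabyM.QAct Cfsg.Agent.BabyM.Model Cfsg.Agent.BabyM.Conc Cfsg.Agent.BabyM.KTab
open Cfsg.Agent.BabyM.KRow Cfsg.Agent.BabyM.KQ Cfsg.Agent.BabyM.KRowData Cfsg.Agent.BabyM.QIrrInst
open Cfsg.Agent.BabyU.Clos Cfsg.Agent.BabyU.ClosLaneTab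


/-- The elements of the Pauli group over the classes of the lanes. -/
abbrev PP : Set (Pauli 11) := QData.Good.P Cd

theorem A : BAll Inst.M GroupInst.K₀ := Instance.all

theorem mem_Γ {g : V ≃ₗ[ℚ] V} (hg : g ∈ Inst.M.G) : g ∈ Inst.M.Γ := A.G_le hg

theorem t₀_R : Inst.M.t₀ = Cd.R (Cd.c Inst.laneB) := KLink.t₀_eq

theorem base_P : Cd.c Inst.laneB ∈ PP := ⟨Inst.laneB, KLink.i₀_X, rfl⟩

/-! ### The transpositions in `Q` -/

/-- The transpositions in `Q` are conjugate to `t₀` under `C`. -/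
theorem exists_C {d : V ≃ₗ[ℚ] V} (hd : d ∈ cls Inst.M.G Inst.M.t₀) (hQ : d ∈ Inst.M.Q) :
    ∃ h ∈ Inst.M.C, d = h * Inst.M.t₀ * h⁻¹ := by
  obtain ⟨g, hg, rfl⟩ := hd
  obtain ⟨j, h, hh, e⟩ := (A.D_eq (g Inst.M.d₀)).2 ⟨g, hg, rfl⟩
  by_cases hj : j = Inst.M.j₀
  · subst hj
    rw [A.orb.d_j₀] at e
    have h1 := A.conj_t 1 g h (one_mem _) (mem_Γ hg) (A.C_le hh) (Or.inl e)
    refine ⟨h, hh, ?_⟩
    rw [← h1, one_mul, inv_one, mul_one]
  · exfalso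
    obtain ⟨g', hg', e', x, hx, hne⟩ := Instance.tr.moves j hj
    have hhg : h * g' ∈ Inst.M.G := mul_mem (A.C_le_G hh) hg'
    have h1 := A.conj_t 1 g (h * g') (one_mem _) (mem_Γ hg) (mem_Γ hhg) (Or.inl (by
      rw [LinearEquiv.mul_apply, e']; exact e))
    rw [one_mul, inv_one, mul_one] at h1
    rw [h1] at hQ
    have h2 := A.grp.Q_normal' h hh _ hQ
    have h3 : h⁻¹ * (h * g' * Inst.M.t₀ * (h * g')⁻¹) * h = g' * Inst.M.t₀ * g'⁻¹ := by group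
    rw [h3] at h2
    exact hne (A.Q_U _ h2 x hx)

/-- Elements of `C` and the automorphisms of the Pauli group. -/
theorem exists_aut {h : V ≃ₗ[ℚ] V} (hh : h ∈ Inst.M.C) :
    ∃ α : MulAut (Pauli 11), (∀ x, h * Cd.R x * h⁻¹ = Cd.R (α x)) ∧ ∀ x ∈ PP, α x ∈ PP := by
  obtain ⟨α, hα, hX⟩ := KFact.fact h hh
  refine ⟨α, fun x => ?_, QData.Good.mem_P_of_X hX⟩
  rw [hα x, mul_inv_cancel_right]

theorem exists_P {d : V ≃ₗ[ℚ] V} (hd : d ∈ cls Inst.M.G Inst.M.t₀) (hQ : d ∈ Inst.M.Q) : ∃ x ∈ PP, d = Cd.R x := by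
  obtain ⟨h, hh, rfl⟩ := exists_C hd hQ
  obtain ⟨α, hα, hP⟩ := exists_aut hh
  exact ⟨α (Cd.c Inst.laneB), hP _ base_P, by rw [← hα, t₀_R]⟩

theorem R_mem_Q (x : Pauli 11) : Cd.R x ∈ Inst.M.Q := KLink.link.mem_Q.2 ⟨x, rfl⟩

theorem z_R : Inst.M.z = Cd.R (Pauli.z 11) := KLink.link.z_eq

theorem mem_cls {x : Pauli 11} (hx : x ∈ PP) : Cd.R x ∈ cls Inst.M.G Inst.M.t₀ := by
  obtain ⟨g, hg, e⟩ := QIrr.exists_conj KLink.link hx
  rw [← t₀_R] at e
  rcases e with e | e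
  · exact ⟨g, A.C_le_G hg, e⟩
  · obtain ⟨q, hq, -, hq2⟩ := A.exists_q
    refine ⟨g * q, mul_mem (A.C_le_G hg) (A.C_le_G (A.grp.Q_le hq)), ?_⟩
    have h1 : g * q * Inst.M.t₀ * (g * q)⁻¹ = g * (q * Inst.M.t₀) * q⁻¹ * g⁻¹ := by group
    have h2 : g * (Inst.M.t₀ * q * Inst.M.z) * q⁻¹ * g⁻¹ = g * (Inst.M.t₀ * (q * Inst.M.z) * q⁻¹) * g⁻¹ := by group
    have h3 : g * (Inst.M.t₀ * (Inst.M.z * q) * q⁻¹) * g⁻¹ = g * Inst.M.t₀ * g⁻¹ * (g * Inst.M.z * g⁻¹) := by group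
    rw [h1, hq2, h2, A.grp.z_comm q (A.grp.Q_le hq), h3, A.grp.z_comm g hg, mul_inv_cancel_right, e, mul_assoc,
      A.grp.z_sq, mul_one]

/-- The class of a code. -/
noncomputable def v (m : ℕ) : B 11 × B 11 := ab (dec 11 m)

theorem v_xor (x y : ℕ) : v (x ^^^ y) = v x + v y := ab_dec_xor x y

theorem add_self' (a : B 11 × B 11) : a + a = 0 := by
  have h : ∀ b : B 11, b + b = 0 := fun b => by
    funext i
    exact CharTwo.add_self_eq_zero (b i)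
  exact Prod.ext (h _) (h _)

theorem v_inj {x y : ℕ} (hx : x < 2 ^ 22) (hy : y < 2 ^ 22) (h : v x = v y) : x = y := eq_of_ab_dec hx hy h

theorem PP_iff {x : Pauli 11} : x ∈ PP ↔ ∃ i : Lane U, Cd.isX i ∧ ab x = v (cd i.1) := Iff.rfl

theorem v_base : v (cd Inst.laneB.1) = v 0x75 := by
  show v (cd 1281) = v 0x75
  rw [KLink.cd_1281]

/-! ### Action of words -/

/-- `g` maps the class of `m` to the class of `n`. -/
def Act (g : V ≃ₗ[ℚ] V) (m n : ℕ) : Prop := ∀ x, ab x = v m → ∃ y, ab y = v n ∧ g * Cd.R x * g⁻¹ = Cd.R y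

theorem Act.mul {g h : V ≃ₗ[ℚ] V} {l m n : ℕ} (hg : Act g m n) (hh : Act h l m) : Act (g * h) l n := by
  intro x hx
  obtain ⟨y, hy, e1⟩ := hh x hx
  obtain ⟨w, hw, e2⟩ := hg y hy
  refine ⟨w, hw, ?_⟩
  rw [← e2, ← e1]; group

theorem Act.R (y : Pauli 11) (m : ℕ) : Act (Cd.R y) m m := by
  intro x hx
  refine ⟨y * x * y⁻¹, ?_, ?_⟩
  · rw [QData.Good.ab_conj]; exact hx
  · rw [map_mul, map_mul, map_inv]

/-- The kernel check of one step. -/
noncomputable def stepOK (I m n : ℕ) : Bool :=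
  and (Nat.beq (wfold (fun k => 2 ^ k) m pos 0) m) (Nat.beq (Nat.land (wfold (im I) m pos 0) 0x3fffff) n)

theorem v_land (x : ℕ) : v (Nat.land x 0x3fffff) = v x := by
  have h : ∀ k < 22, bit (x &&& 0x3fffff) k = bit x k := by
    intro k hk
    have h2 : (0x3fffff : ℕ) = 2 ^ 22 - 1 := by norm_num
    have h3 : (x &&& 0x3fffff).testBit k = x.testBit k := by
      rw [Nat.testBit_and, h2, Nat.testBit_two_pow_sub_one]
      simp [hk]
    have h4 := bit_eq_one_iff (x &&& 0x3fffff) k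
    have h5 := bit_eq_one_iff x k
    rw [h3, ← h5] at h4
    rcases zmod2_cases (bit (x &&& 0x3fffff) k) with h6 | h6 <;> rcases zmod2_cases (bit x k) with h7 | h7
    · rw [h6, h7]
    · rw [h4.2 h7, h7]
    · rw [h6, h4.1 h6]
    · rw [h6, h7]
  refine Prod.ext ?_ ?_
  · funext i; exact h (11 + i.1) (by have := i.2; omega)
  · funext i; exact h i.1 (by have := i.2; omega)

theorem act_of {l : Ltr} {I m n : ℕ} (hrel : ∀ k < 22, E l * Cd.R (dec 11 (2 ^ k)) = Cd.R (dec 11 (im I k)) * E l)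
    (h : stepOK I m n = true) : Act (E l) m n := by
  obtain ⟨α, hα⟩ := KCore.exists_aut Cd.R Cd.R_injective (E l) closure_gens (by
    rintro x ⟨k, hk, rfl⟩
    exact ⟨_, hrel k hk⟩)
  have hα' : ∀ k < 22, α (dec 11 (2 ^ k)) = dec 11 (im I k) := by
    intro k hk
    apply Cd.R_injective
    exact mul_right_cancel ((hα _).symm.trans (hrel k hk))
  unfold stepOK at h
  rw [Bool.and_eq_true] at h
  have h1 : wfold (fun k => 2 ^ k) m pos 0 = m := Nat.eq_of_beq_eq_true h.1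
  have h2 : Nat.land (wfold (im I) m pos 0) 0x3fffff = n := Nat.eq_of_beq_eq_true h.2
  have h3 := wfold_sound hα' m pos (by decide) 0 0 (by rw [dec_zero, map_one])
  rw [h1] at h3
  intro x hx
  refine ⟨α x, ?_, ?_⟩
  · rw [ab_aut_congr α (show ab x = ab (dec 11 m) from hx), h3, ← h2, v_land]
    rfl
  · rw [hα x, mul_inv_cancel_right]

theorem act_p {m n : ℕ} (h : stepOK I_p m n = true) : Act (E .p) m n := act_of KRelP.rel_p h

theorem act_p8 : Act (E .p8) 0x75 0x14b := by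
  have h : E .p8 = E .p * (E .p * (E .p * (E .p * (E .p * (E .p * (E .p * E .p)))))) := by
    rw [TransInv.pow_eight]; rfl
  rw [h]
  refine Act.mul (m := 0x1) (act_p (by decide +kernel)) ?_
  refine Act.mul (m := 0x20) (act_p (by decide +kernel)) ?_
  refine Act.mul (m := 0x3da) (act_p (by decide +kernel)) ?_
  refine Act.mul (m := 0x8) (act_p (by decide +kernel)) ?_
  refine Act.mul (m := 0x1ed) (act_p (by decide +kernel)) ?_
  refine Act.mul (m := 0x2e3) (act_p (by decide +kernel)) ?_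
  exact Act.mul (m := 0x9f) (act_p (by decide +kernel)) (act_p (by decide +kernel))

theorem act_p6 : Act (E .p6) 0x1f6e6d 0x6f645 := by
  have h : E .p6 = E .p * (E .p * (E .p * (E .p * (E .p * E .p)))) := by
    rw [TransInv.pow_six]; rfl
  rw [h]
  refine Act.mul (m := 0xede82) (act_p (by decide +kernel)) ?_
  refine Act.mul (m := 0x1d3e8e) (act_p (by decide +kernel)) ?_
  refine Act.mul (m := 0x133e69) (act_p (by decide +kernel)) ?_
  refine Act.mul (m := 0xbfe0f) (act_p (by decide +kernel)) ?_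
  exact Act.mul (m := 0x1fff36) (act_p (by decide +kernel)) (act_p (by decide +kernel))

theorem act_rep : Act (W [.p8, .xi, .p6]) 0x75 0x6f645 := by
  rw [ConcGrp.W_three]
  exact Act.mul (Act.mul act_p6 (act_of (m := 0x14b) KRelXi.rel_xi (by decide +kernel))) act_p8

theorem act_y1 : Act (W [.y1]) 0x75 0x475 := by
  rw [W_single]
  exact act_of KRelY1.rel_y1 (by decide +kernel)

/-! ### The orbits of the centraliser of `t₀` -/

theorem R_eq_or {x y : Pauli 11} (h : ab x = ab y) : Cd.R x = Cd.R y ∨ Cd.R x = Cd.R y * Inst.M.z := by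
  rcases (ab_eq_iff x y).1 h with h | h
  · left; rw [h]
  · right; rw [h, z_R, ← map_mul, Pauli.mul_z, ← Pauli.z_mul]

theorem ab_of_R {x y : Pauli 11} (h : Cd.R x = Cd.R y ∨ Cd.R x = Cd.R y * Inst.M.z) : ab x = ab y := by
  apply (ab_eq_iff x y).2
  rcases h with h | h
  · left; exact Cd.R_injective h
  · right
    rw [z_R, ← map_mul, Pauli.mul_z, ← Pauli.z_mul] at h
    exact Cd.R_injective h

theorem ab_base : ab (Cd.c Inst.laneB) = v 0x75 := v_base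

/-- The three classes in `Q` up to `C_C(t₀)`. -/
theorem orb {y : Pauli 11} (hy : y ∈ PP) : ∃ l ∈ Inst.M.C, l * Inst.M.t₀ = Inst.M.t₀ * l ∧ ∃ y', l * Cd.R y * l⁻¹ = Cd.R y' ∧
    (ab y' = v 0x75 ∨ ab y' = v 0x475 ∨ ab y' = v 0x6f645) := by
  obtain ⟨h, hh, e⟩ := exists_C (mem_cls hy) (R_mem_Q y)
  obtain ⟨l, hl, r, hr, hb⟩ := TransFields.cover 0 (h Inst.M.d₀) ⟨h, hh, rfl⟩
  have hlC : l ∈ Inst.M.C := hl.1
  have hld : l Inst.M.d₀ = Inst.M.d₀ := by rw [← TransFields.M_d_zero]; exact TransFields.stab_d hl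
  have hc : l * Inst.M.t₀ = Inst.M.t₀ * l := A.t₀_comm l (A.C_le hlC) (Or.inl hld)
  have h1 : l⁻¹ * (h * Inst.M.t₀ * h⁻¹) * (l⁻¹)⁻¹ = W r.h * Inst.M.t₀ * (W r.h)⁻¹ :=
    A.conj_t l⁻¹ h (W r.h) (A.C_le (Inst.M.C.inv_mem hlC)) (A.C_le hh) (mem_Γ (TransFields.W_mem_MG _)) (by
      rcases hb with hb | hb
      · left; rw [hb, inv_apply_self']
      · right; rw [hb, map_neg, inv_apply_self'])
  rw [← e] at h1
  refine ⟨l⁻¹, Inst.M.C.inv_mem hlC, ?_, ?_⟩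
  · rw [inv_mul_eq_iff_eq_mul, ← mul_assoc, hc, mul_inv_cancel_right]
  rw [h1, t₀_R]
  have key : ∀ {g : V ≃ₗ[ℚ] V} {n : ℕ}, Act g 0x75 n → ∃ y', g * Cd.R (Cd.c Inst.laneB) * g⁻¹ = Cd.R y' ∧ ab y' = v n := by
    intro g n hg
    obtain ⟨y', h2, h3⟩ := hg _ ab_base
    exact ⟨y', h3, h2⟩
  have hr' : r ∈ TransData.T0.reps := hr
  simp only [TransData.T0, List.mem_cons, List.not_mem_nil, or_false] at hr'
  rcases hr' with rfl | rfl | rfl | rfl
  · obtain ⟨y', h2, h3⟩ := key (Act.R 1 0x75)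
    rw [map_one] at h2
    exact ⟨y', h2, Or.inl h3⟩
  · have h4 : Act (W [.X0]) 0x75 0x75 := by
      rw [W_single, E_X0]; exact Act.R _ _
    obtain ⟨y', h2, h3⟩ := key h4
    exact ⟨y', h2, Or.inl h3⟩
  · obtain ⟨y', h2, h3⟩ := key act_y1
    exact ⟨y', h2, Or.inr (Or.inl h3)⟩
  · obtain ⟨y', h2, h3⟩ := key act_rep
    exact ⟨y', h2, Or.inr (Or.inr h3)⟩

/-- Commutation depends on the classes only. -/
theorem comm_congr {x x' y y' : Pauli 11} (hx : ab x = ab x') (hy : ab y = ab y') (h : x * y = y * x) :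
    x' * y' = y' * x' := by
  rw [Pauli.commute_iff] at h ⊢
  have h1 : x.a = x'.a := congrArg Prod.fst hx
  have h2 : x.b = x'.b := congrArg Prod.snd hx
  have h3 : y.a = y'.a := congrArg Prod.fst hy
  have h4 : y.b = y'.b := congrArg Prod.snd hy
  unfold Pauli.form at h ⊢
  rw [← h1, ← h2, ← h3, ← h4]; exact h

theorem not_comm : dec 11 0x6f645 * dec 11 0x75 ≠ dec 11 0x75 * dec 11 0x6f645 := by
  rw [← dec_mulN (by norm_num), ← dec_mulN (by norm_num)]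
  intro h
  have h1 : (dec 11 (mulN 11 0x6f645 0x75)).s = (dec 11 (mulN 11 0x75 0x6f645)).s := by rw [h]
  have h2 : bit (mulN 11 0x6f645 0x75) 22 = bit (mulN 11 0x75 0x6f645) 22 := h1
  revert h2
  decide +kernel

theorem comm_1 : dec 11 0x475 * dec 11 0x75 = dec 11 0x75 * dec 11 0x475 := by
  rw [← dec_mulN (by norm_num), ← dec_mulN (by norm_num)]
  have : mulN 11 0x475 0x75 = mulN 11 0x75 0x475 := by decide +kernel
  rw [this]

/-- The transposition `t₁ = t₀ ^ y₁`. -/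
noncomputable def t1 : V ≃ₗ[ℚ] V := Cd.R (dec 11 0x475)

theorem PP_of {a : ℕ} (h : ∃ i : Lane U, Cd.isX i ∧ cd i.1 = a) {x : Pauli 11} (hx : ab x = v a) : x ∈ PP := by
  obtain ⟨i, hi, rfl⟩ := h
  exact ⟨i, hi, hx⟩

theorem t1_P : dec 11 0x475 ∈ PP := PP_of (a := 0x475) (exists_lane (a := 0x75) (by decide)).2 rfl

/-- field `t₁D` -/
theorem t1_mem : t1 ∈ cls Inst.M.G Inst.M.t₀ := mem_cls t1_P

/-- field `t₁P` -/
theorem t1_Q : t1 ∈ Inst.M.Q := R_mem_Q _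

theorem base_comm {x : Pauli 11} (hx : x * dec 11 0x75 = dec 11 0x75 * x) : Cd.R x * Inst.M.t₀ = Inst.M.t₀ * Cd.R x := by
  rw [t₀_R, ← map_mul, ← map_mul, comm_congr rfl ab_base.symm hx]

/-- field `t₁_comm` -/
theorem t1_comm : t1 * Inst.M.t₀ = Inst.M.t₀ * t1 := base_comm comm_1

theorem t1_ab : ab (dec 11 0x475) ≠ ab (Cd.c Inst.laneB) := by
  rw [ab_base]
  intro h
  exact absurd (v_inj (by norm_num) (by norm_num) h) (by norm_num)

/-- field `t₁_ne` -/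
theorem t1_ne : t1 ≠ Inst.M.t₀ := by
  intro h
  rw [t₀_R] at h
  exact t1_ab (ab_of_R (Or.inl h))

/-- field `t₁_ne'` -/
theorem t1_ne' : t1 ≠ Inst.M.t₀ * Inst.M.z := by
  intro h
  rw [t₀_R] at h
  exact t1_ab (ab_of_R (Or.inr h))

/-- field `trans` (F14) -/
theorem trans : ∀ d ∈ cls Inst.M.G Inst.M.t₀, d ∈ Inst.M.Q → d * Inst.M.t₀ = Inst.M.t₀ * d → d ≠ Inst.M.t₀ → d ≠ Inst.M.t₀ * Inst.M.z →
    ∃ h ∈ Inst.M.G, h * Inst.M.t₀ = Inst.M.t₀ * h ∧ h * Inst.M.z = Inst.M.z * h ∧ (h * d * h⁻¹ = t1 ∨ h * d * h⁻¹ = t1 * Inst.M.z) := by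
  intro d hd hdQ hc h1 h2
  obtain ⟨y, hy, rfl⟩ := exists_P hd hdQ
  obtain ⟨l, hl, hlt, y', e, hcase⟩ := orb hy
  have hz := A.grp.z_comm l hl
  have hconj : Cd.R y = l⁻¹ * Cd.R y' * l := by rw [← e]; group
  have ht : l⁻¹ * Inst.M.t₀ * l = Inst.M.t₀ := by rw [mul_assoc, ← hlt, inv_mul_cancel_left]
  rcases hcase with h | h | h
  · exfalso
    rw [← ab_base] at h
    rcases R_eq_or h with h3 | h3
    · rw [h3, ← t₀_R, ht] at hconj
      exact h1 hconj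
    · rw [h3, ← t₀_R] at hconj
      have h4 : l⁻¹ * (Inst.M.t₀ * Inst.M.z) * l = l⁻¹ * Inst.M.t₀ * l * Inst.M.z := by
        have : l⁻¹ * (Inst.M.t₀ * Inst.M.z) * l = l⁻¹ * Inst.M.t₀ * (Inst.M.z * l) := by group
        rw [this, ← hz]; group
      rw [h4, ht] at hconj
      exact h2 hconj
  · exact ⟨l, A.C_le_G hl, hlt, hz, by rw [e]; exact R_eq_or h⟩
  · exfalso
    have h3 : Cd.R y' * Inst.M.t₀ = Inst.M.t₀ * Cd.R y' := by
      have e1 : Cd.R y' * Inst.M.t₀ = l * Cd.R y * (l⁻¹ * Inst.M.t₀ * l) * l⁻¹ := by rw [← e]; group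
      have e2 : Inst.M.t₀ * Cd.R y' = l * (l⁻¹ * Inst.M.t₀ * l) * Cd.R y * l⁻¹ := by rw [← e]; group
      rw [e1, e2, ht, mul_assoc l, hc, mul_assoc l Inst.M.t₀]
    rw [t₀_R, ← map_mul, ← map_mul] at h3
    exact not_comm (comm_congr h ab_base (Cd.R_injective h3))

/-! ### F11, F12 -/

theorem ab_of_aut (γ : MulAut (Pauli 11)) {x y : Pauli 11} (h : ab (γ x) = ab (γ y)) : ab x = ab y := by
  have h2 := ab_aut_congr γ⁻¹ h
  rwa [MulAut.inv_apply_self, MulAut.inv_apply_self] at h2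

/-- field `uniq` (F11) -/
theorem uniq : ∀ d ∈ cls Inst.M.G Inst.M.t₀, d ∈ Inst.M.Q → ∀ e ∈ cls Inst.M.G Inst.M.t₀, e ∈ Inst.M.Q → d * e ≠ e * d →
    ∀ s ∈ cls Inst.M.G Inst.M.t₀, s ∈ Inst.M.Q → ∀ s' ∈ cls Inst.M.G Inst.M.t₀, s' ∈ Inst.M.Q →
    (s * s' = d * e ∨ s * s' = d * e * Inst.M.z) → s = d ∨ s = d * Inst.M.z ∨ s = e ∨ s = e * Inst.M.z := by
  intro d hd hdQ e he heQ hne s hs hsQ s' hs' hsQ' hss
  obtain ⟨h, hh, e1⟩ := exists_C hd hdQ
  obtain ⟨x, hx, rfl⟩ := exists_P hd hdQ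
  obtain ⟨y, hy, rfl⟩ := exists_P he heQ
  obtain ⟨a, ha, rfl⟩ := exists_P hs hsQ
  obtain ⟨b, hb, rfl⟩ := exists_P hs' hsQ'
  have hab : ab (a * b) = ab (x * y) := by
    rw [← map_mul, ← map_mul] at hss
    exact ab_of_R hss
  obtain ⟨α, hα, hαP⟩ := exists_aut (Inst.M.C.inv_mem hh)
  have hαx : α x = Cd.c Inst.laneB := by
    apply Cd.R_injective
    rw [← hα, e1, ← t₀_R]
    group
  obtain ⟨l, hl, hlt, y', ey, hcase⟩ := orb (hαP y hy)
  obtain ⟨β, hβ, hβP⟩ := exists_aut hl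
  have hβx : β (α x) = Cd.c Inst.laneB := by
    apply Cd.R_injective
    rw [hαx, ← hβ, ← t₀_R, hlt, mul_inv_cancel_right]
  have hβy : β (α y) = y' := by
    apply Cd.R_injective
    rw [← hβ, ey]
  have hnc : ¬ (y' * Cd.c Inst.laneB = Cd.c Inst.laneB * y') := by
    intro hc
    apply hne
    rw [← map_mul, ← map_mul]
    congr 1
    rw [← hβx, ← hβy, ← map_mul, ← map_mul, ← map_mul, ← map_mul] at hc
    exact (α.injective (β.injective hc)).symm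
  rcases hcase with hc | hc | hc
  · exact absurd (comm_congr hc.symm ab_base.symm rfl) hnc
  · exact absurd (comm_congr hc.symm ab_base.symm comm_1) hnc
  · obtain ⟨i, hi, hia⟩ := hβP _ (hαP a ha)
    obtain ⟨k, hk, hkb⟩ := hβP _ (hαP b hb)
    have hia' : ab (β (α a)) = v (cd i.1) := hia
    have hkb' : ab (β (α b)) = v (cd k.1) := hkb
    have h1 : ab (β (α (a * b))) = ab (β (α (x * y))) := ab_aut_congr β (ab_aut_congr α hab)
    rw [map_mul, map_mul, map_mul, map_mul, ab_mul, ab_mul, hia', hkb', hβx, hβy, ab_base, hc] at h1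
    have h2 : v (cd k.1) = v (cd i.1 ^^^ (0x75 ^^^ 0x6f645)) := by
      rw [v_xor, v_xor, ← h1, ← add_assoc, add_self', zero_add]
    have h3 : cd k.1 = cd i.1 ^^^ (0x75 ^^^ 0x6f645) :=
      v_inj (cd_lt _) (Nat.xor_lt_two_pow (cd_lt _) (by decide)) h2
    rcases f11 hi hk h3 with h4 | h4
    · have h5 : ab (β (α a)) = ab (β (α x)) := by rw [hia', h4, hβx, ab_base]
      rcases R_eq_or (ab_of_aut α (ab_of_aut β h5)) with h6 | h6
      · exact Or.inl h6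
      · exact Or.inr (Or.inl h6)
    · have h5 : ab (β (α a)) = ab (β (α y)) := by rw [hia', h4, hβy, hc]
      rcases R_eq_or (ab_of_aut α (ab_of_aut β h5)) with h6 | h6
      · exact Or.inr (Or.inr (Or.inl h6))
      · exact Or.inr (Or.inr (Or.inr h6))

/-- field `rel` (F12) -/
theorem rel : ∃ l : List (V ≃ₗ[ℚ] V), (∀ w ∈ l, w ∈ cls Inst.M.G Inst.M.t₀ ∧ w ∈ Inst.M.Q) ∧ Odd l.length ∧
    (l.prod = 1 ∨ l.prod = Inst.M.z) := by
  obtain ⟨a, b, c, d, e, ha, hb, hc, hd, he, h⟩ := hodd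
  refine ⟨[Cd.R (Cd.c a), Cd.R (Cd.c b), Cd.R (Cd.c c), Cd.R (Cd.c d), Cd.R (Cd.c e)], ?_, ⟨2, rfl⟩, ?_⟩
  · intro w hw
    simp only [List.mem_cons, List.not_mem_nil, or_false] at hw
    rcases hw with rfl | rfl | rfl | rfl | rfl
    · exact ⟨mem_cls ⟨a, ha, rfl⟩, R_mem_Q _⟩
    · exact ⟨mem_cls ⟨b, hb, rfl⟩, R_mem_Q _⟩
    · exact ⟨mem_cls ⟨c, hc, rfl⟩, R_mem_Q _⟩
    · exact ⟨mem_cls ⟨d, hd, rfl⟩, R_mem_Q _⟩
    · exact ⟨mem_cls ⟨e, he, rfl⟩, R_mem_Q _⟩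
  · have h1 : [Cd.R (Cd.c a), Cd.R (Cd.c b), Cd.R (Cd.c c), Cd.R (Cd.c d), Cd.R (Cd.c e)].prod =
        Cd.R (Cd.c a * Cd.c b * Cd.c c * Cd.c d * Cd.c e) := by
      simp only [List.prod_cons, List.prod_nil, map_mul, mul_one, mul_assoc]
    have h2 : ab (Cd.c a * Cd.c b * Cd.c c * Cd.c d * Cd.c e) = ab (1 : Pauli 11) := by
      rw [ab_mul, ab_mul, ab_mul, ab_mul, h, add_self']
      rfl
    rw [h1]
    rcases R_eq_or h2 with h3 | h3
    · left; rw [h3, map_one]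
    · right; rw [h3, map_one, one_mul]

/-! ### F15 -/

/-- `c = t₀ t₁` -/
theorem c_eq : Inst.M.t₀ * t1 = Cd.R (dec 11 0x400) := by
  have h : mulN 11 0x75 0x475 = 0x400 := by decide +kernel
  have h2 : Cd.c Inst.laneB = dec 11 0x75 := by
    show dec 11 (cd 1281) = _
    rw [KLink.cd_1281]
  rw [t₀_R, h2, t1, ← map_mul, ← dec_mulN (by norm_num), h]

/-- `x` has the class of `m` modulo `⟨z, c⟩` -/
def Q2 (x : Pauli 11) (m : ℕ) : Prop := ab x = v m ∨ ab x = v m + v 0x400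

theorem four_of {x y : Pauli 11} (h : ab x = ab y ∨ ab x = ab y + v 0x400) :
    ∃ a ∈ four Inst.M.z (Inst.M.t₀ * t1), Cd.R x = Cd.R y * a := by
  refine ⟨Cd.R (y⁻¹ * x), ?_, by rw [← map_mul, mul_inv_cancel_left]⟩
  have hy : ab (y⁻¹) = ab y := by
    have h1 : ab (y⁻¹ * y) = ab (1 : Pauli 11) := by rw [inv_mul_cancel]
    rw [ab_mul] at h1
    have h2 : ab (1 : Pauli 11) = 0 := rfl
    rw [h2] at h1
    calc ab (y⁻¹) = ab (y⁻¹) + (ab y + ab y) := by rw [add_self', add_zero]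
      _ = ab y := by rw [← add_assoc, h1, zero_add]
  rcases h with h | h
  · have h1 : ab (y⁻¹ * x) = ab (1 : Pauli 11) := by
      rw [ab_mul, hy, h, add_self']; rfl
    rcases R_eq_or h1 with h2 | h2
    · left; rw [h2, map_one]
    · right; left; rw [h2, map_one, one_mul]
  · have h1 : ab (y⁻¹ * x) = ab (dec 11 0x400) := by
      rw [ab_mul, hy, h, ← add_assoc, add_self', zero_add]; rfl
    rw [c_eq]
    rcases R_eq_or h1 with h2 | h2
    · right; right; left; exact h2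
    · right; right; right; rw [h2]

theorem ab_four {x y : Pauli 11} {a : V ≃ₗ[ℚ] V} (ha : a ∈ four Inst.M.z (Inst.M.t₀ * t1)) (h : Cd.R x = Cd.R y * a) :
    ab x = ab y ∨ ab x = ab y + v 0x400 := by
  rw [c_eq] at ha
  rcases ha with rfl | rfl | rfl | rfl
  · left; rw [mul_one] at h; rw [Cd.R_injective h]
  · left; exact ab_of_R (Or.inr h)
  · right
    rw [← map_mul] at h
    rw [Cd.R_injective h, ab_mul]; rfl
  · right
    rw [← mul_assoc, ← map_mul] at h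
    rw [ab_of_R (Or.inr h), ab_mul]; rfl

theorem mem_dd {f : V ≃ₗ[ℚ] V} (hf : f ∈ dd Inst.M.G Inst.M.Q Inst.M.t₀ (Inst.M.t₀ * t1)) :
    ∃ x, f = Cd.R x ∧ ∃ a ∈ VL, Q2 x a := by
  obtain ⟨h1, h2, h3⟩ := hf
  obtain ⟨x, hx, rfl⟩ := exists_P h1 h2
  refine ⟨x, rfl, ?_⟩
  rw [c_eq, ← map_mul] at h3
  obtain ⟨y, hy, e⟩ := exists_P h3 (R_mem_Q _)
  rw [← Cd.R_injective e] at hy
  obtain ⟨i, hi, hix⟩ := hx
  obtain ⟨k, hk, hkx⟩ := hy
  have hix' : ab x = v (cd i.1) := hix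
  have hkx' : ab (x * dec 11 0x400) = v (cd k.1) := hkx
  rw [ab_mul, hix'] at hkx'
  have h4 : v (cd k.1) = v (cd i.1 ^^^ 0x400) := by rw [v_xor, ← hkx']; rfl
  obtain ⟨a, ha, h5⟩ := f15 hi hk (v_inj (cd_lt _) (Nat.xor_lt_two_pow (cd_lt _) (by norm_num)) h4)
  refine ⟨a, ha, ?_⟩
  rcases h5 with h5 | h5
  · left; rw [hix', h5]
  · right; rw [hix', h5, v_xor]

theorem Q2.PP {x : Pauli 11} {a : ℕ} (ha : a ∈ VL) (h : Q2 x a) : x ∈ PP := by
  rcases h with h | h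
  · exact PP_of (exists_lane ha).1 h
  · exact PP_of (exists_lane ha).2 (by rw [h, v_xor])

theorem Q2.dd {x : Pauli 11} {a : ℕ} (ha : a ∈ VL) (h : Q2 x a) : Cd.R x ∈ dd Inst.M.G Inst.M.Q Inst.M.t₀ (Inst.M.t₀ * t1) := by
  refine ⟨mem_cls (h.PP ha), R_mem_Q _, ?_⟩
  rw [c_eq, ← map_mul]
  apply mem_cls
  have h1 : Q2 (x * dec 11 0x400) a := by
    rcases h with h | h
    · right; rw [ab_mul, h]; rfl
    · left
      rw [ab_mul, h, add_assoc]
      show v a + (v 0x400 + v 0x400) = _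
      rw [add_self', add_zero]
  exact h1.PP ha

theorem Q2.mul {x y : Pauli 11} {m n : ℕ} (hx : Q2 x m) (hy : Q2 y n) : Q2 (x * y) (m ^^^ n) := by
  unfold Q2 at *
  rw [ab_mul, v_xor]
  rcases hx with hx | hx <;> rcases hy with hy | hy <;> rw [hx, hy]
  · left; rfl
  · right; abel
  · right; abel
  · left
    have : v m + v 0x400 + (v n + v 0x400) = v m + v n + (v 0x400 + v 0x400) := by abel
    rw [this, add_self', add_zero]

theorem xor_lt_1024 {a b : ℕ} (ha : a ∈ VL) (hb : b ∈ VL) : a ^^^ b < 2 ^ 10 :=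
  Nat.xor_lt_two_pow (VL_lt a ha) (VL_lt b hb)

/-- field `uniq₂` (F15) -/
theorem uniq₂ : ∀ f ∈ dd Inst.M.G Inst.M.Q Inst.M.t₀ (Inst.M.t₀ * t1), ∀ f' ∈ dd Inst.M.G Inst.M.Q Inst.M.t₀ (Inst.M.t₀ * t1),
    (∀ a ∈ four Inst.M.z (Inst.M.t₀ * t1), f' ≠ f * a) →
    ∀ s ∈ dd Inst.M.G Inst.M.Q Inst.M.t₀ (Inst.M.t₀ * t1), ∀ s' ∈ dd Inst.M.G Inst.M.Q Inst.M.t₀ (Inst.M.t₀ * t1),
    (∃ a ∈ four Inst.M.z (Inst.M.t₀ * t1), s * s' = f * f' * a) →
    (∃ a ∈ four Inst.M.z (Inst.M.t₀ * t1), s = f * a) ∨ ∃ a ∈ four Inst.M.z (Inst.M.t₀ * t1), s = f' * a := by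
  intro f hf f' hf' hne s hs s' hs' hss
  obtain ⟨x, rfl, a, ha, hxa⟩ := mem_dd hf
  obtain ⟨y, rfl, b, hb, hyb⟩ := mem_dd hf'
  obtain ⟨w, rfl, c, hc, hwc⟩ := mem_dd hs
  obtain ⟨w', rfl, d, hd, hwd⟩ := mem_dd hs'
  obtain ⟨q, hq, e⟩ := hss
  rw [← map_mul, ← map_mul] at e
  have h1 := ab_four hq e
  have close : ∀ {x y : Pauli 11} {a : ℕ}, Q2 x a → Q2 y a → ∃ q ∈ four Inst.M.z (Inst.M.t₀ * t1), Cd.R y = Cd.R x * q := by
    intro x y a hx hy
    apply four_of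
    rcases hx with hx | hx <;> rcases hy with hy | hy <;> rw [hx, hy]
    · left; rfl
    · right; rfl
    · right; rw [add_assoc, add_self', add_zero]
    · left; rfl
  have hab : a ≠ b := by
    rintro rfl
    obtain ⟨q, hq, e⟩ := close hxa hyb
    exact hne q hq e
  have h2 : v ((a ^^^ b) ^^^ (c ^^^ d)) = v 0 ∨ v ((a ^^^ b) ^^^ (c ^^^ d)) = v 0x400 := by
    have h3 := hxa.mul hyb
    have h4 := hwc.mul hwd
    have h0 : v 0 = 0 := by
      show ab (dec 11 0) = 0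
      rw [dec_zero]; rfl
    rw [v_xor, h0]
    have key : ∀ {p q r s : B 11 × B 11}, (p = q ∨ p = q + v 0x400) → (p = r ∨ p = r + v 0x400) →
        q + r = 0 ∨ q + r = v 0x400 := by
      intro p q r s hq hr
      rcases hq with hq | hq <;> rcases hr with hr | hr
      · left; rw [← hq, ← hr, add_self']
      · right
        have : q = r + v 0x400 := by rw [← hq, hr]
        rw [this, add_right_comm, add_self', zero_add]
      · right
        have : r = q + v 0x400 := by rw [← hr, hq]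
        rw [this, ← add_assoc, add_self', zero_add]
      · left
        have : q = r := add_right_cancel (hq.symm.trans hr)
        rw [this, add_self']
    have h5 : ab (x * y) = v (c ^^^ d) ∨ ab (x * y) = v (c ^^^ d) + v 0x400 := by
      rcases h1 with h1 | h1
      · rw [← h1]; exact h4
      · have h6 : ab (x * y) = ab (w * w') + v 0x400 := by rw [h1, add_assoc, add_self', add_zero]
        rw [h6]
        rcases h4 with h4 | h4
        · right; rw [h4]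
        · left; rw [h4, add_assoc, add_self', add_zero]
    exact key (s := 0) h3 h5
  have hlt : (a ^^^ b) ^^^ (c ^^^ d) < 2 ^ 22 :=
    lt_trans (Nat.xor_lt_two_pow (xor_lt_1024 ha hb) (xor_lt_1024 hc hd)) (by norm_num)
  have h3 : (a ^^^ b) ^^^ (c ^^^ d) = 0 ∨ (a ^^^ b) ^^^ (c ^^^ d) = 0x400 := by
    rcases h2 with h2 | h2
    · exact Or.inl (v_inj hlt (by norm_num) h2)
    · exact Or.inr (v_inj hlt (by norm_num) h2)
  rcases f4 ha hb hc hd hab h3 with rfl | rfl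
  · exact Or.inl (close hxa hwc)
  · exact Or.inr (close hyb hwc)

end Cfsg.Agent.BabyU.ClosLane
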