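import Mathlib

/-!
# Closing: Lemma N and Lemma L (abstract)

`Q` acts on `Ω` by `ρ`; `hm x b` : the involution `x` belongs to a distinguished class and `b` is its home (the only point
fixed by `x`).

`Home.lite` (Lemma L): if elements of the class with different homes have a product of odd order and all elements of the
class commuting with the involution `w` have home `a`, then `w` or `w x` (`x` with home `a`) is trivial on `Ω`.

`Home.isolated` (Lemma N): if every point is the home of only one element and there is a product of an odd number of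
involutions fixing only `a` which is trivial on `Ω`, then `Ω = {a}`.
-/

set_option autoImplicit false

namespace Cfsg.Agent.BabyU.Clos

variable {Q Ω : Type*} [Group Q]

/-- Homes. -/
structure Home (ρ : Q →* Equiv.Perm Ω) (hm : Q → Ω → Prop) : Prop where
  sq : ∀ x b, hm x b → x * x = 1
  conj : ∀ x b, hm x b → ∀ g : Q, hm (g * x * g⁻¹) (ρ g b)
  self : ∀ x b, hm x b → ρ x b = b
  fix : ∀ x b, hm x b → ∀ c, ρ x c = c → c = b
  surj : ∀ b, ∃ x, hm x b

theorem swap_comm {d e : Q} (hd : d * d = 1) (he : e * e = 1) {m : ℕ} (h : (d * e) ^ (2 * m + 1) = 1) :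
    (e * d) ^ m * e = (d * e) ^ m * d := by
  have hinv : (e * d) = (d * e)⁻¹ := by
    rw [eq_inv_iff_mul_eq_one]
    calc e * d * (d * e) = e * (d * d) * e := by group
      _ = 1 := by rw [hd, mul_one, he]
  have h1 : (d * e) ^ m * (d * e) ^ m * (d * e) = 1 := by
    rw [← pow_add, ← pow_succ]
    rw [show m + m + 1 = 2 * m + 1 by ring]
    exact h
  rw [hinv, inv_pow]
  have h2 : (d * e) ^ m * (d * e) ^ m * d = e := by
    calc (d * e) ^ m * (d * e) ^ m * d = ((d * e) ^ m * (d * e) ^ m * (d * e)) * e⁻¹ := by group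
      _ = e⁻¹ := by rw [h1, one_mul]
      _ = e := inv_eq_of_mul_eq_one_left he
  calc ((d * e) ^ m)⁻¹ * e = ((d * e) ^ m)⁻¹ * ((d * e) ^ m * (d * e) ^ m * d) := by rw [h2]
    _ = (d * e) ^ m * d := by group

theorem swap_conj {d e : Q} (hd : d * d = 1) (he : e * e = 1) {m : ℕ} (h : (d * e) ^ (2 * m + 1) = 1) :
    ((d * e) ^ m * d) * d * ((d * e) ^ m * d)⁻¹ = e := by
  have hd' : d⁻¹ = d := inv_eq_of_mul_eq_one_left hd
  have he' : e⁻¹ = e := inv_eq_of_mul_eq_one_left he
  have h1 : (d * e) ^ m * (d * e) ^ m * (d * e) = 1 := by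
    rw [← pow_add, ← pow_succ]
    rw [show m + m + 1 = 2 * m + 1 by ring]
    exact h
  have hc : d * ((d * e) ^ m)⁻¹ = (d * e) ^ m * d := by
    have h2 : d * (d * e) * d⁻¹ = (d * e)⁻¹ := by
      rw [mul_inv_rev, hd', he']
      calc d * (d * e) * d = (d * d) * (e * d) := by group
        _ = e * d := by rw [hd, one_mul]
    have h3 : d * (d * e) ^ m * d⁻¹ = ((d * e) ^ m)⁻¹ := by rw [← conj_pow, h2, inv_pow]
    calc d * ((d * e) ^ m)⁻¹ = d * (d * (d * e) ^ m * d⁻¹) := by rw [h3]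
      _ = (d * d) * (d * e) ^ m * d⁻¹ := by group
      _ = (d * e) ^ m * d := by rw [hd, one_mul, hd']
  calc ((d * e) ^ m * d) * d * ((d * e) ^ m * d)⁻¹ = (d * e) ^ m * (d * ((d * e) ^ m)⁻¹) := by group
    _ = (d * e) ^ m * ((d * e) ^ m * d) := by rw [hc]
    _ = ((d * e) ^ m * (d * e) ^ m * (d * e)) * e⁻¹ := by group
    _ = e := by rw [h1, one_mul, he']

namespace Home

variable {ρ : Q →* Equiv.Perm Ω} {hm : Q → Ω → Prop} (H : Home ρ hm)

include H

theorem uniq {x : Q} {b c : Ω} (hb : hm x b) (hc : hm x c) : b = c := (H.fix x b hb c (H.self x c hc)).symm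

theorem of_comm {x g : Q} {b : Ω} (hb : hm x b) (h : g * x = x * g) : ρ g b = b := by
  have h1 := H.conj x b hb g
  rw [h, mul_inv_cancel_right] at h1
  exact H.uniq h1 hb

theorem conj' {x : Q} {b : Ω} (hb : hm x b) (g : Q) : hm (g⁻¹ * x * g) (ρ g⁻¹ b) := by
  have := H.conj x b hb g⁻¹
  rwa [inv_inv] at this

theorem pow_mem {d e : Q} {b c : Ω} (hd : hm d b) (he : hm e c) (m : ℕ) : ∃ b', hm ((d * e) ^ m * d) b' := by
  have hd' : d⁻¹ = d := inv_eq_of_mul_eq_one_left (H.sq _ _ hd)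
  have he' : e⁻¹ = e := inv_eq_of_mul_eq_one_left (H.sq _ _ he)
  induction m using Nat.strong_induction_on with
  | _ m ih =>
    match m, ih with
    | 0, _ => exact ⟨b, by rwa [pow_zero, one_mul]⟩
    | 1, _ =>
      refine ⟨ρ d c, ?_⟩
      have := H.conj e c he d
      rwa [hd', ← pow_one (d * e)] at this
    | m + 2, ih =>
      obtain ⟨b', hb'⟩ := ih m (by omega)
      refine ⟨ρ (d * e) b', ?_⟩
      have := H.conj _ _ hb' (d * e)
      have e1 : d * e * ((d * e) ^ m * d) * (d * e)⁻¹ = (d * e) ^ (m + 2) * d := by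
        rw [mul_inv_rev, hd', he', pow_succ, pow_succ]
        have : d * e * (d * e) ^ m = (d * e) ^ m * (d * e) := (pow_succ' (d * e) m).symm.trans (pow_succ (d * e) m)
        calc d * e * ((d * e) ^ m * d) * (e * d) = (d * e * (d * e) ^ m) * (d * e) * d := by group
          _ = _ := by rw [this]
      rwa [e1] at this

/-- A swap of two elements of the class with product of odd order. -/
theorem exists_swap [Finite Q] {d e : Q} {b c : Ω} (hd : hm d b) (he : hm e c) (h : Odd (orderOf (d * e))) :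
    ∃ x b', hm x b' ∧ x * d * x⁻¹ = e ∧ (∀ v : Q, v * d = d * v → v * e = e * v → v * x = x * v) ∧
      ∀ w : Q, w * w = 1 → w * d * w⁻¹ = e → x * w = w * x := by
  obtain ⟨m, hm'⟩ := h
  have h1 : (d * e) ^ (2 * m + 1) = 1 := by rw [← hm']; exact pow_orderOf_eq_one _
  obtain ⟨b', hb'⟩ := H.pow_mem hd he m
  refine ⟨(d * e) ^ m * d, b', hb', swap_conj (H.sq _ _ hd) (H.sq _ _ he) h1, ?_, ?_⟩
  · intro v h2 h3
    have h4 : Commute v (d * e) := by
      show v * (d * e) = d * e * v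
      rw [← mul_assoc, h2, mul_assoc, h3, mul_assoc]
    exact (h4.pow_right m).mul_right h2
  · intro w hw hwd
    have hw' : w⁻¹ = w := inv_eq_of_mul_eq_one_left hw
    have hwe : w * e * w⁻¹ = d := by
      rw [← hwd, hw']
      calc w * (w * d * w) * w = (w * w) * d * (w * w) := by group
        _ = d := by rw [hw, one_mul, mul_one]
    have h2 : w * ((d * e) ^ m * d) * w⁻¹ = (d * e) ^ m * d := by
      calc w * ((d * e) ^ m * d) * w⁻¹ = (w * (d * e) ^ m * w⁻¹) * (w * d * w⁻¹) := by group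
        _ = (w * (d * e) * w⁻¹) ^ m * (w * d * w⁻¹) := by rw [conj_pow]
        _ = ((w * d * w⁻¹) * (w * e * w⁻¹)) ^ m * (w * d * w⁻¹) := by
            congr 2
            group
        _ = (e * d) ^ m * e := by rw [hwd, hwe]
        _ = _ := swap_comm (H.sq _ _ hd) (H.sq _ _ he) h1
    calc (d * e) ^ m * d * w = (w * ((d * e) ^ m * d) * w⁻¹) * w := by rw [h2]
      _ = _ := by group

/-- **Lemma L.** -/
theorem lite [Finite Q] (hodd : ∀ d b e c, hm d b → hm e c → b ≠ c → Odd (orderOf (d * e)))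
    {w : Q} (hw : w * w = 1) {a : Ω} (hwa : ∀ x b, hm x b → x * w = w * x → b = a) :
    (∀ b, ρ w b = b) ∨ ∃ x, hm x a ∧ x * w = w * x ∧ ∀ b, ρ (w * x) b = b := by
  by_cases hall : ∀ b, ρ w b = b
  · exact Or.inl hall
  right
  push Not at hall
  obtain ⟨c, hc⟩ := hall
  obtain ⟨d, hd⟩ := H.surj c
  have hw' : w⁻¹ = w := inv_eq_of_mul_eq_one_left hw
  have he := H.conj d c hd w
  obtain ⟨x, b', hx, hxd, -, hxw⟩ := H.exists_swap hd he (hodd _ _ _ _ hd he fun h => hc h.symm)
  have hxw := hxw w hw rfl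
  obtain rfl := hwa x b' hx hxw
  have hxx := H.sq _ _ hx
  have hx' : x⁻¹ = x := inv_eq_of_mul_eq_one_left hxx
  refine ⟨x, hx, hxw, ?_⟩
  by_contra hcon
  push Not at hcon
  obtain ⟨b, hb⟩ := hcon
  have hvv : (w * x) * (w * x) = 1 := by
    calc (w * x) * (w * x) = w * (x * w) * x := by group
      _ = w * (w * x) * x := by rw [hxw]
      _ = (w * w) * (x * x) := by group
      _ = 1 := by rw [hw, hxx, one_mul]
  have hv' : (w * x)⁻¹ = w * x := inv_eq_of_mul_eq_one_left hvv
  have hvx : (w * x) * x = w := by rw [mul_assoc, hxx, mul_one]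
  -- `d` commutes with `v`
  have hvd : (w * x) * d = d * (w * x) := by
    have : (w * x) * d * (w * x)⁻¹ = d := by
      calc (w * x) * d * (w * x)⁻¹ = w * (x * d * x⁻¹) * w⁻¹ := by group
        _ = w * (w * d * w⁻¹) * w⁻¹ := by rw [hxd]
        _ = (w * w) * d * (w * w)⁻¹ := by group
        _ = d := by rw [hw]; group
    exact mul_inv_eq_iff_eq_mul.1 this
  have hvx' : (w * x) * x = x * (w * x) := by
    rw [← mul_assoc, hxw]
  have hca : c ≠ b' := by
    rintro rfl
    exact hc (H.of_comm hx hxw.symm)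
  obtain ⟨f, hf⟩ := H.surj b
  have hg := H.conj f b hf (w * x)
  obtain ⟨y, k, hy, hyf, -, hyv⟩ := H.exists_swap hf hg (hodd _ _ _ _ hf hg fun h => hb h.symm)
  have hyv := hyv (w * x) hvv rfl
  -- an element of the centralizer of `v` conjugating `x` to `y`
  have hz : ∃ g : Q, g * x * g⁻¹ = y ∧ (w * x) * g = g * (w * x) := by
    by_cases hk : k = b'
    · subst hk
      obtain ⟨g1, _, _, h1, h2, _⟩ := H.exists_swap hx hd (hodd _ _ _ _ hx hd hca.symm)
      obtain ⟨g2, _, _, h3, h4, _⟩ := H.exists_swap hd hy (hodd _ _ _ _ hd hy hca)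
      have h2 := h2 (w * x) hvx' hvd
      have h4 := h4 (w * x) hvd hyv.symm
      refine ⟨g2 * g1, ?_, ?_⟩
      · calc g2 * g1 * x * (g2 * g1)⁻¹ = g2 * (g1 * x * g1⁻¹) * g2⁻¹ := by group
          _ = y := by rw [h1, h3]
      · calc (w * x) * (g2 * g1) = (w * x * g2) * g1 := by group
          _ = g2 * (w * x * g1) := by rw [h4]; group
          _ = _ := by rw [h2]; group
    · obtain ⟨g1, _, _, h1, h2, _⟩ := H.exists_swap hx hy (hodd _ _ _ _ hx hy fun h => hk h.symm)
      exact ⟨g1, h1, h2 (w * x) hvx' hyv.symm⟩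
  obtain ⟨g, hgx, hgv⟩ := hz
  -- `v y = g w g⁻¹`
  have h5 : (w * x) * y = g * w * g⁻¹ := by
    calc (w * x) * y = (w * x) * (g * x * g⁻¹) := by rw [hgx]
      _ = ((w * x) * g) * x * g⁻¹ := by group
      _ = g * ((w * x) * x) * g⁻¹ := by rw [hgv]; group
      _ = _ := by rw [hvx]
  -- `v y` commutes with `f`
  have h6 : (w * x * y) * f = f * (w * x * y) := by
    have : (w * x * y) * f * (w * x * y)⁻¹ = f := by
      calc (w * x * y) * f * (w * x * y)⁻¹ = (w * x) * (y * f * y⁻¹) * (w * x)⁻¹ := by group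
        _ = (w * x) * ((w * x) * f * (w * x)⁻¹) * (w * x)⁻¹ := by rw [hyf]
        _ = ((w * x) * (w * x)) * f * ((w * x) * (w * x))⁻¹ := by group
        _ = f := by rw [hvv]; group
    exact mul_inv_eq_iff_eq_mul.1 this
  rw [h5] at h6
  have h7 : (g⁻¹ * f * g) * w = w * (g⁻¹ * f * g) := by
    calc (g⁻¹ * f * g) * w = g⁻¹ * (f * (g * w * g⁻¹)) * g := by group
      _ = g⁻¹ * ((g * w * g⁻¹) * f) * g := by rw [h6]
      _ = _ := by group
  have h8 := hwa _ _ (H.conj' hf g) h7
  have h9 : b = ρ g b' := by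
    rw [← h8, ← Equiv.Perm.mul_apply, ← map_mul, mul_inv_cancel, map_one, Equiv.Perm.one_apply]
  have h10 : k = ρ g b' := by
    have := H.conj x b' hx g
    rw [hgx] at this
    exact H.uniq hy this
  apply hb
  rw [h9, ← h10]
  exact H.of_comm hy hyv.symm

/-- In the isolated case products have odd order. -/
theorem odd_of_unique [Finite Q] (huniq : ∀ x y b, hm x b → hm y b → x = y) {d e : Q} {b c : Ω}
    (hd : hm d b) (he : hm e c) : Odd (orderOf (d * e)) := by
  by_contra hcon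
  rw [Nat.not_odd_iff_even] at hcon
  obtain ⟨k, hk⟩ := hcon
  have hpos : 0 < orderOf (d * e) := orderOf_pos _
  have hdd := H.sq _ _ hd
  have hd' : d⁻¹ = d := inv_eq_of_mul_eq_one_left hdd
  have he' : e⁻¹ = e := inv_eq_of_mul_eq_one_left (H.sq _ _ he)
  have hj : (d * e) ^ k ≠ 1 := by
    intro h
    have := orderOf_dvd_of_pow_eq_one h
    have := Nat.le_of_dvd (by omega) this
    omega
  have hjj : (d * e) ^ k * (d * e) ^ k = 1 := by
    rw [← pow_add, ← hk, pow_orderOf_eq_one]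
  obtain ⟨b', hb'⟩ := H.pow_mem hd he k
  have hdj : d * (d * e) ^ k * d⁻¹ = (d * e) ^ k := by
    rw [← conj_pow]
    have h2 : d * (d * e) * d⁻¹ = (d * e)⁻¹ := by
      rw [mul_inv_rev, hd', he']
      calc d * (d * e) * d = (d * d) * (e * d) := by group
        _ = e * d := by rw [hdd, one_mul]
    rw [h2, inv_pow]
    exact inv_eq_of_mul_eq_one_left hjj
  have hcomm : ((d * e) ^ k * d) * d = d * ((d * e) ^ k * d) := by
    have h1 : d * (d * e) ^ k = (d * e) ^ k * d := mul_inv_eq_iff_eq_mul.1 hdj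
    rw [← mul_assoc, h1]
  have h1 := H.of_comm hd hcomm
  have h2 := H.fix _ _ hb' _ h1
  subst h2
  have h3 := huniq _ _ _ hb' hd
  exact hj (mul_eq_right.1 h3)

/-- In the isolated case. -/
theorem isolated_aux [Finite Q] (huniq : ∀ x y b, hm x b → hm y b → x = y) {d₀ w : Q} {a : Ω} (hd₀ : hm d₀ a)
    (hw : w * w = 1) (hwa : ∀ b, ρ w b = b → b = a) {b : Ω} (hb : b ≠ a) : ρ w b = ρ d₀ b := by
  have hwb : ρ w b ≠ b := fun h => hb (hwa b h)
  obtain ⟨d, hd⟩ := H.surj b
  have he := H.conj d b hd w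
  obtain ⟨x, b', hx, hxd, -, hxw⟩ := H.exists_swap hd he (H.odd_of_unique huniq hd he)
  have hxw := hxw w hw rfl
  obtain rfl := hwa b' (H.of_comm hx hxw.symm)
  obtain rfl := huniq _ _ _ hx hd₀
  have hvd : (w * x) * d = d * (w * x) := by
    have : (w * x) * d * (w * x)⁻¹ = d := by
      calc (w * x) * d * (w * x)⁻¹ = w * (x * d * x⁻¹) * w⁻¹ := by group
        _ = w * (w * d * w⁻¹) * w⁻¹ := by rw [hxd]
        _ = (w * w) * d * (w * w)⁻¹ := by group
        _ = d := by rw [hw]; group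
    exact mul_inv_eq_iff_eq_mul.1 this
  have h1 := H.of_comm hd hvd
  rw [map_mul, Equiv.Perm.mul_apply] at h1
  have h2 := congrArg (ρ w) h1
  rw [← Equiv.Perm.mul_apply, ← map_mul, hw, map_one, Equiv.Perm.one_apply] at h2
  exact h2.symm

/-- **Lemma N.** -/
theorem isolated [Finite Q] (huniq : ∀ x y b, hm x b → hm y b → x = y) {d₀ : Q} {a : Ω} (hd₀ : hm d₀ a)
    {l : List Q} (hl : ∀ w ∈ l, w * w = 1 ∧ ρ w a = a ∧ ∀ b, ρ w b = b → b = a) (hodd : Odd l.length)
    (hprod : ∀ b, ρ l.prod b = b) (b : Ω) : b = a := by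
  by_contra hb
  have hdd := H.sq _ _ hd₀
  have h1 : ∀ w ∈ l, ∀ c, c ≠ a → ρ w c = ρ d₀ c := fun w hw c hc =>
    H.isolated_aux huniq hd₀ (hl w hw).1 (hl w hw).2.2 hc
  have h2 : ρ d₀ (ρ d₀ b) = b := by
    rw [← Equiv.Perm.mul_apply, ← map_mul, hdd, map_one, Equiv.Perm.one_apply]
  have hb' : ρ d₀ b ≠ a := by
    intro h
    rw [h, H.self _ _ hd₀] at h2
    exact hb h2.symm
  have h3 : ∀ l' : List Q, (∀ w ∈ l', w ∈ l) →
      (Even l'.length → ρ l'.prod b = b) ∧ (Odd l'.length → ρ l'.prod b = ρ d₀ b) := by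
    intro l'
    induction l' with
    | nil => intro _; exact ⟨fun _ => by simp, fun h => by simp at h⟩
    | cons w l' ih =>
      intro hw
      obtain ⟨ih1, ih2⟩ := ih fun v hv => hw v (List.mem_cons_of_mem _ hv)
      have hwl := hw w List.mem_cons_self
      rw [List.prod_cons, map_mul, Equiv.Perm.mul_apply, List.length_cons]
      constructor
      · intro h
        rw [ih2 (by rw [Nat.even_add_one] at h; exact Nat.not_even_iff_odd.1 h), h1 w hwl _ hb', h2]
      · intro h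
        rw [ih1 (by rw [Nat.odd_add_one] at h; exact Nat.not_odd_iff_even.1 h), h1 w hwl _ hb]
  have h4 := (h3 l fun _ h => h).2 hodd
  rw [hprod] at h4
  obtain ⟨w, hw⟩ : ∃ w, w ∈ l := by
    obtain ⟨k, hk⟩ := hodd
    exact List.exists_mem_of_length_pos (by omega)
  have h5 := h1 w hw b hb
  rw [← h4] at h5
  exact hb ((hl w hw).2.2 b h5)

end Home

end Cfsg.Agent.BabyU.Clos
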