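import Cfsg.Agent.BabyU.ClosFacts

/-!
# Transport of `Inner` along an injective homomorphism
-/

set_option autoImplicit false

namespace Cfsg.Agent.BabyU.Clos

variable {G : Type*} [Group G] {Γ : Type*} [Group Γ]

theorem isPGroup_map {P : Subgroup Γ} (h : IsPGroup 2 P) (φ : Γ →* G) : IsPGroup 2 (P.map φ) := h.map φ

theorem eq_or_of {a b c : Γ} (φ : Γ →* G) (h : a = b ∨ a = c) : φ a = φ b ∨ φ a = φ c := by
  rcases h with rfl | rfl
  · exact Or.inl rfl
  · exact Or.inr rfl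

/-- Transport of the facts. -/
theorem Inner.map {H P M : Subgroup Γ} {z t t₁ : Γ} (F : Inner H P M z t t₁) (φ : Γ →* G)
    (hφ : Function.Injective φ) : Inner (H.map φ) (P.map φ) (M.map φ) (φ z) (φ t) (φ t₁) := by
  have inj : ∀ {a b : Γ}, φ a = φ b → a = b := fun h => hφ h
  have comm : ∀ {a b : Γ}, φ a * φ b = φ b * φ a → a * b = b * a := fun h => inj (by rw [map_mul, map_mul]; exact h)
  have comm' : ∀ {a b : Γ}, a * b = b * a → φ a * φ b = φ b * φ a := fun h => by rw [← map_mul, ← map_mul, h]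
  have mc : ∀ {x : Γ}, φ x ∈ cls (H.map φ) (φ t) ↔ x ∈ cls H t := map_mem_cls φ hφ
  have mp : ∀ {x : Γ} {K : Subgroup Γ}, φ x ∈ K.map φ ↔ x ∈ K := fun {x K} => by
    constructor
    · rintro ⟨y, hy, e⟩
      rw [← inj e]; exact hy
    · intro h; exact ⟨x, h, rfl⟩
  have conj : ∀ (a b : Γ), φ a * φ b * (φ a)⁻¹ = φ (a * b * a⁻¹) := fun a b => by simp
  have conj' : ∀ (a b : Γ), (φ a)⁻¹ * φ b * φ a = φ (a⁻¹ * b * a) := fun a b => by simp
  constructor
  · rw [← map_mul, F.t_sq, map_one]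
  · intro h
    exact F.t_ne (inj (by rw [h, map_one]))
  · rw [← map_mul, F.z_sq, map_one]
  · intro h
    exact F.z_ne (inj (by rw [h, map_one]))
  · exact mp.2 F.tP
  · exact mp.2 F.zP
  · exact Subgroup.map_mono F.PH
  · exact Subgroup.map_mono F.MH
  · exact isPGroup_map F.two φ
  · rintro _ ⟨q, hq, rfl⟩
    exact comm' (F.zc q hq)
  · rintro _ ⟨h, hh, rfl⟩ hc _ ⟨q, hq, rfl⟩
    rw [conj, mp]
    exact F.P_norm h hh (comm hc) q hq
  · rintro _ ⟨q, hq, rfl⟩ _ ⟨r, hr, rfl⟩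
    have := eq_or_of φ (F.P_comm q hq r hr)
    simpa only [map_mul] using this
  · obtain ⟨q, hq, e⟩ := F.fuse
    refine ⟨φ q, mp.2 hq, ?_⟩
    rw [conj, e, map_mul]
  · rw [mc]; exact F.z_notin
  · rintro _ ⟨m, hm, rfl⟩
    exact comm' (F.M_comm m hm)
  · rintro _ ⟨g, hg, rfl⟩ hc _ ⟨m, hm, rfl⟩
    rw [conj, mp]
    exact F.M_norm g hg (comm hc) m hm
  · rintro _ ⟨g, hg, rfl⟩ _ ⟨h, hh, rfl⟩ hgt hht hgM hhM
    rw [mp] at hgM hhM
    rw [← map_mul, mp]
    exact F.M_index g hg h hh (comm hgt) (comm hht) hgM hhM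
  · exact mp.2 F.tM
  · rintro _ ⟨q, hq, rfl⟩ hc
    exact mp.2 (F.PM q hq (comm hc))
  · intro s hs hsM hne
    obtain ⟨x, hx, rfl⟩ := exists_of_mem_cls φ hs
    rw [mp] at hsM
    obtain ⟨h, hh, hht, e⟩ := F.adj x hx hsM (fun h => hne (by rw [h]))
    refine ⟨φ h, mp.2 hh, comm' hht, ?_⟩
    rw [← map_mul, conj, e]
  · rintro _ ⟨g, hg, rfl⟩ hgt hgz _ ⟨q, hq, rfl⟩ hqt
    rw [conj, ← map_mul] at hqt
    rw [conj', mp, mp]
    exact F.sgn g hg (comm hgt) (comm hgz) q hq (inj hqt)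
  · have e : Nat.card {s : G // s ∈ cls (H.map φ) (φ t) ∧ s ∈ M.map φ ∧ s ≠ φ t} =
        Nat.card {s : Γ // s ∈ cls H t ∧ s ∈ M ∧ s ≠ t} := by
      symm
      refine Nat.card_congr (Equiv.ofBijective (fun s => ⟨φ s.1, mc.2 s.2.1, mp.2 s.2.2.1,
        fun h => s.2.2.2 (inj h)⟩) ⟨?_, ?_⟩)
      · intro a b h
        exact Subtype.ext (inj (congrArg Subtype.val h))
      · rintro ⟨s, hs, hsM, hne⟩
        obtain ⟨x, hx, rfl⟩ := exists_of_mem_cls φ hs
        exact ⟨⟨x, hx, mp.1 hsM, fun h => hne (by rw [h])⟩, rfl⟩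
    rw [e]; exact F.odd
  · rintro _ ⟨h, hh, rfl⟩ hc
    rw [conj] at hc
    rw [conj', mp]
    exact F.zM h hh (comm hc)
  · rintro _ ⟨r, hr, rfl⟩ hrz hrt hrd
    rw [mp]
    refine F.perp r hr (comm hrz) (comm hrt) ?_
    intro d hd hdP hdt
    exact comm (hrd (φ d) (mc.2 hd) (mp.2 hdP) (comm' hdt))
  · rintro _ ⟨u, hu, rfl⟩ huu hne
    rcases F.classes u hu (inj (by rw [map_mul, huu, map_one])) (fun h => hne (by rw [h, map_one])) with
      ⟨h, hh, e⟩ | ⟨d, hd, hc, hud⟩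
    · exact Or.inl ⟨φ h, mp.2 hh, by rw [conj', mp]; exact e⟩
    · exact Or.inr ⟨φ d, mc.2 hd, comm' hc, by rw [← map_mul, mc]; exact hud⟩
  · intro s hs h1 h2
    obtain ⟨x, hx, rfl⟩ := exists_of_mem_cls φ hs
    rw [← map_mul, ← map_mul] at h1 h2 ⊢
    rw [mp]
    exact F.fourB x hx (comm h1) (fun h => h2 (by rw [h]))
  · intro s hs
    obtain ⟨x, hx, rfl⟩ := exists_of_mem_cls φ hs
    obtain ⟨n, h1, h2, h3⟩ := F.ord x hx
    exact ⟨n, h1, h2, by rw [← map_mul, ← map_pow, h3, map_one]⟩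
  · intro d hd hdP e he heP hne s hs hsP s' hs' hsP' h
    obtain ⟨d, hd1, rfl⟩ := exists_of_mem_cls φ hd
    obtain ⟨e, he1, rfl⟩ := exists_of_mem_cls φ he
    obtain ⟨s, hs1, rfl⟩ := exists_of_mem_cls φ hs
    obtain ⟨s', hs1', rfl⟩ := exists_of_mem_cls φ hs'
    rw [mp] at hdP heP hsP hsP'
    have h' : s * s' = d * e ∨ s * s' = d * e * z := by
      rcases h with h | h
      · left; apply inj; rw [map_mul, map_mul]; exact h
      · right; apply inj; rw [map_mul, map_mul, map_mul]; exact h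
    rcases F.uniq d hd1 hdP e he1 heP (fun h => hne (comm' h)) s hs1 hsP s' hs1' hsP' h' with h | h | h | h
    · left; rw [h]
    · right; left; rw [h, map_mul]
    · right; right; left; rw [h]
    · right; right; right; rw [h, map_mul]
  · obtain ⟨l, hl, hodd, hp⟩ := F.rel
    refine ⟨l.map φ, ?_, by rwa [List.length_map], ?_⟩
    · intro w hw
      obtain ⟨x, hx, rfl⟩ := List.mem_map.1 hw
      exact ⟨mc.2 (hl x hx).1, mp.2 (hl x hx).2⟩
    · rw [← map_list_prod, ← map_one φ]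
      exact eq_or_of φ hp
  · intro N hN hn
    have h1 := F.irr (N.comap φ) (by
      intro n hn'
      exact mp.1 (hN hn')) (by
      intro h hh hz n hn'
      have := hn (φ h) (mp.2 hh) (comm' hz) (φ n) hn'
      rw [conj] at this
      exact this)
    rcases h1 with h | h
    · left
      intro n hn'
      obtain ⟨x, hx, rfl⟩ := hN hn'
      rw [← map_one φ]
      exact eq_or_of φ (h x hn')
    · right; exact h
  · exact mc.2 F.t₁D
  · exact mp.2 F.t₁P
  · exact comm' F.t₁_comm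
  · exact fun h => F.t₁_ne (inj h)
  · exact fun h => F.t₁_ne' (inj (by rw [map_mul]; exact h))
  · intro d hd hdP hdt h1 h2
    obtain ⟨d, hd1, rfl⟩ := exists_of_mem_cls φ hd
    rw [mp] at hdP
    obtain ⟨h, hh, hht, hhz, h3⟩ := F.trans d hd1 hdP (comm hdt) (fun h => h1 (by rw [h]))
      (fun h => h2 (by rw [h, map_mul]))
    refine ⟨φ h, mp.2 hh, comm' hht, comm' hhz, ?_⟩
    rw [conj, ← map_mul]
    exact eq_or_of φ h3
  · rw [← map_mul]
    intro f hf f' hf' hne s hs s' hs' h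
    obtain ⟨f, hf1, rfl⟩ := exists_of_mem_dd φ hφ hf
    obtain ⟨f', hf1', rfl⟩ := exists_of_mem_dd φ hφ hf'
    obtain ⟨s, hs1, rfl⟩ := exists_of_mem_dd φ hφ hs
    obtain ⟨s', hs1', rfl⟩ := exists_of_mem_dd φ hφ hs'
    have h1 : ∀ a ∈ four z (t * t₁), f' ≠ f * a := by
      intro a ha h
      exact hne (φ a) (map_mem_four φ ha) (by rw [h, map_mul])
    have h2 : ∃ a ∈ four z (t * t₁), s * s' = f * f' * a := by
      obtain ⟨a, ha, e⟩ := h
      obtain ⟨b, hb, rfl⟩ := exists_of_mem_four φ ha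
      exact ⟨b, hb, inj (by rw [map_mul, map_mul, map_mul]; exact e)⟩
    rcases F.uniq₂ f hf1 f' hf1' h1 s hs1 s' hs1' h2 with ⟨a, ha, e⟩ | ⟨a, ha, e⟩
    · exact Or.inl ⟨φ a, map_mem_four φ ha, by rw [e, map_mul]⟩
    · exact Or.inr ⟨φ a, map_mem_four φ ha, by rw [e, map_mul]⟩
  · obtain ⟨f, hf, f', hf', hne, hg⟩ := F.gen
    rw [← map_mul]
    refine ⟨φ f, map_mem_dd φ hφ hf, φ f', map_mem_dd φ hφ hf', ?_, ?_⟩
    · intro a ha h
      obtain ⟨b, hb, rfl⟩ := exists_of_mem_four φ ha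
      exact hne b hb (inj (by rw [h, map_mul]))
    · intro x hx
      have hx' : ∃ y, (y = 1 ∨ y ∈ dd H P t (t * t₁)) ∧ φ y = x := by
        rcases hx with rfl | hx
        · exact ⟨1, Or.inl rfl, map_one φ⟩
        · obtain ⟨y, hy, rfl⟩ := exists_of_mem_dd φ hφ hx
          exact ⟨y, Or.inr hy, rfl⟩
      obtain ⟨y, hy, rfl⟩ := hx'
      obtain ⟨l, hl, hδ⟩ := hg y hy
      refine ⟨l.map φ, ?_, ?_⟩
      · intro h hh
        obtain ⟨k, hk, rfl⟩ := List.mem_map.1 hh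
        obtain ⟨h1, h2, h3⟩ := hl k hk
        refine ⟨mp.2 h1, comm' h2, ?_⟩
        rw [conj, ← map_mul]
        exact eq_or_of φ h3
      · have e : ((l.map φ).map fun h => h * (φ f * φ f' * φ y) * h⁻¹).prod =
            φ (l.map fun h => h * (f * f' * y) * h⁻¹).prod := by
          rw [map_list_prod, List.map_map, List.map_map]
          congr 1
          apply List.map_congr_left
          intro k _
          simp [Function.comp]
        rw [e, mc]
        exact hδ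

end Cfsg.Agent.BabyU.Clos
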