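import Cfsg.Agent.BabyU.ClosModel
import Cfsg.Agent.BabyM.TransFields

/-!
# Closing for the Baby Monster: the facts on pairs of axes in the concrete model
-/

set_option autoImplicit false
set_option Elab.async false

namespace Cfsg.Agent.BabyU.ClosModelInst

open Cfsg.Agent.Lib.PermNet Cfsg.Agent.Monster.VecEngine Cfsg.Agent.Monster.VecSpace Cfsg.Agent.BabyM.Conc
  Cfsg.Agent.BabyM.ConcGrp Cfsg.Agent.BabyM.TransInv Cfsg.Agent.BabyM.Inst Cfsg.Agent.BabyM.Model
  Cfsg.Agent.BabyM.InstVec Cfsg.Agent.BabyM.InstZ Cfsg.Agent.BabyM.TransCover Cfsg.Agent.BabyM.TransData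
  Cfsg.Agent.BabyM.TransOrd Cfsg.Agent.BabyM.TransFields Cfsg.Agent.BabyU.ClosModel


/-- the transposition of the axis `W h d₀` moves the vector `x` -/
noncomputable def neCheck (lanes : List ℕ) (h : List Ltr) (x : Pl) : Bool :=
  runL ((tw h).map Ltr.prog) x fun y => lanes.any fun i => U.testBit i && !decide (val y i = val x i)

theorem ne_sound {lanes : List ℕ} {h : List Ltr} {x : Pl} (hc : neCheck lanes h x = true) :
    (W h * t₀ * (W h)⁻¹) ((1 / 8 : ℚ) • vecU ℚ U x) ≠ (1 / 8 : ℚ) • vecU ℚ U x := by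
  obtain ⟨y, hy, h1⟩ := W_run hc
  rw [List.any_eq_true] at h1
  obtain ⟨i, -, h2⟩ := h1
  rw [Bool.and_eq_true, Bool.not_eq_true', decide_eq_false_iff_not] at h2
  rw [← W_tw h]
  intro h3
  rw [map_smul, ← hy] at h3
  have h6 : vecU ℚ U y = vecU ℚ U x := smul_right_injective V (show (1 / 8 : ℚ) ≠ 0 by norm_num) h3
  have h7 := congrFun h6 ⟨i, h2.1⟩
  have h8 : (val y i : ℚ) = (val x i : ℚ) := h7
  exact h2.2 (Int.cast_injective h8)

/-- for the representatives with `n = 3, 4` -/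
noncomputable def neAll (T : Tab) (lanes : List ℕ) (x : Pl) : Bool :=
  T.reps.all fun r => Nat.beq r.n 2 || neCheck lanes r.h x

theorem ne0 : neAll T0 [1281, 1344, 1345] dv0 = true := by decide +kernel
theorem ne1 : neAll T1 [208, 209, 210, 211, 212, 213, 214, 215, 216, 217, 218, 219, 220, 221, 222, 223, 1281, 1282, 1288, 1291, 1292, 1298, 1313, 1314, 1320, 1323, 1324, 1330] dv1 = true := by decide +kernel
theorem ne2 : neAll T2 [1281, 1282, 1283, 1284, 1285, 1286, 1287, 1288, 1289, 1290, 1291, 1292, 1293, 1294, 1295, 1296, 1297, 1298, 1299, 1300, 1301, 1302, 1313, 1314, 1315, 1316, 1317, 1318, 1319, 1320, 1321, 1322, 1323, 1324, 1325, 1326, 1327, 1328, 1329, 1330, 1331, 1332, 1333, 1334, 1344, 4985] dv2 = true := by decide +kernel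
theorem ne3 : neAll T3 [48, 52, 56, 60, 64, 68, 72, 76, 96, 100, 104, 108, 208, 212, 216, 220, 224, 228, 232, 236, 272, 276, 280, 284, 640, 644, 648, 652, 656, 660, 664, 668, 688, 692, 696, 700, 752, 756, 760, 764, 896, 900, 904, 908, 944, 948, 952, 956, 960, 964, 968, 972, 1008, 1012, 1016, 1020, 1152, 1156, 1160, 1164, 1184, 1188, 1192, 1196, 4110, 4363, 4871] dv3 = true := by decide +kernel
theorem ne4 : neAll T4 [16, 52, 120, 140, 208, 276, 360, 444, 480, 596, 664, 748, 864, 964, 984, 1068, 1152, 1285, 1315, 1344, 2085, 2125, 2165, 2205, 2245, 2284, 2325, 2364, 2404, 2444, 2484, 2524, 2564, 2605, 2644, 2685, 2725, 2765, 2805, 2845, 2885, 2924, 2965, 3004, 3044, 4619, 5128, 5168, 5208, 5248, 5289, 5328, 5369, 5409, 5449, 5489, 5529, 5569, 5608, 5649, 5688, 5728, 5768, 5808, 5848, 5888, 5929, 5968, 6009, 6049, 6089, 6129] dv4 = true := by decide +kernel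

/-- the lanes of the checks -/
theorem neAll_of (j : Fin 5) : ∃ ls, neAll (TT j) ls (dv j) = true := by
  fin_cases j
  exacts [⟨_, ne0⟩, ⟨_, ne1⟩, ⟨_, ne2⟩, ⟨_, ne3⟩, ⟨_, ne4⟩]

theorem ne_of {j : Fin 5} {r : Cfsg.Agent.BabyM.TransCover.Rep} (hr : r ∈ (TT j).reps) (hn : r.n ≠ 2) :
    (W r.h * t₀ * (W r.h)⁻¹) (M.d j) ≠ M.d j := by
  obtain ⟨ls, h⟩ := neAll_of j
  unfold neAll at h
  rw [List.all_eq_true] at h
  have h1 := h r hr
  rw [Bool.or_eq_true] at h1
  rcases h1 with h1 | h1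
  · exact absurd (Nat.eq_of_beq_eq_true h1) hn
  · exact ne_sound h1

/-- the shape of the representatives -/
def Shape (j : Fin 5) (r : Cfsg.Agent.BabyM.TransCover.Rep) : Prop :=
  (j = 0 ∧ r.h = []) ∨ (r.c = 4 ∨ r.c = -4) ∨ (r.n = 2 ∧ r.sg = true) ∨ r.n = 3 ∨ r.n = 4

theorem shape (j : Fin 5) : ∀ r ∈ (TT j).reps, Shape j r := by
  fin_cases j
  · show ∀ r ∈ T0.reps, _
    unfold T0
    simp [Shape]
  · show ∀ r ∈ T1.reps, _
    unfold T1
    simp [Shape]
  · show ∀ r ∈ T2.reps, _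
    unfold T2
    simp [Shape]
  · show ∀ r ∈ T3.reps, _
    unfold T3
    simp [Shape]
  · show ∀ r ∈ T4.reps, _
    unfold T4
    simp [Shape]

theorem neg_of {j : Fin 5} {r : Cfsg.Agent.BabyM.TransCover.Rep} (hr : r ∈ (TT j).reps) (hn : r.n = 2) (hs : r.sg = true) :
    (W r.h * t₀ * (W r.h)⁻¹) (M.d j) = - M.d j := by
  have h := List.all_eq_true.1 (ok j).ord r hr
  unfold ordCheck at h
  rw [show Nat.beq r.n 2 = true by rw [hn]; rfl, cond_true, hs, cond_true] at h
  have e := W_eq_of_check (v₂ := []) h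
  rw [W_nil, LinearEquiv.coe_one, id] at e
  rw [← W_tw r.h, M_d_eq, map_smul, e, vecU_neg, smul_neg]

theorem fix_of {j : Fin 5} {r : Cfsg.Agent.BabyM.TransCover.Rep} (hr : r ∈ (TT j).reps) (hn : r.n = 4) :
    (W (TT j).path * t₀ * (W (TT j).path)⁻¹) ((W r.h * t₀ * (W r.h)⁻¹) (M.d j)) =
      (W r.h * t₀ * (W r.h)⁻¹) (M.d j) := by
  have h := List.all_eq_true.1 (ok j).ord r hr
  unfold ordCheck at h
  rw [show Nat.beq r.n 2 = false by rw [hn]; rfl, cond_false, show Nat.beq r.n 3 = false by rw [hn]; rfl, cond_false,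
    show Nat.beq r.n 4 = true by rw [hn]; rfl, cond_true] at h
  have e := W_eq_of_check h
  rw [W_append, LinearEquiv.mul_apply] at e
  rw [← W_tw r.h, ← W_tw (TT j).path, M_d_eq, map_smul, map_smul, e]

/-- **The facts on pairs of axes.** -/
theorem pairs {K₀ : Type} [Group K₀] (A : BAll M K₀) : Pairs M where
  pair := by
    intro j
    change Fin 5 at j
    refine ⟨W (TT j).path, W_mem_MG _, W_path j, fun h hh => ?_⟩
    obtain ⟨l, hl, r, hr, hb⟩ := cover j (h M.d₀) ⟨h, hh, rfl⟩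
    have hlC : l ∈ M.C := hl.1
    have hlΓ : l ∈ M.Γ := A.C_le hlC
    have hld : l (M.d j) = M.d j := stab_d hl
    have hld' : l⁻¹ (M.d j) = M.d j := by conv_lhs => rw [← hld, inv_apply_self']
    have e1 : h * M.t₀ * h⁻¹ = l * (W r.h * t₀ * (W r.h)⁻¹) * l⁻¹ := by
      have := A.conj_t 1 h (l * W r.h) M.Γ.one_mem (A.C_le hh) (M.Γ.mul_mem hlΓ (mem_Γ A _)) hb
      rw [one_mul, inv_one, mul_one] at this
      rw [this, mul_inv_rev]
      simp only [mul_assoc]
      rfl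
    have e2 : W (TT j).path * M.t₀ * (W (TT j).path)⁻¹ =
        l * (W (TT j).path * t₀ * (W (TT j).path)⁻¹) * l⁻¹ := by
      refine (A.conj_t l (W (TT j).path) (W (TT j).path) hlΓ (mem_Γ A _) (mem_Γ A _) (Or.inl ?_)).symm
      rw [W_path, hld]
    have e3 : (h * M.t₀ * h⁻¹) (M.d j) = l ((W r.h * t₀ * (W r.h)⁻¹) (M.d j)) := by
      rw [e1, LinearEquiv.mul_apply, LinearEquiv.mul_apply, hld']
    rcases shape j r hr with ⟨h1, h2⟩ | h1 | ⟨h1, h2⟩ | h1 | h1
    · left
      subst h1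
      rw [e1, e2]
      have h3 := A.conj_t 1 (W r.h) (W (TT 0).path) M.Γ.one_mem (mem_Γ A _) (mem_Γ A _) (Or.inl (by
        rw [W_path, h2, W_nil]; exact M_d_zero.symm))
      rw [one_mul, inv_one, mul_one] at h3
      have h4 : W r.h * t₀ * (W r.h)⁻¹ = W (TT 0).path * t₀ * (W (TT 0).path)⁻¹ := h3
      rw [h4]
    · right; left
      have hF : M.F (l (W r.h M.d₀)) (M.d j) = (r.c : ℚ) / 4 := by rw [F_stab hl, F_rep hr]
      rcases hb with hb | hb <;> rcases h1 with h1 | h1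
      · left; rw [hb, hF, h1]; norm_num
      · right; rw [hb, hF, h1]; norm_num
      · right; rw [hb, map_neg, LinearMap.neg_apply, hF, h1]; norm_num
      · left; rw [hb, map_neg, LinearMap.neg_apply, hF, h1]; norm_num
    · right; right; left
      rw [e3, neg_of hr h1 h2, map_neg, hld]
    · right; right; right
      refine ⟨fun h3 => ne_of hr (by omega) ?_, Or.inl ?_⟩
      · rw [e3] at h3
        apply l.injective
        rw [h3, hld]
      · have h4 := (ord_sound A (W_path j) (List.all_eq_true.1 (ok j).ord r hr)).2.2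
        rw [h1] at h4
        rw [e1, e2]
        have h5 : l * (W r.h * t₀ * (W r.h)⁻¹) * l⁻¹ * (l * (W (TT j).path * t₀ * (W (TT j).path)⁻¹) * l⁻¹) =
          l * ((W r.h * t₀ * (W r.h)⁻¹) * (W (TT j).path * t₀ * (W (TT j).path)⁻¹)) * l⁻¹ := by group
        rw [h5, conj_pow, h4, mul_one, mul_inv_cancel]
    · right; right; right
      refine ⟨fun h3 => ne_of hr (by omega) ?_, Or.inr ?_⟩
      · rw [e3] at h3
        apply l.injective
        rw [h3, hld]
      · rw [e3, e2, LinearEquiv.mul_apply, LinearEquiv.mul_apply, inv_apply_self', fix_of hr h1]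
  nz := by
    intro j
    change Fin 5 at j
    have key : ∀ r ∈ (TT j).reps, r.h.all inC = true → r.c ≠ 0 → ∃ b ∈ M.S, M.F b (M.d j) ≠ 0 := by
      intro r hr h1 h2
      refine ⟨W r.h M.d₀, W_mem_S h1, ?_⟩
      rw [F_rep hr]
      have : (r.c : ℚ) ≠ 0 := by exact_mod_cast h2
      positivity
    fin_cases j
    · exact key ⟨[], 28, 2, false⟩ (by show _ ∈ T0.reps; unfold T0; simp) rfl (by decide)
    · exact key ⟨[], 4, 2, false⟩ (by show _ ∈ T1.reps; unfold T1; simp) rfl (by decide)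
    · exact key ⟨[], 4, 2, false⟩ (by show _ ∈ T2.reps; unfold T2; simp) rfl (by decide)
    · exact key ⟨[.p2, .xi], 1, 3, false⟩ (by show _ ∈ T3.reps; unfold T3; simp) rfl (by decide)
    · exact key ⟨[], 1, 3, false⟩ (by show _ ∈ T4.reps; unfold T4; simp) rfl (by decide)

end Cfsg.Agent.BabyU.ClosModelInst
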