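import Cfsg.Agent.BabyU.ClosFacts
import Cfsg.Agent.BabyU.ClosLemmas

/-!
# Closing: Lemma N and Lemma L for a subgroup `U` of `G` modulo `W`

`Ctx H t` : `t` is an involution, `C_G(t) ≤ H` and the conjugates of `t` in `H` are conjugate to `t` in `H`.
-/

set_option autoImplicit false

namespace Cfsg.Agent.BabyU.Clos

variable {G : Type*} [Group G]

/-- The context. -/
structure Ctx (H : Subgroup G) (t : G) : Prop where
  sq : t * t = 1
  cent : ∀ g : G, g * t = t * g → g ∈ H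
  mem : ∀ d ∈ cl t, d ∈ H → d ∈ cls H t

theorem smul_mk_eq {H : Subgroup G} (d b : G) :
    d • (QuotientGroup.mk b : G ⧸ H) = QuotientGroup.mk b ↔ b⁻¹ * d * b ∈ H := by
  rw [MulAction.Quotient.smul_mk, eq_comm, QuotientGroup.eq, smul_eq_mul, mul_assoc]

namespace Ctx

variable {H : Subgroup G} {t : G} (C : Ctx H t)

include C

theorem tH : t ∈ H := C.cent t rfl

/-- A conjugate of `t` fixes at most one point. -/
theorem fix_uniq {d : G} (hd : d ∈ cl t) {a b : G ⧸ H} (ha : d • a = a) (hb : d • b = b) : a = b := by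
  have key : ∀ k g : G, g * t * g⁻¹ = d → d • (QuotientGroup.mk k : G ⧸ H) = QuotientGroup.mk k →
      (QuotientGroup.mk k : G ⧸ H) = QuotientGroup.mk g := by
    intro k g hg hk
    rw [smul_mk_eq] at hk
    obtain ⟨h, hh, e⟩ := C.mem _ (cl_conj' hd k) hk
    rw [QuotientGroup.eq]
    have h1 : (h⁻¹ * k⁻¹ * g) * t = t * (h⁻¹ * k⁻¹ * g) := by
      calc (h⁻¹ * k⁻¹ * g) * t = h⁻¹ * (k⁻¹ * (g * t * g⁻¹) * k) * (k⁻¹ * g) := by group
        _ = h⁻¹ * (h * t * h⁻¹) * (k⁻¹ * g) := by rw [hg, e]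
        _ = _ := by group
    have h2 := H.mul_mem hh (C.cent _ h1)
    have e2 : h * (h⁻¹ * k⁻¹ * g) = k⁻¹ * g := by group
    rwa [e2] at h2
  obtain ⟨g, hg⟩ := id hd
  induction a using QuotientGroup.induction_on with
  | H a =>
    induction b using QuotientGroup.induction_on with
    | H b => rw [key a g hg ha, key b g hg hb]

omit C in
theorem mk_one_fix {d : G} : d • (QuotientGroup.mk 1 : G ⧸ H) = QuotientGroup.mk 1 ↔ d ∈ H := by
  rw [smul_mk_eq]
  simp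

end Ctx

section U

variable (H U : Subgroup G)

/-- The orbit of `H` under `U`. -/
def Orb : Type _ := {a : G ⧸ H // ∃ u ∈ U, a = QuotientGroup.mk u}

variable {H U}

theorem Orb.ext {a b : Orb H U} (h : a.1 = b.1) : a = b := Subtype.ext h

/-- base point -/
def Orb.base : Orb H U := ⟨QuotientGroup.mk 1, 1, U.one_mem, rfl⟩

instance instOrb : MulAction U (Orb H U) where
  smul g a := ⟨(g : G) • a.1, by
    obtain ⟨u, hu, e⟩ := a.2
    refine ⟨(g : G) * u, U.mul_mem g.2 hu, ?_⟩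
    rw [e]; rfl⟩
  one_smul a := Subtype.ext (one_smul G a.1)
  mul_smul g h a := Subtype.ext (mul_smul (g : G) (h : G) a.1)

theorem Orb.smul_val (g : U) (a : Orb H U) : (g • a).1 = (g : G) • a.1 := rfl

variable (H U) in
/-- The data of the lemmas. -/
structure Dat (W : Subgroup G) (t : G) (E : Set G) : Prop where
  ctx : Ctx H t
  WU : W ≤ U
  WH : W ≤ H
  Wn : ∀ u ∈ U, ∀ w ∈ W, u * w * u⁻¹ ∈ W
  EU : ∀ x ∈ E, x ∈ U
  Et : ∀ x ∈ E, x ∈ cl t
  conj : ∀ x ∈ E, ∀ g ∈ U, g * x * g⁻¹ ∈ E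
  ex : ∃ x ∈ E, x ∈ H

namespace Dat

variable {W : Subgroup G} {t : G} {E : Set G} (D : Dat H U W t E)

include D

theorem normal : (W.subgroupOf U).Normal := ⟨fun w hw g => D.Wn g g.2 w hw⟩

theorem W_triv {w : G} (hw : w ∈ W) (a : Orb H U) : w • a.1 = a.1 := by
  obtain ⟨u, hu, e⟩ := a.2
  rw [e, smul_mk_eq]
  have := D.Wn u⁻¹ (U.inv_mem hu) w hw
  rw [inv_inv] at this
  exact D.WH this

/-- The quotient group. -/
abbrev Quo (U W : Subgroup G) : Type _ := U ⧸ (W.subgroupOf U)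

omit D in
/-- The action of the quotient. -/
noncomputable def rho [inst : (W.subgroupOf U).Normal] (D : Dat H U W t E) : Quo U W →* Equiv.Perm (Orb H U) :=
  QuotientGroup.lift (W.subgroupOf U) (MulAction.toPermHom U (Orb H U)) (by
    intro w hw
    refine Equiv.ext fun a => Orb.ext ?_
    exact D.W_triv hw a)

omit D in
theorem rho_mk [inst : (W.subgroupOf U).Normal] (D : Dat H U W t E) (g : U) (a : Orb H U) :
    (rho D (QuotientGroup.mk g) a).1 = (g : G) • a.1 := rfl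

omit D in
/-- The homes. -/
def hm [inst : (W.subgroupOf U).Normal] (E : Set G) (q : Quo U W) (a : Orb H U) : Prop :=
  ∃ u : U, (QuotientGroup.mk u : Quo U W) = q ∧ (u : G) ∈ E ∧ (u : G) • a.1 = a.1

theorem home [inst : (W.subgroupOf U).Normal] : Home (rho D) (hm (H := H) (U := U) (W := W) E) where
  sq := by
    rintro _ b ⟨u, rfl, hu, -⟩
    rw [← QuotientGroup.mk_mul]
    have : u * u = 1 := Subtype.ext (cl_sq D.ctx.sq (D.Et _ hu))
    rw [this]; rfl
  conj := by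
    rintro _ b ⟨u, rfl, hu, hub⟩ g
    induction g using QuotientGroup.induction_on with
    | H g =>
      refine ⟨g * u * g⁻¹, rfl, D.conj _ hu g g.2, ?_⟩
      rw [rho_mk]
      show ((g : G) * u * (g : G)⁻¹) • ((g : G) • b.1) = (g : G) • b.1
      rw [smul_smul, inv_mul_cancel_right, mul_smul, hub]
  self := by
    rintro _ b ⟨u, rfl, hu, hub⟩
    exact Orb.ext hub
  fix := by
    rintro _ b ⟨u, rfl, hu, hub⟩ c hc
    have h1 : (u : G) • c.1 = c.1 := congrArg Subtype.val hc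
    exact Orb.ext (D.ctx.fix_uniq (D.Et _ hu) h1 hub)
  surj := by
    intro b
    obtain ⟨x, hx, hxH⟩ := D.ex
    obtain ⟨u, hu, e⟩ := b.2
    refine ⟨QuotientGroup.mk ⟨u * x * u⁻¹, U.mul_mem (U.mul_mem hu (D.EU x hx)) (U.inv_mem hu)⟩,
      ⟨u * x * u⁻¹, _⟩, rfl, D.conj x hx u hu, ?_⟩
    rw [e, smul_mk_eq]
    show u⁻¹ * (u * x * u⁻¹) * u ∈ H
    have : u⁻¹ * (u * x * u⁻¹) * u = x := by group
    rwa [this]

omit D in
theorem mk_eq_iff [inst : (W.subgroupOf U).Normal] {a b : U} :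
    (QuotientGroup.mk a : Quo U W) = QuotientGroup.mk b ↔ (a : G)⁻¹ * b ∈ W := by
  rw [QuotientGroup.eq]; rfl

omit D in
theorem mk_comm_iff [inst : (W.subgroupOf U).Normal] {a b : U} :
    (QuotientGroup.mk a : Quo U W) * QuotientGroup.mk b = QuotientGroup.mk b * QuotientGroup.mk a ↔
      (a : G) * b * (a : G)⁻¹ * (b : G)⁻¹ ∈ W := by
  rw [← QuotientGroup.mk_mul, ← QuotientGroup.mk_mul, eq_comm, QuotientGroup.eq]
  have hN := inst
  constructor
  · intro h
    have := hN.conj_mem _ h (b * a)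
    have e : b * a * ((b * a)⁻¹ * (a * b)) * (b * a)⁻¹ = a * b * a⁻¹ * b⁻¹ := by group
    rw [e] at this
    exact this
  · intro h
    have h' : a * b * a⁻¹ * b⁻¹ ∈ W.subgroupOf U := h
    have := hN.conj_mem _ h' (b * a)⁻¹
    have e : (b * a)⁻¹ * (a * b * a⁻¹ * b⁻¹) * (b * a)⁻¹⁻¹ = (b * a)⁻¹ * (a * b) := by group
    rwa [e] at this

/-- **Lemma L** for `U` modulo `W`. -/
theorem lite [Finite G]
    (hcrit : ∀ x ∈ E, x ∈ H → ∀ y ∈ E, ∀ j ∈ U, j ∉ W → j * x ∈ E → x * j * x⁻¹ * j⁻¹ ∈ W →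
      y * j * y⁻¹ * j⁻¹ ∈ W → y ∈ H)
    {w : G} (hwU : w ∈ U) (hw2 : w * w ∈ W) (hw : ∀ x ∈ E, x * w * x⁻¹ * w⁻¹ ∈ W → x ∈ H) :
    (∀ u ∈ U, u⁻¹ * w * u ∈ H) ∨ ∃ x ∈ E, x ∈ H ∧ x * w * x⁻¹ * w⁻¹ ∈ W ∧ ∀ u ∈ U, u⁻¹ * (w * x) * u ∈ H := by
  haveI inst := D.normal
  have Hm := D.home
  have hodd : ∀ (d : Quo U W) (b : Orb H U) (e : Quo U W) (c : Orb H U),
      hm (H := H) E d b → hm (H := H) E e c → b ≠ c → Odd (orderOf (d * e)) := by
    intro d b e c hd he hbc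
    by_contra hcon
    rw [Nat.not_odd_iff_even] at hcon
    obtain ⟨k, hk⟩ := hcon
    have hpos : 0 < orderOf (d * e) := orderOf_pos _
    have hj1 : (d * e) ^ k ≠ 1 := by
      intro h
      have := Nat.le_of_dvd (by omega) (orderOf_dvd_of_pow_eq_one h)
      omega
    have hjj : (d * e) ^ k * (d * e) ^ k = 1 := by rw [← pow_add, ← hk, pow_orderOf_eq_one]
    have hdd := Hm.sq _ _ hd
    have hee := Hm.sq _ _ he
    have hd' : d⁻¹ = d := inv_eq_of_mul_eq_one_left hdd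
    have he' : e⁻¹ = e := inv_eq_of_mul_eq_one_left hee
    have hinvd : d * (d * e) * d⁻¹ = (d * e)⁻¹ := by
      rw [mul_inv_rev, hd', he']
      calc d * (d * e) * d = (d * d) * (e * d) := by group
        _ = e * d := by rw [hdd, one_mul]
    have hinve : e * (d * e) * e⁻¹ = (d * e)⁻¹ := by
      rw [mul_inv_rev, hd', he']
      calc e * (d * e) * e = (e * d) * (e * e) := by group
        _ = e * d := by rw [hee, mul_one]
    have hcd : d * (d * e) ^ k * d⁻¹ = (d * e) ^ k := by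
      rw [← conj_pow, hinvd, inv_pow]; exact inv_eq_of_mul_eq_one_left hjj
    have hce : e * (d * e) ^ k * e⁻¹ = (d * e) ^ k := by
      rw [← conj_pow, hinve, inv_pow]; exact inv_eq_of_mul_eq_one_left hjj
    obtain ⟨x, rfl, hx, hxb⟩ := hd
    obtain ⟨y, rfl, hy, hyc⟩ := he
    -- move the home of `x` to the base point
    obtain ⟨u, hu, eb⟩ := b.2
    let u' : U := ⟨u, hu⟩
    have hxH : u⁻¹ * (x : G) * u ∈ H := by
      rw [eb, smul_mk_eq] at hxb; exact hxb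
    have hconj' : ∀ v ∈ E, u⁻¹ * v * u ∈ E := by
      intro v hv
      have := D.conj v hv u⁻¹ (U.inv_mem hu)
      rwa [inv_inv] at this
    -- `j x ∈ E`
    have hpow : ∀ n : ℕ, ((x : G) * y) ^ n * x ∈ E := by
      intro n
      have hx' : (x : G)⁻¹ = x := inv_eq_of_mul_eq_one_left (cl_sq D.ctx.sq (D.Et _ hx))
      have hy' : (y : G)⁻¹ = y := inv_eq_of_mul_eq_one_left (cl_sq D.ctx.sq (D.Et _ hy))
      induction n using Nat.strong_induction_on with
      | _ n ih =>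
        match n, ih with
        | 0, _ => rwa [pow_zero, one_mul]
        | 1, _ =>
          have := D.conj y hy x x.2
          rwa [hx', ← pow_one ((x : G) * y)] at this
        | n + 2, ih =>
          have h1 := D.conj _ (ih n (by omega)) ((x : G) * y) (U.mul_mem x.2 y.2)
          have e1 : (x : G) * y * (((x : G) * y) ^ n * x) * ((x : G) * y)⁻¹ = ((x : G) * y) ^ (n + 2) * x := by
            rw [mul_inv_rev, hx', hy', pow_succ, pow_succ]
            have : (x : G) * y * ((x : G) * y) ^ n = ((x : G) * y) ^ n * ((x : G) * y) :=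
              (pow_succ' ((x : G) * y) n).symm.trans (pow_succ ((x : G) * y) n)
            calc (x : G) * y * (((x : G) * y) ^ n * x) * (y * x)
                = ((x : G) * y * ((x : G) * y) ^ n) * ((x : G) * y) * x := by group
              _ = _ := by rw [this]
          rwa [e1] at h1
    have hjU : ((x : G) * y) ^ k ∈ U := U.pow_mem (U.mul_mem x.2 y.2) k
    have hmk : ((QuotientGroup.mk x : Quo U W) * QuotientGroup.mk y) ^ k = QuotientGroup.mk ((x * y) ^ k) := rfl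
    have hjW : ((x : G) * y) ^ k ∉ W := by
      intro h
      apply hj1
      rw [hmk]
      exact (QuotientGroup.eq_one_iff _).2 h
    have hcd' : (x : G) * ((x : G) * y) ^ k * (x : G)⁻¹ * (((x : G) * y) ^ k)⁻¹ ∈ W := by
      have := mk_comm_iff (W := W) (a := x) (b := (x * y) ^ k)
      refine this.1 ?_
      rw [← hmk]
      exact mul_inv_eq_iff_eq_mul.1 hcd
    have hce' : (y : G) * ((x : G) * y) ^ k * (y : G)⁻¹ * (((x : G) * y) ^ k)⁻¹ ∈ W := by
      have := mk_comm_iff (W := W) (a := y) (b := (x * y) ^ k)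
      refine this.1 ?_
      rw [← hmk]
      exact mul_inv_eq_iff_eq_mul.1 hce
    have conjW : ∀ v ∈ W, u⁻¹ * v * u ∈ W := by
      intro v hv
      have := D.Wn u⁻¹ (U.inv_mem hu) v hv
      rwa [inv_inv] at this
    have conjW' : ∀ v : G, u⁻¹ * v * u ∈ W → v ∈ W := by
      intro v hv
      have := D.Wn u hu _ hv
      have e : u * (u⁻¹ * v * u) * u⁻¹ = v := by group
      rwa [e] at this
    have hfin := hcrit (u⁻¹ * x * u) (hconj' _ hx) hxH (u⁻¹ * y * u) (hconj' _ hy)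
      (u⁻¹ * ((x : G) * y) ^ k * u) (U.mul_mem (U.mul_mem (U.inv_mem hu) hjU) hu)
      (fun h => hjW (conjW' _ h)) (by
        have := hconj' _ (hpow k)
        have e : u⁻¹ * ((x : G) * y) ^ k * u * (u⁻¹ * x * u) = u⁻¹ * (((x : G) * y) ^ k * x) * u := by group
        rwa [e]) (by
        have := conjW _ hcd'
        have e : u⁻¹ * (x : G) * u * (u⁻¹ * ((x : G) * y) ^ k * u) * (u⁻¹ * (x : G) * u)⁻¹ *
            (u⁻¹ * ((x : G) * y) ^ k * u)⁻¹ =
            u⁻¹ * ((x : G) * ((x : G) * y) ^ k * (x : G)⁻¹ * (((x : G) * y) ^ k)⁻¹) * u := by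
          simp only [mul_inv_rev, inv_inv, mul_assoc, mul_inv_cancel_left]
        rwa [e]) (by
        have := conjW _ hce'
        have e : u⁻¹ * (y : G) * u * (u⁻¹ * ((x : G) * y) ^ k * u) * (u⁻¹ * (y : G) * u)⁻¹ *
            (u⁻¹ * ((x : G) * y) ^ k * u)⁻¹ =
            u⁻¹ * ((y : G) * ((x : G) * y) ^ k * (y : G)⁻¹ * (((x : G) * y) ^ k)⁻¹) * u := by
          simp only [mul_inv_rev, inv_inv, mul_assoc, mul_inv_cancel_left]
        rwa [e])
    apply hbc
    apply Orb.ext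
    refine D.ctx.fix_uniq (D.Et _ hy) ?_ hyc
    rw [eb, smul_mk_eq]
    exact hfin
  have hww : (QuotientGroup.mk (⟨w, hwU⟩ : U) : Quo U W) * QuotientGroup.mk (⟨w, hwU⟩ : U) = 1 := by
    rw [← QuotientGroup.mk_mul, QuotientGroup.eq_one_iff]
    exact hw2
  have hwa : ∀ (x : Quo U W) (b : Orb H U), hm (H := H) E x b →
      x * QuotientGroup.mk (⟨w, hwU⟩ : U) = QuotientGroup.mk (⟨w, hwU⟩ : U) * x → b = Orb.base := by
    rintro _ b ⟨x, rfl, hx, hxb⟩ hc
    have h1 := (mk_comm_iff (W := W) (a := x) (b := (⟨w, hwU⟩ : U))).1 hc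
    have h2 := hw x hx h1
    exact Orb.ext (D.ctx.fix_uniq (D.Et _ hx) hxb (Ctx.mk_one_fix.2 h2))
  have hpt : ∀ (g : U), (∀ b : Orb H U, rho D (QuotientGroup.mk g) b = b) → ∀ u ∈ U, u⁻¹ * (g : G) * u ∈ H := by
    intro g hg u hu
    have := congrArg Subtype.val (hg ⟨QuotientGroup.mk u, u, hu, rfl⟩)
    exact (smul_mk_eq _ _).1 this
  rcases Hm.lite hodd hww (a := Orb.base) hwa with h | ⟨x, hx, hxw, h⟩
  · exact Or.inl (hpt ⟨w, hwU⟩ h)
  · right
    obtain ⟨x, rfl, hxE, hxb⟩ := hx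
    refine ⟨x, hxE, Ctx.mk_one_fix.1 hxb, (mk_comm_iff (W := W) (a := x) (b := (⟨w, hwU⟩ : U))).1 hxw, ?_⟩
    exact hpt ((⟨w, hwU⟩ : U) * x) h

/-- The uniqueness needed in Lemma N. -/
theorem uniq_of [inst : (W.subgroupOf U).Normal] {d : G} (hiso : ∀ x ∈ E, x ∈ H → d⁻¹ * x ∈ W) (x y : Quo U W)
    (b : Orb H U) (hx : hm (H := H) E x b) (hy : hm (H := H) E y b) : x = y := by
  obtain ⟨x, rfl, hx, hxb⟩ := hx
  obtain ⟨y, rfl, hy, hyb⟩ := hy
  obtain ⟨u, hu, eb⟩ := b.2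
  rw [eb, smul_mk_eq] at hxb hyb
  have hconj' : ∀ v ∈ E, u⁻¹ * v * u ∈ E := by
    intro v hv
    have := D.conj v hv u⁻¹ (U.inv_mem hu)
    rwa [inv_inv] at this
  have h1 := hiso _ (hconj' _ hx) hxb
  have h2 := hiso _ (hconj' _ hy) hyb
  have h3 := W.mul_mem (W.inv_mem h1) h2
  rw [mk_eq_iff]
  have h4 := D.Wn u hu _ h3
  have e : u * ((d⁻¹ * (u⁻¹ * (x : G) * u))⁻¹ * (d⁻¹ * (u⁻¹ * (y : G) * u))) * u⁻¹ = (x : G)⁻¹ * y := by group
  rwa [e] at h4

/-- **Lemma N**, first form. -/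
theorem iso_aux [Finite G] {d : G} (hd : d ∈ E) (hdH : d ∈ H) (hiso : ∀ x ∈ E, x ∈ H → d⁻¹ * x ∈ W)
    {w : G} (hwU : w ∈ U) (hwt : w ∈ cl t) (hwH : w ∈ H) {u : G} (hu : u ∈ U) (huH : u ∉ H) :
    u⁻¹ * (d * w) * u ∈ H := by
  haveI inst := D.normal
  have Hm := D.home
  let b : Orb H U := ⟨QuotientGroup.mk u, u, hu, rfl⟩
  have hb : b ≠ Orb.base := by
    intro h
    have h1 : (QuotientGroup.mk u : G ⧸ H) = QuotientGroup.mk 1 := congrArg Subtype.val h
    rw [QuotientGroup.eq] at h1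
    apply huH
    simpa using h1
  have h1 := Hm.isolated_aux (D.uniq_of hiso) (d₀ := QuotientGroup.mk (⟨d, D.EU d hd⟩ : U)) (a := Orb.base)
    ⟨⟨d, D.EU d hd⟩, rfl, hd, Ctx.mk_one_fix.2 hdH⟩ (w := QuotientGroup.mk (⟨w, hwU⟩ : U)) (by
      rw [← QuotientGroup.mk_mul]
      have : (⟨w, hwU⟩ : U) * ⟨w, hwU⟩ = 1 := Subtype.ext (cl_sq D.ctx.sq hwt)
      rw [this]; rfl) (by
      intro c hc
      exact Orb.ext (D.ctx.fix_uniq hwt (congrArg Subtype.val hc) (Ctx.mk_one_fix.2 hwH))) hb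
  have h2 : w • (QuotientGroup.mk u : G ⧸ H) = d • (QuotientGroup.mk u : G ⧸ H) := congrArg Subtype.val h1
  rw [← smul_mk_eq, mul_smul, h2, ← mul_smul, cl_sq D.ctx.sq (D.Et _ hd), one_smul]

/-- **Lemma N**. -/
theorem iso [Finite G] {d : G} (hd : d ∈ E) (hdH : d ∈ H) (hiso : ∀ x ∈ E, x ∈ H → d⁻¹ * x ∈ W)
    {l : List G} (hl : ∀ w ∈ l, w ∈ U ∧ w ∈ cl t ∧ w ∈ H) (hodd : Odd l.length) (hprod : l.prod ∈ W) : U ≤ H := by
  haveI inst := D.normal
  have Hm := D.home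
  -- lift the list
  obtain ⟨l', hl', hlen⟩ : ∃ l' : List U, l'.map (fun x : U => (x : G)) = l ∧ l'.length = l.length := by
    refine ⟨l.attach.map fun x => ⟨x.1, (hl x.1 x.2).1⟩, ?_, by simp⟩
    rw [List.map_map]
    show List.map (fun x => x.1) l.attach = l
    exact List.attach_map_subtype_val l
  have hprod' : ((l'.prod : U) : G) = l.prod := by
    rw [← hl']
    exact map_list_prod U.subtype l'
  have h1 := Hm.isolated (D.uniq_of hiso) (d₀ := QuotientGroup.mk (⟨d, D.EU d hd⟩ : U)) (a := Orb.base)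
    ⟨⟨d, D.EU d hd⟩, rfl, hd, Ctx.mk_one_fix.2 hdH⟩
    (l := l'.map fun x => (QuotientGroup.mk x : Quo U W)) (by
      intro w hw
      obtain ⟨x, hx, rfl⟩ := List.mem_map.1 hw
      have hxl : (x : G) ∈ l := by rw [← hl']; exact List.mem_map.2 ⟨x, hx, rfl⟩
      obtain ⟨_, hx2, hx3⟩ := hl _ hxl
      refine ⟨?_, ?_, ?_⟩
      · rw [← QuotientGroup.mk_mul]
        have : x * x = 1 := Subtype.ext (cl_sq D.ctx.sq hx2)
        rw [this]; rfl
      · exact Orb.ext (Ctx.mk_one_fix.2 hx3)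
      · intro c hc
        exact Orb.ext (D.ctx.fix_uniq hx2 (congrArg Subtype.val hc) (Ctx.mk_one_fix.2 hx3)))
    (by rw [List.length_map, hlen]; exact hodd) (by
      intro b
      have e : (l'.map fun x => (QuotientGroup.mk x : Quo U W)).prod = QuotientGroup.mk l'.prod :=
        (map_list_prod (QuotientGroup.mk' (W.subgroupOf U)) l').symm
      rw [e]
      apply Orb.ext
      rw [rho_mk, hprod']
      exact D.W_triv hprod b)
  intro u hu
  have h2 : (QuotientGroup.mk u : G ⧸ H) = QuotientGroup.mk 1 :=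
    congrArg Subtype.val (h1 ⟨QuotientGroup.mk u, u, hu, rfl⟩)
  rw [QuotientGroup.eq] at h2
  simpa using h2

end Dat

end U

end Cfsg.Agent.BabyU.Clos
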