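import Cfsg.Agent.BabyU.Out
import Cfsg.Agent.BabyU.Setup
import Cfsg.Agent.StandardComponent.StdCtx
import Cfsg.Agent.Lib.Cores

/-!
# S1736 (a): the context of a standard double cover of `²E₆(2)`

`CtxTwo L K t π`: `K = C_G(L)`, `C_G(t)` contains `L K` with index at most two, `L ∩ K = {1, t}`, `K` is tightly
embedded and has trivial core, `π : L →* E` is onto with kernel `{1, t}` and `L` is perfect.
`exists_ctx`: this holds for a standard subgroup `L` with `L / Z(L) ≅ E = ²E₆(2)`, `|Z(L)| = 2`.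
`CtxTwo.setup`: if `K = {1, t}` then `Setup t L π`.
-/

set_option autoImplicit false

namespace Cfsg.Agent.BabyU

open Cfsg Cfsg.Agent.R01.Lifts
open scoped commutatorElement

universe u v

/-- `C_G(t)` for the involution `t` of the centre of a standard subgroup `L`, `K = C_G(L)`. -/
structure CtxTwo {G : Type u} {E : Type v} [Group G] [Group E] (L K : Subgroup G) (t : G) (π : L →* E) : Prop where
  t1 : t ≠ 1
  t2 : t * t = 1
  tL : t ∈ L
  tK : t ∈ K
  mem_K : ∀ g, g ∈ K ↔ ∀ l ∈ L, g * l = l * g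
  LC : ∀ l ∈ L, l * t = t * l
  KC : ∀ k ∈ K, k * t = t * k
  LK : ∀ x ∈ L, x ∈ K → x = 1 ∨ x = t
  Lnorm : ∀ c, c * t = t * c → ∀ l ∈ L, c * l * c⁻¹ ∈ L
  Knorm : ∀ c, c * t = t * c → ∀ k ∈ K, c * k * c⁻¹ ∈ K
  index : ∀ c d, c * t = t * c → d * t = t * d → (¬ ∃ l ∈ L, ∃ k ∈ K, c = l * k) →
    (¬ ∃ l ∈ L, ∃ k ∈ K, d = l * k) → ∃ l ∈ L, ∃ k ∈ K, c * d = l * k
  tight : ∀ h, ¬ h * t = t * h → ∀ N : Subgroup G, N ≤ K → (∀ n ∈ N, h⁻¹ * n * h ∈ K) → Odd (Nat.card N)
  cent : ∀ v ∈ K, v * v = 1 → v ≠ 1 → ∀ c, c * v = v * c → c * t = t * c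
  core : ∀ N : Subgroup G, N ≤ K → (∀ k ∈ K, ∀ n ∈ N, k * n * k⁻¹ ∈ N) → Odd (Nat.card N) → N = ⊥
  surj : Function.Surjective π
  ker : ∀ m : L, π m = 1 ↔ (m : G) = 1 ∨ (m : G) = t
  perf : commutator L = ⊤

namespace CtxTwo

open Cfsg.Agent.TwoESix.Cox10 Cfsg.Agent.TwoESix.Lift Cfsg.Agent.TwoESix.Cover Cfsg.Agent.BabyU.OutFree
open Cfsg.Agent.BabyU.Out Cfsg.Agent.BabyU.OutCount

variable {E : Type*} [Group E] {F : Type*} [Field F] [Fintype F] {hF : Fintype.card F = 2 ^ 2}

/-- Automorphisms of a double cover of `E` which preserve the root involutions form at most two classes modulo the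
inner ones. -/
theorem aut_two [Finite HB] {M : Type*} [Group M] (hcov : IsNonsplitDoubleCover M E)
    (hcard : Nat.card HB ≤ Nat.card E) (hE : ∃ a b : E, ¬ Commute a b) {R : Set E} (H : Hyp hF R)
    {π : M →* E} {z : M} (h : Ext π z) {m : Fin 10 → M} (hm : ZRels m z)
    (hgen : Subgroup.closure (Set.range m) = ⊤) (hmR : ∀ i, π (m i) ∈ R)
    (θ : M ≃* M) (hR : ∀ x : M, π x ∈ R → π (θ x) ∈ R) :
    ∃ (y : M) (n : Fin 6), (n = 0 ∨ n = 3) ∧ ∀ i, y * θ (m i) * y⁻¹ = m (P6 n i) := by
  have hcenter : ∀ c : M, (∀ d : M, c * d = d * c) → c = 1 ∨ c = z := by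
    intro c hc
    obtain ⟨h2, _, _⟩ := hcov
    have hzc : z ∈ Subgroup.center M := Subgroup.mem_center_iff.2 h.comm
    have hcc : c ∈ Subgroup.center M := Subgroup.mem_center_iff.2 fun d => (hc d).symm
    have hn : (Subgroup.center M : Set M).ncard = 2 := h2
    by_contra hno
    push Not at hno
    have hsub : ({1, z, c} : Set M) ⊆ (Subgroup.center M : Set M) := by
      rintro x (rfl | rfl | rfl)
      · exact (Subgroup.center M).one_mem
      · exact hzc
      · exact hcc
    have hfin : (Subgroup.center M : Set M).Finite := Set.finite_of_ncard_ne_zero (by rw [hn]; norm_num)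
    have h3 := Set.ncard_le_ncard hsub hfin
    rw [hn, Set.ncard_insert_of_notMem, Set.ncard_pair] at h3
    · omega
    · exact fun h => hno.2 h.symm
    · rintro (h1 | h1)
      · exact h.zne h1.symm
      · exact hno.1 (Set.mem_singleton_iff.1 h1).symm
  have hzfix : θ z = z := by
    have h1 : ∀ d : M, θ z * d = d * θ z := by
      intro d
      obtain ⟨d, rfl⟩ := θ.surjective d
      rw [← map_mul, ← map_mul, h.comm]
    rcases hcenter _ h1 with h2 | h2
    · exact absurd (θ.injective (h2.trans (map_one θ).symm)) h.zne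
    · exact h2
  have hGG : GG (fun i => π (m i)) := by
    refine ⟨?_, ?_⟩
    · have := hm.map π
      rw [h.mapz] at this
      exact this.good
    · have e : (Set.range fun i => π (m i)) = π '' Set.range m := by rw [← Set.range_comp]; rfl
      rw [e, ← MonoidHom.map_closure, hgen, ← MonoidHom.range_eq_map, MonoidHom.range_eq_top]
      exact h.surj
  have hGG' : GG (fun i => π (θ (m i))) := by
    refine ⟨?_, ?_⟩
    · have := hm.map (π.comp θ.toMonoidHom)
      have hz : (π.comp θ.toMonoidHom) z = 1 := by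
        show π (θ z) = 1
        rw [hzfix, h.mapz]
      rw [hz] at this
      exact this.good
    · have e : (Set.range fun i => π (θ (m i))) = (π.comp θ.toMonoidHom) '' Set.range m := by
        rw [← Set.range_comp]; rfl
      rw [e, ← MonoidHom.map_closure, hgen, ← MonoidHom.range_eq_map, MonoidHom.range_eq_top]
      exact h.surj.comp θ.surjective
  obtain ⟨x, k, hx⟩ := arms hcov hcard hE H hGG hmR hGG' fun i => hR _ (hmR i)
  obtain ⟨y, rfl⟩ := h.surj x
  have hh : ∀ i, π ((θ.trans (MulAut.conj y)).toMonoidHom (m i)) = π (m (P6 k i)) := by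
    intro i
    show π (y * θ (m i) * y⁻¹) = _
    rw [map_mul, map_mul, map_inv, hx]
  have h03 := zero_or_three h hm (θ.trans (MulAut.conj y)).toMonoidHom (n := k) hh (by
    show y * θ z * y⁻¹ = z
    rw [hzfix, h.comm, mul_inv_cancel_right])
  exact ⟨y, k, h03.1, h03.2⟩

/-- two automorphisms equal on generators -/
theorem eq_of_gens {M : Type*} [Group M] {m : Fin 10 → M} (hgen : Subgroup.closure (Set.range m) = ⊤) (θ θ' : M ≃* M)
    (h : ∀ i, θ (m i) = θ' (m i)) : θ = θ' := by
  have h2 : θ.toMonoidHom = θ'.toMonoidHom := by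
    refine MonoidHom.eq_of_eqOn_dense hgen ?_
    rintro _ ⟨i, rfl⟩
    exact h i
  exact MulEquiv.ext fun x => DFunLike.congr_fun h2 x

/-- The product of two automorphisms which are not inner is inner. -/
theorem aut_index [Finite HB] {M : Type*} [Group M] (hcov : IsNonsplitDoubleCover M E)
    (hcard : Nat.card HB ≤ Nat.card E) (hE : ∃ a b : E, ¬ Commute a b) {R : Set E} (H : Hyp hF R)
    {e : Fin 10 → E} (he : Good e) (hegen : Subgroup.closure (Set.range e) = ⊤) (heR : ∀ i, e i ∈ R)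
    {π : M →* E} {z : M} (h : Ext π z) (θ η : M ≃* M) (hR : ∀ x : M, π x ∈ R → π (θ x) ∈ R)
    (hR' : ∀ x : M, π x ∈ R → π (η x) ∈ R) (h1 : ¬ ∃ y : M, ∀ x, θ x = y * x * y⁻¹)
    (h2 : ¬ ∃ y : M, ∀ x, η x = y * x * y⁻¹) : ∃ y : M, ∀ x, θ (η x) = y * x * y⁻¹ := by
  obtain ⟨p, -, m, hpm, hm, hgen⟩ := exists_gens hcov he hegen hcard h
  have hmR : ∀ i, π (m i) ∈ R := fun i => by rw [hpm]; exact heR _
  obtain ⟨y, n, hn, hy⟩ := aut_two hcov hcard hE H h hm hgen hmR θ hR
  obtain ⟨y', n', hn', hy'⟩ := aut_two hcov hcard hE H h hm hgen hmR η hR'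
  -- the case of the trivial permutation
  have key : ∀ (ζ : M ≃* M) (y : M), (∀ i, y * ζ (m i) * y⁻¹ = m i) → ∃ y : M, ∀ x, ζ x = y * x * y⁻¹ := by
    intro ζ y hy
    have e1 : ζ.trans (MulAut.conj y) = MulEquiv.refl M := eq_of_gens hgen _ _ fun i => hy i
    refine ⟨y⁻¹, fun x => ?_⟩
    have e2 : y * ζ x * y⁻¹ = x := DFunLike.congr_fun e1 x
    calc ζ x = y⁻¹ * (y * ζ x * y⁻¹) * y⁻¹⁻¹ := by group
      _ = y⁻¹ * x * y⁻¹⁻¹ := by rw [e2]
  have h3 : n = 3 := by
    rcases hn with rfl | rfl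
    · exact absurd (key θ y fun i => by rw [hy]; rfl) h1
    · rfl
  have h3' : n' = 3 := by
    rcases hn' with rfl | rfl
    · exact absurd (key η y' fun i => by rw [hy']; rfl) h2
    · rfl
  subst h3 h3'
  have hinv : ∀ i, P6 3 (P6 3 i) = i := by decide
  refine key (η.trans θ) (y * θ y') fun i => ?_
  show y * θ y' * θ (η (m i)) * (y * θ y')⁻¹ = m i
  calc y * θ y' * θ (η (m i)) * (y * θ y')⁻¹ = y * θ (y' * η (m i) * y'⁻¹) * y⁻¹ := by
        rw [map_mul, map_mul, map_inv]; group
    _ = m i := by rw [hy', hy, hinv]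

/-- If `C_G(L) = {1, t}` then `Setup` holds. -/
theorem setup {G : Type u} {E : Type v} [Group G] [Group E] {L K : Subgroup G} {t : G} {π : L →* E}
    (c : CtxTwo L K t π) (hK : ∀ k ∈ K, k = 1 ∨ k = t) : Setup t L π where
  ne := c.t1
  sq := c.t2
  mem := c.tL
  comm := c.LC
  norm := c.Lnorm
  index := by
    intro g h hg hh hgL hhL
    have key : ∀ x, x ∉ L → ¬ ∃ l ∈ L, ∃ k ∈ K, x = l * k := by
      rintro x hx ⟨l, hl, k, hk, rfl⟩
      apply hx
      rcases hK k hk with rfl | rfl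
      · rw [mul_one]; exact hl
      · exact L.mul_mem hl c.tL
    by_contra hn
    exact key _ hn (c.index g h hg hh (key g hgL) (key h hhL))
  cent := fun g hg => hK g ((c.mem_K g).2 hg)
  surj := c.surj
  ker := c.ker
  nosec := by
    intro σ hσ
    -- `L` is perfect: the projection on `{1, t}` is trivial
    have hdec : ∀ x : L, (x : G) = (σ (π x) : G) ∨ (x : G) = t * (σ (π x) : G) := by
      intro x
      have h1 : π (x * (σ (π x))⁻¹) = 1 := by rw [map_mul, map_inv, hσ, mul_inv_cancel]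
      rcases (c.ker _).1 h1 with h | h
      · left
        have h2 : (x : G) * (σ (π x) : G)⁻¹ = 1 := h
        exact mul_inv_eq_one.1 h2
      · right
        have h2 : (x : G) * (σ (π x) : G)⁻¹ = t := h
        exact mul_inv_eq_iff_eq_mul.1 h2
    have hle : commutator L ≤ σ.range := by
      rw [commutator_def, Subgroup.commutator_le]
      rintro x - y -
      have e : ∀ x y : L, ⁅x, y⁆ = ⁅σ (π x), σ (π y)⁆ := by
        intro x y
        have hz : ∀ w : L, w * ⟨t, c.tL⟩ = ⟨t, c.tL⟩ * w := fun w => Subtype.ext (c.LC w w.2)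
        have hx : x = σ (π x) ∨ x = ⟨t, c.tL⟩ * σ (π x) := by
          rcases hdec x with h | h
          · left; exact Subtype.ext h
          · right; exact Subtype.ext h
        have hy : y = σ (π y) ∨ y = ⟨t, c.tL⟩ * σ (π y) := by
          rcases hdec y with h | h
          · left; exact Subtype.ext h
          · right; exact Subtype.ext h
        have c1 : ∀ u v : L, ⁅⟨t, c.tL⟩ * u, v⁆ = ⁅u, v⁆ := by
          intro u v
          rw [commutatorElement_def, commutatorElement_def]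
          calc ⟨t, c.tL⟩ * u * v * (⟨t, c.tL⟩ * u)⁻¹ * v⁻¹
              = ⟨t, c.tL⟩ * (u * v * u⁻¹) * (⟨t, c.tL⟩ : L)⁻¹ * v⁻¹ := by group
            _ = u * v * u⁻¹ * ⟨t, c.tL⟩ * (⟨t, c.tL⟩ : L)⁻¹ * v⁻¹ := by rw [← hz (u * v * u⁻¹)]
            _ = u * v * u⁻¹ * v⁻¹ := by group
        have c2 : ∀ u v : L, ⁅u, ⟨t, c.tL⟩ * v⁆ = ⁅u, v⁆ := by
          intro u v
          rw [← commutatorElement_inv, c1, commutatorElement_inv]
        rcases hx with hx | hx <;> rcases hy with hy | hy <;> conv_lhs => rw [hx, hy]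
        · rw [c2]
        · rw [c1]
        · rw [c1, c2]
      rw [e]
      exact ⟨⁅π x, π y⁆, by rw [map_commutatorElement]⟩
    rw [c.perf] at hle
    obtain ⟨w, hw⟩ := hle (Subgroup.mem_top (⟨t, c.tL⟩ : L))
    have h1 : π ⟨t, c.tL⟩ = 1 := (c.ker _).2 (Or.inr rfl)
    rw [← hw, hσ] at h1
    rw [h1, map_one] at hw
    exact c.t1 (congrArg Subtype.val hw).symm

end CtxTwo

open Cfsg.Agent.TwoESix.Cox10 Cfsg.Agent.TwoESix.Lift Cfsg.Agent.TwoESix.Cover Cfsg.Agent.BabyU.OutFree
open Cfsg.Agent.BabyU.Out Cfsg.Agent.BabyU.OutCount Cfsg.Agent.StandardComponent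

/-- **The context of a standard double cover of `²E₆(2)`.** -/
theorem exists_ctxTwo {G : Type u} [Group G] [Finite G] {E : Type v} [Group E] {F : Type*} [Field F] [Fintype F]
    {hF : Fintype.card F = 2 ^ 2} [Finite HB] (hcard : Nat.card HB ≤ Nat.card E)
    (hE : ∃ a b : E, ¬ Commute a b) {R : Set E} (H : Hyp hF R)
    (hauto : ∀ α : E ≃* E, ∀ r ∈ R, α r ∈ R)
    {e : Fin 10 → E} (he : Good e) (hegen : Subgroup.closure (Set.range e) = ⊤) (heR : ∀ i, e i ∈ R)
    (hbal : ∀ t : G, orderOf t = 2 → Cfsg.centralizerPPrimeCore 2 t = ⊥)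
    {L : Subgroup G} (hL : Cfsg.IsStandardSubgroup L) (hZ : Nat.card (Subgroup.center L) = 2)
    (hX : Nonempty (L ⧸ Subgroup.center L ≃* E)) :
    ∃ (t : G) (π : L →* E), CtxTwo L (Subgroup.centralizer (L : Set G)) t π := by
  obtain ⟨t, ht1, ht2, htL, htK, hLK⟩ := StdCtx.exists_inv hZ
  set K := Subgroup.centralizer (L : Set G) with hK
  have hcomm : ∀ l ∈ L, ∀ k ∈ K, Commute l k := fun l hl k hk => Subgroup.mem_centralizer_iff.1 hk l hl
  have hLC : ∀ l ∈ L, l * t = t * l := fun l hl => hcomm l hl t htK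
  have hKC : ∀ k ∈ K, k * t = t * k := fun k hk => (hcomm t htL k hk).symm
  have hot : orderOf t = 2 := StdCtx.orderOf_two ht1 ht2
  -- the cover
  have hperf : commutator L = ⊤ := hL.1.1.commutator_eq_top
  have hcov : IsNonsplitDoubleCover L E := by
    obtain ⟨e⟩ := hX
    exact StdCtx.nonsplit hL.1.1 hZ e
  obtain ⟨π, z, hπ⟩ := exists_ext hcov
  have hzt : (z : G) = t := by
    rcases hLK z z.2 (by
      rw [hK, Subgroup.mem_centralizer_iff]
      intro l hl
      exact congrArg Subtype.val (hπ.comm ⟨l, hl⟩)) with h | h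
    · exact absurd (Subtype.ext h) hπ.zne
    · exact h
  have hker : ∀ m : L, π m = 1 ↔ (m : G) = 1 ∨ (m : G) = t := by
    intro m
    rw [hπ.ker m]
    constructor
    · rintro (h | h)
      · left; rw [h]; rfl
      · right; rw [h, hzt]
    · rintro (h | h)
      · left; exact Subtype.ext h
      · right; exact Subtype.ext (h.trans hzt.symm)
  -- normalisers
  have hN1 : ∀ x, x * t = t * x → x ∈ Subgroup.normalizer (L : Set G) := fun x hx =>
    (Cfsg.Agent.S1754.result L hL t hot htK).1 (Subgroup.mem_centralizer_singleton_iff.2 hx)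
  have hNt : ∀ x, x ∈ Subgroup.normalizer (L : Set G) → x * t = t * x := by
    intro x hx
    have hx' : x ∈ Subgroup.normalizer (K : Set G) := by rw [hK, ← hL.2.2.2]; exact hx
    have h1 : x * t * x⁻¹ ∈ L := (Subgroup.mem_normalizer_iff.1 hx t).1 htL
    have h2 : x * t * x⁻¹ ∈ K := (Subgroup.mem_normalizer_iff.1 hx' t).1 htK
    rcases hLK _ h1 h2 with h3 | h3
    · exfalso
      apply ht1
      calc t = x⁻¹ * (x * t * x⁻¹) * x := by group
        _ = 1 := by rw [h3]; group
    · exact mul_inv_eq_iff_eq_mul.1 h3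
  have hNK : ∀ x, x * t = t * x → x ∈ Subgroup.normalizer (K : Set G) := by
    intro x hx; rw [hK, ← hL.2.2.2]; exact hN1 x hx
  have hLn : ∀ c, c * t = t * c → ∀ l ∈ L, c * l * c⁻¹ ∈ L := fun c hc l hl =>
    (Subgroup.mem_normalizer_iff.1 (hN1 c hc) l).1 hl
  have hKn : ∀ c, c * t = t * c → ∀ k ∈ K, c * k * c⁻¹ ∈ K := fun c hc k hk =>
    (Subgroup.mem_normalizer_iff.1 (hNK c hc) k).1 hk
  -- the automorphism of `L` induced by an element of `C_G(t)`
  have hinv : ∀ c, c * t = t * c → c⁻¹ * t = t * c⁻¹ := fun c hc => by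
    have : Commute c t := hc
    exact this.inv_left
  have hauto' : ∀ c, c * t = t * c → ∃ θ : L ≃* L, ∀ x : L, (θ x : G) = c * x * c⁻¹ := by
    intro c hc
    refine ⟨{ toFun := fun x => ⟨c * x * c⁻¹, hLn c hc x x.2⟩
              invFun := fun x => ⟨c⁻¹ * x * c, by simpa using hLn c⁻¹ (hinv c hc) x x.2⟩
              left_inv := fun x => Subtype.ext (by simp [mul_assoc])
              right_inv := fun x => Subtype.ext (by simp [mul_assoc])
              map_mul' := fun x y => Subtype.ext (by simp [mul_assoc]) }, fun x => rfl⟩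
  have hRθ : ∀ θ : L ≃* L, ∀ x : L, π x ∈ R → π (θ x) ∈ R := by
    intro θ
    -- induced automorphism of `E`
    have hcenter : ∀ c : L, (∀ d : L, c * d = d * c) → c = 1 ∨ c = z := by
      intro c hc
      rcases hLK c c.2 (by
        rw [hK, Subgroup.mem_centralizer_iff]
        intro l hl
        exact congrArg Subtype.val (hc ⟨l, hl⟩).symm) with h | h
      · left; exact Subtype.ext h
      · right; exact Subtype.ext (h.trans hzt.symm)
    have hzfix : ∀ θ : L ≃* L, θ z = z := by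
      intro θ
      have h1 : ∀ d : L, θ z * d = d * θ z := by
        intro d
        obtain ⟨d, rfl⟩ := θ.surjective d
        rw [← map_mul, ← map_mul, hπ.comm]
      rcases hcenter _ h1 with h2 | h2
      · exact absurd (θ.injective (h2.trans (map_one θ).symm)) hπ.zne
      · exact h2
    have hk : ∀ m, π m = 1 ↔ π (θ m) = 1 := by
      intro m
      rw [hπ.ker, hπ.ker]
      constructor
      · rintro (h | h)
        · left; rw [h, map_one]
        · right; rw [h, hzfix]
      · rintro (h | h)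
        · left; exact θ.injective (h.trans (map_one θ).symm)
        · right; exact θ.injective (h.trans (hzfix θ).symm)
    have h1 : π.ker = (π.comp θ.toMonoidHom).ker := by
      ext m
      exact hk m
    have h2 : Function.Surjective (π.comp θ.toMonoidHom) := hπ.surj.comp θ.surjective
    let α : E ≃* E := ((QuotientGroup.quotientKerEquivOfSurjective π hπ.surj).symm.trans
      (QuotientGroup.quotientMulEquivOfEq h1)).trans (QuotientGroup.quotientKerEquivOfSurjective _ h2)
    have h3 : ∀ m, α (π m) = π (θ m) := by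
      intro m
      have h4 : (QuotientGroup.quotientKerEquivOfSurjective π hπ.surj).symm (π m) = (m : L ⧸ π.ker) := by
        rw [MulEquiv.symm_apply_eq]
        rfl
      show (QuotientGroup.quotientKerEquivOfSurjective _ h2) ((QuotientGroup.quotientMulEquivOfEq h1)
        ((QuotientGroup.quotientKerEquivOfSurjective π hπ.surj).symm (π m))) = π (θ m)
      rw [h4]
      rfl
    intro x hx
    rw [← h3]
    exact hauto α _ hx
  -- an element inducing an inner automorphism is in `L K`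
  have hinner : ∀ c, c * t = t * c → ∀ θ : L ≃* L, (∀ x : L, (θ x : G) = c * x * c⁻¹) →
      (∃ y : L, ∀ x, θ x = y * x * y⁻¹) → ∃ l ∈ L, ∃ k ∈ K, c = l * k := by
    rintro c hc θ hθ ⟨y, hy⟩
    refine ⟨y, y.2, (y : G)⁻¹ * c, ?_, by group⟩
    rw [hK, Subgroup.mem_centralizer_iff]
    intro l hl
    have h1 : c * l * c⁻¹ = y * l * (y : G)⁻¹ := by
      rw [← hθ ⟨l, hl⟩, hy]
      rfl
    calc l * ((y : G)⁻¹ * c) = (y : G)⁻¹ * (y * l * (y : G)⁻¹) * c := by group
      _ = (y : G)⁻¹ * (c * l * c⁻¹) * c := by rw [h1]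
      _ = (y : G)⁻¹ * c * l := by group
  refine ⟨t, π, ⟨ht1, ht2, htL, htK, ?_, hLC, hKC, hLK, hLn, hKn, ?_, ?_, ?_, ?_, hπ.surj, hker, hperf⟩⟩
  · intro g
    rw [hK, Subgroup.mem_centralizer_iff]
    exact ⟨fun h l hl => (h l hl).symm, fun h l hl => (h l hl).symm⟩
  · intro c d hc hd hcn hdn
    obtain ⟨θ, hθ⟩ := hauto' c hc
    obtain ⟨η, hη⟩ := hauto' d hd
    obtain ⟨y, hy⟩ := CtxTwo.aut_index hcov hcard hE H he hegen heR hπ θ η (hRθ θ) (hRθ η)
      (fun h => hcn (hinner c hc θ hθ h)) (fun h => hdn (hinner d hd η hη h))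
    have hcd : c * d * t = t * (c * d) := by
      rw [mul_assoc, hd, ← mul_assoc, hc, mul_assoc]
    refine hinner (c * d) hcd (η.trans θ) (fun x => ?_) ⟨y, hy⟩
    show (θ (η x) : G) = _
    rw [hθ, hη]; group
  · intro h hh N hNle hNK'
    have h1 := hL.2.1.2 h (fun h' => hh (hNt h (by rw [hL.2.2.2]; exact h')))
    have h2 : N ≤ K ⊓ K.map (MulAut.conj h).toMonoidHom := by
      intro n hn
      refine ⟨hNle hn, ⟨h⁻¹ * n * h, hNK' n hn, ?_⟩⟩
      simp only [MulEquiv.toMonoidHom_eq_coe, MonoidHom.coe_coe, MulAut.conj_apply]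
      group
    exact Odd.of_dvd_nat h1 (Subgroup.card_dvd_of_le h2)
  · intro v hv hv2 hv1 c hc
    have h1 := (Cfsg.Agent.S1754.result L hL v (StdCtx.orderOf_two hv1 hv2) hv).1
      (Subgroup.mem_centralizer_singleton_iff.2 hc)
    exact hNt c h1
  · -- the core
    intro N hNK' hNn hodd
    set C := Subgroup.centralizer ({t} : Set G) with hC
    have hKC' : K ≤ C := fun k hk => Subgroup.mem_centralizer_singleton_iff.2 (hKC k hk)
    have hbot : pPrimeCore 2 C = ⊥ := by
      have h1 : (pPrimeCore 2 C).map C.subtype = ⊥ := hbal t hot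
      exact (Subgroup.map_eq_bot_iff_of_injective _ C.subtype_injective).1 h1
    have hKnor : (K.subgroupOf C).Normal := by
      refine ⟨fun k hk g => ?_⟩
      rw [Subgroup.mem_subgroupOf] at hk ⊢
      exact hKn g (Subgroup.mem_centralizer_singleton_iff.1 g.2) k hk
    have hKbot : pPrimeCore 2 (K.subgroupOf C) = ⊥ := by
      have h1 := Lib.Cores.map_subtype_pPrimeCore 2 hKnor
      rw [hbot, inf_bot_eq] at h1
      exact (Subgroup.map_eq_bot_iff_of_injective _ (K.subgroupOf C).subtype_injective).1 h1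
    have hNC : N ≤ C := hNK'.trans hKC'
    have hNor : ((N.subgroupOf C).subgroupOf (K.subgroupOf C)).Normal := by
      refine ⟨fun n hn k => ?_⟩
      exact hNn _ k.2 _ hn
    have hle : (N.subgroupOf C).subgroupOf (K.subgroupOf C) ≤ pPrimeCore 2 (K.subgroupOf C) := by
      refine Lib.Cores.le_pPrimeCore hNor ?_
      have e1 := Nat.card_congr (Subgroup.subgroupOfEquivOfLe hNC).toEquiv
      have e2 := Nat.card_congr (Subgroup.subgroupOfEquivOfLe
        (show N.subgroupOf C ≤ K.subgroupOf C from fun x hx => hNK' hx)).toEquiv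
      rw [e2, e1]
      exact Nat.coprime_two_right.2 hodd
    rw [eq_bot_iff]
    intro n hn
    have h1 : (⟨⟨n, hNC hn⟩, hNK' hn⟩ : K.subgroupOf C) ∈ (N.subgroupOf C).subgroupOf (K.subgroupOf C) := hn
    have h2 := hle h1
    rw [hKbot, Subgroup.mem_bot] at h2
    exact Subgroup.mem_bot.2 (congrArg (fun x : K.subgroupOf C => ((x : C) : G)) h2)

end Cfsg.Agent.BabyU
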