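import Cfsg.Agent.BabyM.AbsTrans

/-!
# F8 for the model of the Baby Monster (1): the two alternatives and the odd lemma

`Good M u` : the involution `u` fixes a signed axis, or it is the product of two commuting transpositions.

`odd` : if `u ∈ C` fixes the `23`-part of an odd number of lanes whose transpositions have product `1` or `z`,
then `u` fixes one of the axes.
-/

set_option autoImplicit false

namespace Cfsg.Agent.BabyU.F8Base

open Cfsg.Agent.BabyM.Model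

variable {W : Type} [AddCommGroup W] [Module ℚ W]

/-- The two alternatives of F8. -/
def Good (M : BData W) (u : W ≃ₗ[ℚ] W) : Prop :=
  (∃ g ∈ M.G, (g⁻¹ * u * g) M.d₀ = M.d₀) ∨
    ∃ g ∈ M.G, ∃ g' ∈ M.G, u * (g * M.t₀ * g⁻¹) = (g * M.t₀ * g⁻¹) * u ∧
      u * (g * M.t₀ * g⁻¹) = g' * M.t₀ * g'⁻¹

variable {M : BData W}

theorem inv_apply_self' (g : W ≃ₗ[ℚ] W) (x : W) : g⁻¹ (g x) = x := by
  rw [← LinearEquiv.mul_apply, inv_mul_cancel]; rfl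

theorem apply_inv_self' (g : W ≃ₗ[ℚ] W) (x : W) : g (g⁻¹ x) = x := by
  rw [← LinearEquiv.mul_apply, mul_inv_cancel]; rfl

theorem Good.conj {u g : W ≃ₗ[ℚ] W} (hg : g ∈ M.G) (h : Good M u) : Good M (g * u * g⁻¹) := by
  rcases h with ⟨k, hk, h⟩ | ⟨k, hk, k', hk', h1, h2⟩
  · refine Or.inl ⟨g * k, M.G.mul_mem hg hk, ?_⟩
    rw [show (g * k)⁻¹ * (g * u * g⁻¹) * (g * k) = k⁻¹ * u * k by group]
    exact h
  · refine Or.inr ⟨g * k, M.G.mul_mem hg hk, g * k', M.G.mul_mem hg hk', ?_, ?_⟩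
    · rw [show (g * u * g⁻¹) * (g * k * M.t₀ * (g * k)⁻¹) = g * (u * (k * M.t₀ * k⁻¹)) * g⁻¹ by group, h1]
      group
    · rw [show (g * u * g⁻¹) * (g * k * M.t₀ * (g * k)⁻¹) = g * (u * (k * M.t₀ * k⁻¹)) * g⁻¹ by group, h2]
      group

theorem Good.of_conj {u g : W ≃ₗ[ℚ] W} (hg : g ∈ M.G) (h : Good M (g * u * g⁻¹)) : Good M u := by
  have h1 := h.conj (M.G.inv_mem hg)
  rwa [show g⁻¹ * (g * u * g⁻¹) * g⁻¹⁻¹ = u by group] at h1

theorem good_of_fix {u g : W ≃ₗ[ℚ] W} (hg : g ∈ M.G) (h : u (g M.d₀) = g M.d₀) : Good M u := by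
  refine Or.inl ⟨g, hg, ?_⟩
  rw [LinearEquiv.mul_apply, LinearEquiv.mul_apply, h, inv_apply_self']

theorem good_of_fix' {u g : W ≃ₗ[ℚ] W} (hg : g ∈ M.G) (h1 : u (g M.u₀) = g M.u₀) (h2 : u (g M.e₀) = g M.e₀) :
    Good M u := by
  refine good_of_fix hg ?_
  rw [BData.d₀, map_add, map_add, h1, h2]

variable {K₀ : Type} [Group K₀] (A : BAll M K₀)
include A

/-- An element of `C` with `u₀ ↦ u₀`, `e₀ ↦ - e₀` maps `t₀` to `t₀ z`. -/
theorem flip {k : W ≃ₗ[ℚ] W} (hk : k ∈ M.C) (h1 : k M.u₀ = M.u₀) (h2 : k M.e₀ = - M.e₀) :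
    k * M.t₀ * k⁻¹ = M.t₀ * M.z := by
  obtain ⟨q, hq, hq1, hq2⟩ := A.exists_q
  have hqC := A.grp.Q_le hq
  have h3 := A.rep.t₀_comm (q * k) (M.C.mul_mem hqC hk) (by
    left
    rw [LinearEquiv.mul_apply, BData.d₀, map_add, map_add, h1, h2, map_neg, hq1, neg_neg,
      A.rep.Q_u₀ q hq])
  have h4 : q * (k * M.t₀ * k⁻¹) = q * (M.t₀ * M.z) := by
    have e : q * (k * M.t₀ * k⁻¹) = q * k * M.t₀ * k⁻¹ := by group
    rw [e, h3, show M.t₀ * (q * k) * k⁻¹ = M.t₀ * q by group, ← mul_assoc, hq2, mul_assoc (M.t₀ * q),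
      A.grp.z_sq, mul_one]
  exact mul_left_cancel h4

/-- An element `u ∈ C` fixing `g u₀`, `g ∈ C`, fixes the axis `g d₀` or maps `g t₀ g⁻¹` to `g t₀ g⁻¹ z`. -/
theorem fix_or {u g : W ≃ₗ[ℚ] W} (hu : u ∈ M.C) (hg : g ∈ M.C) (h : u (g M.u₀) = g M.u₀) :
    u (g M.d₀) = g M.d₀ ∨ u * (g * M.t₀ * g⁻¹) * u⁻¹ = g * M.t₀ * g⁻¹ * M.z := by
  have hk : g⁻¹ * u * g ∈ M.C := M.C.mul_mem (M.C.mul_mem (M.C.inv_mem hg) hu) hg
  have h1 : (g⁻¹ * u * g) M.u₀ = M.u₀ := by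
    rw [LinearEquiv.mul_apply, LinearEquiv.mul_apply, h, inv_apply_self']
  rcases A.rep.stab_u₀ _ hk (Or.inl h1) with h2 | h2
  · left
    have h3 : (g⁻¹ * u * g) M.d₀ = M.d₀ := by rw [BData.d₀, map_add, h1, h2]
    have h4 := congrArg (fun x => g x) h3
    simp only [LinearEquiv.mul_apply, apply_inv_self'] at h4
    exact h4
  · right
    have h3 := flip A hk h1 h2
    have e : u * (g * M.t₀ * g⁻¹) * u⁻¹ = g * ((g⁻¹ * u * g) * M.t₀ * (g⁻¹ * u * g)⁻¹) * g⁻¹ := by group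
    have hz := A.grp.z_comm _ (M.C.inv_mem hg)
    rw [e, h3, mul_assoc, mul_assoc, ← hz]
    group

/-- The odd lemma. -/
theorem odd {u : W ≃ₗ[ℚ] W} (hu : u ∈ M.C) (L : List (W ≃ₗ[ℚ] W)) (hL : ∀ g ∈ L, g ∈ M.C)
    (hf : ∀ g ∈ L, u (g M.u₀) = g M.u₀) (hodd : Odd L.length)
    (hp : (L.map fun g => g * M.t₀ * g⁻¹).prod = 1 ∨ (L.map fun g => g * M.t₀ * g⁻¹).prod = M.z) :
    ∃ g ∈ L, u (g M.d₀) = g M.d₀ := by
  by_contra hc
  have hflip : ∀ g ∈ L, u * (g * M.t₀ * g⁻¹) * u⁻¹ = g * M.t₀ * g⁻¹ * M.z := fun g hg =>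
    (fix_or A hu (hL g hg) (hf g hg)).resolve_left fun h => hc ⟨g, hg, h⟩
  have key : ∀ L : List (W ≃ₗ[ℚ] W), (∀ g ∈ L, g ∈ M.C) →
      (∀ g ∈ L, u * (g * M.t₀ * g⁻¹) * u⁻¹ = g * M.t₀ * g⁻¹ * M.z) →
      u * (L.map fun g => g * M.t₀ * g⁻¹).prod * u⁻¹ = (L.map fun g => g * M.t₀ * g⁻¹).prod * M.z ^ L.length := by
    intro L
    induction L with
    | nil => intro _ _; simp
    | cons a L ih =>
      intro h1 h2
      have h3 := ih (fun g hg => h1 g (List.mem_cons_of_mem _ hg)) (fun g hg => h2 g (List.mem_cons_of_mem _ hg))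
      have h4 := h2 a List.mem_cons_self
      rw [List.map_cons, List.prod_cons, List.length_cons, pow_succ]
      set P := (L.map fun g => g * M.t₀ * g⁻¹).prod with hP
      have hPC : P ∈ M.C := by
        refine Subgroup.list_prod_mem _ ?_
        intro x hx
        obtain ⟨g, hg, rfl⟩ := List.mem_map.1 hx
        have hgC := h1 g (List.mem_cons_of_mem _ hg)
        exact M.C.mul_mem (M.C.mul_mem hgC (A.t₀_C)) (M.C.inv_mem hgC)
      have e : u * (a * M.t₀ * a⁻¹ * P) * u⁻¹ = (u * (a * M.t₀ * a⁻¹) * u⁻¹) * (u * P * u⁻¹) := by group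
      have hz : M.z * P = P * M.z := (A.grp.z_comm _ hPC).symm
      rw [e, h4, h3, mul_assoc (a * M.t₀ * a⁻¹), ← mul_assoc M.z, hz]
      simp only [mul_assoc]
      rw [← pow_succ', ← pow_succ]
  have h1 := key L hL hflip
  have hz : M.z ^ L.length = M.z := by
    obtain ⟨k, hk⟩ := hodd
    rw [hk, pow_add, pow_mul, pow_two, A.grp.z_sq, one_pow, one_mul, pow_one]
  rw [hz] at h1
  have hcom : u * M.z = M.z * u := A.grp.z_comm u hu
  have h2 : u * (L.map fun g => g * M.t₀ * g⁻¹).prod * u⁻¹ = (L.map fun g => g * M.t₀ * g⁻¹).prod := by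
    rcases hp with h | h
    · rw [h]; group
    · rw [h, hcom]; group
  rw [h2] at h1
  exact A.grp.z_ne (by simpa using h1)

/-- The odd lemma, conclusion `Good`. -/
theorem good_odd {u : W ≃ₗ[ℚ] W} (hu : u ∈ M.C) (L : List (W ≃ₗ[ℚ] W)) (hL : ∀ g ∈ L, g ∈ M.C)
    (hf : ∀ g ∈ L, u (g M.u₀) = g M.u₀) (hodd : Odd L.length)
    (hp : (L.map fun g => g * M.t₀ * g⁻¹).prod = 1 ∨ (L.map fun g => g * M.t₀ * g⁻¹).prod = M.z) : Good M u := by
  obtain ⟨g, hg, h⟩ := odd A hu L hL hf hodd hp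
  exact good_of_fix (A.C_le_G (hL g hg)) h

end Cfsg.Agent.BabyU.F8Base
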