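import Cfsg.Agent.BabyM.GroupInst
import Cfsg.Agent.Co2Type.FactsClass

/-!
# F8 for the model of the Baby Monster (2): the involutions of `C`

An involution of `C` is in `Q` or conjugate in `C` to `Y q`, `q ∈ Q`, with `Y` one of three products of letters `y_k`.
-/

set_option autoImplicit false

namespace Cfsg.Agent.BabyU.F8Class

open Cfsg Cfsg.Agent.SporadicA Cfsg.Agent.SporadicA.GolayBase
open Cfsg.Agent.SporadicA.GolayPerm Cfsg.Agent.SporadicStructure.M24El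
open Cfsg.Agent.Co2Type.Mono Cfsg.Agent.Co2Type.TData Cfsg.Agent.Co2Type.FactsClass
open Cfsg.Agent.BabyM.Co2GenStd Cfsg.Agent.BabyM.ThetaInst Cfsg.Agent.BabyM.Conc
open Cfsg.Agent.SporadicA.Co0Mono (signCo0 signCo0_smul signMap_apply)

/-! ### Sign changes -/

theorem mo_idP_smul {m : ℕ} (hm : isCode m = true) (v : leechLattice) (i : GolayPt) :
    ((mo m idP • v : leechLattice) : GolayPt → ℤ) i =
      if m.testBit (idx i) then - (v : GolayPt → ℤ) i else (v : GolayPt → ℤ) i := by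
  unfold mo
  rw [el_idP, map_one, mul_one, signCo0_smul, signMap_apply, coe_cd hm, word_apply]
  split_ifs
  · simp [Co0Mono.sgn_one]
  · simp [Co0Mono.sgn_zero]

theorem sgn_eq_mo {m : ℕ} (hm : isCode m = true) (h : fin m ∈ Cfsg.Agent.Leech.Code.Words) :
    Cfsg.Agent.Leech.Co0Elts.sgn (fin m) h = mo m idP := by
  apply Cfsg.Agent.Leech.FrameAux.co0_ext
  intro v
  funext i
  rw [mo_idP_smul hm, Cfsg.Agent.Leech.Co0Elts.sgn_coe, Cfsg.Agent.Leech.Co0Elts.sgnMap_apply]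
  simp only [mem_fin]

theorem mo_comm {m n : ℕ} (hm : isCode m = true) (hn : isCode n = true) :
    mo m idP * mo n idP = mo n idP * mo m idP := by
  rw [mo_mul_mo hm hn, mo_mul_mo hn hm, Nat.xor_comm]

/-! ### The classes -/

/-- an octad containing the point of index `0` but not the one of index `23` -/
abbrev mε : ℕ := 1302533

/-- the octad of `y₁` -/
abbrev mO : ℕ := 10558

/-- the 16-set of `y₁y₂y₅y₆y₉` -/
abbrev mH : ℕ := 2523006

/-- the dodecad of `y₂y₃` -/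
abbrev mD : ℕ := 57274

theorem code_ε : isCode mε = true := by decide +kernel

theorem inE_O : inE mO = true := by decide +kernel

theorem inE_H : inE mH = true := by decide +kernel

theorem inE_D : inE mD = true := by decide +kernel

theorem pc_O : popcount mO = 8 := by decide +kernel

theorem pc_H : popcount mH = 16 := by decide +kernel

theorem pc_D : popcount mD = 12 := by decide +kernel

theorem conj_O : IsConj (mo2 my idP) (mo2 mO idP) :=
  conj_y_of_tr (E_sq inE_O) (by rw [tr_E inE_O, pc_O]; norm_num)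

theorem conj_H : IsConj (mo2 mz idP) (mo2 mH idP) :=
  conj_z_of_tr (E_sq inE_H) (by rw [tr_E inE_H, pc_H]; norm_num)

theorem conj_D : IsConj (mo2 mv idP) (mo2 mD idP) :=
  conj_v_of_tr (E_sq inE_D) (by rw [tr_E inE_D, pc_D]; norm_num)

/-- The three classes of involutions of `Spor.Co2`. -/
theorem classes₂ {x : Spor.Co2} (h : x * x = 1) (h1 : x ≠ 1) :
    IsConj x (mo2 mO idP) ∨ IsConj x (mo2 mH idP) ∨ IsConj x (mo2 mD idP) := by
  rcases classes h h1 with h2 | h2 | h2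
  · exact Or.inr (Or.inl (h2.symm.trans conj_H))
  · exact Or.inl (h2.symm.trans conj_O)
  · exact Or.inr (Or.inr (h2.symm.trans conj_D))

theorem ε_l₀ : mo mε idP • l₀ = Spor.leechU := by
  apply Subtype.ext
  funext i
  rw [mo_idP_smul code_ε, leechU_apply]
  by_cases h0 : i = none
  · subst h0
    rw [Cfsg.Agent.Leech.TransPair.v0_left]
    rfl
  · by_cases h1 : i = some 0
    · subst h1
      rw [Cfsg.Agent.Leech.TransPair.v0_right]
      rfl
    · have h2 : ((l₀ : leechLattice) : GolayPt → ℤ) i = 0 := Cfsg.Agent.Leech.TransPair.v0_other _ h0 h1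
      have h3 : ¬ (idx i = 0 ∨ idx i = 23) := by
        rintro (h | h)
        · exact h1 (idx_injective (h.trans idx_zero.symm))
        · exact h0 (idx_injective (h.trans idx_none.symm))
      rw [h2, if_neg h3]
      split_ifs <;> rfl

theorem ε_inv_U : (mo mε idP)⁻¹ • Spor.leechU = l₀ := by
  rw [← ε_l₀, inv_smul_smul]

/-- The three classes of involutions of the stabiliser of `l₀`. -/
theorem classes₀ {c : Co0} (hc : c • l₀ = l₀) (h2 : c * c = 1) (h1 : c ≠ 1) :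
    ∃ g : Co0, g • l₀ = l₀ ∧ (g * c * g⁻¹ = mo mO idP ∨ g * c * g⁻¹ = mo mH idP ∨ g * c * g⁻¹ = mo mD idP) := by
  set ε := mo mε idP with hε
  have hU : (ε * c * ε⁻¹) • Spor.leechU = Spor.leechU := by
    rw [mul_smul, mul_smul, ε_inv_U, hc, ε_l₀]
  obtain ⟨x, hx⟩ := exists_toCo0 hU
  have hx2 : x * x = 1 := by
    apply toCo0_injective
    rw [map_mul, hx, map_one, show ε * c * ε⁻¹ * (ε * c * ε⁻¹) = ε * (c * c) * ε⁻¹ by group, h2]
    group
  have hx1 : x ≠ 1 := by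
    rintro rfl
    rw [map_one] at hx
    apply h1
    have : c = ε⁻¹ * (ε * c * ε⁻¹) * ε := by group
    rw [this, ← hx]
    group
  have key : ∀ m : ℕ, inE m = true → IsConj x (mo2 m idP) → ∃ g : Co0, g • l₀ = l₀ ∧ g * c * g⁻¹ = mo m idP := by
    intro m hm h
    obtain ⟨y, hy⟩ := isConj_iff.1 h
    refine ⟨ε⁻¹ * toCo0 y * ε, ?_, ?_⟩
    · rw [mul_smul, mul_smul, ε_l₀, toCo0_smul, ε_inv_U]
    · have h3 : toCo0 y * (ε * c * ε⁻¹) * (toCo0 y)⁻¹ = mo m idP := by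
        rw [← hx, ← map_inv, ← map_mul, ← map_mul, hy, toCo0_mo2 hm okP_idP]
      have h4 : ε⁻¹ * toCo0 y * ε * c * (ε⁻¹ * toCo0 y * ε)⁻¹ =
          ε⁻¹ * (toCo0 y * (ε * c * ε⁻¹) * (toCo0 y)⁻¹) * ε := by group
      rw [h4, h3, mul_assoc, hε, mo_comm (isCode_of_inE hm) code_ε, ← mul_assoc, inv_mul_cancel, one_mul]
  rcases classes₂ hx2 hx1 with h | h | h
  · obtain ⟨g, hg, h3⟩ := key _ inE_O h
    exact ⟨g, hg, Or.inl h3⟩
  · obtain ⟨g, hg, h3⟩ := key _ inE_H h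
    exact ⟨g, hg, Or.inr (Or.inl h3)⟩
  · obtain ⟨g, hg, h3⟩ := key _ inE_D h
    exact ⟨g, hg, Or.inr (Or.inr h3)⟩

/-! ### The words -/

theorem rel_letter {l : Ltr} {k : ℕ} (h : Cfsg.Agent.BabyM.ThetaHom.yIdx l = some k) : Rel (E l) (mo (dMask k) idP) := by
  have h1 := Cfsg.Agent.BabyM.ThetaHom.rel_y h
  rwa [sgn_eq_mo (dMask_code k (Cfsg.Agent.BabyM.ThetaHom.yIdx_lt h)).1] at h1

theorem rel_O : Rel (E .y1) (mo mO idP) := rel_letter (l := .y1) (k := 0) rfl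

theorem rel_D : Rel (E .y3 * E .y2) (mo mD idP) := by
  have h := (rel_letter (l := .y3) (k := 2) rfl).mul (rel_letter (l := .y2) (k := 1) rfl)
  rw [mo_mul_mo (dMask_code 2 (by norm_num)).1 (dMask_code 1 (by norm_num)).1] at h
  exact h

theorem rel_H : Rel (E .y1 * E .y2 * E .y5 * E .y6 * E .y9) (mo mH idP) := by
  have h := ((((rel_letter (l := .y1) (k := 0) rfl).mul (rel_letter (l := .y2) (k := 1) rfl)).mul
    (rel_letter (l := .y5) (k := 4) rfl)).mul (rel_letter (l := .y6) (k := 5) rfl)).mul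
    (rel_letter (l := .y9) (k := 8) rfl)
  have c : ∀ k < 10, isCode (dMask k) = true := fun k hk => (dMask_code k hk).1
  have c1 : isCode (dMask 0 ^^^ dMask 1) = true := by decide +kernel
  have c2 : isCode (dMask 0 ^^^ dMask 1 ^^^ dMask 4) = true := by decide +kernel
  have c3 : isCode (dMask 0 ^^^ dMask 1 ^^^ dMask 4 ^^^ dMask 5) = true := by decide +kernel
  rw [mo_mul_mo (c 0 (by norm_num)) (c 1 (by norm_num)), mo_mul_mo c1 (c 4 (by norm_num)),
    mo_mul_mo c2 (c 5 (by norm_num)), mo_mul_mo c3 (c 8 (by norm_num))] at h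
  exact h

theorem E_mem_C' {l : Ltr} (h : l.isC = true) : E l ∈ Cfsg.Agent.BabyM.Inst.M.C := E_mem_C h

/-- **An involution of `C` is in `Q` or conjugate to `Y q`.** -/
theorem reduce {wt' : Cfsg.Agent.Monster.VecSpace.Lane U → ℚ}
    (L : Cfsg.Agent.BabyM.KCore.Link Cfsg.Agent.BabyM.KTab.Cd Cfsg.Agent.BabyM.KTab.u wt' Cfsg.Agent.BabyM.Inst.M
      Cfsg.Agent.BabyM.Inst.laneB)
    {x : V ≃ₗ[ℚ] V} (hx : x ∈ C) (h2 : x * x = 1) :
    x ∈ Q ∨ ∃ k ∈ C, ∃ q ∈ Q, k * x * k⁻¹ = E .y1 * q ∨ k * x * k⁻¹ = E .y1 * E .y2 * E .y5 * E .y6 * E .y9 * q ∨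
      k * x * k⁻¹ = E .y3 * E .y2 * q := by
  obtain ⟨c, hc⟩ := Cfsg.Agent.BabyM.ThetaHom.rel_C x hx
  have hc2 : c * c = 1 := by
    have h3 := hc.mul hc
    rw [h2] at h3
    exact h3.unique Rel.one
  by_cases h1 : c = 1
  · left
    subst h1
    exact Cfsg.Agent.BabyM.GroupInst.ker_rel L x hx hc
  · right
    obtain ⟨g, hg, h⟩ := classes₀ hc.1 hc2 h1
    obtain ⟨k, hk, hkr⟩ := Cfsg.Agent.BabyM.ThetaHom.onto g hg
    have hr := (hkr.mul hc).mul hkr.inv
    have key : ∀ Y ∈ C, ∀ m, Rel Y (mo m idP) → g * c * g⁻¹ = mo m idP → ∃ q ∈ Q, k * x * k⁻¹ = Y * q := by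
      intro Y hY m hm he
      have h3 := hm.inv.mul hr
      rw [he, inv_mul_cancel] at h3
      exact ⟨Y⁻¹ * (k * x * k⁻¹), Cfsg.Agent.BabyM.GroupInst.ker_rel L _
        (C.mul_mem (C.inv_mem hY) (C.mul_mem (C.mul_mem hk hx) (C.inv_mem hk))) h3, by group⟩
    have y : ∀ l : Ltr, l.isC = true → E l ∈ C := fun l hl => E_mem_C hl
    rcases h with h | h | h
    · obtain ⟨q, hq, h4⟩ := key _ (y .y1 rfl) _ rel_O h
      exact ⟨k, hk, q, hq, Or.inl h4⟩
    · obtain ⟨q, hq, h4⟩ := key _ (C.mul_mem (C.mul_mem (C.mul_mem (C.mul_mem (y .y1 rfl) (y .y2 rfl)) (y .y5 rfl))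
        (y .y6 rfl)) (y .y9 rfl)) _ rel_H h
      exact ⟨k, hk, q, hq, Or.inr (Or.inl h4)⟩
    · obtain ⟨q, hq, h4⟩ := key _ (C.mul_mem (y .y3 rfl) (y .y2 rfl)) _ rel_D h
      exact ⟨k, hk, q, hq, Or.inr (Or.inr h4)⟩

end Cfsg.Agent.BabyU.F8Class
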