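import Cfsg.Agent.BabyU.F8HexW
import Cfsg.Agent.BabyU.F8Base
import Cfsg.Agent.BabyM.ClosQ

/-!
# F8, the 16-set case (2) (helper442)

`Y = y1 y2 y5 y6 y9`: every involution `Y q`, `q ∈ Q`, fixes a signed axis or is the product of two commuting
transpositions.

`Y` is a transposition.  If `q` is over the class of a lane, then `q` is a transposition.  If `q` commutes with the transposition
`Z3` of the lane `1296`, then `Y q` fixes its axis.  The elements `q` with `(Y q)² = 1` are over `C_V(Y)`, of dimension 16; modulo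
`[V, Y]`, of dimension 6 (conjugation by `Q`), `1024` classes are left, and the kernel checks them.
-/

set_option autoImplicit false
set_option Elab.async false

namespace Cfsg.Agent.BabyU.F8Hex

open Cfsg.Agent.Lib.PermNet Cfsg.Agent.Monster Cfsg.Agent.Monster.VecEngine Cfsg.Agent.Monster.VecSpace
open Cfsg.Agent.Monster.PauliBasic Cfsg.Agent.Monster.PauliRep Cfsg.Agent.Monster.PauliClif Cfsg.Agent.Monster.PauliBits
open Cfsg.Agent.BabyM Cfsg.Agent.BabyM.KTabData Cfsg.Agent.BabyM.QAct Cfsg.Agent.BabyM.QData Cfsg.Agent.BabyM.QData.Good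
open Cfsg.Agent.BabyM.Conc Cfsg.Agent.BabyM.KTab Cfsg.Agent.BabyM.KRow Cfsg.Agent.BabyM.KQ
open Cfsg.Agent.BabyU.F8Base Cfsg.Agent.BabyU.F8HexW

/-- The classes. -/
abbrev VV : Type := B 11 × B 11

/-- The claim for the elements over a class. -/
def P (v : VV) : Prop :=
  ∀ y : Pauli 11, ab y = v → (Y * Cd.R y) * (Y * Cd.R y) = 1 → F8Base.Good Inst.M (Y * Cd.R y)

theorem vv_add_self (v : VV) : v + v = 0 := Prod.ext (add_self _) (add_self _)

theorem Y_mem : Y ∈ Inst.M.G := ConcGrp.C_le_G Y_mem_C

theorem R_mem (y : Pauli 11) : Cd.R y ∈ Inst.M.G := ConcGrp.C_le_G (KLink.hyp.Q_le y)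

/-! ### The three alternatives -/

/-- `Y R(y)` fixes the axis of the lane `1296` if `R(y)` does. -/
theorem good_form {y : Pauli 11} (h : Pauli.form y (dec 11 0x8) = 0) : F8Base.Good Inst.M (Y * Cd.R y) := by
  have A := Instance.all
  have hC : W hw ∈ Inst.M.C := ConcGrp.W_mem_C (v := hw) rfl
  have hQ : Cd.R y ∈ Inst.M.Q := KLink.link.mem_Q.mpr ⟨y, rfl⟩
  have hq := A.grp.Q_normal' _ hC _ hQ
  have h1 : Cd.R y * Cd.R (dec 11 0x8) = Cd.R (dec 11 0x8) * Cd.R y := by
    rw [← map_mul, (Pauli.commute_iff _ _).mpr h, map_mul]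
  have h2 : (W hw)⁻¹ * Cd.R y * W hw * Inst.M.t₀ = Inst.M.t₀ * ((W hw)⁻¹ * Cd.R y * W hw) := by
    rw [← hw_t₀] at h1
    calc (W hw)⁻¹ * Cd.R y * W hw * Inst.M.t₀ =
        (W hw)⁻¹ * (Cd.R y * (W hw * Inst.M.t₀ * (W hw)⁻¹)) * W hw := by group
      _ = (W hw)⁻¹ * ((W hw * Inst.M.t₀ * (W hw)⁻¹) * Cd.R y) * W hw := by rw [h1]
      _ = _ := by group
  have h3 : ((W hw)⁻¹ * Cd.R y * W hw) Inst.M.d₀ = Inst.M.d₀ := by
    rw [Model.BData.d₀, map_add, A.rep.Q_u₀ _ hq, A.rep.Q_e₀_pos _ hq h2]
  refine good_of_fix (g := W hw) (ConcGrp.C_le_G hC) ?_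
  have h4 : Cd.R y (W hw Inst.M.d₀) = W hw Inst.M.d₀ := by
    have h5 := congrArg (fun x => W hw x) h3
    simp only [LinearEquiv.mul_apply, apply_inv_self'] at h5
    exact h5
  rw [LinearEquiv.mul_apply, h4, Y_fix]

/-- `Y R(y)` is the product of the transpositions `Y` and `R(y)` if `y` is over the class of a lane. -/
theorem good_lane {y : Pauli 11} {j : Lane U} (hj : Cd.isX j) (h : ab y = ab (Cd.c j))
    (hu : (Y * Cd.R y) * (Y * Cd.R y) = 1) : F8Base.Good Inst.M (Y * Cd.R y) := by
  obtain ⟨g, hg, e⟩ := (ClosQ.mem_cls_R KLink.link Instance.all Instance.tr).2 ⟨j, hj, h⟩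
  have h2 : Cd.R y * Cd.R y = 1 := by
    rw [← e]
    calc g * Inst.M.t₀ * g⁻¹ * (g * Inst.M.t₀ * g⁻¹) = g * (Inst.M.t₀ * Inst.M.t₀) * g⁻¹ := by group
      _ = 1 := by rw [Instance.all.rep.t₀_sq]; group
  have h3 : Y * Cd.R y * Cd.R y = Y := by rw [mul_assoc, h2, mul_one]
  have h4 : Cd.R y * (Y * Cd.R y) = Y := by
    calc Cd.R y * (Y * Cd.R y) = Y * Y * (Cd.R y * (Y * Cd.R y)) := by rw [Y_sq, one_mul]
      _ = Y * (Y * Cd.R y * (Y * Cd.R y)) := by simp only [mul_assoc]
      _ = Y := by rw [hu, mul_one]
  refine Or.inr ⟨g, hg, W gw, TransFields.W_mem_MG _, ?_, ?_⟩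
  · rw [e, h3, h4]
  · rw [e, h3]; exact Y_trans

theorem P_lane {j : Lane U} (hj : Cd.isX j) : P (ab (Cd.c j)) := fun _ hy hu => good_lane hj hy hu

/-! ### The automorphism -/

section Alpha

variable {α : MulAut (Pauli 11)} (hα : ∀ x, Y * Cd.R x = Cd.R (α x) * Y)
include hα

theorem sq_eq (y : Pauli 11) : (Y * Cd.R y) * (Y * Cd.R y) = Cd.R (α y * y) := by
  calc (Y * Cd.R y) * (Y * Cd.R y) = Cd.R (α y) * (Y * Y) * Cd.R y := by
        rw [hα y]; simp only [mul_assoc]
        rw [← hα y]
    _ = Cd.R (α y * y) := by rw [Y_sq, mul_one, map_mul]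

theorem αα (x : Pauli 11) : α (α x) = x := by
  apply Cd.R_injective
  have h : Y * (Y * Cd.R x) = Cd.R (α (α x)) * (Y * Y) := by rw [hα x, ← mul_assoc, hα, mul_assoc]
  rw [← mul_assoc, Y_sq, one_mul, mul_one] at h
  exact h.symm

theorem conj_eq (r y : Pauli 11) : Cd.R r * (Y * Cd.R y) * (Cd.R r)⁻¹ = Y * Cd.R (α r * y * r⁻¹) := by
  have h : Cd.R r * Y = Y * Cd.R (α r) := by rw [hα, αα hα]
  rw [← mul_assoc, h, map_mul, map_mul, map_inv]
  simp only [mul_assoc]

/-- Conjugation by `R(r)`. -/
theorem shift {v : VV} {r : Pauli 11} (h : P (v + ab (α r * r))) : P v := by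
  intro y hy hu
  apply Good.of_conj (R_mem r)
  rw [conj_eq hα]
  apply h
  · have h1 : ab (r⁻¹) = ab r := by
      have h2 : ab (r * r⁻¹) = ab r + ab r⁻¹ := ab_mul _ _
      rw [mul_inv_cancel] at h2
      have h3 : ab (1 : Pauli 11) = 0 := rfl
      rw [h3] at h2
      calc ab r⁻¹ = ab r + ab r + ab r⁻¹ := by rw [vv_add_self, zero_add]
        _ = ab r := by rw [add_assoc, ← h2, add_zero]
    rw [ab_mul, ab_mul, ab_mul, hy, h1]
    abel
  · rw [← conj_eq hα]
    calc Cd.R r * (Y * Cd.R y) * (Cd.R r)⁻¹ * (Cd.R r * (Y * Cd.R y) * (Cd.R r)⁻¹) =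
        Cd.R r * ((Y * Cd.R y) * (Y * Cd.R y)) * (Cd.R r)⁻¹ := by group
      _ = 1 := by rw [hu]; group

theorem shift' {v : VV} {r : Pauli 11} (h : P v) : P (v + ab (α r * r)) := by
  apply shift hα (r := r)
  rwa [add_assoc, vv_add_self, add_zero]

end Alpha

/-! ### Codes -/

/-- bits `0, …, 21` -/
noncomputable def low (x : ℕ) : ℕ := Nat.land x 0x3fffff

theorem low_lt (x : ℕ) : low x < 2 ^ 22 := by
  have : Nat.land x 0x3fffff ≤ 0x3fffff := Nat.and_le_right
  unfold low; omega

theorem ab_low (x : ℕ) : ab (dec 11 (low x)) = ab (dec 11 x) := by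
  have h : low x = x % 2 ^ 22 := by
    show x &&& (2 ^ 22 - 1) = _
    rw [Nat.and_two_pow_sub_one_eq_mod]
  have hb : ∀ k, k < 22 → bit (low x) k = bit x k := by
    intro k hk
    rw [h]
    unfold bit
    rw [Nat.testBit_mod_two_pow]
    simp [hk]
  refine Prod.ext ?_ ?_
  · funext i
    exact hb _ (by have := i.2; omega)
  · funext i
    exact hb _ (by have := i.2; omega)

theorem low_eq_zero {x : ℕ} : low x = 0 ↔ ab (dec 11 x) = 0 := by
  rw [← ab_low, ab_dec_eq_zero (low_lt x)]

theorem ab_eq_of_low {x y : ℕ} (h : low (Nat.xor x y) = 0) : ab (dec 11 x) = ab (dec 11 y) := by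
  have h1 := low_eq_zero.mp h
  have h2 : ab (dec 11 (x ^^^ y)) = ab (dec 11 x) + ab (dec 11 y) := KGood.ab_dec_xor x y
  have h3 : ab (dec 11 x) + ab (dec 11 y) = 0 := h2.symm.trans h1
  calc ab (dec 11 x) = ab (dec 11 x) + ab (dec 11 y) + ab (dec 11 y) := by rw [add_assoc, vv_add_self, add_zero]
    _ = ab (dec 11 y) := by rw [h3, zero_add]

theorem ab_mulK (x y : ℕ) : ab (dec 11 (mulK x y)) = ab (dec 11 x) + ab (dec 11 y) := by
  rw [mulK_eq, dec_mulN (by norm_num), ab_mul]

/-! ### The data -/

/-- Pairs `(r, w)` with `α(r) r` over the class of `w`; the `w` are a basis of `[V, Y]`. -/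
def wL : List (ℕ × ℕ) := [(0x6001, 0xc), (0x22000, 0x44), (0x42001, 0x84), (0x102000, 0x204), (0x1, 0x400), (0x244000, 0x99800)]

/-- A basis of `C_V(Y)` modulo `[V, Y]`. -/
def cL : List (ℕ × ℕ) := [(0x166000, 0x166000), (0x101, 0x101), (0x21, 0x21), (0x11, 0x11), (0x3, 0x3), (0x10000, 0x10000),
  (0x8000, 0x8000), (0x1000, 0x1000), (0x800, 0x800), (0x4, 0x4)]

/-- A basis of `V` modulo `C_V(Y)`, with the images. -/
def dL : List (ℕ × ℕ) := [(0x1, 0x401), (0x2000, 0x4022c8), (0x4000, 0x4046c4), (0x20000, 0x42028c), (0x40000, 0x4064c),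
  (0x200000, 0x299888)]

/-- The combinations of the basis elements which are the generators. -/
def selL : List (List ℕ) := [[1], [1, 3], [4], [4, 12], [1, 17], [1, 33], [4, 68], [4, 132], [1, 257], [4, 516], [1024],
  [2048], [4096], [8192], [16384], [32768], [65536], [131072], [262144], [65536, 32768, 4096, 2048, 628736],
  [8192, 16384, 131072, 262144, 1466368], [2097152]]

/-- The lanes and combinations for the classes modulo `[V, Y]`. -/
def tabT : ℕ := 0x1628d00000001f29b0000000000000182aa00000003412f00000003d0f10000000112cc0330e800000003a0dc0000000000000310a700000003809d01a2e300000003608200000001a30d00000003602600000000000003101600000003800a00528a0000000000000092920052a800000000000002c12500000002d0f50042c200000000000002d0ef0210d20000000000000210a302d09a0000000000000042ec02d08c00000000930b00000000000002002d02c01f00000000000002000701a2820000000000000162970000000162ab03f1240000000380ff0000000000000112c80000000340e30380da0000000000000310ab03d0920000000182ed00000000000003108d00000001330803a02700000003a01200000000000003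600301928500000001029e00000001b2a900000003712e0000000380fb0000000142c600000003a0e40000000330d40000000000000310af0000000380950000000162e200000003a08300000001030e00000003c02c00000003701b00000003e00e00128100000000000000429900000000f2af02f12c00000000000002d0fd00d2cf0000000230e00000000000000260d302f0a900000000000002a09b0000000042e802408400000000000000330c02302f00000002801400000000000002d0020022860000000022900000000022ad00000002712600000000000002d0f90000000082c100000002d0e700000002d0dd02f0ad00000002f09c00000000a2e700000002f08a00000000000000030a00000002502400000002501d00000002500f00d28e00000000d2950000000000000012ae0000000241270280f300000000d2cb0000000000000240eb0000000240d502f0a500000002f0940000000000000062e600000002308b00a30900000002f02e00000000000002301000000002300b01e28900000000000001b29c01c2ac00000000000003c12d0380f70000000000000182c503a0ec00000000000003f0db03f0a100000000000003a0930182e900000000000003808501930f00000000000003902503e01900000000000003b00600000000c28300f2930000000052a00000000000000231280270f20000000000000012c000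000002e0e102d0d90000000280a200000000000002b0900000000042e002208000000000000000330402502000000002f01800000000000002c00100000001f28400000001929a0000000182a200000003b1220370f60000000142ce0000000300e60000000360d70000000380a600000003e09700000001a2ef00000003908e00000000000001030200000003302b00000003201100000003400c00000001028c00000001629f01b2a10000000381230000000000000320fc0000000112c40390ea00000003f0df0000000380ae00000003e09f0000000000000162ee00000003508f01a30100000003902100000000000003401c00000003200800000001328b0102960000000000000162a30301290000000000000320f80142ca0000000000000370ed0340d10000000380aa00000000000003b0980182e100000000000003e08101930700000000000003f02a03901500000000000003a00500000001b28f0000000142910122a500000003812b0000000370fe00000001d2c300000000000003e0e90000000310d60000000360ac00000003909601a2eb00000003008600000001a30500000003002900000000000003601a00000003900900000001828801229800000000000001f2a70301210000000370fa0000000000000182cd0300ee00000000000003a0d80000000360a803c0910000000000000142e403b08800000001930300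000000000003602203b01300000000000003100400000000728000d29d00000000c2a40000000000000231200000000220f000d2c70000000290e20000000000000230d00000000260a002c0990000000082e500000000000002708900000000330002c02800000002d01e00000000000002700000000001428700000001b2940000000112a600000003b12a0000000320f40000000182c90000000370e50000000380de0000000360a400000003909e0000000162ea00000003c08700000001030600000003a02300000003001700000003f00d00000000000000000000000000000000000000000000000000000000000000000000000000000000000000000000000000000000000000000000000000000000000000000000000000000000000000000000000000000000000000000000000000000000000000000000000000000000000000000000000000000000000000000000000000000000000000000000000000000000000000000000000000000000000000000000000000000000000000000000000000000000000000000000000000000000000000000000000000000000000000000000000000000000000000000000000000000000000000000000000000000000000000000000000000000000000000000000000000000000000000000000000000000000000000000000000000000000000000000000000000000000000000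000000000000000000000000000000000000000000000000000000000000000000000000000000000000000000000000000000000000000000000000000000000000000000000000000000000000000000000000000000000000000000000000000000000000000000000000000000000000000000000000000000000000000000000000000000000000000000000000000000000000000000000000000000000000000000000000000000000000000000000000000000000000000000000000000000000000000000000000000000000000000000000000000000000000000000000000000000000000000000000000000000000000000000000000000000000000000000000000000000000000000000000000000000000000000000000000000000000000000000000000000000000000000000000000000000000000000000000000000000000000000000000000000000000000000000000000000000000000000000000000000000000000000000000000000000000000000000000000000000000000000000000000000000000000000000000000000000000000000000000000000000000000000000000000000000000000000000000000000000000000000000000000000000000000000000000000000000000000000000000000000000000000000000000000000000000000000000000000000000000000000000000000000000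0000000000000000000000000000000000000000000000000000000000000000000000000000000000000000000000000000000000000000000000000000000000000000000000000000000000000000000000000000000000000000000000000000000000000000000000000000000000000000000000000000000000000000000000000000000000000000000000000000000000000000000000000000000000000000000000000000000000000000000000000000000000000000000000000000000000000000000000000000000000000000000000000000000000000000000000000000000000000000000000000000000000000000000000000000000000000000000000000000000000000000000000000000000000000000000000000000000000000000000000000000000000000000000000000000000000000000000000000000000000000000000000000000000000000000000000000000000000000000000000000000000000000000000000000000000000000000000000000000000000000000000000000000000000000000000000000000000000000000000000000000000000000000000000000000000000000000000000000000000000000000000000000000000000000000000000000000000000000000000000000000000000000000000000000000000000000000000000000000000000000000000000000000000000000000000000000000000000000000000000000000000000000000000000000000000000000000000000000000000000000000000000000000000000000000000000000000000000000000000000000000000000000000000000000000000000000000000000000000000000000000000000000000000000000000000000000000000000000000000000000000000000000000000000000000000000000000000000000000000000000000000000000000000000000000000000000000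

/-- all basis elements -/
def bs : List ℕ := dL.map Prod.fst ++ (cL.map Prod.fst ++ wL.map Prod.snd)

/-- exclusive or of a list -/
def xors (l : List ℕ) : ℕ := l.foldr (fun a b => Nat.xor a b) 0

theorem sel_check : ∀ k < 22, ((selL.getD k []).all fun c => bs.elem c) = true ∧ xors (selL.getD k []) = 2 ^ k := by
  decide +kernel

theorem w_check : ∀ p ∈ wL, wfold (fun k => 2 ^ k) p.1 pos 0 = p.1 ∧
    low (Nat.xor (mulK (wfold (im I_Y) p.1 pos 0) p.1) p.2) = 0 := by
  decide +kernel

theorem c_check : ∀ p ∈ cL, wfold (fun k => 2 ^ k) p.1 pos 0 = p.1 ∧ wfold (im I_Y) p.1 pos 0 = p.2 ∧ p.2 = p.1 := by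
  decide +kernel

theorem d_check : ∀ p ∈ dL, wfold (fun k => 2 ^ k) p.1 pos 0 = p.1 ∧ wfold (im I_Y) p.1 pos 0 = p.2 := by
  decide +kernel

/-- combination of the `w` -/
noncomputable def cmb (e : ℕ) : List (ℕ × ℕ) → ℕ :=
  List.rec (motive := fun _ => ℕ) 0 (fun p l ih => Nat.xor (Bool.rec 0 p.2 (KRow.tb e (Nat.sub 5 l.length))) ih)

/-- The class of `m` is the class of a lane modulo `[V, Y]`. -/
noncomputable def laneOK (n m : ℕ) : Bool :=
  (fun e => (fun j => and (KRow.tb U j) (and (Nat.blt j 4096) (and (not (Nat.beq (cd j) 0))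
    (Nat.beq (low (Nat.xor (Nat.xor (cd j) (cmb (Nat.shiftRight e 12) wL)) m)) 0))))
    (Nat.land e 0xfff)) (fld tabT 24 0xffffff n)

/-- The check of one class. -/
noncomputable def leaf (n m am : ℕ) : Bool :=
  or (or (not (Nat.beq (low (mulK am m)) 0)) (KRow.tb (mulK am m) 22)) (or (not (KRow.tb m 14)) (laneOK n m))

/-- The check of the combinations of a list. -/
noncomputable def tree : List (ℕ × ℕ) → ℕ → ℕ → ℕ → Bool :=
  List.rec (motive := fun _ => ℕ → ℕ → ℕ → Bool) (fun n m am => leaf n m am)
    (fun p _ ih n m am => and (ih (Nat.mul 2 n) m am)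
      (seqB (mulK m p.1) fun m' => seqB (mulK am p.2) fun am' => ih (Nat.add (Nat.mul 2 n) 1) m' am'))

/-- The check that no nonzero combination is fixed. -/
noncomputable def dtree : List (ℕ × ℕ) → ℕ → ℕ → Bool :=
  List.rec (motive := fun _ => ℕ → ℕ → Bool) (fun m am => or (Nat.beq m 0) (not (Nat.beq (low (Nat.xor am m)) 0)))
    (fun p _ ih m am => and (ih m am) (seqB (mulK m p.1) fun m' => seqB (mulK am p.2) fun am' => ih m' am'))

theorem tree_check : tree cL 0 0 0 = true := by decide +kernel

theorem dtree_check : dtree dL 0 0 = true := by decide +kernel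

/-! ### Soundness -/

section Sound

variable {α : MulAut (Pauli 11)} (hα : ∀ x, Y * Cd.R x = Cd.R (α x) * Y)
  (hI : ∀ k < 22, α (dec 11 (2 ^ k)) = dec 11 (im I_Y k))

include hI in
theorem α_dec {m : ℕ} (hm : wfold (fun k => 2 ^ k) m pos 0 = m) : α (dec 11 m) = dec 11 (wfold (im I_Y) m pos 0) := by
  have h := wfold_sound hI m pos (by decide) 0 0 (by rw [dec_zero, map_one])
  rwa [hm] at h

include hα hI in
/-- The classes of `[V, Y]` are free. -/
theorem free_mem {p : ℕ × ℕ} (hp : p ∈ wL) {v : VV} (h : P v) : P (v + ab (dec 11 p.2)) := by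
  obtain ⟨h1, h2⟩ := w_check p hp
  have h3 : ab (α (dec 11 p.1) * dec 11 p.1) = ab (dec 11 p.2) := by
    rw [α_dec hI h1, ← ab_eq_of_low h2, ab_mulK, ab_mul]
  rw [← h3]
  exact shift' hα h

/-- The span of the `w`. -/
def spW : Submodule (ZMod 2) VV := Submodule.span (ZMod 2) {x | ∃ p ∈ wL, x = ab (dec 11 p.2)}

/-- The span of the `c`. -/
def spC : Submodule (ZMod 2) VV := Submodule.span (ZMod 2) {x | ∃ p ∈ cL, x = ab (dec 11 p.1)}

/-- The span of the `d`. -/
def spD : Submodule (ZMod 2) VV := Submodule.span (ZMod 2) {x | ∃ p ∈ dL, x = ab (dec 11 p.1)}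

include hα hI in
theorem free {w : VV} (hw : w ∈ spW) : ∀ {v : VV}, P v → P (v + w) := by
  unfold spW at hw
  induction hw using Submodule.span_induction with
  | mem x hx =>
    obtain ⟨p, hp, rfl⟩ := hx
    intro v hv
    exact free_mem hα hI hp hv
  | zero => intro v hv; rwa [add_zero]
  | add x y _ _ hx hy => intro v hv; rw [← add_assoc]; exact hy (hx hv)
  | smul a x _ hx =>
    intro v hv
    rcases zmod2_cases a with h | h
    · rw [h, zero_smul, add_zero]; exact hv
    · rw [h, one_smul]; exact hx hv

theorem cmb_mem (e : ℕ) : ∀ l : List (ℕ × ℕ), (∀ p ∈ l, p ∈ wL) → ab (dec 11 (cmb e l)) ∈ spW := by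
  intro l
  induction l with
  | nil =>
    intro _
    show ab (dec 11 0) ∈ spW
    rw [dec_zero]; exact zero_mem _
  | cons p l ih =>
    intro hl
    show ab (dec 11 ((Bool.rec 0 p.2 (KRow.tb e (Nat.sub 5 l.length)) : ℕ) ^^^ cmb e l)) ∈ spW
    rw [KGood.ab_dec_xor]
    refine add_mem ?_ (ih fun q hq => hl q (List.mem_cons_of_mem _ hq))
    cases KRow.tb e (Nat.sub 5 l.length) with
    | false =>
      show ab (dec 11 0) ∈ spW
      rw [dec_zero]; exact zero_mem _
    | true => exact Submodule.subset_span ⟨p, hl p List.mem_cons_self, rfl⟩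

theorem form_8 (m : ℕ) (y : Pauli 11) (hy : ab y = ab (dec 11 m)) (h : KRow.tb m 14 = false) :
    Pauli.form y (dec 11 0x8) = 0 := by
  have h8 : dec 11 0x8 = ⟨0, 0, PauliGates.dl 3⟩ := dec_Z (n := 11) 3
  have ha : y.a = (dec 11 m).a := congrArg Prod.fst hy
  have h1 : (dec 11 m).a 3 = 0 := by
    show bit m (11 + 3) = 0
    rw [KRow.tb_eq] at h
    unfold bit
    simp only [h]
    rfl
  rw [h8]
  unfold Pauli.form
  rw [dotProduct_zero, zero_add, ha]
  show PauliGates.dl 3 ⬝ᵥ (dec 11 m).a = 0
  rw [show PauliGates.dl (3 : Fin 11) = Pi.single 3 1 from rfl, single_dotProduct, one_mul, h1]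

include hα hI in
/-- Soundness of the check of one class. -/
theorem leaf_sound {n m am : ℕ} (h : leaf n m am = true) (hm : α (dec 11 m) = dec 11 am) : P (ab (dec 11 m)) := by
  unfold leaf at h
  rw [Bool.or_eq_true, Bool.or_eq_true, Bool.or_eq_true] at h
  intro y hy hu
  have h1 : dec 11 (mulK am m) = 1 := by
    rw [mulK_eq, dec_mulN (by norm_num), ← hm]
    rw [sq_eq hα] at hu
    have h2 : α y * y = 1 := Cd.R_injective (by rw [hu, map_one])
    rw [← h2]
    rcases (ab_eq_iff _ _).mp hy with h3 | h3
    · rw [h3]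
    · rw [h3, map_mul, aut_z]
      calc α (dec 11 m) * dec 11 m = Pauli.z 11 * Pauli.z 11 * (α (dec 11 m) * dec 11 m) := by
            rw [Pauli.z_sq, one_mul]
        _ = Pauli.z 11 * (Pauli.z 11 * α (dec 11 m)) * dec 11 m := by simp only [mul_assoc]
        _ = Pauli.z 11 * (α (dec 11 m) * Pauli.z 11) * dec 11 m := by
            rw [show Pauli.z 11 * α (dec 11 m) = α (dec 11 m) * Pauli.z 11 by rw [Pauli.mul_z, Pauli.z_mul]]
        _ = _ := by simp only [mul_assoc]
  rcases h with (h | h) | h | h
  · exfalso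
    have h2 : low (mulK am m) = 0 := by rw [low_eq_zero, h1]; rfl
    rw [h2] at h
    exact absurd h (by decide)
  · exfalso
    have h2 : bit (mulK am m) 22 = 0 := congrArg Pauli.s h1
    rw [KRow.tb_eq, ← bit_eq_one_iff, h2] at h
    exact absurd h (by decide)
  · apply good_form
    refine form_8 m y hy ?_
    cases h2 : KRow.tb m 14 with
    | false => rfl
    | true => rw [h2] at h; exact absurd h (by decide)
  · revert hu
    suffices hP : P (ab (dec 11 m)) from fun hu => hP y hy hu
    have h2 : and (KRow.tb U (Nat.land (fld tabT 24 0xffffff n) 0xfff))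
      (and (Nat.blt (Nat.land (fld tabT 24 0xffffff n) 0xfff) 4096)
        (and (not (Nat.beq (cd (Nat.land (fld tabT 24 0xffffff n) 0xfff)) 0))
        (Nat.beq (low (Nat.xor (Nat.xor (cd (Nat.land (fld tabT 24 0xffffff n) 0xfff))
          (cmb (Nat.shiftRight (fld tabT 24 0xffffff n) 12) wL)) m)) 0))) = true := h
    set j := Nat.land (fld tabT 24 0xffffff n) 0xfff with hj
    set k := Nat.shiftRight (fld tabT 24 0xffffff n) 12 with hk
    rw [Bool.and_eq_true, Bool.and_eq_true, Bool.and_eq_true] at h2
    obtain ⟨c1, c2, c3, c4⟩ := h2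
    rw [KRow.tb_eq] at c1
    have hj2 : j < 4096 := by simpa [Nat.blt] using c2
    have hcj : cd j ≠ 0 := by
      intro hh
      rw [hh] at c3
      exact absurd c3 (by decide)
    have h5 := ab_eq_of_low (Nat.eq_of_beq_eq_true c4)
    have h6 : ab (dec 11 (cd j ^^^ cmb k wL)) = ab (dec 11 (cd j)) + ab (dec 11 (cmb k wL)) := KGood.ab_dec_xor _ _
    rw [← h5]
    rw [show Nat.xor (cd j) (cmb k wL) = cd j ^^^ cmb k wL from rfl, h6]
    exact free hα hI (cmb_mem k wL fun p hp => hp) (P_lane (j := ⟨j, c1⟩) (isX_iff.mpr ⟨hj2, hcj⟩))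

theorem mem_span_cons {p : ℕ × ℕ} {l : List (ℕ × ℕ)} {v : VV}
    (hv : v ∈ Submodule.span (ZMod 2) {x : VV | ∃ q ∈ p :: l, x = ab (dec 11 q.1)}) :
    ∃ s ∈ Submodule.span (ZMod 2) {x : VV | ∃ q ∈ l, x = ab (dec 11 q.1)}, v = s ∨ v = ab (dec 11 p.1) + s := by
  have hS : {x : VV | ∃ q ∈ p :: l, x = ab (dec 11 q.1)} =
      insert (ab (dec 11 p.1)) {x : VV | ∃ q ∈ l, x = ab (dec 11 q.1)} := by
    ext x
    simp only [List.mem_cons, Set.mem_ofPred_eq, Set.mem_insert_iff]
    constructor
    · rintro ⟨q, rfl | hq, rfl⟩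
      · exact Or.inl rfl
      · exact Or.inr ⟨q, hq, rfl⟩
    · rintro (rfl | ⟨q, hq, rfl⟩)
      · exact ⟨p, Or.inl rfl, rfl⟩
      · exact ⟨q, Or.inr hq, rfl⟩
  rw [hS, Submodule.mem_span_insert] at hv
  obtain ⟨a, s, hs, rfl⟩ := hv
  refine ⟨s, hs, ?_⟩
  rcases zmod2_cases a with h | h
  · left; rw [h, zero_smul, zero_add]
  · right; rw [h, one_smul]

include hα hI in
theorem tree_sound : ∀ (l : List (ℕ × ℕ)), (∀ p ∈ l, α (dec 11 p.1) = dec 11 p.2) → ∀ n m am, tree l n m am = true →
    α (dec 11 m) = dec 11 am → ∀ v ∈ Submodule.span (ZMod 2) {x : VV | ∃ q ∈ l, x = ab (dec 11 q.1)},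
      P (ab (dec 11 m) + v) := by
  intro l
  induction l with
  | nil =>
    intro _ n m am h hm v hv
    have h0 : {x : VV | ∃ q ∈ ([] : List (ℕ × ℕ)), x = ab (dec 11 q.1)} = ∅ := by
      ext x; simp
    rw [h0, Submodule.span_empty, Submodule.mem_bot] at hv
    rw [hv, add_zero]
    exact leaf_sound hα hI h hm
  | cons p l ih =>
    intro hl n m am h hm v hv
    have h' : and (tree l (2 * n) m am) (seqB (mulK m p.1) fun m' => seqB (mulK am p.2) fun am' =>
      tree l (2 * n + 1) m' am') = true := h
    rw [Bool.and_eq_true, seqB_eq, seqB_eq] at h'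
    have hl' : ∀ q ∈ l, α (dec 11 q.1) = dec 11 q.2 := fun q hq => hl q (List.mem_cons_of_mem _ hq)
    obtain ⟨s, hs, rfl | rfl⟩ := mem_span_cons hv
    · exact ih hl' _ _ _ h'.1 hm _ hs
    · have h2 := ih hl' _ _ _ h'.2 (by
        rw [mulK_eq, mulK_eq, dec_mulN (by norm_num), dec_mulN (by norm_num), map_mul, hm, hl p List.mem_cons_self]) _ hs
      rwa [ab_mulK, add_assoc] at h2

include hα hI in
theorem P_spC {v : VV} (hv : v ∈ spC) : P v := by
  have h := tree_sound hα hI cL (fun p hp => by
    obtain ⟨h1, h2, -⟩ := c_check p hp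
    rw [α_dec hI h1, h2]) 0 0 0 tree_check (by rw [dec_zero, map_one]) v hv
  rwa [dec_zero, show ab (1 : Pauli 11) = 0 from rfl, zero_add] at h

/-- fixed classes -/
def Fx (α : MulAut (Pauli 11)) (v : VV) : Prop := ∀ y, ab y = v → ab (α y) = v

theorem fx_of {α : MulAut (Pauli 11)} {y : Pauli 11} (h : ab (α y) = ab y) : Fx α (ab y) := by
  intro y' hy'
  rw [ab_aut_congr α hy', h]

theorem fx_add {α : MulAut (Pauli 11)} {v w : VV} (hv : Fx α v) (hw : Fx α w) : Fx α (v + w) := by
  have h1 : ab ((⟨0, v.1, v.2⟩ : Pauli 11) * ⟨0, w.1, w.2⟩) = v + w := by rw [ab_mul]; rfl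
  rw [← h1]
  apply fx_of
  rw [map_mul, ab_mul, hv _ rfl, hw _ rfl, h1]

theorem fx_span {α : MulAut (Pauli 11)} {S : Set VV} (hS : ∀ v ∈ S, Fx α v) {v : VV} (hv : v ∈ Submodule.span (ZMod 2) S) :
    Fx α v := by
  induction hv using Submodule.span_induction with
  | mem x hx => exact hS x hx
  | zero =>
    have h : ab (1 : Pauli 11) = 0 := rfl
    rw [← h]; apply fx_of; rw [map_one]
  | add x y _ _ hx hy => exact fx_add hx hy
  | smul a x _ hx =>
    rcases zmod2_cases a with h | h
    · rw [h, zero_smul]
      have h : ab (1 : Pauli 11) = 0 := rfl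
      rw [← h]; apply fx_of; rw [map_one]
    · rw [h, one_smul]; exact hx

end Sound

theorem dtree_sound {α : MulAut (Pauli 11)} : ∀ (l : List (ℕ × ℕ)), (∀ p ∈ l, α (dec 11 p.1) = dec 11 p.2) →
    ∀ m am, dtree l m am = true → α (dec 11 m) = dec 11 am →
    ∀ v ∈ Submodule.span (ZMod 2) {x : VV | ∃ q ∈ l, x = ab (dec 11 q.1)},
      Fx α (ab (dec 11 m) + v) → ab (dec 11 m) + v = 0 := by
  intro l
  induction l with
  | nil =>
    intro _ m am h hm v hv hf
    have h0 : {x : VV | ∃ q ∈ ([] : List (ℕ × ℕ)), x = ab (dec 11 q.1)} = ∅ := by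
      ext x; simp
    rw [h0, Submodule.span_empty, Submodule.mem_bot] at hv
    rw [hv, add_zero] at hf ⊢
    have h' : or (Nat.beq m 0) (not (Nat.beq (low (Nat.xor am m)) 0)) = true := h
    rw [Bool.or_eq_true] at h'
    rcases h' with h' | h'
    · rw [Nat.eq_of_beq_eq_true h', dec_zero]; rfl
    · exfalso
      have h1 := hf _ rfl
      rw [hm] at h1
      have h2 : low (Nat.xor am m) = 0 := by
        rw [low_eq_zero]
        show ab (dec 11 (am ^^^ m)) = 0
        rw [KGood.ab_dec_xor, h1, vv_add_self]
      rw [h2] at h'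
      exact absurd h' (by decide)
  | cons p l ih =>
    intro hl m am h hm v hv hf
    have h' : and (dtree l m am) (seqB (mulK m p.1) fun m' => seqB (mulK am p.2) fun am' => dtree l m' am') = true := h
    rw [Bool.and_eq_true, seqB_eq, seqB_eq] at h'
    have hl' : ∀ q ∈ l, α (dec 11 q.1) = dec 11 q.2 := fun q hq => hl q (List.mem_cons_of_mem _ hq)
    obtain ⟨s, hs, rfl | rfl⟩ := mem_span_cons hv
    · exact ih hl' _ _ h'.1 hm _ hs hf
    · have h2 := ih hl' _ _ h'.2 (by
        rw [mulK_eq, mulK_eq, dec_mulN (by norm_num), dec_mulN (by norm_num), map_mul, hm, hl p List.mem_cons_self]) _ hs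
      rw [ab_mulK, add_assoc] at h2
      exact h2 hf

theorem spD_zero {α : MulAut (Pauli 11)} (hI : ∀ k < 22, α (dec 11 (2 ^ k)) = dec 11 (im I_Y k))
    {v : VV} (hv : v ∈ spD) (hf : Fx α v) : v = 0 := by
  have h0 : ab (dec 11 0) = 0 := by rw [dec_zero]; rfl
  have h := dtree_sound dL (fun p hp => by
    obtain ⟨h1, h2⟩ := d_check p hp
    rw [α_dec hI h1, h2]) 0 0 dtree_check (by rw [dec_zero, map_one]) v hv (by rw [h0, zero_add]; exact hf)
  rwa [h0, zero_add] at h

theorem spC_fx {α : MulAut (Pauli 11)} (hI : ∀ k < 22, α (dec 11 (2 ^ k)) = dec 11 (im I_Y k))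
    {v : VV} (hv : v ∈ spC) : Fx α v := by
  refine fx_span ?_ hv
  rintro _ ⟨p, hp, rfl⟩
  obtain ⟨h1, h2, h3⟩ := c_check p hp
  apply fx_of
  rw [α_dec hI h1, h2, h3]

theorem spW_fx {α : MulAut (Pauli 11)} (hα : ∀ x, Y * Cd.R x = Cd.R (α x) * Y)
    (hI : ∀ k < 22, α (dec 11 (2 ^ k)) = dec 11 (im I_Y k)) {v : VV} (hv : v ∈ spW) : Fx α v := by
  refine fx_span ?_ hv
  rintro _ ⟨p, hp, rfl⟩
  obtain ⟨h1, h2⟩ := w_check p hp
  have h3 : ab (α (dec 11 p.1) * dec 11 p.1) = ab (dec 11 p.2) := by
    rw [α_dec hI h1, ← ab_eq_of_low h2, ab_mulK, ab_mul]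
  rw [← h3]
  apply fx_of
  rw [map_mul, αα hα, ab_mul, ab_mul, add_comm]

/-! ### The basis -/

theorem xors_mem {S : Submodule (ZMod 2) VV} (l : List ℕ) (h : ∀ c ∈ l, ab (dec 11 c) ∈ S) : ab (dec 11 (xors l)) ∈ S := by
  induction l with
  | nil =>
    show ab (dec 11 0) ∈ S
    rw [dec_zero]; exact zero_mem _
  | cons c l ih =>
    show ab (dec 11 (c ^^^ xors l)) ∈ S
    rw [KGood.ab_dec_xor]
    exact add_mem (h c List.mem_cons_self) (ih fun d hd => h d (List.mem_cons_of_mem _ hd))

theorem bs_mem {c : ℕ} (hc : c ∈ bs) : ab (dec 11 c) ∈ spD ⊔ (spC ⊔ spW) := by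
  unfold bs at hc
  rw [List.mem_append, List.mem_append, List.mem_map, List.mem_map, List.mem_map] at hc
  rcases hc with ⟨p, hp, rfl⟩ | ⟨p, hp, rfl⟩ | ⟨p, hp, rfl⟩
  · exact Submodule.mem_sup_left (Submodule.subset_span ⟨p, hp, rfl⟩)
  · exact Submodule.mem_sup_right (Submodule.mem_sup_left (Submodule.subset_span ⟨p, hp, rfl⟩))
  · exact Submodule.mem_sup_right (Submodule.mem_sup_right (Submodule.subset_span ⟨p, hp, rfl⟩))

theorem ab_mem (y : Pauli 11) : ab y ∈ spD ⊔ (spC ⊔ spW) := by
  have hy : y ∈ Subgroup.closure {x : Pauli 11 | ∃ k < 22, x = dec 11 (2 ^ k)} := by rw [closure_gens]; trivial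
  induction hy using Subgroup.closure_induction with
  | mem x hx =>
    obtain ⟨k, hk, rfl⟩ := hx
    obtain ⟨h1, h2⟩ := sel_check k hk
    rw [← h2]
    apply xors_mem
    intro c hc
    rw [List.all_eq_true] at h1
    exact bs_mem (List.elem_iff.mp (h1 c hc))
  | one => exact zero_mem _
  | mul a b _ _ ha hb => rw [ab_mul]; exact add_mem ha hb
  | inv a _ ha =>
    have h2 : ab (a * a⁻¹) = ab a + ab a⁻¹ := ab_mul _ _
    rw [mul_inv_cancel] at h2
    have h3 : ab (1 : Pauli 11) = 0 := rfl
    rw [h3] at h2
    have h4 : ab a⁻¹ = ab a := by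
      calc ab a⁻¹ = ab a + ab a + ab a⁻¹ := by rw [vv_add_self, zero_add]
        _ = ab a := by rw [add_assoc, ← h2, add_zero]
    rw [h4]; exact ha

theorem good_R {y : Pauli 11} (hu : (Y * Cd.R y) * (Y * Cd.R y) = 1) : F8Base.Good Inst.M (Y * Cd.R y) := by
  obtain ⟨α, hα, hI⟩ := exists_α
  have h1 : α y * y = 1 := by
    rw [sq_eq hα] at hu
    exact Cd.R_injective (by rw [hu, map_one])
  have h2 : Fx α (ab y) := by
    apply fx_of
    have h3 : ab (α y * y) = ab (α y) + ab y := ab_mul _ _
    rw [h1] at h3
    have h4 : ab (1 : Pauli 11) = 0 := rfl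
    rw [h4] at h3
    calc ab (α y) = ab (α y) + ab y + ab y := by rw [add_assoc, vv_add_self, add_zero]
      _ = ab y := by rw [← h3, zero_add]
  obtain ⟨d, hd, x, hx, e⟩ := Submodule.mem_sup.mp (ab_mem y)
  obtain ⟨c, hc, w, hw, rfl⟩ := Submodule.mem_sup.mp hx
  have h5 : Fx α (c + w) := fx_add (spC_fx hI hc) (spW_fx hα hI hw)
  have h6 : Fx α d := by
    have h7 := fx_add h2 h5
    rw [← e, add_assoc, vv_add_self, add_zero] at h7
    exact h7
  have h8 := spD_zero hI hd h6
  rw [h8, zero_add] at e
  exact free hα hI hw (P_spC hα hI hc) y e.symm hu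

/-- **F8, the 16-set case.** -/
theorem good_Y : ∀ q ∈ Inst.M.Q, (Y * q) * (Y * q) = 1 → F8Base.Good Inst.M (Y * q) := by
  intro q hq hu
  obtain ⟨y, rfl⟩ := KLink.link.mem_Q.mp hq
  exact good_R hu

theorem good_hex : ∀ q ∈ Inst.M.Q,
    (E .y1 * E .y2 * E .y5 * E .y6 * E .y9 * q) * (E .y1 * E .y2 * E .y5 * E .y6 * E .y9 * q) = 1 →
    F8Base.Good Inst.M (E .y1 * E .y2 * E .y5 * E .y6 * E .y9 * q) := by
  rw [Y_eq]; exact good_Y

end Cfsg.Agent.BabyU.F8Hex
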