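import Cfsg.Agent.BabyM.Instance
import Cfsg.Agent.BabyM.TransFields

/-!
# F8, the 16-set case (1): word checks (helper442)

`Y = y1 y2 y5 y6 y9` (the diagonal element of a 16-set) is an involution and a transposition; its action on the Pauli
group; `Y` fixes the axis of the lane `1296`, whose transposition is `Z3`.
-/

set_option autoImplicit false
set_option Elab.async false

namespace Cfsg.Agent.BabyU.F8HexW

open Cfsg.Agent.Lib.PermNet Cfsg.Agent.Monster Cfsg.Agent.Monster.VecEngine Cfsg.Agent.Monster.VecSpace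
open Cfsg.Agent.Monster.PauliBasic Cfsg.Agent.Monster.PauliRep Cfsg.Agent.Monster.PauliClif Cfsg.Agent.Monster.PauliBits
open Cfsg.Agent.BabyM Cfsg.Agent.BabyM.KTabData Cfsg.Agent.BabyM.QAct Cfsg.Agent.BabyM.QData Cfsg.Agent.BabyM.QData.Good
open Cfsg.Agent.BabyM.Conc Cfsg.Agent.BabyM.KTab Cfsg.Agent.BabyM.KRow Cfsg.Agent.BabyM.KQ Cfsg.Agent.BabyM.TransOrd

/-- The word of `Y`. -/
def yw : List Ltr := [.y9, .y6, .y5, .y2, .y1]

/-- `Y = y1 y2 y5 y6 y9` -/
noncomputable def Y : V ≃ₗ[ℚ] V := W yw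

theorem Y_eq : E .y1 * E .y2 * E .y5 * E .y6 * E .y9 = Y := by
  unfold Y yw
  rw [W_cons, W_cons, W_cons, W_cons, W_single]

theorem Y_mem_C : Y ∈ Inst.M.C := ConcGrp.W_mem_C (v := yw) rfl

/-- Words with the same value on one vector are equal. -/
theorem eqw {w w' : List Ltr} (h : check (w.map Ltr.prog) WordsInst.vB (w'.map Ltr.prog) WordsInst.vB = true) :
    W w = W w' :=
  WordsInst.eq_of_check Instance.all Instance.ok (TransFields.W_mem_MG _) (TransFields.W_mem_MG _) h

theorem Y_sq : Y * Y = 1 := by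
  have h : W (yw ++ yw) = W [] := eqw (by decide +kernel)
  rw [W_append, W_nil] at h
  exact h

/-- `Y` is a transposition. -/
def gw : List Ltr := [.p10, .xi, .tau, .p, .h, .p, .h, .p7, .Z0, .X3, .X9]

theorem Y_trans : Y = W gw * Inst.M.t₀ * (W gw)⁻¹ := by
  have h : W yw = W (tw gw) := eqw (by decide +kernel)
  rw [W_tw] at h
  exact h

/-! ### The action on the Pauli group -/

/-- The images of the generators. -/
def I_Y : ℕ := 0x2998885000cc08000004064c42028c0100000080004046c44022c8001000000800000400000200000500000080000040000420000410000008000004000402000401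

/-- The word of a code. -/
def wd (m : ℕ) : List Ltr := (((List.range 22).filter fun k => m.testBit k).map qL) ++ (if m.testBit 22 then [.z] else [])

theorem wd_check : ∀ k < 22, (wd (im I_Y k)).all KQ.isq = true ∧ Nat.beq (cw (wd (im I_Y k))) (im I_Y k) = true := by
  decide +kernel

theorem rel_check : ∀ k < 22, check ((qL k :: yw).map Ltr.prog) WordsInst.vB
    ((yw ++ wd (im I_Y k)).map Ltr.prog) WordsInst.vB = true := by
  decide +kernel

theorem rel (k : ℕ) (hk : k < 22) : Y * Cd.R (dec 11 (2 ^ k)) = Cd.R (dec 11 (im I_Y k)) * Y := by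
  have h := eqw (rel_check k hk)
  obtain ⟨h1, h2⟩ := wd_check k hk
  rw [W_append, W_cons, W_eq_R _ h1, Nat.eq_of_beq_eq_true h2, E_qL k hk] at h
  exact h

theorem exists_α : ∃ α : MulAut (Pauli 11), (∀ x, Y * Cd.R x = Cd.R (α x) * Y) ∧
    ∀ k < 22, α (dec 11 (2 ^ k)) = dec 11 (im I_Y k) := by
  obtain ⟨α, hα, -⟩ := KFact.fact Y Y_mem_C
  refine ⟨α, hα, fun k hk => ?_⟩
  apply Cd.R_injective
  exact mul_right_cancel ((hα _).symm.trans (rel k hk))

/-! ### A fixed axis -/

/-- The word of the axis of the lane `1296`. -/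
def hw : List Ltr := [.h, .p]

theorem Y_fix : Y (W hw Inst.M.d₀) = W hw Inst.M.d₀ := by
  have h : check ((hw ++ yw).map Ltr.prog) InstVec.dv0 (hw.map Ltr.prog) InstVec.dv0 = true := by decide +kernel
  have h1 := W_eq_of_check h
  rw [W_append, LinearEquiv.mul_apply] at h1
  rw [TransFields.d₀_eq', map_smul, map_smul]
  exact congrArg (fun x => (1 / 8 : ℚ) • x) h1

theorem hw_t₀ : W hw * Inst.M.t₀ * (W hw)⁻¹ = Cd.R (dec 11 0x8) := by
  have h : W (tw hw) = W [.Z3] := eqw (by decide +kernel)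
  rw [W_tw, W_single, E_Z3] at h
  exact h

end Cfsg.Agent.BabyU.F8HexW
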