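import Cfsg.Agent.BabyM.AbsOrder

/-!
# F8 for the model of the Baby Monster (0): an involution of `G` is conjugate into `C`
-/

set_option autoImplicit false

namespace Cfsg.Agent.BabyU.F8Index

open Cfsg.Agent.BabyM.Model

variable {W : Type} [AddCommGroup W] [Module ℚ W] {M : BData W} {K₀ : Type} [Group K₀]

/-- In a finite group an involution is conjugate into a subgroup of odd index. -/
theorem exists_conj_mem {Γ : Type} [Group Γ] [Finite Γ] (H : Subgroup Γ) (hH : Odd H.index) {x : Γ} (h : x * x = 1) :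
    ∃ g : Γ, g * x * g⁻¹ ∈ H := by
  have hp : IsPGroup 2 (Subgroup.zpowers x) := by
    rintro ⟨y, hy⟩
    refine ⟨1, ?_⟩
    obtain ⟨m, rfl⟩ := Subgroup.mem_zpowers_iff.1 hy
    apply Subtype.ext
    show (x ^ m) ^ (2 ^ 1) = 1
    rw [pow_one, ← zpow_natCast, ← zpow_mul, mul_comm, zpow_mul]
    have : x ^ ((2 : ℕ) : ℤ) = 1 := by rw [zpow_natCast, pow_two, h]
    rw [this, one_zpow]
  have : Fact (Nat.Prime 2) := ⟨Nat.prime_two⟩
  have h1 := hp.card_modEq_card_fixedPoints (Γ ⧸ H)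
  have h2 : (Nat.card (Γ ⧸ H)) % 2 = 1 := Nat.odd_iff.1 hH
  have h3 : Nat.card (MulAction.fixedPoints (Subgroup.zpowers x) (Γ ⧸ H)) ≠ 0 := by
    intro h4
    rw [h4] at h1
    have : Nat.card (Γ ⧸ H) % 2 = 0 := h1
    omega
  obtain ⟨hne, -⟩ := Nat.card_ne_zero.1 h3
  obtain ⟨⟨c, hc⟩⟩ := hne
  obtain ⟨g, rfl⟩ := QuotientGroup.mk_surjective c
  refine ⟨g⁻¹, ?_⟩
  have h5 := hc ⟨x, Subgroup.mem_zpowers x⟩
  have h6 : ((x * g : Γ) : Γ ⧸ H) = (g : Γ ⧸ H) := h5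
  have h7 := QuotientGroup.eq.1 h6.symm
  rw [inv_inv, mul_assoc]
  exact h7

/-- An involution of `G` is conjugate into `C`. -/
theorem exists_conj_C (A : BAll M K₀) {x : W ≃ₗ[ℚ] W} (hx : x ∈ M.G) (h : x * x = 1) :
    ∃ g ∈ M.G, g * x * g⁻¹ ∈ M.C := by
  have := A.finite_G
  have hodd : Odd (M.C.subgroupOf M.G).index := by
    have h1 := (M.C.subgroupOf M.G).card_mul_index
    have h2 : Nat.card (M.C.subgroupOf M.G) = Nat.card M.C := by
      refine Nat.card_congr ⟨fun x => ⟨x.1.1, x.2⟩, fun x => ⟨⟨x.1, A.C_le_G x.2⟩, x.2⟩,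
        fun x => rfl, fun x => rfl⟩
    rw [h2, A.grp.card_C, A.card_G] at h1
    have h3 : (M.C.subgroupOf M.G).index = 11707448673375 := by omega
    rw [h3]
    decide
  obtain ⟨g, hg⟩ := exists_conj_mem (M.C.subgroupOf M.G) hodd (x := ⟨x, hx⟩) (Subtype.ext h)
  exact ⟨g, g.2, hg⟩

end Cfsg.Agent.BabyU.F8Index
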