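import Cfsg.Agent.BabyU.F8Main
import Cfsg.Agent.BabyU.ClosInnerAll

/-!
# Closing for the Baby Monster: `Inner` for the concrete model
-/

set_option autoImplicit false

namespace Cfsg.Agent.BabyU.F8Inner

open Cfsg.Agent.BabyM Cfsg.Agent.BabyM.Model Cfsg.Agent.BabyU.Clos Cfsg.Agent.BabyU.ClosModel

/-- **`Inner` for the concrete model**, without hypotheses. -/
theorem inner : Inner (⊤ : Subgroup Inst.M.G) (PP Inst.M) (MM Inst.M) (zz Instance.all) (tt Instance.all)
    (ClosM2.t₁ KLink.link Instance.all) :=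
  ClosInnerAll.inner (F8Main.classes' (fun _ h => h) rfl)

end Cfsg.Agent.BabyU.F8Inner
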