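import Cfsg.Agent.BabyM.WordsRel
import Cfsg.Agent.BabyM.TransInv
import Cfsg.Agent.BabyM.TZeroE
import Cfsg.Agent.BabyM.KQ
import Cfsg.Agent.BabyU.F8Base

/-!
# Involutions of the Baby Monster model: tools for the cosets `v Q`

`fb n m` : the symplectic form of two codes; `rc L n` : the sum of the second entries of the pairs of `L` whose first entry
is not orthogonal to `n`; `rc_eq` : a list of 22 pairs which is a pair of dual bases reproduces every code.
`P v m` : every involution `v * R(m) * z^s` is good; `P.xor` : the commutators with `v` can be removed.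
-/

set_option autoImplicit false

namespace Cfsg.Agent.BabyU.F8K

open Cfsg.Agent.Monster Cfsg.Agent.Monster.PauliBasic Cfsg.Agent.Monster.PauliBits Cfsg.Agent.Monster.VecEngine
  Cfsg.Agent.Monster.VecSpace Cfsg.Agent.BabyM.Conc Cfsg.Agent.BabyM.Model Cfsg.Agent.BabyM.Inst
  Cfsg.Agent.BabyM.InstMem Cfsg.Agent.BabyM.WordsInst Cfsg.Agent.BabyM.WordsRel Cfsg.Agent.BabyM.TransInv
  Cfsg.Agent.BabyM.TZeroE Cfsg.Agent.BabyM.KTab Cfsg.Agent.BabyM.QAct Cfsg.Agent.BabyM.KQ Cfsg.Agent.BabyM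

/-! ### Codes -/

/-- The symplectic form of two codes. -/
def fb (n m : ℕ) : Bool := (formN n m).testBit 0

theorem form_eq (n m : ℕ) : Pauli.form (dec 11 n) (dec 11 m) = if fb n m = true then 1 else 0 := form_dec n m

theorem ite_add (p q r : Bool)
    (h : (if p = true then (1 : ZMod 2) else 0) = (if q = true then 1 else 0) + if r = true then 1 else 0) :
    p = xor q r := by
  revert h
  cases p <;> cases q <;> cases r <;> decide

theorem dec_xor_a (a b : ℕ) : (dec 11 (a ^^^ b)).a = (dec 11 a).a + (dec 11 b).a := by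
  funext i; exact bit_xor _ _ _

theorem dec_xor_b (a b : ℕ) : (dec 11 (a ^^^ b)).b = (dec 11 a).b + (dec 11 b).b := by
  funext i; exact bit_xor _ _ _

theorem fb_xor (a b m : ℕ) : fb (a ^^^ b) m = xor (fb a m) (fb b m) := by
  apply ite_add
  rw [← form_eq, ← form_eq, ← form_eq]
  unfold Pauli.form
  rw [dec_xor_a, dec_xor_b, add_dotProduct, dotProduct_add]
  ring

theorem fb_comm (a b : ℕ) : fb a b = fb b a := by
  have h := form_comm (dec 11 a) (dec 11 b)
  rw [form_eq, form_eq] at h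
  revert h
  cases fb a b <;> cases fb b a <;> decide

theorem fb_xor_right (m a b : ℕ) : fb m (a ^^^ b) = xor (fb m a) (fb m b) := by
  rw [fb_comm, fb_xor, fb_comm a, fb_comm b]

/-- The sum of the second entries of the pairs whose first entry is not orthogonal to `n`. -/
def rc : List (ℕ × ℕ) → ℕ → ℕ
  | [], _ => 0
  | p :: L, n => (bif fb n p.1 then p.2 else 0) ^^^ rc L n

theorem rc_xor (L : List (ℕ × ℕ)) (a b : ℕ) : rc L (a ^^^ b) = rc L a ^^^ rc L b := by
  induction L with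
  | nil => exact (Nat.xor_self 0).symm
  | cons p L ih =>
    show (bif fb (a ^^^ b) p.1 then p.2 else 0) ^^^ rc L (a ^^^ b) =
      ((bif fb a p.1 then p.2 else 0) ^^^ rc L a) ^^^ ((bif fb b p.1 then p.2 else 0) ^^^ rc L b)
    rw [ih, fb_xor]
    have h : (bif xor (fb a p.1) (fb b p.1) then p.2 else 0) =
        (bif fb a p.1 then p.2 else 0) ^^^ (bif fb b p.1 then p.2 else 0) := by
      cases fb a p.1 <;> cases fb b p.1 <;> simp
    rw [h]
    apply Nat.eq_of_testBit_eq
    intro i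
    simp only [Nat.testBit_xor]
    generalize Nat.testBit _ i = x1
    generalize Nat.testBit (bif fb b p.1 then p.2 else 0) i = x2
    generalize Nat.testBit (rc L a) i = x3
    generalize Nat.testBit (rc L b) i = x4
    cases x1 <;> cases x2 <;> cases x3 <;> cases x4 <;> rfl

theorem rc_append (L L' : List (ℕ × ℕ)) (n : ℕ) : rc (L ++ L') n = rc L n ^^^ rc L' n := by
  induction L with
  | nil => exact (Nat.zero_xor _).symm
  | cons p L ih =>
    show (bif fb n p.1 then p.2 else 0) ^^^ rc (L ++ L') n = ((bif fb n p.1 then p.2 else 0) ^^^ rc L n) ^^^ rc L' n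
    rw [ih, Nat.xor_assoc]

theorem rc_zero_of {L : List (ℕ × ℕ)} {n : ℕ} (h : ∀ p ∈ L, fb n p.1 = false) : rc L n = 0 := by
  induction L with
  | nil => rfl
  | cons p L ih =>
    show (bif fb n p.1 then p.2 else 0) ^^^ rc L n = 0
    rw [h p List.mem_cons_self, ih fun q hq => h q (List.mem_cons_of_mem _ hq)]
    exact Nat.xor_self 0

/-- A map compatible with `xor` is determined by the powers of two. -/
theorem eq_of_pow {f g : ℕ → ℕ} (hf : ∀ a b, f (a ^^^ b) = f a ^^^ f b) (hg : ∀ a b, g (a ^^^ b) = g a ^^^ g b)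
    (m : ℕ) (h : ∀ k < m, f (2 ^ k) = g (2 ^ k)) : ∀ n < 2 ^ m, f n = g n := by
  induction m with
  | zero =>
    intro n hn
    have h0 : n = 0 := by rw [pow_zero] at hn; omega
    have hf0 := hf 0 0
    have hg0 := hg 0 0
    rw [Nat.xor_self, Nat.xor_self] at hf0 hg0
    rw [h0, hf0, hg0]
  | succ m ih =>
    intro n hn
    cases hb : n.testBit m with
    | false =>
      apply ih (fun k hk => h k (Nat.lt_succ_of_lt hk))
      exact Nat.lt_pow_two_of_testBit n fun i hi => by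
        rcases Nat.lt_or_ge m i with h1 | h1
        · exact Nat.testBit_lt_two_pow (lt_of_lt_of_le hn (Nat.pow_le_pow_right (by norm_num) h1))
        · have : i = m := le_antisymm h1 hi
          rw [this]; exact hb
    | true =>
      have h1 : n ^^^ 2 ^ m < 2 ^ m := by
        apply Nat.lt_pow_two_of_testBit
        intro i hi
        rw [Nat.testBit_xor, Nat.testBit_two_pow]
        rcases Nat.lt_or_ge m i with h1 | h1
        · rw [Nat.testBit_lt_two_pow (lt_of_lt_of_le hn (Nat.pow_le_pow_right (by norm_num) h1))]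
          simp only [Bool.false_xor, decide_eq_false_iff_not]
          omega
        · have : i = m := le_antisymm h1 hi
          rw [this, hb]
          simp
      have h2 : n = (n ^^^ 2 ^ m) ^^^ 2 ^ m := by rw [Nat.xor_assoc, Nat.xor_self, Nat.xor_zero]
      rw [h2, hf, hg, ih (fun k hk => h k (Nat.lt_succ_of_lt hk)) _ h1, h m (Nat.lt_succ_self m)]

/-- The check of a pair of dual bases. -/
def dual (L : List (ℕ × ℕ)) : Bool := (List.range 22).all fun k => Nat.beq (rc L (2 ^ k)) (2 ^ k)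

theorem rc_eq {L : List (ℕ × ℕ)} (h : dual L = true) {n : ℕ} (hn : n < 2 ^ 22) : rc L n = n := by
  refine eq_of_pow (g := fun n => n) (rc_xor L) (fun _ _ => rfl) 22 ?_ n hn
  intro k hk
  have := List.all_eq_true.mp h k (List.mem_range.mpr hk)
  exact Nat.eq_of_beq_eq_true this

/-! ### The Pauli group -/

/-- The element of `Q` of a code. -/
noncomputable def Rn (n : ℕ) : V ≃ₗ[ℚ] V := Cd.R (dec 11 n)

theorem Rn_zero : Rn 0 = 1 := by
  unfold Rn
  rw [KRow.dec_zero, map_one]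

theorem Rn_mem (n : ℕ) : Rn n ∈ Q := by
  rw [Q_eq]; exact ⟨_, rfl⟩

theorem pauli_or {x y : Pauli 11} (ha : x.a = y.a) (hb : x.b = y.b) : x = y ∨ x = y * Pauli.z 11 := by
  rcases zmod2_cases (x.s + y.s) with h | h
  · left
    refine Pauli.ext ?_ ha hb
    calc x.s = x.s + (y.s + y.s) := by rw [zmod2_add_self, add_zero]
      _ = (x.s + y.s) + y.s := by rw [add_assoc]
      _ = y.s := by rw [h, zero_add]
  · right
    rw [Pauli.mul_z]
    refine Pauli.ext ?_ ha hb
    calc x.s = x.s + (y.s + y.s) := by rw [zmod2_add_self, add_zero]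
      _ = (x.s + y.s) + y.s := by rw [add_assoc]
      _ = y.s + 1 := by rw [h, add_comm]

theorem z_def : z = Cd.R (Pauli.z 11) := z_eq

theorem Rn_xor (a b : ℕ) : Rn (a ^^^ b) = Rn a * Rn b ∨ Rn (a ^^^ b) = Rn a * Rn b * z := by
  have h := pauli_or (x := dec 11 (a ^^^ b)) (y := dec 11 a * dec 11 b) (dec_xor_a a b) (dec_xor_b a b)
  unfold Rn
  rcases h with h | h
  · left; rw [h, map_mul]
  · right; rw [h, map_mul, map_mul, z_def]

/-- Every element of `Q` has a code. -/
theorem exists_Rn {q : V ≃ₗ[ℚ] V} (hq : q ∈ Q) : ∃ n < 2 ^ 22, q = Rn n ∨ q = Rn n * z := by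
  rw [Q_eq] at hq
  obtain ⟨x, rfl⟩ := hq
  refine ⟨(idx x.a <<< 11) ^^^ idx x.b, ?_, ?_⟩
  · apply Nat.xor_lt_two_pow
    · have := idx_lt x.a
      rw [Nat.shiftLeft_eq]
      calc idx x.a * 2 ^ 11 < 2 ^ 11 * 2 ^ 11 := Nat.mul_lt_mul_of_pos_right this (by norm_num)
        _ = 2 ^ 22 := by norm_num
    · exact lt_of_lt_of_le (idx_lt x.b) (Nat.pow_le_pow_right (by norm_num) (by norm_num))
  · have ha : x.a = (dec 11 ((idx x.a <<< 11) ^^^ idx x.b)).a := by
      funext i
      show x.a i = bit ((idx x.a <<< 11) ^^^ idx x.b) (11 + i.1)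
      rw [bit_xor, bit_shiftLeft, if_pos (by omega), Nat.add_sub_cancel_left, bit_idx,
        bit_eq_zero_of_lt (lt_of_lt_of_le (idx_lt x.b) (Nat.pow_le_pow_right (by norm_num) (by omega))), add_zero]
    have hb : x.b = (dec 11 ((idx x.a <<< 11) ^^^ idx x.b)).b := by
      funext i
      show x.b i = bit ((idx x.a <<< 11) ^^^ idx x.b) i.1
      rw [bit_xor, bit_shiftLeft, if_neg (by omega), zero_add, bit_idx]
    rcases pauli_or ha hb with h | h
    · left; unfold Rn; rw [← h]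
    · right
      unfold Rn
      rw [z_def, ← map_mul, ← h]

theorem W_Rn {v : List Ltr} (hv : v.all isq = true) {n : ℕ} (hc : Nat.beq (cw v) n = true) : W v = Rn n := by
  rw [W_eq_R v hv, Nat.eq_of_beq_eq_true hc]; rfl

theorem comm_iff (n m : ℕ) : Rn n * Rn m = Rn m * Rn n ↔ fb n m = false := by
  unfold Rn
  rw [← map_mul, ← map_mul]
  constructor
  · intro h
    have h1 := (Pauli.commute_iff _ _).mp (Cd.R_injective h)
    rw [form_eq] at h1
    cases h2 : fb n m with
    | false => rfl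
    | true => rw [h2] at h1; exact absurd h1 (by decide)
  · intro h
    rw [(Pauli.commute_iff _ _).mpr]
    rw [form_eq, h]
    rfl

/-! ### The group `{1, z}` -/

/-- `1` or `z` -/
def Z2 (e : V ≃ₗ[ℚ] V) : Prop := e = 1 ∨ e = z

theorem Z2.one : Z2 1 := Or.inl rfl

section

variable {K₀ : Type} [Group K₀] (A : BAll M K₀)

include A

theorem zz : z * z = 1 := A.grp.z_sq

theorem Z2.mul {e f : V ≃ₗ[ℚ] V} (he : Z2 e) (hf : Z2 f) : Z2 (e * f) := by
  rcases he with rfl | rfl
  · rwa [one_mul]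
  · rcases hf with rfl | rfl
    · right; rw [mul_one]
    · left; exact zz A

theorem Z2.sq {e : V ≃ₗ[ℚ] V} (he : Z2 e) : e * e = 1 := by
  rcases he with rfl | rfl
  · rw [one_mul]
  · exact zz A

theorem Z2.comm {e g : V ≃ₗ[ℚ] V} (he : Z2 e) (hg : g ∈ C) : g * e = e * g := by
  rcases he with rfl | rfl
  · rw [one_mul, mul_one]
  · exact A.grp.z_comm g hg

theorem Z2.mem {e : V ≃ₗ[ℚ] V} (he : Z2 e) : e ∈ C := by
  rcases he with rfl | rfl
  · exact C.one_mem
  · exact A.grp.Q_le A.grp.z_mem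

theorem Q_comm' {x y : V ≃ₗ[ℚ] V} (hx : x ∈ Q) (hy : y ∈ Q) : ∃ e, Z2 e ∧ x * y = y * x * e := by
  rcases A.grp.Q_comm x hx y hy with h | h
  · exact ⟨1, Or.inl rfl, by rw [mul_one]; exact h⟩
  · exact ⟨z, Or.inr rfl, h⟩

omit A in
theorem Rn_xor' (a b : ℕ) : ∃ e, Z2 e ∧ Rn (a ^^^ b) = Rn a * Rn b * e := by
  rcases Rn_xor a b with h | h
  · exact ⟨1, Or.inl rfl, by rw [mul_one]; exact h⟩
  · exact ⟨z, Or.inr rfl, h⟩

/-- `v⁻¹ r v r⁻¹ = R(c) e` for some `r ∈ Q` -/
def Com (v : V ≃ₗ[ℚ] V) (c : ℕ) : Prop := ∃ r ∈ Q, ∃ e, Z2 e ∧ r * v = v * (Rn c * e) * r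

/-- Every involution `v * R(m) * e`, `e ∈ {1, z}`, is good. -/
def P (v : V ≃ₗ[ℚ] V) (m : ℕ) : Prop :=
  ∀ e : V ≃ₗ[ℚ] V, Z2 e → (v * Rn m * e) * (v * Rn m * e) = 1 → F8Base.Good M (v * Rn m * e)

theorem exists_conj {v : V ≃ₗ[ℚ] V} {c : ℕ} (hc : Com v c) (m : ℕ) {e : V ≃ₗ[ℚ] V} (he : Z2 e) :
    ∃ r ∈ Q, ∃ e₁, Z2 e₁ ∧ v * Rn (c ^^^ m) * e = r * (v * Rn m * e₁) * r⁻¹ := by
  obtain ⟨r, hr, e', he', h⟩ := hc
  obtain ⟨e₂, he₂, h₂⟩ := Rn_xor' c m
  obtain ⟨e₃, he₃, h₃⟩ := Q_comm' A (Q.inv_mem hr) (Rn_mem m)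
  have hQC : ∀ {q : V ≃ₗ[ℚ] V}, q ∈ Q → q ∈ C := fun hq => A.grp.Q_le hq
  have h1 : v * Rn c = r * v * r⁻¹ * e' := by
    have h4 : r * v * r⁻¹ = v * (Rn c * e') := by rw [h]; group
    rw [h4, mul_assoc, mul_assoc (Rn c), he'.sq A, mul_one]
  have hm := hQC (Rn_mem m)
  have hri := hQC (Q.inv_mem hr)
  refine ⟨r, hr, e₃ * (e' * (e₂ * e)), he₃.mul A (he'.mul A (he₂.mul A he)), ?_⟩
  calc v * Rn (c ^^^ m) * e = (v * Rn c) * Rn m * e₂ * e := by rw [h₂]; group
    _ = r * v * r⁻¹ * (e' * Rn m) * e₂ * e := by rw [h1]; group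
    _ = r * v * (r⁻¹ * Rn m) * e' * e₂ * e := by rw [← he'.comm A hm]; group
    _ = r * (v * Rn m) * (r⁻¹ * (e₃ * (e' * (e₂ * e)))) := by rw [h₃]; group
    _ = r * (v * Rn m) * ((e₃ * (e' * (e₂ * e))) * r⁻¹) := by
      rw [(he₃.mul A (he'.mul A (he₂.mul A he))).comm A hri]
    _ = r * (v * Rn m * (e₃ * (e' * (e₂ * e)))) * r⁻¹ := by group

theorem P_step {v : V ≃ₗ[ℚ] V} {c m : ℕ} (hc : Com v c) (h : P v m) : P v (c ^^^ m) := by
  intro e he hsq
  obtain ⟨r, hr, e₁, he₁, h1⟩ := exists_conj A hc m he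
  rw [h1] at hsq ⊢
  refine F8Base.Good.conj (A.C_le_G (A.grp.Q_le hr)) (h e₁ he₁ ?_)
  have h2 : r * ((v * Rn m * e₁) * (v * Rn m * e₁)) * r⁻¹ = 1 := by
    rw [← hsq]; group
  have h3 : r⁻¹ * (r * ((v * Rn m * e₁) * (v * Rn m * e₁)) * r⁻¹) * r = r⁻¹ * 1 * r := by rw [h2]
  rw [show r⁻¹ * (r * ((v * Rn m * e₁) * (v * Rn m * e₁)) * r⁻¹) * r = (v * Rn m * e₁) * (v * Rn m * e₁) by group,
    mul_one, inv_mul_cancel] at h3
  exact h3

theorem P_rc {v : V ≃ₗ[ℚ] V} {L : List (ℕ × ℕ)} (hL : ∀ p ∈ L, Com v p.2) (n m : ℕ) (h : P v m) :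
    P v (rc L n ^^^ m) := by
  induction L with
  | nil =>
    show P v (0 ^^^ m)
    rwa [Nat.zero_xor]
  | cons p L ih =>
    have h1 := ih fun q hq => hL q (List.mem_cons_of_mem _ hq)
    show P v (((bif fb n p.1 then p.2 else 0) ^^^ rc L n) ^^^ m)
    rw [Nat.xor_assoc]
    cases fb n p.1 with
    | false =>
      show P v (0 ^^^ (rc L n ^^^ m))
      rwa [Nat.zero_xor]
    | true => exact P_step A (hL p List.mem_cons_self) h1

end

/-! ### Conditions on the code of `p` -/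

section

variable {K₀ : Type} [Group K₀] (A : BAll M K₀)

include A

theorem comm_e {n : ℕ} {e : V ≃ₗ[ℚ] V} (he : Z2 e) (c : ℕ) :
    fb n c = false ↔ (Rn n * e) * Rn c = Rn c * (Rn n * e) := by
  have h2 := he.comm A (A.grp.Q_le (Rn_mem c))
  rw [← comm_iff]
  constructor
  · intro h
    calc (Rn n * e) * Rn c = Rn n * (e * Rn c) := by group
      _ = (Rn n * Rn c) * e := by rw [← h2]; group
      _ = Rn c * (Rn n * e) := by rw [h]; group
  · intro h
    have h1 : Rn n * Rn c * e = Rn c * Rn n * e := by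
      calc Rn n * Rn c * e = Rn n * (Rn c * e) := by group
        _ = (Rn n * e) * Rn c := by rw [h2]; group
        _ = Rn c * Rn n * e := by rw [h]; group
    exact mul_right_cancel h1

theorem conj_aux {v p a b f : V ≃ₗ[ℚ] V} (hvv : v * v = 1) (hp : p ∈ C) (hf : Z2 f)
    (hvp : v * p * v = p⁻¹) (h : v * a = f * b * v) (hc : p * a = a * p) : p * b = b * p := by
  have hfp : p⁻¹ * f = f * p⁻¹ := hf.comm A (C.inv_mem hp)
  have h1 : v * a * v = f * b := by rw [h, mul_assoc, hvv, mul_one]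
  have h2 : p⁻¹ * (f * b) = (f * b) * p⁻¹ := by
    rw [← hvp, ← h1]
    calc v * p * v * (v * a * v) = v * p * (v * v) * a * v := by group
      _ = v * (p * a) * v := by rw [hvv]; group
      _ = v * (a * (v * v) * p) * v := by rw [hc, hvv]; group
      _ = v * a * v * (v * p * v) := by group
  have h3 : f * (p⁻¹ * b) = f * (b * p⁻¹) := by
    rw [← mul_assoc, ← hfp, mul_assoc, h2, mul_assoc]
  have h4 := mul_left_cancel h3
  calc p * b = p * (b * p⁻¹) * p := by group
    _ = p * (p⁻¹ * b) * p := by rw [h4]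
    _ = b * p := by group

/-- `p` commutes with `a` iff it commutes with the conjugate `b` of `a` under `v`. -/
theorem fb_conj {v : V ≃ₗ[ℚ] V} (hv : v ∈ C) (hvv : v * v = 1) {n : ℕ} {e : V ≃ₗ[ℚ] V} (he : Z2 e)
    (hsq : (v * (Rn n * e)) * (v * (Rn n * e)) = 1) {a b : ℕ} {f : V ≃ₗ[ℚ] V} (hf : Z2 f)
    (h : v * Rn a = f * Rn b * v) : fb n (a ^^^ b) = false := by
  have hvp : v * (Rn n * e) * v = (Rn n * e)⁻¹ := by
    rw [eq_inv_iff_mul_eq_one, ← hsq]; group
  have hp : Rn n * e ∈ C := C.mul_mem (A.grp.Q_le (Rn_mem n)) (he.mem A)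
  have h' : v * Rn b = f * Rn a * v := by
    have h1 : v * (f * Rn b) = Rn a * v := by
      calc v * (f * Rn b) = v * (f * Rn b * v) * v := by rw [mul_assoc, mul_assoc, hvv, mul_one]
        _ = (v * v) * Rn a * v := by rw [← h]; group
        _ = Rn a * v := by rw [hvv, one_mul]
    have h2 : v * f = f * v := hf.comm A hv
    calc v * Rn b = (f * f) * (v * Rn b) := by rw [hf.sq A, one_mul]
      _ = f * ((f * v) * Rn b) := by group
      _ = f * (v * (f * Rn b)) := by rw [← h2]; group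
      _ = f * Rn a * v := by rw [h1]; group
  have h1 := comm_e A he (n := n) a
  have h2 := comm_e A he (n := n) b
  have h3 : fb n a = false ↔ fb n b = false := by
    rw [h1, h2]
    exact ⟨conj_aux A hvv hp hf hvp h, conj_aux A hvv hp hf hvp h'⟩
  rw [fb_xor_right]
  cases h4 : fb n a with
  | false => rw [h3.mp h4]; rfl
  | true =>
    cases h5 : fb n b with
    | false => rw [h3.mpr h5] at h4; exact absurd h4 (by decide)
    | true => rfl

end

/-! ### Words -/

/-- the word of `t₀` -/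
def t0w : List Ltr := [.Z0, .Z2, .Z4, .Z5, .Z6]

/-- the word of `g t₀ g⁻¹` -/
def tw (g : List Ltr) : List Ltr := winv g ++ (t0w ++ g)

theorem W_tw (g : List Ltr) : W (tw g) = W g * M.t₀ * (W g)⁻¹ := by
  unfold tw
  rw [W_append, W_append, W_winv]
  rfl

section

variable {K₀ : Type} [Group K₀] (A : BAll M K₀) (O : base.Ok)

include A O

theorem eq_chk {w w' : List Ltr} (h : check (w.map Ltr.prog) vB (w'.map Ltr.prog) vB = true) : W w = W w' :=
  eq_of_check A O (W_mem_G w) (W_mem_G w') h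

/-- the table of commutators: letter, word, sign -/
theorem com_of {vs : List Ltr} {k : Ltr} (hk : k.isQ = true) {cv : List Ltr} (hcv : cv.all isq = true) {c : ℕ}
    (hc : Nat.beq (cw cv) c = true) (s : Bool)
    (h : check ((vs ++ [k]).map Ltr.prog) vB ((k :: (cv ++ ((bif s then [.z] else []) ++ vs))).map Ltr.prog) vB =
      true) : Com (W vs) c := by
  have h1 := eq_chk A O h
  refine ⟨E k, Subgroup.subset_closure ⟨k, hk, rfl⟩, W (bif s then [.z] else []), ?_, ?_⟩
  · cases s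
    · exact Or.inl rfl
    · right; show W [.z] = z; rw [W_single]; rfl
  · have h2 : Z2 (W (bif s then [.z] else [])) := by
      cases s
      · exact Or.inl rfl
      · right; show W [.z] = z; rw [W_single]; rfl
    rw [W_append, W_single, W_cons, W_append, W_append, W_Rn hcv hc] at h1
    rw [h1, mul_assoc (W vs), ← h2.comm A (A.grp.Q_le (Rn_mem c))]

end

end Cfsg.Agent.BabyU.F8K
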