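import Cfsg.Agent.BabyU.F8K

/-!
# F8 for the model of the Baby Monster: involutions over the class of the letter `y₁` (octad, trace `8`)

`rel7` : five lanes fixed by `y₁` (with their `23`-parts) whose transpositions have product `1`.
-/

set_option autoImplicit false
set_option Elab.async false

namespace Cfsg.Agent.BabyU.F8K1

open Cfsg.Agent.Monster.VecEngine Cfsg.Agent.Monster.VecSpace Cfsg.Agent.BabyM.Conc Cfsg.Agent.BabyM.Model
  Cfsg.Agent.BabyM.Inst Cfsg.Agent.BabyM.InstVec Cfsg.Agent.BabyM.InstMem Cfsg.Agent.BabyM.WordsInst Cfsg.Agent.BabyM.TransInv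
  Cfsg.Agent.BabyU.F8K

/-- the words of the five lanes -/
def g : List (List Ltr) := [
  [.p2, .xi, .h, .p, .y4, .p, .xi],
  [.p2, .xi, .y6, .h, .p, .h, .p],
  [.h, .p, .xi, .h, .p, .h, .xi],
  [.y1, .p2, .xi, .h, .p3, .h],
  [.h, .p]]

theorem noT_g : g.all (fun w => w.all noT) = true := by decide +kernel

theorem fix_g : g.all (fun w => check ((w ++ [Ltr.y1]).map Ltr.prog) u0P (w.map Ltr.prog) u0P) = true := by
  decide +kernel

theorem prod_g : checkFix (((g.map tw).flatten).map Ltr.prog) vB = true := by decide +kernel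

theorem W_flatten (l : List (List Ltr)) : W l.flatten = ((l.map W).reverse).prod := by
  induction l with
  | nil => rfl
  | cons a l ih => rw [List.flatten_cons, W_append, ih, List.map_cons, List.reverse_cons, List.prod_append,
      List.prod_singleton]

theorem u₀_vec : M.u₀ = (1 / 8 : ℚ) • vecU ℚ U u0P := rfl

/-- from a check on the planes of `u₀` -/
theorem fix_u₀ {w v : List Ltr} (h : check ((w ++ v).map Ltr.prog) u0P (w.map Ltr.prog) u0P = true) :
    W v (W w M.u₀) = W w M.u₀ := by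
  have h1 := W_eq_of_check h
  rw [W_append, LinearEquiv.mul_apply] at h1
  rw [u₀_vec, map_smul, map_smul, h1]

section

variable {K₀ : Type} [Group K₀] (A : BAll M K₀)

include A

theorem q_u₀ {q g : V ≃ₗ[ℚ] V} (hq : q ∈ M.Q) (hg : g ∈ M.C) : q (g M.u₀) = g M.u₀ := by
  have h1 : g⁻¹ * q * g ∈ M.Q := A.grp.Q_normal' g hg q hq
  have h2 := A.rep.Q_u₀ _ h1
  have h3 := congrArg (fun x => g x) h2
  simp only [LinearEquiv.mul_apply, F8Base.apply_inv_self'] at h3
  exact h3

variable (O : base.Ok)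

include O

/-- **The odd relation.** -/
theorem rel7 : ∃ L : List (V ≃ₗ[ℚ] V), (∀ g ∈ L, g ∈ M.C) ∧ Odd L.length ∧
    ((L.map fun g => g * M.t₀ * g⁻¹).prod = 1 ∨ (L.map fun g => g * M.t₀ * g⁻¹).prod = M.z) ∧
    ∀ g ∈ L, (E .y1) (g M.u₀) = g M.u₀ := by
  refine ⟨(g.map W).reverse, ?_, ?_, Or.inl ?_, ?_⟩
  · intro x hx
    rw [List.mem_reverse, List.mem_map] at hx
    obtain ⟨w, hw, rfl⟩ := hx
    exact W_mem_C_of (List.all_eq_true.mp noT_g w hw)
  · rw [List.length_reverse, List.length_map]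
    exact ⟨2, rfl⟩
  · have h := eq_one A O (W_mem_G _) prod_g
    rw [W_flatten] at h
    rw [List.map_reverse, List.map_map, ← h, List.map_map]
    congr 2
    apply List.map_congr_left
    intro w _
    exact (W_tw w).symm
  · intro x hx
    rw [List.mem_reverse, List.mem_map] at hx
    obtain ⟨w, hw, rfl⟩ := hx
    have h := fix_u₀ (List.all_eq_true.mp fix_g w hw)
    rwa [W_single] at h

/-- **Case (K1).** -/
theorem K1 : ∀ q ∈ M.Q, (E .y1 * q) * (E .y1 * q) = 1 → F8Base.Good M (E .y1 * q) := by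
  intro q hq _
  obtain ⟨L, h1, h2, h3, h4⟩ := rel7 A O
  have hy : E .y1 ∈ M.C := by
    rw [← W_single]; exact W_mem_C_of (by decide)
  refine F8Base.good_odd A (M.C.mul_mem hy (A.grp.Q_le hq)) L h1 ?_ h2 h3
  intro g hg
  rw [LinearEquiv.mul_apply, q_u₀ A hq (h1 g hg), h4 g hg]

end

end Cfsg.Agent.BabyU.F8K1
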