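import Cfsg.Agent.BabyU.F8K3D

/-!
# F8 for the model of the Baby Monster: involutions over the class of `y₂ y₃` (dodecad, trace `0`)
-/

set_option autoImplicit false

namespace Cfsg.Agent.BabyU.F8K3

open Cfsg.Agent.Monster.VecEngine Cfsg.Agent.Monster.VecSpace Cfsg.Agent.BabyM.Conc Cfsg.Agent.BabyM.Model
  Cfsg.Agent.BabyM.Inst Cfsg.Agent.BabyM.InstVec Cfsg.Agent.BabyM.InstMem Cfsg.Agent.BabyM.WordsInst Cfsg.Agent.BabyM.TransInv
  Cfsg.Agent.BabyM.KQ Cfsg.Agent.BabyU.F8K Cfsg.Agent.BabyU.F8K1 Cfsg.Agent.BabyU.F8K3D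

theorem v_mem : W vs ∈ C := W_mem_C_of (by decide)

section

variable {K₀ : Type} [Group K₀] (A : BAll M K₀) (O : base.Ok)

include A O

theorem v_sq : W vs * W vs = 1 := by
  have h := eq_one A O (W_mem_G _) chk_v
  rwa [W_append] at h

/-- If `v p` is not good, then `p` commutes with the transposition of a lane. -/
theorem lane {l : LaneD} (h : LaneOk l) {p : V ≃ₗ[ℚ] V} (hp : p ∈ Q) (hn : ¬ F8Base.Good M (W vs * p)) :
    p * Rn l.c = Rn l.c * p := by
  obtain ⟨hC, hU, hT, hF⟩ := h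
  rw [Bool.and_eq_true, Bool.and_eq_true] at hC
  obtain ⟨hC1, hC2, hC3⟩ := hC
  have hg : W l.g ∈ M.C := W_mem_C_of hC1
  have hpC : p ∈ M.C := A.grp.Q_le hp
  have hm : W l.m = Rn l.c := W_Rn hC2 hC3
  have ht : W l.g * M.t₀ * (W l.g)⁻¹ = Rn l.c := by
    rw [← W_tw, eq_chk A O hT, hm]
  have hu : (W vs * p) (W l.g M.u₀) = W l.g M.u₀ := by
    rw [LinearEquiv.mul_apply, q_u₀ A hp hg, fix_u₀ hU]
  have hv : W vs * Rn l.c = z * Rn l.c * W vs := by
    have h1 := eq_chk A O hF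
    rw [W_append, W_append, W_append, W_single, hm] at h1
    exact h1
  rcases F8Base.fix_or A (M.C.mul_mem v_mem hpC) hg hu with h | h
  · exact absurd (F8Base.good_of_fix (A.C_le_G hg) h) hn
  · rw [ht] at h
    have hz : z * Rn l.c = Rn l.c * z := (A.grp.z_comm _ (A.grp.Q_le (Rn_mem l.c))).symm
    have h2 : W vs * (p * Rn l.c * p⁻¹) * (W vs)⁻¹ = W vs * Rn l.c * (W vs)⁻¹ := by
      have e1 : W vs * (p * Rn l.c * p⁻¹) * (W vs)⁻¹ = W vs * p * Rn l.c * (W vs * p)⁻¹ := by group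
      rw [e1, h, hv, hz]
      show Rn l.c * z = Rn l.c * z * W vs * (W vs)⁻¹
      group
    have h3 : p * Rn l.c * p⁻¹ = Rn l.c := mul_left_cancel (mul_right_cancel h2)
    calc p * Rn l.c = (p * Rn l.c * p⁻¹) * p := by group
      _ = Rn l.c * p := by rw [h3]

theorem lane' {l : LaneD} (h : LaneOk l) {n : ℕ} {e : V ≃ₗ[ℚ] V} (he : Z2 e)
    (hn : ¬ F8Base.Good M (W vs * (Rn n * e))) (c : ℕ) (hc : Nat.beq l.c c = true) : fb n c = false := by
  rw [← Nat.eq_of_beq_eq_true hc]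
  exact (comm_e A he l.c).mpr (lane A O h (Q.mul_mem (Rn_mem n) (by
    rcases he with rfl | rfl
    · exact Q.one_mem
    · exact A.grp.z_mem)) hn)

/-- the condition from the conjugate of `X10` -/
theorem fb_w {n : ℕ} {e : V ≃ₗ[ℚ] V} (he : Z2 e)
    (hsq : (W vs * (Rn n * e)) * (W vs * (Rn n * e)) = 1) : fb n (0x200000 ^^^ 0x2037fb) = false := by
  have hcw := cW'
  rw [Bool.and_eq_true] at hcw
  have h1 := eq_chk A O cW
  have hw : W wp = Rn 0x2037fb := W_Rn hcw.1 hcw.2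
  rw [W_cons, W_append, W_append, hw, E_X10] at h1
  exact fb_conj A v_mem (v_sq A O) he hsq (f := W [.z]) (Or.inr (by rw [W_single]; rfl)) h1

theorem com_L₂ : ∀ p ∈ L₂, Com (W vs) p.2 := by
  exact List.forall_mem_cons.mpr ⟨com_of A O (k := .Z1) rfl ci0 cn0 true cc0,
    List.forall_mem_cons.mpr ⟨com_of A O (k := .X0) rfl ci1 cn1 true cc1,
    List.forall_mem_cons.mpr ⟨com_of A O (k := .X1) rfl ci2 cn2 true cc2,
    List.forall_mem_cons.mpr ⟨com_of A O (k := .X3) rfl ci3 cn3 false cc3,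
    List.forall_mem_cons.mpr ⟨com_of A O (k := .X4) rfl ci4 cn4 true cc4,
    List.forall_mem_cons.mpr ⟨com_of A O (k := .X5) rfl ci5 cn5 false cc5,
    List.forall_mem_cons.mpr ⟨com_of A O (k := .X6) rfl ci6 cn6 true cc6,
    List.forall_mem_cons.mpr ⟨com_of A O (k := .X7) rfl ci7 cn7 false cc7,
    List.forall_mem_cons.mpr ⟨com_of A O (k := .X8) rfl ci8 cn8 true cc8,
    List.forall_mem_cons.mpr ⟨com_of A O (k := .X10) rfl ci9 cn9 false cc9,
    fun _ h => absurd h List.not_mem_nil⟩⟩⟩⟩⟩⟩⟩⟩⟩⟩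

/-- `v R(Z0) e` is not an involution. -/
theorem P_k : P (W vs) 1 := by
  intro e he hsq
  exfalso
  have h1 := eq_chk A O chk_k
  rw [W_cons, W_append, W_cons, W_single, E_Z0] at h1
  have h2 : (W vs * Rn 1) * (W vs * Rn 1) = z := by
    calc (W vs * Rn 1) * (W vs * Rn 1) = W vs * Rn 1 * W vs * Rn 1 := by group
      _ = z := h1
  have hC : W vs * Rn 1 ∈ C := C.mul_mem v_mem (A.grp.Q_le (Rn_mem 1))
  have h3 : (W vs * Rn 1 * e) * (W vs * Rn 1 * e) = (W vs * Rn 1) * (W vs * Rn 1) * (e * e) := by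
    have h4 := he.comm A hC
    calc (W vs * Rn 1 * e) * (W vs * Rn 1 * e) = (W vs * Rn 1) * (e * (W vs * Rn 1)) * e := by group
      _ = (W vs * Rn 1) * (W vs * Rn 1) * (e * e) := by rw [← h4]; group
  rw [h3, h2, he.sq A, mul_one] at hsq
  exact A.grp.z_ne hsq

theorem good_v : F8Base.Good M (W vs) := by
  have hab := eq_chk A O chk_ab
  have hba := eq_chk A O chk_ba
  rw [W_append] at hab hba
  have hsq : W (tw ga) * W (tw ga) = 1 := by
    rw [W_tw]
    calc W ga * M.t₀ * (W ga)⁻¹ * (W ga * M.t₀ * (W ga)⁻¹) = W ga * (M.t₀ * M.t₀) * (W ga)⁻¹ := by group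
      _ = 1 := by rw [A.rep.t₀_sq]; group
  refine Or.inr ⟨W ga, W_mem_G _, W gb, W_mem_G _, ?_, ?_⟩
  · rw [← W_tw]
    calc W vs * W (tw ga) = W (tw gb) * (W (tw ga) * W (tw ga)) := by rw [← hab]; group
      _ = W (tw ga) * (W (tw ga) * W (tw gb)) := by
        rw [hsq, mul_one, ← mul_assoc, hsq, one_mul]
      _ = W (tw ga) * W vs := by rw [hba]
  · rw [← W_tw, ← W_tw, ← hab, mul_assoc, hsq, mul_one]

theorem P_zero : P (W vs) 0 := by
  intro e he _
  rw [Rn_zero, mul_one]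
  rcases he with rfl | rfl
  · rw [mul_one]; exact good_v A O
  · have h1 := eq_chk A O chk_z
    rw [W_cons, W_append, W_append, W_single, W_single] at h1
    have h2 : E .Z0 * E .Z0 = 1 := by
      have := E_linv .Z0
      change E .Z0 = (E .Z0)⁻¹ at this
      calc E .Z0 * E .Z0 = E .Z0 * (E .Z0)⁻¹ := by rw [← this]
        _ = 1 := mul_inv_cancel _
    have h3 : W vs * z = E .Z0 * W vs * (E .Z0)⁻¹ := by
      have h4 : W vs * z = z * W vs := A.grp.z_comm _ v_mem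
      rw [h4]
      show E .z * W vs = _
      rw [← h1, inv_eq_of_mul_eq_one_left h2, mul_assoc]
    rw [h3]
    refine (good_v A O).conj ?_
    rw [← W_single]; exact W_mem_G _

theorem conds {n : ℕ} {e : V ≃ₗ[ℚ] V} (he : Z2 e) (hn : ¬ F8Base.Good M (W vs * (Rn n * e)))
    (hsq : (W vs * (Rn n * e)) * (W vs * (Rn n * e)) = 1) : ∀ q ∈ L₁, fb n q.1 = false := by
  have hl := fun {l : LaneD} (h : LaneOk l) => lane' A O h he hn
  intro q hq
  unfold L₁ at hq
  simp only [List.mem_cons, List.not_mem_nil, or_false] at hq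
  rcases hq with rfl | rfl | rfl | rfl | rfl | rfl | rfl | rfl | rfl | rfl | rfl
  · exact hl ok0 0x9f rfl
  · exact hl ok1 0x8 rfl
  · exact hl ok2 0x49f rfl
  · exact hl ok3 0x80 rfl
  · exact hl ok4 0x10 rfl
  · exact hl ok5 0x20 rfl
  · exact hl ok6 0x1 rfl
  · exact hl ok7 0x100 rfl
  · exact hl ok8 0x200 rfl
  · exact hl ok9 0x40 rfl
  · exact fb_w A O he hsq

omit A O in
theorem split {n : ℕ} (hn : n < 2 ^ 22) (hc : ∀ q ∈ L₁, fb n q.1 = false) : n = rc L₂ n ^^^ rc L₃ n := by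
  have h := rc_eq dual_L hn
  rw [rc_append, rc_append, rc_zero_of hc, Nat.zero_xor] at h
  exact h.symm

theorem P_L₃ (n : ℕ) : P (W vs) (rc L₃ n) := by
  have h : rc L₃ n = (bif fb n 0x1fe800 then 1 else 0) ^^^ 0 := rfl
  rw [h, Nat.xor_zero]
  cases fb n 0x1fe800 with
  | false => exact P_zero A O
  | true => exact P_k A O

theorem main_aux {n : ℕ} (hn22 : n < 2 ^ 22) {e : V ≃ₗ[ℚ] V} (he : Z2 e)
    (hsq : (W vs * (Rn n * e)) * (W vs * (Rn n * e)) = 1) : F8Base.Good M (W vs * (Rn n * e)) := by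
  by_contra hn
  have h1 := split hn22 (conds A O he hn hsq)
  have h3 := P_rc A (com_L₂ A O) n _ (P_L₃ A O n)
  rw [← h1] at h3
  apply hn
  have e1 : W vs * (Rn n * e) = W vs * Rn n * e := (mul_assoc _ _ _).symm
  rw [e1] at hsq ⊢
  exact h3 e he hsq

/-- The case `v p`. -/
theorem main {p : V ≃ₗ[ℚ] V} (hp : p ∈ Q) (hsq : (W vs * p) * (W vs * p) = 1) : F8Base.Good M (W vs * p) := by
  obtain ⟨n, hn22, h | h⟩ := exists_Rn hp
  · rw [h, ← mul_one (Rn n)] at hsq ⊢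
    exact main_aux A O hn22 (Or.inl rfl) hsq
  · rw [h] at hsq ⊢
    exact main_aux A O hn22 (Or.inr rfl) hsq

omit A O in
theorem qs_isq : qs.all isq = true := by decide +kernel

/-- **Case (K3).** -/
theorem K3 : ∀ q ∈ M.Q, (E .y3 * E .y2 * q) * (E .y3 * E .y2 * q) = 1 → F8Base.Good M (E .y3 * E .y2 * q) := by
  intro q hq hsq
  have hqs : W qs ∈ Q := by
    have h0 : W qs = Rn (cw qs) := W_eq_R qs qs_isq
    rw [h0]; exact Rn_mem _
  have hY : E .y3 * E .y2 ∈ C := by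
    have : E .y3 * E .y2 = W [.y2, .y3] := by rw [W_cons, W_single]
    rw [this]; exact W_mem_C_of (by decide)
  have hv : W vs = W qs * (E .y3 * E .y2) := by
    show W ([.y2, .y3] ++ qs) = _
    rw [W_append, W_cons, W_single]
  have e : E .y3 * E .y2 * q = W vs * (((E .y3 * E .y2)⁻¹ * (W qs)⁻¹ * (E .y3 * E .y2)) * q) := by
    rw [hv]; group
  have hp : ((E .y3 * E .y2)⁻¹ * (W qs)⁻¹ * (E .y3 * E .y2)) * q ∈ Q :=
    Q.mul_mem (A.grp.Q_normal' _ hY _ (Q.inv_mem hqs)) hq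
  rw [e] at hsq ⊢
  exact main A O hp hsq

end

end Cfsg.Agent.BabyU.F8K3
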