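import Cfsg.Agent.BabyU.F8K1

/-!
# F8 for the model of the Baby Monster: involutions over the class of `y₂ y₃` (dodecad, trace `0`): data
-/

set_option autoImplicit false
set_option Elab.async false

namespace Cfsg.Agent.BabyU.F8K3D

open Cfsg.Agent.Monster.VecEngine Cfsg.Agent.Monster.VecSpace Cfsg.Agent.BabyM.Conc
  Cfsg.Agent.BabyM.InstVec Cfsg.Agent.BabyM.InstMem Cfsg.Agent.BabyM.WordsInst Cfsg.Agent.BabyM.TransInv
  Cfsg.Agent.BabyM.KQ Cfsg.Agent.BabyU.F8K

/-- the word in `Q` with `v = W(qs) y₃ y₂` -/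
def qs : List Ltr := [.Z0, .Z4, .Z6, .Z8, .Z9, .X0, .X1, .X3, .X4, .X5, .X6, .X7, .X8, .X9, .z]

/-- the word of `v`, a product of two commuting transpositions -/
def vs : List Ltr := [.y2, .y3] ++ qs

def ga : List Ltr := [.p10, .xi, .tau, .p3, .h, .p10]

def gb : List Ltr := [.p10, .xi, .tau, .p, .h, .p9, .h, .p, .X10]

theorem chk_ab : check ((tw ga ++ tw gb).map Ltr.prog) vB (vs.map Ltr.prog) vB = true := by decide +kernel

theorem chk_ba : check ((tw gb ++ tw ga).map Ltr.prog) vB (vs.map Ltr.prog) vB = true := by decide +kernel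

theorem chk_z : check ((.Z0 :: (vs ++ [.Z0])).map Ltr.prog) vB ((vs ++ [Ltr.z]).map Ltr.prog) vB = true := by
  decide +kernel

theorem chk_v : checkFix ((vs ++ vs).map Ltr.prog) vB = true := by decide +kernel

theorem chk_k : check ((.Z0 :: (vs ++ (.Z0 :: vs))).map Ltr.prog) vB ([Ltr.z].map Ltr.prog) vB = true := by
  decide +kernel

/-! ### The ten lanes -/

/-- One lane: word, word of the transposition, its code. -/
structure LaneD where
  g : List Ltr
  m : List Ltr
  c : ℕ

/-- The checks of a lane. -/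
structure LaneOk (l : LaneD) : Prop where
  hC : (l.g.all noT && (l.m.all isq && Nat.beq (cw l.m) l.c)) = true
  hU : check ((l.g ++ vs).map Ltr.prog) u0P (l.g.map Ltr.prog) u0P = true
  hT : check ((tw l.g).map Ltr.prog) vB (l.m.map Ltr.prog) vB = true
  hF : check ((l.m ++ vs).map Ltr.prog) vB ((vs ++ (l.m ++ [Ltr.z])).map Ltr.prog) vB = true

def l0 : LaneD := ⟨[.p], [.Z0, .Z1, .Z2, .Z3, .Z4, .Z7], 0x9f⟩

theorem ok0 : LaneOk l0 := ⟨by decide +kernel, by decide +kernel, by decide +kernel, by decide +kernel⟩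

def l1 : LaneD := ⟨[.h, .p], [.Z3], 0x8⟩

theorem ok1 : LaneOk l1 := ⟨by decide +kernel, by decide +kernel, by decide +kernel, by decide +kernel⟩

def l2 : LaneD := ⟨[.y1, .p], [.Z0, .Z1, .Z2, .Z3, .Z4, .Z7, .Z10], 0x49f⟩

theorem ok2 : LaneOk l2 := ⟨by decide +kernel, by decide +kernel, by decide +kernel, by decide +kernel⟩

def l3 : LaneD := ⟨[.h, .p, .h], [.Z7], 0x80⟩

theorem ok3 : LaneOk l3 := ⟨by decide +kernel, by decide +kernel, by decide +kernel, by decide +kernel⟩

def l4 : LaneD := ⟨[.h, .p, .h, .p], [.Z4], 0x10⟩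

theorem ok4 : LaneOk l4 := ⟨by decide +kernel, by decide +kernel, by decide +kernel, by decide +kernel⟩

def l5 : LaneD := ⟨[.h, .p3], [.Z5], 0x20⟩

theorem ok5 : LaneOk l5 := ⟨by decide +kernel, by decide +kernel, by decide +kernel, by decide +kernel⟩

def l6 : LaneD := ⟨[.h, .p4], [.Z0], 0x1⟩

theorem ok6 : LaneOk l6 := ⟨by decide +kernel, by decide +kernel, by decide +kernel, by decide +kernel⟩

def l7 : LaneD := ⟨[.h, .p, .h, .p, .h], [.Z8], 0x100⟩

theorem ok7 : LaneOk l7 := ⟨by decide +kernel, by decide +kernel, by decide +kernel, by decide +kernel⟩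

def l8 : LaneD := ⟨[.p2, .xi, .y10, .xi], [.Z9], 0x200⟩

theorem ok8 : LaneOk l8 := ⟨by decide +kernel, by decide +kernel, by decide +kernel, by decide +kernel⟩

def l9 : LaneD := ⟨[.p2, .xi, .y10, .xi, .h], [.Z6], 0x40⟩

theorem ok9 : LaneOk l9 := ⟨by decide +kernel, by decide +kernel, by decide +kernel, by decide +kernel⟩

/-! ### The conjugate of `X10` -/

def wp : List Ltr := [.Z0, .Z1, .Z3, .Z4, .Z5, .Z6, .Z7, .Z8, .Z9, .Z10, .X1, .X2, .X10]

theorem cW : check ((.X10 :: vs).map Ltr.prog) vB ((vs ++ (wp ++ [Ltr.z])).map Ltr.prog) vB = true := by decide +kernel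

theorem cW' : (wp.all isq && Nat.beq (cw wp) 0x2037fb) = true := by decide +kernel

/-! ### The commutators -/

def c0 : List Ltr := [.Z10]

theorem cc0 : check ((vs ++ [Ltr.Z1]).map Ltr.prog) vB
    ((Ltr.Z1 :: (c0 ++ ((bif true then [.z] else []) ++ vs))).map Ltr.prog) vB = true := by decide +kernel

theorem ci0 : c0.all isq = true := by decide +kernel

theorem cn0 : Nat.beq (cw c0) 0x400 = true := by decide +kernel

def c1 : List Ltr := [.Z1, .Z2, .Z3, .Z4, .Z7, .Z10]

theorem cc1 : check ((vs ++ [Ltr.X0]).map Ltr.prog) vB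
    ((Ltr.X0 :: (c1 ++ ((bif true then [.z] else []) ++ vs))).map Ltr.prog) vB = true := by decide +kernel

theorem ci1 : c1.all isq = true := by decide +kernel

theorem cn1 : Nat.beq (cw c1) 0x49e = true := by decide +kernel

def c2 : List Ltr := [.Z0, .Z3, .Z4, .Z5, .Z6, .Z7, .Z8, .Z9, .Z10]

theorem cc2 : check ((vs ++ [Ltr.X1]).map Ltr.prog) vB
    ((Ltr.X1 :: (c2 ++ ((bif true then [.z] else []) ++ vs))).map Ltr.prog) vB = true := by decide +kernel

theorem ci2 : c2.all isq = true := by decide +kernel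

theorem cn2 : Nat.beq (cw c2) 0x7f9 = true := by decide +kernel

def c3 : List Ltr := [.Z0, .Z1, .Z2, .Z4, .Z7, .Z10]

theorem cc3 : check ((vs ++ [Ltr.X3]).map Ltr.prog) vB
    ((Ltr.X3 :: (c3 ++ ((bif false then [.z] else []) ++ vs))).map Ltr.prog) vB = true := by decide +kernel

theorem ci3 : c3.all isq = true := by decide +kernel

theorem cn3 : Nat.beq (cw c3) 0x497 = true := by decide +kernel

def c4 : List Ltr := [.Z0, .Z1, .Z2, .Z3, .Z7, .Z10]

theorem cc4 : check ((vs ++ [Ltr.X4]).map Ltr.prog) vB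
    ((Ltr.X4 :: (c4 ++ ((bif true then [.z] else []) ++ vs))).map Ltr.prog) vB = true := by decide +kernel

theorem ci4 : c4.all isq = true := by decide +kernel

theorem cn4 : Nat.beq (cw c4) 0x48f = true := by decide +kernel

def c5 : List Ltr := [.Z1, .Z2, .Z6, .Z8, .Z9, .Z10]

theorem cc5 : check ((vs ++ [Ltr.X5]).map Ltr.prog) vB
    ((Ltr.X5 :: (c5 ++ ((bif false then [.z] else []) ++ vs))).map Ltr.prog) vB = true := by decide +kernel

theorem ci5 : c5.all isq = true := by decide +kernel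

theorem cn5 : Nat.beq (cw c5) 0x746 = true := by decide +kernel

def c6 : List Ltr := [.Z1, .Z2, .Z5, .Z8, .Z9, .Z10]

theorem cc6 : check ((vs ++ [Ltr.X6]).map Ltr.prog) vB
    ((Ltr.X6 :: (c6 ++ ((bif true then [.z] else []) ++ vs))).map Ltr.prog) vB = true := by decide +kernel

theorem ci6 : c6.all isq = true := by decide +kernel

theorem cn6 : Nat.beq (cw c6) 0x726 = true := by decide +kernel

def c7 : List Ltr := [.Z0, .Z1, .Z2, .Z3, .Z4, .Z10]

theorem cc7 : check ((vs ++ [Ltr.X7]).map Ltr.prog) vB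
    ((Ltr.X7 :: (c7 ++ ((bif false then [.z] else []) ++ vs))).map Ltr.prog) vB = true := by decide +kernel

theorem ci7 : c7.all isq = true := by decide +kernel

theorem cn7 : Nat.beq (cw c7) 0x41f = true := by decide +kernel

def c8 : List Ltr := [.Z1, .Z2, .Z5, .Z6, .Z9, .Z10]

theorem cc8 : check ((vs ++ [Ltr.X8]).map Ltr.prog) vB
    ((Ltr.X8 :: (c8 ++ ((bif true then [.z] else []) ++ vs))).map Ltr.prog) vB = true := by decide +kernel

theorem ci8 : c8.all isq = true := by decide +kernel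

theorem cn8 : Nat.beq (cw c8) 0x666 = true := by decide +kernel

def c9 : List Ltr := [.Z0, .Z1, .Z3, .Z4, .Z5, .Z6, .Z7, .Z8, .Z9, .Z10, .X1, .X2]

theorem cc9 : check ((vs ++ [Ltr.X10]).map Ltr.prog) vB
    ((Ltr.X10 :: (c9 ++ ((bif false then [.z] else []) ++ vs))).map Ltr.prog) vB = true := by decide +kernel

theorem ci9 : c9.all isq = true := by decide +kernel

theorem cn9 : Nat.beq (cw c9) 0x37fb = true := by decide +kernel

/-! ### The dual bases -/

/-- the conditions -/
def L₁ : List (ℕ × ℕ) := [(0x9f, 0x201000), (0x8, 0x5000), (0x49f, 0x203000), (0x80, 0x41000), (0x10, 0x9000), (0x20, 0x13000), (0x1, 0x1800), (0x100, 0x83000), (0x200, 0x103000), (0x40, 0x23000), (0x37fb, 0x3000)]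

/-- the commutators -/
def L₂ : List (ℕ × ℕ) := [(0x2b2000, 0x400), (0xfc000, 0x49e), (0xb3000, 0x7f9), (0x106000, 0x497), (0x10a000, 0x48f), (0x110000, 0x746), (0x120000, 0x726), (0x142000, 0x41f), (0x180000, 0x666), (0x3000, 0x37fb)]

/-- the last pair -/
def L₃ : List (ℕ × ℕ) := [(0x1fe800, 0x1)]

theorem dual_L : dual (L₁ ++ (L₂ ++ L₃)) = true := by decide +kernel

end Cfsg.Agent.BabyU.F8K3D
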