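import Cfsg.Agent.BabyM.Instance
import Cfsg.Agent.BabyU.F8Base
import Cfsg.Agent.BabyU.F8Index
import Cfsg.Agent.BabyU.F8Class
import Cfsg.Agent.BabyU.F8K1
import Cfsg.Agent.BabyU.F8K3
import Cfsg.Agent.BabyU.F8Hex
import Cfsg.Agent.BabyU.ClosFacts

/-!
# F8 for the model of the Baby Monster: assembly

`main` : every involution of `G` fixes a signed axis or is the product of two commuting transpositions;
`classes` : the field of `Clos.Inner`.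
-/

set_option autoImplicit false

namespace Cfsg.Agent.BabyU.F8Main

open Cfsg.Agent.BabyM Cfsg.Agent.BabyM.Model Cfsg.Agent.BabyM.Conc Cfsg.Agent.BabyU.F8Base

/-- **F8.** -/
theorem main : ∀ u ∈ Inst.M.G, u * u = 1 → Good Inst.M u := by
  intro u hu h2
  obtain ⟨g, hg, hgC⟩ := F8Index.exists_conj_C Instance.all hu h2
  refine Good.of_conj hg ?_
  set x := g * u * g⁻¹ with hx
  have hx2 : x * x = 1 := by
    rw [hx, show g * u * g⁻¹ * (g * u * g⁻¹) = g * (u * u) * g⁻¹ by group, h2]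
    group
  rcases F8Class.reduce KLink.link hgC hx2 with hQ | ⟨k, hk, q, hq, h⟩
  · obtain ⟨L, hL, hodd, hp, -⟩ := F8K1.rel7 Instance.all Instance.ok
    refine good_odd Instance.all hgC L hL (fun g hg => ?_) hodd hp
    exact Instance.all.Q_U x hQ _ (Instance.all.C_U g (hL g hg) _ Instance.all.u₀_mem)
  · have hkG := Instance.all.C_le_G hk
    refine Good.of_conj hkG ?_
    have hy2 : (k * x * k⁻¹) * (k * x * k⁻¹) = 1 := by
      rw [show k * x * k⁻¹ * (k * x * k⁻¹) = k * (x * x) * k⁻¹ by group, hx2]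
      group
    rcases h with h | h | h
    · rw [h] at hy2 ⊢
      exact F8K1.K1 Instance.all Instance.ok q hq hy2
    · rw [h] at hy2 ⊢
      exact F8Hex.good_hex q hq hy2
    · rw [h] at hy2 ⊢
      exact F8K3.K3 Instance.all Instance.ok q hq hy2

/-- The field `classes` of `Clos.Inner`. -/
theorem classes {Mt : Subgroup (V ≃ₗ[ℚ] V)} (hM : ∀ g ∈ Inst.M.G, g Inst.M.d₀ = Inst.M.d₀ → g ∈ Mt) :
    ∀ u ∈ Inst.M.G, u * u = 1 → u ≠ 1 → (∃ h ∈ Inst.M.G, h⁻¹ * u * h ∈ Mt) ∨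
      ∃ d ∈ Clos.cls Inst.M.G Inst.M.t₀, u * d = d * u ∧ u * d ∈ Clos.cls Inst.M.G Inst.M.t₀ := by
  intro u hu h2 _
  rcases main u hu h2 with ⟨g, hg, h⟩ | ⟨g, hg, g', hg', h1, h3⟩
  · exact Or.inl ⟨g, hg, hM _ (Inst.M.G.mul_mem (Inst.M.G.mul_mem (Inst.M.G.inv_mem hg) hu) hg) h⟩
  · exact Or.inr ⟨_, ⟨g, hg, rfl⟩, h1, ⟨g', hg', h3.symm⟩⟩

/-- The field `classes` of `Clos.Inner` inside the group `G`. -/
theorem classes' {Mt : Subgroup Inst.M.G} (hM : ∀ g : Inst.M.G, (g : V ≃ₗ[ℚ] V) Inst.M.d₀ = Inst.M.d₀ → g ∈ Mt)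
    {t : Inst.M.G} (ht : (t : V ≃ₗ[ℚ] V) = Inst.M.t₀) :
    ∀ u ∈ (⊤ : Subgroup Inst.M.G), u * u = 1 → u ≠ 1 → (∃ h ∈ (⊤ : Subgroup Inst.M.G), h⁻¹ * u * h ∈ Mt) ∨
      ∃ d ∈ Clos.cls (⊤ : Subgroup Inst.M.G) t, u * d = d * u ∧ u * d ∈ Clos.cls (⊤ : Subgroup Inst.M.G) t := by
  intro u _ h2 _
  rcases main u u.2 (congrArg Subtype.val h2) with ⟨g, hg, h⟩ | ⟨g, hg, g', hg', h1, h3⟩
  · exact Or.inl ⟨⟨g, hg⟩, Subgroup.mem_top _, hM _ h⟩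
  · refine Or.inr ⟨⟨g, hg⟩ * t * ⟨g, hg⟩⁻¹, ⟨⟨g, hg⟩, Subgroup.mem_top _, rfl⟩, Subtype.ext ?_, ⟨⟨g', hg'⟩,
      Subgroup.mem_top _, Subtype.ext ?_⟩⟩
    · show (u : V ≃ₗ[ℚ] V) * (g * t * g⁻¹) = g * t * g⁻¹ * u
      rw [ht]; exact h1
    · show g' * (t : V ≃ₗ[ℚ] V) * g'⁻¹ = u * (g * t * g⁻¹)
      rw [ht]; exact h3.symm

end Cfsg.Agent.BabyU.F8Main
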