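import Cfsg.Agent.R01.Assembly2
import Cfsg.Agent.R01.IdentMain

/-!
# U-B: nine nodes of a group of type `Fi22`

The recognition theorem R01 (S1713) in the form needed for the identification of the Baby Monster: a group `G` with an
involution `d`, not isolated, whose centraliser is a perfect central extension of `PSU 6 F 2` by `⟨d⟩`, is generated by
nine conjugates of `d` which satisfy the relations of `Spor.Fi22`.
-/

set_option autoImplicit false
set_option linter.constructorNameAsVariable false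

namespace Cfsg.Agent.BabyU.FiNodes

open Cfsg Cfsg.Agent.R01.Lifts Cfsg.Agent.R01.PSUSix Cfsg.Agent.R01.Label Cfsg.Agent.R01.Start
open Cfsg.Agent.R01.Loc Cfsg.Agent.R01.Closing Cfsg.Agent.R01.Assembly Cfsg.Agent.R01.Assembly2
open Cfsg.Agent.R01.IdentConfig Cfsg.Agent.R01.IdentMain Cfsg.Agent.R01.IdentPres Cfsg.Agent.R01.IdentY
open Cfsg.Spor Cfsg.Spor.Fi22

universe u v

/-- The output: nine generating conjugates of `d` with the relations of `Fi22`. -/
structure Nodes {G : Type u} [Group G] (d : G) (y : ℕ → G) : Prop where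
  conf : Config (conjugatesOf d) y
  three : ∀ a ∈ conjugatesOf d, ∀ b ∈ conjugatesOf d, a * b = b * a ∨ (a * b) ^ 3 = 1
  spider : (y 3 * y 2 * y 1 * y 3 * y 4 * y 5 * y 3 * y 7 * y 8) ^ 10 = 1
  r1 : (y 0 * y 1 * y 2 * y 3 * y 4 * y 5 * y 7) ^ 9 = 1
  r2 : (y 1 * y 2 * y 3 * y 4 * y 5 * y 6 * y 7) ^ 9 = 1
  gen : Subgroup.closure (y '' {i | i < 9}) = ⊤
  card : Nat.card G = 64561751654400

theorem exists_nodes {G : Type u} [Group G] [Finite G] (d : G) {F : Type v} [Field F] [Fintype F]
    (hF : Fintype.card F = 2 ^ 2) (π : Subgroup.centralizer ({d} : Set G) →* PSU 6 F 2)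
    (hE : Ext π (zel d)) (hperf : commutator (Subgroup.centralizer ({d} : Set G)) = ⊤)
    (hnwc : ∃ g : G, g * d * g⁻¹ ∈ Subgroup.centralizer ({d} : Set G) ∧ g * d * g⁻¹ ≠ d) :
    ∃ y : ℕ → G, Nodes d y := by
  obtain ⟨lift, L⟩ := Cfsg.Agent.R01.Label.exists_lab hF hE hperf (ε := zel d) (Or.inr rfl)
  have hloc : LocAt hF (conjugatesOf d) d :=
    ⟨π, lift, L, fusionSt G d F hF π lift L hnwc⟩
  have hLoc : Loc hF (conjugatesOf d) := loc_of_locAt hloc
  obtain ⟨h3, hcard⟩ := componentSt G d F hF hLoc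
  have hall := bridgeSt G d F hF hLoc h3 hcard
  have hdD : d ∈ conjugatesOf d := mem_conjugatesOf_self
  have hconn : ∀ b : G, Conn (conjugatesOf d) d b ↔ b ∈ conjugatesOf d := fun b =>
    ⟨fun h => h.mem hdD, fun h => hall.conn zstar hdD h⟩
  have hD : (conjugatesOf d).ncard = 3510 := by
    rw [← hcard d hdD]
    exact Nat.card_congr (Equiv.subtypeEquivRight fun b => (hconn b).symm)
  have hG : Nat.card G = 64561751654400 := by
    rw [hall.card_eq zstar hdD, card_centralizer hF L.ext, Nat.card_coe_set_eq, hD]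
  have h3' : ∀ a ∈ conjugatesOf d, ∀ b ∈ conjugatesOf d, a * b = b * a ∨ (a * b) ^ 3 = 1 :=
    fun a ha b hb => hall.isThreeTrans zstar ha hb
  have hch := charts_of_loc hLoc
  have hB : Base hF (conjugatesOf d) := by
    refine ⟨hch, ?_, ?_, h3'⟩
    · intro x hx
      obtain ⟨π, lift, hC⟩ := hch x hx
      exact congrArg Subtype.val hC.lab.ext.zz
    · intro x hx g
      have hx' : IsConj d x := hx
      exact hx'.trans (isConj_iff.2 ⟨g, rfl⟩)
  obtain ⟨y, c⟩ := exists_config hB ⟨d, hdD⟩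
  refine ⟨y, c, h3', Config.spider hB c, c.pow_nine' hB, c.pow_nine hB, ?_, hG⟩
  -- generation, from the simplicity and the order of the presented group
  have hlt : ∀ g : Gen, num g < 9 := by intro g; cases g <;> decide
  have e3 : ∀ g g' : Gen, coxLabel edges g g' = 3 → num g ≠ num g' ∧
      Cfsg.Agent.R01.IdentWord.adj E (num g) (num g') = true := by
    intro g g'; cases g <;> cases g' <;> decide
  have e2 : ∀ g g' : Gen, coxLabel edges g g' = 2 → num g ≠ num g' ∧
      Cfsg.Agent.R01.IdentWord.adj E (num g) (num g') = false := by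
    intro g g'; cases g <;> cases g' <;> decide
  obtain ⟨φ, hφ⟩ := exists_hom (fun g : Gen => y (num g)) (fun g => hB.sq _ (c.mem _ (hlt g)))
    (fun g g' h => (hB.three _ (c.mem _ (hlt g)) _ (c.mem _ (hlt g'))).resolve_left
      (c.nadj _ (hlt g) _ (hlt g') (e3 g g' h).1 (e3 g g' h).2))
    (fun g g' h => c.comm _ (hlt g) _ (hlt g') (e2 g g' h).1 (e2 g g' h).2)
    (Config.spider hB c) (c.pow_nine' hB) (c.pow_nine hB)
  obtain ⟨hsimple, hc⟩ := Cfsg.Agent.S1696.result
  have hinj : Function.Injective φ := by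
    rw [← MonoidHom.ker_eq_bot_iff]
    rcases hsimple.eq_bot_or_eq_top_of_normal φ.ker inferInstance with h | h
    · exact h
    · exfalso
      have h1 : ∀ g : Gen, y (num g) = 1 := fun g => by
        have h2 : (PresentedGroup.of g : Cfsg.Spor.Fi22) ∈ φ.ker := by rw [h]; exact Subgroup.mem_top _
        rw [← hφ g]; exact h2
      apply c.nadj 0 (by norm_num) 1 (by norm_num) (by norm_num) (by decide)
      rw [show y 0 = 1 from h1 .a, one_mul, mul_one]
  have hbij : Function.Bijective φ :=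
    (Nat.bijective_iff_injective_and_card _).2 ⟨hinj, by rw [hG]; exact hc⟩
  rw [eq_top_iff, ← MonoidHom.range_eq_top.2 hbij.2, MonoidHom.range_eq_map,
    ← PresentedGroup.closure_range_of, MonoidHom.map_closure, Subgroup.closure_le]
  rintro _ ⟨_, ⟨g, rfl⟩, rfl⟩
  rw [hφ g]
  exact Subgroup.subset_closure ⟨num g, hlt g, rfl⟩

end Cfsg.Agent.BabyU.FiNodes
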