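import Cfsg.Agent.BabyU.Lab

/-!
# A configuration of root involutions adapted to an outer involution, and its canonical lifts (U-B P3)

`Cfg E T σ` : 18 root involutions of `E` with the relations between them (F₄-coordinates: `σ` is the field
automorphism, `a`, `as_ = σ a` is a symplectic pair of roots with product the highest short root element of `F₄(2)`,
`r` the highest long root element). In a double cover `M` of `E` with an element `u` inducing `σ` the canonical lifts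
satisfy the facts (2), (3), (4'), (5') used by the fusion step `FusParity`.
-/

set_option autoImplicit false

namespace Cfsg.Agent.BabyU.FusCfg

open Lab

/-- The configuration. -/
structure Cfg (E : Type*) [Group E] (T : Set E) (σ : E →* E) where
  (b3 b3s g b3g b3sg a as_ r b bs h14 h34 k23 h24 c13 c23 b3k b3sk : E)
  m_b3 : b3 ∈ T
  m_b3s : b3s ∈ T
  m_g : g ∈ T
  m_b3g : b3g ∈ T
  m_b3sg : b3sg ∈ T
  m_a : a ∈ T
  m_as : as_ ∈ T
  m_r : r ∈ T
  m_b : b ∈ T
  m_bs : bs ∈ T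
  m_h14 : h14 ∈ T
  m_h34 : h34 ∈ T
  m_k23 : k23 ∈ T
  m_h24 : h24 ∈ T
  m_c13 : c13 ∈ T
  m_c23 : c23 ∈ T
  m_b3k : b3k ∈ T
  m_b3sk : b3sk ∈ T
  -- the automorphism
  σ_b3 : σ b3 = b3s
  σ_b3s : σ b3s = b3
  σ_g : σ g = g
  σ_a : σ a = as_
  σ_as : σ as_ = a
  σ_r : σ r = r
  σ_b : σ b = bs
  σ_bs : σ bs = b
  σ_h14 : σ h14 = h14
  σ_h34 : σ h34 = h34
  -- conjugates
  g_b3 : g * b3 * g = b3g
  g_b3s : g * b3s * g = b3sg
  k_b3 : k23 * b3 * k23 = b3k
  k_b3s : k23 * b3s * k23 = b3sk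
  -- lines
  l_a : b3g * b3 = a
  l_as : b3sg * b3s = as_
  l_bs : b3k * b3 = bs
  l_b : b3sk * b3s = b
  -- special pairs
  s_b3g : (b3sg * b3) ^ 2 = c13
  s_h14 : (h14 * h34) ^ 2 = c13
  s_b3k : (b3sk * b3) ^ 2 = c23
  s_h24 : (h24 * h34) ^ 2 = c23
  s_ab : (b * a) ^ 2 = r
  s_b3s_a : (b3s * a) ^ 2 = c13
  s_b3_as : (b3 * as_) ^ 2 = c13
  s_h24_a : (h24 * a) ^ 2 = r
  s_h24_as : (h24 * as_) ^ 2 = r
  s_h34_a : (h34 * a) ^ 2 = c13
  s_h34_as : (h34 * as_) ^ 2 = c13
  -- commuting pairs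
  c_b3 : b3 * b3s = b3s * b3
  c_a : a * as_ = as_ * a
  c_b_as : b * as_ = as_ * b
  c_r_a : r * a = a * r
  c_r_as : r * as_ = as_ * r
  c_r_b3 : r * b3 = b3 * r
  c_r_b3s : r * b3s = b3s * r
  c_r_g : r * g = g * r
  c_r_h14 : r * h14 = h14 * r
  c_r_h34 : r * h34 = h34 * r
  c_c13_a : c13 * a = a * c13
  c_c13_as : c13 * as_ = as_ * c13
  c_c13_b3g : c13 * b3g = b3g * c13
  c_c23_b : c23 * b = b * c23
  c_c23_bs : c23 * bs = bs * c23
  c_c23_b3k : c23 * b3k = b3k * c23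
  c_k_a : k23 * a = a * k23
  c_k_as : k23 * as_ = as_ * k23
  c_b3_a : b3 * a = a * b3
  c_b3s_as : b3s * as_ = as_ * b3s
  ne_a : a ≠ as_

section transport

variable {E E' : Type*} [Group E] [Group E'] {T : Set E} {T' : Set E'} {σ : E →* E} {σ' : E' →* E'}

/-- transport of a configuration -/
def Cfg.map (K : Cfg E T σ) (f : E →* E') (hf : Function.Injective f) (hT : ∀ x ∈ T, f x ∈ T')
    (hσ : ∀ x, f (σ x) = σ' (f x)) : Cfg E' T' σ' where
  b3 := f K.b3
  b3s := f K.b3s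
  g := f K.g
  b3g := f K.b3g
  b3sg := f K.b3sg
  a := f K.a
  as_ := f K.as_
  r := f K.r
  b := f K.b
  bs := f K.bs
  h14 := f K.h14
  h34 := f K.h34
  k23 := f K.k23
  h24 := f K.h24
  c13 := f K.c13
  c23 := f K.c23
  b3k := f K.b3k
  b3sk := f K.b3sk
  m_b3 := hT _ K.m_b3
  m_b3s := hT _ K.m_b3s
  m_g := hT _ K.m_g
  m_b3g := hT _ K.m_b3g
  m_b3sg := hT _ K.m_b3sg
  m_a := hT _ K.m_a
  m_as := hT _ K.m_as
  m_r := hT _ K.m_r
  m_b := hT _ K.m_b
  m_bs := hT _ K.m_bs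
  m_h14 := hT _ K.m_h14
  m_h34 := hT _ K.m_h34
  m_k23 := hT _ K.m_k23
  m_h24 := hT _ K.m_h24
  m_c13 := hT _ K.m_c13
  m_c23 := hT _ K.m_c23
  m_b3k := hT _ K.m_b3k
  m_b3sk := hT _ K.m_b3sk
  σ_b3 := by rw [← hσ, K.σ_b3]
  σ_b3s := by rw [← hσ, K.σ_b3s]
  σ_g := by rw [← hσ, K.σ_g]
  σ_a := by rw [← hσ, K.σ_a]
  σ_as := by rw [← hσ, K.σ_as]
  σ_r := by rw [← hσ, K.σ_r]
  σ_b := by rw [← hσ, K.σ_b]
  σ_bs := by rw [← hσ, K.σ_bs]
  σ_h14 := by rw [← hσ, K.σ_h14]
  σ_h34 := by rw [← hσ, K.σ_h34]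
  g_b3 := by rw [← map_mul, ← map_mul, K.g_b3]
  g_b3s := by rw [← map_mul, ← map_mul, K.g_b3s]
  k_b3 := by rw [← map_mul, ← map_mul, K.k_b3]
  k_b3s := by rw [← map_mul, ← map_mul, K.k_b3s]
  l_a := by rw [← map_mul, K.l_a]
  l_as := by rw [← map_mul, K.l_as]
  l_bs := by rw [← map_mul, K.l_bs]
  l_b := by rw [← map_mul, K.l_b]
  s_b3g := by rw [← map_mul, ← map_pow, K.s_b3g]
  s_h14 := by rw [← map_mul, ← map_pow, K.s_h14]
  s_b3k := by rw [← map_mul, ← map_pow, K.s_b3k]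
  s_h24 := by rw [← map_mul, ← map_pow, K.s_h24]
  s_ab := by rw [← map_mul, ← map_pow, K.s_ab]
  s_b3s_a := by rw [← map_mul, ← map_pow, K.s_b3s_a]
  s_b3_as := by rw [← map_mul, ← map_pow, K.s_b3_as]
  s_h24_a := by rw [← map_mul, ← map_pow, K.s_h24_a]
  s_h24_as := by rw [← map_mul, ← map_pow, K.s_h24_as]
  s_h34_a := by rw [← map_mul, ← map_pow, K.s_h34_a]
  s_h34_as := by rw [← map_mul, ← map_pow, K.s_h34_as]
  c_b3 := by rw [← map_mul, ← map_mul, K.c_b3]
  c_a := by rw [← map_mul, ← map_mul, K.c_a]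
  c_b_as := by rw [← map_mul, ← map_mul, K.c_b_as]
  c_r_a := by rw [← map_mul, ← map_mul, K.c_r_a]
  c_r_as := by rw [← map_mul, ← map_mul, K.c_r_as]
  c_r_b3 := by rw [← map_mul, ← map_mul, K.c_r_b3]
  c_r_b3s := by rw [← map_mul, ← map_mul, K.c_r_b3s]
  c_r_g := by rw [← map_mul, ← map_mul, K.c_r_g]
  c_r_h14 := by rw [← map_mul, ← map_mul, K.c_r_h14]
  c_r_h34 := by rw [← map_mul, ← map_mul, K.c_r_h34]
  c_c13_a := by rw [← map_mul, ← map_mul, K.c_c13_a]
  c_c13_as := by rw [← map_mul, ← map_mul, K.c_c13_as]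
  c_c13_b3g := by rw [← map_mul, ← map_mul, K.c_c13_b3g]
  c_c23_b := by rw [← map_mul, ← map_mul, K.c_c23_b]
  c_c23_bs := by rw [← map_mul, ← map_mul, K.c_c23_bs]
  c_c23_b3k := by rw [← map_mul, ← map_mul, K.c_c23_b3k]
  c_k_a := by rw [← map_mul, ← map_mul, K.c_k_a]
  c_k_as := by rw [← map_mul, ← map_mul, K.c_k_as]
  c_b3_a := by rw [← map_mul, ← map_mul, K.c_b3_a]
  c_b3s_as := by rw [← map_mul, ← map_mul, K.c_b3s_as]
  ne_a := fun h => K.ne_a (hf h)

end transport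

section lifts

variable {M E : Type*} [Group M] [Group E] {π : M →* E} {t : M} {T : Set E} {σ : E →* E}

/-- special pairs of involutions: `x y = c y x` -/
theorem spe_swap {M : Type*} [Group M] {x y c : M} (hx : x * x = 1) (hy : y * y = 1) (h : (x * y) ^ 2 = c) :
    x * y = c * (y * x) := by
  rw [← h, pow_two]
  calc x * y = x * y * (x * (y * y) * x) := by rw [hy, mul_one, hx, mul_one]
    _ = _ := by group

/-- special pairs of roots: `W x * W y = W c * (W y * W x)` -/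
theorem w_swap (C : Cover π t) (R : Roots E T) {x y c : E} (hx : x ∈ T) (hy : y ∈ T) (hc : c ∈ T)
    (h : (x * y) ^ 2 = c) : w π T x * w π T y = w π T c * (w π T y * w π T x) := by
  apply spe_swap (w_sq C R hx) (w_sq C R hy)
  rw [w_spe C R hx hy (by rw [h]; exact hc), h]

theorem w_line' (C : Cover π t) (R : Roots E T) {x y c : E} (hx : x ∈ T) (hy : y ∈ T) (hc : c ∈ T)
    (h : x * y = c) : w π T x * w π T y = w π T c := by
  rw [w_line C R hx hy (by rw [h]; exact hc), h]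

theorem w_conj' (C : Cover π t) (R : Roots E T) {x y c : E} (hx : x ∈ T) (hy : y ∈ T)
    (h : x * y * x = c) : w π T x * w π T y * w π T x = w π T c := by
  have h1 := w_conj C R (w π T x) hy
  rw [w_inv C R hx, map_w C R hx, inv_eq_of_mul_eq_one_left (R.sq x hx)] at h1
  rw [h1, h]

/-- a root special to both members of a symplectic pair `a`, `a'` with the same commutator `c` commutes with
`W a * W a'` -/
theorem comm_pair (C : Cover π t) (R : Roots E T) {x a a' c : E} (hx : x ∈ T) (ha : a ∈ T) (ha' : a' ∈ T)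
    (hc : c ∈ T) (h : (x * a) ^ 2 = c) (h' : (x * a') ^ 2 = c) (hca : c * a = a * c) :
    w π T x * (w π T a * w π T a') = (w π T a * w π T a') * w π T x := by
  have e1 := w_swap C R hx ha hc h
  have e2 := w_swap C R hx ha' hc h'
  have e3 := w_comm C R hc ha hca
  calc w π T x * (w π T a * w π T a') = (w π T x * w π T a) * w π T a' := by group
    _ = w π T c * (w π T a * (w π T x * w π T a')) := by rw [e1]; group
    _ = (w π T c * w π T a) * w π T c * w π T a' * w π T x := by rw [e2]; group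
    _ = w π T a * (w π T c * w π T c) * w π T a' * w π T x := by rw [e3]; group
    _ = _ := by rw [w_sq C R hc, mul_one]

theorem comm_pair' (C : Cover π t) (R : Roots E T) {x a a' : E} (hx : x ∈ T) (ha : a ∈ T) (ha' : a' ∈ T)
    (h : x * a = a * x) (h' : x * a' = a' * x) :
    w π T x * (w π T a * w π T a') = (w π T a * w π T a') * w π T x := by
  have e1 := w_comm C R hx ha h
  have e2 := w_comm C R hx ha' h'
  rw [← mul_assoc, e1, mul_assoc, e2, mul_assoc]

variable (K : Cfg E T σ)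

/-- the lift of the highest short root element -/
noncomputable def sh (π : M →* E) (K : Cfg E T σ) : M := w π T K.a * w π T K.as_

/-- the product `W b3 * W b3s` -/
noncomputable def x3 (π : M →* E) (K : Cfg E T σ) : M := w π T K.b3 * w π T K.b3s

theorem sh_eq (C : Cover π t) (R : Roots E T) :
    (w π T K.g * x3 π K) * (w π T K.g * x3 π K) * ((w π T K.h14 * w π T K.h34) * (w π T K.h14 * w π T K.h34))
      = sh π K := by
  unfold x3 sh
  have e1 := w_conj' C R K.m_g K.m_b3 K.g_b3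
  have e2 := w_conj' C R K.m_g K.m_b3s K.g_b3s
  have e3 := w_swap C R K.m_b3sg K.m_b3 K.m_c13 K.s_b3g
  have e4 := w_spe C R K.m_h14 K.m_h34 (by rw [K.s_h14]; exact K.m_c13)
  rw [K.s_h14, pow_two] at e4
  have e5 := w_line' C R K.m_b3g K.m_b3 K.m_a K.l_a
  have e6 := w_line' C R K.m_b3sg K.m_b3s K.m_as K.l_as
  have e7 := w_comm C R K.m_c13 K.m_b3g K.c_c13_b3g
  have e8 := w_comm C R K.m_c13 K.m_a K.c_c13_a
  have e9 := w_comm C R K.m_c13 K.m_as K.c_c13_as
  have eg := w_sq C R K.m_g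
  have ec := w_sq C R K.m_c13
  rw [e4]
  calc w π T K.g * (w π T K.b3 * w π T K.b3s) * (w π T K.g * (w π T K.b3 * w π T K.b3s)) * w π T K.c13
      = w π T K.g * w π T K.b3 * w π T K.b3s * w π T K.g * w π T K.b3 * w π T K.b3s * w π T K.c13 := by group
    _ = w π T K.g * w π T K.b3 * (w π T K.g * w π T K.g) * w π T K.b3s * w π T K.g * w π T K.b3 * w π T K.b3s *
          w π T K.c13 := by rw [eg, mul_one]
    _ = (w π T K.g * w π T K.b3 * w π T K.g) * (w π T K.g * w π T K.b3s * w π T K.g) * w π T K.b3 *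
          w π T K.b3s * w π T K.c13 := by group
    _ = w π T K.b3g * (w π T K.b3sg * w π T K.b3) * w π T K.b3s * w π T K.c13 := by rw [e1, e2]; group
    _ = (w π T K.c13 * w π T K.b3g) * w π T K.b3 * w π T K.b3sg * w π T K.b3s * w π T K.c13 := by
        rw [e3, e7]; group
    _ = w π T K.c13 * (w π T K.b3g * w π T K.b3) * (w π T K.b3sg * w π T K.b3s) * w π T K.c13 := by group
    _ = w π T K.c13 * w π T K.a * (w π T K.as_ * w π T K.c13) := by rw [e5, e6]; group
    _ = (w π T K.c13 * w π T K.a) * w π T K.c13 * w π T K.as_ := by rw [← e9]; group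
    _ = w π T K.a * (w π T K.c13 * w π T K.c13) * w π T K.as_ := by rw [e8]; group
    _ = _ := by rw [ec, mul_one]

theorem kap_eq (C : Cover π t) (R : Roots E T) :
    (w π T K.k23 * x3 π K) * (w π T K.k23 * x3 π K) * ((w π T K.h24 * w π T K.h34) * (w π T K.h24 * w π T K.h34))
      = w π T K.bs * w π T K.b := by
  unfold x3
  have e1 := w_conj' C R K.m_k23 K.m_b3 K.k_b3
  have e2 := w_conj' C R K.m_k23 K.m_b3s K.k_b3s
  have e3 := w_swap C R K.m_b3sk K.m_b3 K.m_c23 K.s_b3k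
  have e4 := w_spe C R K.m_h24 K.m_h34 (by rw [K.s_h24]; exact K.m_c23)
  rw [K.s_h24, pow_two] at e4
  have e5 := w_line' C R K.m_b3k K.m_b3 K.m_bs K.l_bs
  have e6 := w_line' C R K.m_b3sk K.m_b3s K.m_b K.l_b
  have e7 := w_comm C R K.m_c23 K.m_b3k K.c_c23_b3k
  have e8 := w_comm C R K.m_c23 K.m_bs K.c_c23_bs
  have e9 := w_comm C R K.m_c23 K.m_b K.c_c23_b
  have eg := w_sq C R K.m_k23
  have ec := w_sq C R K.m_c23
  rw [e4]
  calc w π T K.k23 * (w π T K.b3 * w π T K.b3s) * (w π T K.k23 * (w π T K.b3 * w π T K.b3s)) * w π T K.c23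
      = w π T K.k23 * w π T K.b3 * w π T K.b3s * w π T K.k23 * w π T K.b3 * w π T K.b3s * w π T K.c23 := by group
    _ = w π T K.k23 * w π T K.b3 * (w π T K.k23 * w π T K.k23) * w π T K.b3s * w π T K.k23 * w π T K.b3 *
          w π T K.b3s * w π T K.c23 := by rw [eg, mul_one]
    _ = (w π T K.k23 * w π T K.b3 * w π T K.k23) * (w π T K.k23 * w π T K.b3s * w π T K.k23) * w π T K.b3 *
          w π T K.b3s * w π T K.c23 := by group
    _ = w π T K.b3k * (w π T K.b3sk * w π T K.b3) * w π T K.b3s * w π T K.c23 := by rw [e1, e2]; group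
    _ = (w π T K.c23 * w π T K.b3k) * w π T K.b3 * w π T K.b3sk * w π T K.b3s * w π T K.c23 := by
        rw [e3, e7]; group
    _ = w π T K.c23 * (w π T K.b3k * w π T K.b3) * (w π T K.b3sk * w π T K.b3s) * w π T K.c23 := by group
    _ = w π T K.c23 * w π T K.bs * (w π T K.b * w π T K.c23) := by rw [e5, e6]; group
    _ = (w π T K.c23 * w π T K.bs) * w π T K.c23 * w π T K.b := by rw [← e9]; group
    _ = w π T K.bs * (w π T K.c23 * w π T K.c23) * w π T K.b := by rw [e8]; group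
    _ = _ := by rw [ec, mul_one]

/-- `W b3 * W b3s` commutes with the short root element -/
theorem x3_sh (C : Cover π t) (R : Roots E T) : x3 π K * sh π K = sh π K * x3 π K := by
  unfold x3 sh
  have e1 := w_swap C R K.m_b3s K.m_a K.m_c13 K.s_b3s_a
  have e2 := w_swap C R K.m_b3 K.m_as K.m_c13 K.s_b3_as
  have e3 := w_comm C R K.m_b3 K.m_a K.c_b3_a
  have e4 := w_comm C R K.m_b3s K.m_as K.c_b3s_as
  have e8 := w_comm C R K.m_c13 K.m_a K.c_c13_a
  have ec := w_sq C R K.m_c13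
  -- `W b3` commutes with `W c13`
  have e5 : w π T K.b3 * w π T K.c13 = w π T K.c13 * w π T K.b3 := by
    have e6 : w π T K.c13 = (w π T K.b3 * w π T K.as_) ^ 2 := by
      rw [w_spe C R K.m_b3 K.m_as (by rw [K.s_b3_as]; exact K.m_c13), K.s_b3_as]
    have e7 : (w π T K.b3 * w π T K.as_) ^ 2 = ((w π T K.b3 * w π T K.as_) ^ 2)⁻¹ := by
      rw [← e6, w_inv C R K.m_c13]
    have hb := w_sq C R K.m_b3
    have ha := w_inv C R K.m_as
    have hb' := w_inv C R K.m_b3
    rw [e6]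
    nth_rw 1 [e7]
    rw [pow_two, mul_inv_rev, mul_inv_rev, ha, hb']
    calc w π T K.b3 * (w π T K.as_ * w π T K.b3 * (w π T K.as_ * w π T K.b3))
        = w π T K.b3 * w π T K.as_ * w π T K.b3 * w π T K.as_ * w π T K.b3 := by group
      _ = _ := by group
  calc w π T K.b3 * w π T K.b3s * (w π T K.a * w π T K.as_)
      = w π T K.b3 * (w π T K.b3s * w π T K.a) * w π T K.as_ := by group
    _ = (w π T K.b3 * w π T K.c13) * w π T K.a * (w π T K.b3s * w π T K.as_) := by rw [e1]; group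
    _ = w π T K.c13 * (w π T K.b3 * w π T K.a) * w π T K.as_ * w π T K.b3s := by rw [e4, e5]; group
    _ = w π T K.c13 * w π T K.a * (w π T K.b3 * w π T K.as_) * w π T K.b3s := by rw [e3]; group
    _ = (w π T K.c13 * w π T K.a) * w π T K.c13 * w π T K.as_ * w π T K.b3 * w π T K.b3s := by rw [e2]; group
    _ = w π T K.a * (w π T K.c13 * w π T K.c13) * w π T K.as_ * w π T K.b3 * w π T K.b3s := by rw [e8]; group
    _ = _ := by rw [ec]; group

theorem k23_sh (C : Cover π t) (R : Roots E T) : w π T K.k23 * sh π K = sh π K * w π T K.k23 :=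
  comm_pair' C R K.m_k23 K.m_a K.m_as K.c_k_a K.c_k_as

theorem h24_sh (C : Cover π t) (R : Roots E T) : w π T K.h24 * sh π K = sh π K * w π T K.h24 :=
  comm_pair C R K.m_h24 K.m_a K.m_as K.m_r K.s_h24_a K.s_h24_as K.c_r_a

theorem h34_sh (C : Cover π t) (R : Roots E T) : w π T K.h34 * sh π K = sh π K * w π T K.h34 :=
  comm_pair C R K.m_h34 K.m_a K.m_as K.m_c13 K.s_h34_a K.s_h34_as K.c_c13_a

/-- (3) : `n = W b` conjugates the short root element `s` to `r s` -/
theorem n_sh (C : Cover π t) (R : Roots E T) :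
    w π T K.b * sh π K = (w π T K.r * sh π K) * w π T K.b := by
  unfold sh
  have e1 := w_swap C R K.m_b K.m_a K.m_r K.s_ab
  have e2 := w_comm C R K.m_b K.m_as K.c_b_as
  calc w π T K.b * (w π T K.a * w π T K.as_) = (w π T K.b * w π T K.a) * w π T K.as_ := by group
    _ = w π T K.r * w π T K.a * (w π T K.b * w π T K.as_) := by rw [e1]; group
    _ = _ := by rw [e2]; group

theorem sh_sq (C : Cover π t) (R : Roots E T) : sh π K * sh π K = 1 := by
  unfold sh
  have e1 := w_comm C R K.m_a K.m_as K.c_a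
  calc w π T K.a * w π T K.as_ * (w π T K.a * w π T K.as_)
      = w π T K.a * (w π T K.as_ * w π T K.a) * w π T K.as_ := by group
    _ = (w π T K.a * w π T K.a) * (w π T K.as_ * w π T K.as_) := by rw [← e1]; group
    _ = 1 := by rw [w_sq C R K.m_a, w_sq C R K.m_as, mul_one]

theorem sh_ne (C : Cover π t) (R : Roots E T) : sh π K ≠ 1 := by
  intro h
  apply K.ne_a
  have h1 : π (sh π K) = 1 := by rw [h, map_one]
  unfold sh at h1
  rw [map_mul, map_w C R K.m_a, map_w C R K.m_as] at h1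
  rw [mul_eq_one_iff_eq_inv] at h1
  rw [h1, inv_eq_of_mul_eq_one_left (R.sq _ K.m_as)]

theorem map_sh (C : Cover π t) (R : Roots E T) : π (sh π K) = K.a * K.as_ := by
  unfold sh
  rw [map_mul, map_w C R K.m_a, map_w C R K.m_as]

theorem r_sh (C : Cover π t) (R : Roots E T) : w π T K.r * sh π K = sh π K * w π T K.r :=
  comm_pair' C R K.m_r K.m_a K.m_as K.c_r_a K.c_r_as

theorem a_sh (C : Cover π t) (R : Roots E T) : w π T K.a * sh π K = sh π K * w π T K.a :=
  comm_pair' C R K.m_a K.m_a K.m_as rfl K.c_a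

theorem a_r (C : Cover π t) (R : Roots E T) : w π T K.a * w π T K.r = w π T K.r * w π T K.a :=
  (w_comm C R K.m_r K.m_a K.c_r_a).symm

theorem x3_r (C : Cover π t) (R : Roots E T) : x3 π K * w π T K.r = w π T K.r * x3 π K :=
  (comm_pair' C R K.m_r K.m_b3 K.m_b3s K.c_r_b3 K.c_r_b3s).symm

end lifts

section group

variable {G E : Type*} [Group G] [Group E] {M : Subgroup G} {π : M →* E} {T : Set E} {σ : E →* E}

/-- `u` normalises `M` and induces `σ` on `E` -/
structure Ind (π : M →* E) (σ : E →* E) (u : G) : Prop where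
  mem : ∀ m : M, u⁻¹ * (m : G) * u ∈ M
  map : ∀ m : M, π ⟨u⁻¹ * m * u, mem m⟩ = σ (π m)

theorem Ind.conj_w {u : G} (h : Ind π σ u) {t : M} (C : Cover π t) (R : Roots E T) (hσ : ∀ r ∈ T, σ r ∈ T) {r : E}
    (hr : r ∈ T) : u⁻¹ * ((w π T r : M) : G) * u = ((w π T (σ r) : M) : G) := by
  let φ : M →* M :=
    { toFun := fun m => ⟨u⁻¹ * m * u, h.mem m⟩
      map_one' := Subtype.ext (by simp)
      map_mul' := fun x y => Subtype.ext (by simp only [Subgroup.coe_mul]; group) }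
  have h1 := w_aut C R φ σ (fun m => h.map m) hσ hr
  exact congrArg Subtype.val h1

/-- If `σ x = y` then `W x * u = u * W y`. -/
theorem Ind.w_mul {u : G} (h : Ind π σ u) {t : M} (C : Cover π t) (R : Roots E T) (hσ : ∀ r ∈ T, σ r ∈ T) {x y : E}
    (hx : x ∈ T) (hxy : σ x = y) : ((w π T x : M) : G) * u = u * ((w π T y : M) : G) := by
  rw [← hxy, ← h.conj_w C R hσ hx]
  group

variable {t : M} {u : G} (K : Cfg E T σ)

theorem sh_u (h : Ind π σ u) (C : Cover π t) (R : Roots E T) (hσ : ∀ r ∈ T, σ r ∈ T) :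
    ((sh π K : M) : G) * u = u * ((sh π K : M) : G) := by
  have e1 := h.w_mul C R hσ K.m_a K.σ_a
  have e2 := h.w_mul C R hσ K.m_as K.σ_as
  have e3 : ((w π T K.a : M) : G) * ((w π T K.as_ : M) : G) = ((w π T K.as_ : M) : G) * ((w π T K.a : M) : G) :=
    congrArg Subtype.val (w_comm C R K.m_a K.m_as K.c_a)
  show ((w π T K.a : M) : G) * ((w π T K.as_ : M) : G) * u = u * (((w π T K.a : M) : G) * ((w π T K.as_ : M) : G))
  rw [mul_assoc, e2, ← mul_assoc, e1, mul_assoc, ← e3]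

theorem x3_u (h : Ind π σ u) (C : Cover π t) (R : Roots E T) (hσ : ∀ r ∈ T, σ r ∈ T) :
    ((x3 π K : M) : G) * u = u * ((x3 π K : M) : G) := by
  have e1 := h.w_mul C R hσ K.m_b3 K.σ_b3
  have e2 := h.w_mul C R hσ K.m_b3s K.σ_b3s
  have e3 : ((w π T K.b3 : M) : G) * ((w π T K.b3s : M) : G) = ((w π T K.b3s : M) : G) * ((w π T K.b3 : M) : G) :=
    congrArg Subtype.val (w_comm C R K.m_b3 K.m_b3s K.c_b3)
  show ((w π T K.b3 : M) : G) * ((w π T K.b3s : M) : G) * u = u * (((w π T K.b3 : M) : G) * ((w π T K.b3s : M) : G))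
  rw [mul_assoc, e2, ← mul_assoc, e1, mul_assoc, ← e3]

/-- (2) : `c = W a` conjugates `u` to `u s` -/
theorem c_u (h : Ind π σ u) (C : Cover π t) (R : Roots E T) (hσ : ∀ r ∈ T, σ r ∈ T) :
    ((w π T K.a : M) : G) * u * ((w π T K.a : M) : G)⁻¹ = u * ((sh π K : M) : G) := by
  have e1 := h.w_mul C R hσ K.m_a K.σ_a
  have e2 : ((w π T K.a : M) : G)⁻¹ = ((w π T K.a : M) : G) := congrArg Subtype.val (w_inv C R K.m_a)
  have e3 : ((w π T K.a : M) : G) * ((w π T K.as_ : M) : G) = ((w π T K.as_ : M) : G) * ((w π T K.a : M) : G) :=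
    congrArg Subtype.val (w_comm C R K.m_a K.m_as K.c_a)
  rw [e1, e2, mul_assoc, ← e3]
  rfl

/-- (4') -/
theorem four (h : Ind π σ u) (C : Cover π t) (R : Roots E T) (hσ : ∀ r ∈ T, σ r ∈ T) (hMt : ∀ x ∈ M, x * t = t * x)
    (hut : u * (t : G) = t * u) :
    u * (((w π T K.b : M) : G)⁻¹ * u * ((w π T K.b : M) : G)) ∈
      Subgroup.closure {w : G | ∃ y : G, y * (t : G) = t * y ∧ y * ((sh π K : M) : G) = (sh π K : M) * y ∧ y * y = w} := by
  have e1 := h.w_mul C R hσ K.m_b K.σ_b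
  have e1' := h.w_mul C R hσ K.m_bs K.σ_bs
  have e2 : ((w π T K.b : M) : G)⁻¹ = ((w π T K.b : M) : G) := congrArg Subtype.val (w_inv C R K.m_b)
  have e3 : u * (((w π T K.b : M) : G)⁻¹ * u * ((w π T K.b : M) : G)) = (u * u) * (((w π T K.bs : M) : G) * ((w π T K.b : M) : G)) := by
    rw [e2, e1]; group
  have e4 : ((w π T K.bs : M) : G) * ((w π T K.b : M) : G) = ((w π T K.k23 * x3 π K : M) : G) * ((w π T K.k23 * x3 π K : M) : G) *
      (((w π T K.h24 * w π T K.h34 : M) : G) * ((w π T K.h24 * w π T K.h34 : M) : G)) := by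
    have := congrArg Subtype.val (kap_eq K C R)
    exact this.symm
  rw [e3, e4]
  have hm : ∀ v : M, v * sh π K = sh π K * v → (v : G) * (v : G) ∈
      Subgroup.closure {w : G | ∃ y : G, y * (t : G) = t * y ∧ y * ((sh π K : M) : G) = (sh π K : M) * y ∧ y * y = w} := by
    intro v hv
    exact Subgroup.subset_closure ⟨v, hMt _ v.2, congrArg Subtype.val hv, rfl⟩
  refine Subgroup.mul_mem _ (Subgroup.subset_closure ⟨u, hut, (sh_u K h C R hσ).symm, rfl⟩)
    (Subgroup.mul_mem _ (hm _ ?_) (hm _ ?_))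
  · rw [mul_assoc, x3_sh K C R, ← mul_assoc, k23_sh K C R, mul_assoc]
  · rw [mul_assoc, h34_sh K C R, ← mul_assoc, h24_sh K C R, mul_assoc]

/-- (5') -/
theorem five (h : Ind π σ u) (C : Cover π t) (R : Roots E T) (hσ : ∀ r ∈ T, σ r ∈ T)
    (hMt : ∀ x ∈ M, x * t = t * x) :
    ((sh π K : M) : G) ∈ Subgroup.closure {w : G | ∃ y : G, y * (t : G) = t * y ∧ y * u = u * y ∧
      y * ((Lab.w π T K.r : M) : G) = (Lab.w π T K.r : M) * y ∧ y * y = w} := by
  have e4 : ((sh π K : M) : G) = ((w π T K.g * x3 π K : M) : G) * ((w π T K.g * x3 π K : M) : G) *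
      (((w π T K.h14 * w π T K.h34 : M) : G) * ((w π T K.h14 * w π T K.h34 : M) : G)) := by
    have := congrArg Subtype.val (sh_eq K C R)
    exact this.symm
  rw [e4]
  have hm : ∀ v : M, (v : G) * u = u * v → v * w π T K.r = w π T K.r * v → (v : G) * (v : G) ∈
      Subgroup.closure {w : G | ∃ y : G, y * (t : G) = t * y ∧ y * u = u * y ∧
        y * ((Lab.w π T K.r : M) : G) = (Lab.w π T K.r : M) * y ∧ y * y = w} := by
    intro v hv hr
    exact Subgroup.subset_closure ⟨v, hMt _ v.2, hv, congrArg Subtype.val hr, rfl⟩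
  have g1 := h.w_mul C R hσ K.m_g K.σ_g
  have g2 := h.w_mul C R hσ K.m_h14 K.σ_h14
  have g3 := h.w_mul C R hσ K.m_h34 K.σ_h34
  refine Subgroup.mul_mem _ (hm _ ?_ ?_) (hm _ ?_ ?_)
  · show ((w π T K.g : M) : G) * ((x3 π K : M) : G) * u = u * (((w π T K.g : M) : G) * ((x3 π K : M) : G))
    rw [mul_assoc, x3_u K h C R hσ, ← mul_assoc, g1, mul_assoc]
  · rw [mul_assoc, x3_r K C R, ← mul_assoc, ← w_comm C R K.m_r K.m_g K.c_r_g, mul_assoc]
  · show ((w π T K.h14 : M) : G) * ((w π T K.h34 : M) : G) * u = u * (((w π T K.h14 : M) : G) * ((w π T K.h34 : M) : G))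
    rw [mul_assoc, g3, ← mul_assoc, g2, mul_assoc]
  · rw [mul_assoc, ← w_comm C R K.m_r K.m_h34 K.c_r_h34, ← mul_assoc, ← w_comm C R K.m_r K.m_h14 K.c_r_h14,
      mul_assoc]

end group

end Cfsg.Agent.BabyU.FusCfg
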