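import Cfsg.Agent.BabyU.FusRoot

/-!
# The fusion step: the application of the parity theorem  (R19U, U-B P3, helper234)
-/

set_option autoImplicit false

namespace Cfsg.Agent.BabyU.FusCore

open Cfsg.Agent.BabyU.Lab Cfsg.Agent.BabyU.FusCfg

/-- index two from the fields of `Setup` -/
theorem relIndex_two {G : Type*} [Group G] {t : G} {M : Subgroup G} {E : Type*} [Group E] {π : M →* E}
    (S : Setup t M π) {u : G} (hut : u * t = t * u) (huM : u ∉ M) :
    M.relIndex (Subgroup.centralizer ({t} : Set G)) = 2 := by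
  rw [Subgroup.relIndex_eq_two_iff]
  refine ⟨u, Subgroup.mem_centralizer_singleton_iff.2 hut, fun b hb => ?_⟩
  have hb' := Subgroup.mem_centralizer_singleton_iff.1 hb
  by_cases h : b ∈ M
  · right
    exact ⟨h, fun h1 => huM ((M.mul_mem_cancel_left h).1 h1)⟩
  · left
    exact ⟨S.index b u hb' hut h huM, h⟩

/-- **A lift of a root involution is conjugate to `t`**, from the data on the model. -/
theorem fuse_core {G : Type*} [Group G] [Finite G] (hG : ∀ H : Subgroup G, H.index ≠ 2)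
    {t : G} {M : Subgroup G} {E : Type*} [Group E] {π : M →* E} (S : Setup t M π)
    {Γ : Type*} [Group Γ] {T : Set Γ} {σ : Γ →* Γ} {π' : M →* Γ} (C : Cover π' S.z) (L : Roots Γ T) {u : G}
    (I : Ind π' σ u) (hσ : ∀ r ∈ T, σ r ∈ T) (hut : u * t = t * u) (huM : u ∉ M) (hu : u * u = 1 ∨ u * u = t)
    (K : Cfg Γ T σ)
    (P : Set G) (hPM : P ⊆ M) (htP : t ∈ P) (hP2 : ∀ p ∈ P, p * p = 1) (hP : IsPGroup 2 (Subgroup.closure P))
    (hPu : ∀ p ∈ P, p * u = u * p)
    (hPr : ∀ p ∈ P, p * ((w π' T K.r : M) : G) = ((w π' T K.r : M) : G) * p)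
    (hPs : ∀ p ∈ P, p * ((sh π' K : M) : G) = ((sh π' K : M) : G) * p)
    (cent : ∀ x : Γ, (∀ p : M, (p : G) ∈ P → π' p * x = x * π' p) →
      x = 1 ∨ x = K.r ∨ x = K.a * K.as_ ∨ x = K.r * (K.a * K.as_)) :
    ∃ m : M, π' m ∈ T ∧ ∃ g : G, g * t * g⁻¹ = m := by
  have hMt : ∀ x ∈ M, x * (S.z : G) = S.z * x := fun x hx => S.comm x hx
  have hle : M ≤ Subgroup.centralizer ({t} : Set G) := fun x hx =>
    Subgroup.mem_centralizer_singleton_iff.2 (S.comm x hx)
  have h2 := relIndex_two S hut huM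
  have coe : ∀ {x y : M}, x = y → (x : G) = (y : G) := fun h => congrArg Subtype.val h
  have hr1 : ((w π' T K.r : M) : G) ≠ 1 := by
    intro h
    exact w_ne_one C L K.m_r (Subtype.ext h)
  have hs1 : ((sh π' K : M) : G) ≠ 1 := by
    intro h
    exact sh_ne K C L (Subtype.ext h)
  have hru : ((w π' T K.r : M) : G) * u = u * ((w π' T K.r : M) : G) := I.w_mul C L hσ K.m_r K.σ_r
  have hsu := sh_u K I C L hσ
  have huinv : u⁻¹ * t = t * u⁻¹ := by
    rw [inv_mul_eq_iff_eq_mul, ← mul_assoc, hut, mul_assoc, mul_inv_cancel, mul_one]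
  -- the centraliser of `P`
  have inner : ∀ x : G, x ∈ M → (∀ p ∈ P, p * x = x * p) → ∃ m a : G, (m = 1 ∨ m = t) ∧
      (a = 1 ∨ a = ((w π' T K.r : M) : G) ∨ a = ((sh π' K : M) : G) ∨
        a = ((w π' T K.r : M) : G) * ((sh π' K : M) : G)) ∧ x = m * a := by
    intro x hx hxP
    have h3 := cent (π' ⟨x, hx⟩) (fun p hp => by
      rw [← map_mul, ← map_mul]
      congr 1
      exact Subtype.ext (hxP p hp))
    have hker : ∀ y : M, π' ⟨x, hx⟩ = π' y → ∃ m : G, (m = 1 ∨ m = t) ∧ x = m * y := by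
      intro y hy
      rcases C.eq_or hy with h4 | h4
      · exact ⟨1, Or.inl rfl, by rw [one_mul]; exact coe h4⟩
      · exact ⟨t, Or.inr rfl, coe h4⟩
    rcases h3 with h3 | h3 | h3 | h3
    · obtain ⟨m, hm, h⟩ := hker 1 (by rw [h3, map_one])
      exact ⟨m, 1, hm, Or.inl rfl, h⟩
    · obtain ⟨m, hm, h⟩ := hker (w π' T K.r) (by rw [h3, map_w C L K.m_r])
      exact ⟨m, _, hm, Or.inr (Or.inl rfl), h⟩
    · obtain ⟨m, hm, h⟩ := hker (sh π' K) (by rw [h3, map_sh K C L])
      exact ⟨m, _, hm, Or.inr (Or.inr (Or.inl rfl)), h⟩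
    · obtain ⟨m, hm, h⟩ := hker (w π' T K.r * sh π' K) (by rw [h3, map_mul, map_w C L K.m_r, map_sh K C L])
      exact ⟨m, _, hm, Or.inr (Or.inr (Or.inr rfl)), h⟩
  have hbinv : ((w π' T K.b : M) : G)⁻¹ = ((w π' T K.b : M) : G) := coe (w_inv C L K.m_b)
  obtain ⟨g, hg⟩ := FusParity2.exists_conj2 (z := t) (M := M) (u := u) (r := ((w π' T K.r : M) : G))
    (s := ((sh π' K : M) : G)) (c := ((w π' T K.a : M) : G)) (n := ((w π' T K.b : M) : G))
    hG S.sq S.ne hle h2 S.mem hut huM hu (w π' T K.r).2 (sh π' K).2 (coe (w_sq C L K.m_r)) hr1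
    (coe (sh_sq K C L)) hs1 (coe (r_sh K C L)) hru hsu P hP2 hP hPu
    (fun p hp => S.comm p (hPM hp)) hPr hPs
    (fun x hx => by
      have hxt : t * x = x * t := hx t htP
      by_cases hxM : x ∈ M
      · obtain ⟨m, a, hm, ha, h⟩ := inner x hxM hx
        exact ⟨m, a, hm, ha, Or.inl h⟩
      · have hui : u⁻¹ ∉ M := fun h => huM (by simpa using M.inv_mem h)
        have hxM' : x * u⁻¹ ∈ M := S.index x u⁻¹ hxt.symm huinv hxM hui
        obtain ⟨m, a, hm, ha, h⟩ := inner (x * u⁻¹) hxM' (fun p hp => by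
          have h5 : p * u⁻¹ = u⁻¹ * p := by
            have := hPu p hp
            calc p * u⁻¹ = u⁻¹ * (u * p) * u⁻¹ := by group
              _ = u⁻¹ * (p * u) * u⁻¹ := by rw [this]
              _ = _ := by group
          rw [← mul_assoc, hx p hp, mul_assoc, h5, mul_assoc])
        refine ⟨m, a, hm, ha, Or.inr ?_⟩
        have hau : a * u = u * a := by
          rcases ha with rfl | rfl | rfl | rfl
          · rw [one_mul, mul_one]
          · exact hru
          · exact hsu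
          · rw [mul_assoc, hsu, ← mul_assoc, hru, mul_assoc]
        calc x = (x * u⁻¹) * u := by group
          _ = m * (a * u) := by rw [h, mul_assoc]
          _ = m * u * a := by rw [hau, mul_assoc])
    (S.comm _ (w π' T K.a).2) (coe (a_r K C L)) (coe (a_sh K C L)) (c_u K I C L hσ)
    (S.comm _ (w π' T K.b).2)
    (by
      have h3 : ((w π' T K.b : M) : G) * ((sh π' K : M) : G) =
          (((w π' T K.r : M) : G) * ((sh π' K : M) : G)) * ((w π' T K.b : M) : G) := coe (n_sh K C L)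
      rw [h3]; group)
    (by
      have h3 := four K I C L hσ hMt hut
      refine Subgroup.closure_mono ?_ h3
      rintro _ ⟨v, h4, h5, rfl⟩
      exact ⟨v, h4, h5, rfl⟩)
    (by
      have h3 := five K I C L hσ hMt
      refine Subgroup.closure_mono ?_ h3
      rintro _ ⟨v, h4, h5, h6, rfl⟩
      exact ⟨v, h4, h5, h6, rfl⟩)
  rcases hg with hg | hg
  · exact ⟨w π' T K.r, by rw [map_w C L K.m_r]; exact K.m_r, g, hg⟩
  · refine ⟨S.z * w π' T K.r, ?_, g, hg⟩
    rw [C.map_t_mul, map_w C L K.m_r]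
    exact K.m_r

end Cfsg.Agent.BabyU.FusCore
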