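import Cfsg.Agent.BabyU.FusParity
import Cfsg.Agent.LargeExtra.TransferOrbit

/-!
# The fusion step of the Baby Monster type, second form (R19U, U-B P3, helper941)

As `FusParity.exists_conj`, with `P` generated by a set `S` of involutions. This closes the isoclinic case `u² = z`
without any hypothesis on the involutions outside of `M`: if `{x, u x}` is a `P`-invariant orbit of `⟨u⟩` on `G / C`
belonging to the conjugate `d` of `z` with `z ∉ M_d`, then either all elements of `S` fix `x`, hence commute with `d`,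
hence `u` commutes with `d`, or some `p ∈ S` exchanges `x` and `u x`, and `(u⁻¹ p)² = z` is the square of an element
of `C_G(d)`. The perfectness hypotheses are replaced by "product of squares".
-/

set_option autoImplicit false
set_option linter.style.haveILetI false

namespace Cfsg.Agent.BabyU.FusParity2

open Cfsg.Agent.LargeExtra Cfsg.Agent.LargeExtra.Transfer Cfsg.Agent.LargeExtra.TransferOrbit
open Cfsg.Agent.BabyU.FusParity

variable {G : Type*} [Group G]

/-- Parity of the number of fixed points of `P` on the fixed points of `u` of sign `-1`, if all `P`-invariant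
`⟨u⟩`-orbits of sign `-1` consist of fixed points of `⟨u⟩ P`. -/
theorem even_card_orbit [Finite G] (hG : ∀ H : Subgroup G, H.index ≠ 2) {C C₀ : Subgroup G} (hle : C₀ ≤ C)
    (h2 : C₀.relIndex C = 2) (u : G) (P : Subgroup G) (hP : IsPGroup 2 P) (hPu : ∀ p ∈ P, p * u = u * p)
    (H : ∀ g : G, Neg C C₀ u g → (∀ p ∈ P, ∃ i : ℕ, g⁻¹ * (u ^ i * p) * g ∈ C) →
      g⁻¹ * u * g ∈ C ∧ ∀ p ∈ P, g⁻¹ * p * g ∈ C) :
    Even (Nat.card {x : G ⧸ C // Odd1 C C₀ u x ∧ ∀ p ∈ P, p • x = x}) := by
  classical
  have : Fact (Nat.Prime 2) := ⟨Nat.prime_two⟩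
  set R := MulAction.orbitRel (Subgroup.zpowers u) (G ⧸ C) with hR
  have hresp : ∀ p ∈ P, ∀ x y : G ⧸ C, R x y → R (p • x) (p • y) := by
    rintro p hp x y ⟨⟨v, hv⟩, hvy⟩
    obtain ⟨m, rfl⟩ := Subgroup.mem_zpowers_iff.1 hv
    have h3 : u ^ m • y = x := hvy
    have h4 : u ^ m * p = p * u ^ m := ((show Commute p u from hPu p hp).zpow_right m).symm
    refine ⟨⟨u ^ m, hv⟩, ?_⟩
    show u ^ m • p • y = p • x
    rw [← mul_smul, h4, mul_smul, h3]
  letI act : MulAction P (Quotient R) :=
    { smul := fun p q => Quotient.map (fun x => (p : G) • x) (fun x y h => hresp p p.2 x y h) q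
      one_smul := by
        intro q
        induction q using Quotient.inductionOn with
        | _ x =>
          show Quotient.mk R (((1 : P) : G) • x) = Quotient.mk R x
          rw [Subgroup.coe_one, one_smul]
      mul_smul := by
        intro a b q
        induction q using Quotient.inductionOn with
        | _ x =>
          show Quotient.mk R (((a * b : P) : G) • x) = Quotient.mk R ((a : G) • (b : G) • x)
          rw [Subgroup.coe_mul, mul_smul] }
  have hsmul : ∀ (p : P) (g : G), p • Quotient.mk R (g : G ⧸ C) = Quotient.mk R ((p * g : G) : G ⧸ C) :=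
    fun _ _ => rfl
  have hnegiff : ∀ g : G, Neg C C₀ u (rep C u (Quotient.mk R (g : G ⧸ C))) ↔ Neg C C₀ u g :=
    fun g => neg_rep_iff hle h2 u g
  have hinv : ∀ (p : P) (q : Quotient R), Neg C C₀ u (rep C u q) → Neg C C₀ u (rep C u (p • q)) := by
    intro p q hq
    induction q using Quotient.inductionOn with
    | _ x =>
      obtain ⟨g, rfl⟩ := QuotientGroup.mk_surjective x
      have h3 := (hnegiff g).1 hq
      rw [hsmul]
      have h4 := (neg_congr hle h2 u p g 1 (hPu p p.2) C.one_mem).2 h3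
      rw [mul_one] at h4
      exact (hnegiff _).2 h4
  letI : MulAction P {q : Quotient R // Neg C C₀ u (rep C u q)} :=
    { smul := fun p q => ⟨p • q.1, hinv p q.1 q.2⟩
      one_smul := fun q => Subtype.ext (one_smul P q.1)
      mul_smul := fun a b q => Subtype.ext (mul_smul a b q.1) }
  have h3 := hP.card_modEq_card_fixedPoints {q : Quotient R // Neg C C₀ u (rep C u q)}
  have h5 := even_card_neg hG hle h2 u
  have h6 : Even (Nat.card (MulAction.fixedPoints P {q : Quotient R // Neg C C₀ u (rep C u q)})) := by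
    rw [Nat.even_iff] at h5 ⊢
    rw [← h5]
    exact h3.symm
  -- the invariant orbits of sign `-1` are fixed points
  have hfix : ∀ g : G, Neg C C₀ u g → (∀ p : P, p • Quotient.mk R (g : G ⧸ C) = Quotient.mk R (g : G ⧸ C)) →
      u • (g : G ⧸ C) = (g : G ⧸ C) ∧ ∀ p ∈ P, p • (g : G ⧸ C) = (g : G ⧸ C) := by
    intro g hg hp
    obtain ⟨h7, h8⟩ := H g hg (by
      intro p hpP
      have h8 := hp ⟨p, hpP⟩
      rw [hsmul] at h8
      have h9 : R (g : G ⧸ C) ((p * g : G) : G ⧸ C) := (Quotient.eq (r := R)).1 h8.symm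
      obtain ⟨⟨v, hv⟩, hvy⟩ := h9
      obtain ⟨i, hi⟩ := (Submonoid.mem_powers_iff _ _).1
        ((mem_powers_iff_mem_zpowers (x := u)).2 hv)
      subst hi
      have h10 : ((u ^ i * (p * g) : G) : G ⧸ C) = (g : G ⧸ C) := hvy
      refine ⟨i, ?_⟩
      rw [eq_comm, QuotientGroup.eq] at h10
      have e : g⁻¹ * (u ^ i * p) * g = g⁻¹ * (u ^ i * (p * g)) := by group
      rw [e]
      exact h10)
    exact ⟨(smul_eq_iff C u g).2 h7, fun p hpP => (smul_eq_iff C p g).2 (h8 p hpP)⟩
  have hper1 : ∀ x : G ⧸ C, u • x = x → Function.minimalPeriod (u • ·) x = 1 := fun x hx =>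
    Function.minimalPeriod_eq_one_iff_isFixedPt.2 hx
  have hsing : ∀ x y : G ⧸ C, u • x = x → R y x → y = x := by
    rintro x y hx ⟨⟨v, hv⟩, hvy⟩
    obtain ⟨m, rfl⟩ := Subgroup.mem_zpowers_iff.1 hv
    have h3 : u ^ m • x = x := by
      have h4 : u ∈ MulAction.stabilizer G x := hx
      exact (MulAction.stabilizer G x).zpow_mem h4 m
    have h5 : u ^ m • x = y := hvy
    rw [← h5, h3]
  have hout : ∀ x : G ⧸ C, u • x = x → (Quotient.mk R x).out = x := by
    intro x hx
    exact hsing x _ hx (Quotient.mk_out (s := R) x)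
  have hoddneg : ∀ x : G ⧸ C, Odd1 C C₀ u x → Neg C C₀ u x.out ∧ u • x = x := by
    intro x hx
    have h7 : u • x = x := by
      have := (smul_eq_iff C u x.out).2 hx.1
      rwa [QuotientGroup.out_eq'] at this
    refine ⟨?_, h7⟩
    unfold TransferOrbit.Neg
    rw [QuotientGroup.out_eq', hper1 x h7, pow_one]
    exact hx.2
  have hcard : Nat.card (MulAction.fixedPoints P {q : Quotient R // Neg C C₀ u (rep C u q)}) =
      Nat.card {x : G ⧸ C // Odd1 C C₀ u x ∧ ∀ p ∈ P, p • x = x} := by
    have hfix' : ∀ q : MulAction.fixedPoints P {q : Quotient R // Neg C C₀ u (rep C u q)},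
        u • q.1.1.out = q.1.1.out ∧ ∀ p ∈ P, p • q.1.1.out = q.1.1.out := by
      rintro ⟨⟨q, hq⟩, hqf⟩
      have h7 := hfix (rep C u q) hq (by
        intro p
        have h8 := congrArg Subtype.val (hqf p)
        have e0 : Quotient.mk R ((rep C u q : G) : G ⧸ C) = q := by
          show Quotient.mk R ((q.out.out : G) : G ⧸ C) = q
          rw [QuotientGroup.out_eq', Quotient.out_eq]
        rw [e0]
        exact h8)
      have e1 : ((rep C u q : G) : G ⧸ C) = q.out := by
        show ((q.out.out : G) : G ⧸ C) = q.out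
        rw [QuotientGroup.out_eq']
      rw [e1] at h7
      exact h7
    apply Nat.card_congr
    refine
      { toFun := fun q => ⟨q.1.1.out, ?_, (hfix' q).2⟩
        invFun := fun x => ⟨⟨Quotient.mk R x.1, ?_⟩, ?_⟩
        left_inv := fun q => Subtype.ext (Subtype.ext (Quotient.out_eq q.1.1))
        right_inv := fun x => Subtype.ext (hout x.1 (hoddneg x.1 x.2.1).2) }
    · have h7 := (hfix' q).1
      have h8 : Neg C C₀ u (q.1.1.out.out) := q.1.2
      unfold TransferOrbit.Neg at h8
      rw [QuotientGroup.out_eq', hper1 _ h7, pow_one] at h8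
      refine ⟨?_, h8⟩
      rw [← smul_eq_iff, QuotientGroup.out_eq']
      exact h7
    · have h7 := (hoddneg x.1 x.2.1).1
      have h8 := (hnegiff x.1.out).2 h7
      rw [QuotientGroup.out_eq'] at h8
      exact h8
    · intro p
      apply Subtype.ext
      show p • Quotient.mk R x.1 = Quotient.mk R x.1
      have h7 := hsmul p x.1.out
      rw [QuotientGroup.out_eq'] at h7
      rw [h7]
      have h8 : ((p * x.1.out : G) : G ⧸ C) = (p : G) • x.1 := by
        conv_rhs => rw [← QuotientGroup.out_eq' x.1]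
        rfl
      rw [h8, x.2.2 p p.2]
  rw [← hcard]
  exact h6

variable {z : G} {M : Subgroup G}

/-- squares of elements of `C_G(d)` are in `M_d` -/
theorem inn_sq (hle : M ≤ Subgroup.centralizer ({z} : Set G))
    (h2 : M.relIndex (Subgroup.centralizer ({z} : Set G)) = 2) {d x : G}
    (hd : ∃ g : G, g * z * g⁻¹ = d) (hx : x * d = d * x) : Inn z M d (x * x) := by
  obtain ⟨g, hg⟩ := hd
  rw [inn_iff hle h2 hg]
  have e : g⁻¹ * (x * x) * g = (g⁻¹ * x * g) * (g⁻¹ * x * g) := by group
  have h3 := (comm_iff hg).2 hx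
  rw [e, mul_mem_iff hle h2 h3 h3]

/-- products of squares of elements of `C_G(d)` are in `M_d` -/
theorem inn_closure (hle : M ≤ Subgroup.centralizer ({z} : Set G))
    (h2 : M.relIndex (Subgroup.centralizer ({z} : Set G)) = 2) {d x : G}
    (hd : ∃ g : G, g * z * g⁻¹ = d) {X : Set G} (hX : ∀ w ∈ X, ∃ y : G, y * d = d * y ∧ y * y = w)
    (hx : x ∈ Subgroup.closure X) : Inn z M d x := by
  obtain ⟨g, hg⟩ := hd
  have h3 : Subgroup.closure X ≤ M.map (MulAut.conj g).toMonoidHom := by
    rw [Subgroup.closure_le]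
    intro w hw
    obtain ⟨y, hy, rfl⟩ := hX w hw
    have h4 := (inn_iff hle h2 hg).1 (inn_sq hle h2 ⟨g, hg⟩ hy)
    refine ⟨_, h4, ?_⟩
    show g * (g⁻¹ * (y * y) * g) * g⁻¹ = y * y
    group
  obtain ⟨y, hy, rfl⟩ := h3 hx
  rw [inn_iff hle h2 hg]
  show g⁻¹ * (g * y * g⁻¹) * g ∈ M
  have e : g⁻¹ * (g * y * g⁻¹) * g = y := by group
  rw [e]; exact hy

/-- PARITY for `u² ∈ {1, z}`, `P` generated by involutions. -/
theorem even_card2 [Finite G] (hG : ∀ H : Subgroup G, H.index ≠ 2) (hz : z * z = 1)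
    (hle : M ≤ Subgroup.centralizer ({z} : Set G))
    (h2 : M.relIndex (Subgroup.centralizer ({z} : Set G)) = 2) {u : G}
    (hu : u * u = 1 ∨ u * u = z) (S : Set G) (hS2 : ∀ p ∈ S, p * p = 1) (hSu : ∀ p ∈ S, p * u = u * p)
    (hP : IsPGroup 2 (Subgroup.closure S))
    (hC : ∀ x : G, x * z = z * x → (∀ p ∈ S, p * x = x * p) → x * u = u * x) :
    Even (Nat.card {d : G // Out z M d u ∧ ∀ p ∈ Subgroup.closure S, p * d = d * p}) := by
  classical
  set P := Subgroup.closure S with hPdef
  set C := Subgroup.centralizer ({z} : Set G) with hCdef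
  have hPu : ∀ p ∈ P, p * u = u * p := by
    intro p hp
    have h3 : P ≤ Subgroup.centralizer ({u} : Set G) := by
      rw [hPdef, Subgroup.closure_le]
      intro p hp
      exact Subgroup.mem_centralizer_singleton_iff.2 (hSu p hp)
    exact Subgroup.mem_centralizer_singleton_iff.1 (h3 hp)
  have hu4 : u ^ 4 = 1 := by
    rcases hu with h | h
    · rw [show (4 : ℕ) = 2 * 2 from rfl, pow_mul, pow_two u, h, one_pow]
    · rw [show (4 : ℕ) = 2 * 2 from rfl, pow_mul, pow_two u, h, pow_two, hz]
  have hsmul_pow : ∀ (j : ℕ) (x : G ⧸ C), (u • ·)^[j] x = u ^ j • x := fun j x => by rw [smul_iterate]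
  have key := even_card_orbit hG hle h2 u P hP hPu (by
    intro g hneg hp
    -- `S` fixes `gC` implies `P` fixes it
    have hSP : (∀ p ∈ S, g⁻¹ * p * g ∈ C) → ∀ p ∈ P, g⁻¹ * p * g ∈ C := by
      intro h p hpP
      have h3 : P ≤ MulAction.stabilizer G (g : G ⧸ C) := by
        rw [hPdef, Subgroup.closure_le]
        intro p hp
        exact (smul_eq_iff C p g).2 (h p hp)
      exact (smul_eq_iff C p g).1 (h3 hpP)
    have hper : u ^ Function.minimalPeriod (u • ·) (g : G ⧸ C) • (g : G ⧸ C) = (g : G ⧸ C) := by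
      have h7 := Function.iterate_minimalPeriod (f := (u • · : G ⧸ C → G ⧸ C)) (x := (g : G ⧸ C))
      rw [smul_iterate] at h7
      exact h7
    have hdvd : Function.minimalPeriod (u • ·) (g : G ⧸ C) ∣ 4 := by
      apply Function.IsPeriodicPt.minimalPeriod_dvd
      show (u • ·)^[4] (g : G ⧸ C) = (g : G ⧸ C)
      rw [smul_iterate, hu4]
      exact one_smul _ _
    -- if `u` fixes `gC` we are done
    have done : g⁻¹ * u * g ∈ C → g⁻¹ * u * g ∈ C ∧ ∀ p ∈ P, g⁻¹ * p * g ∈ C := by
      intro h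
      refine ⟨h, fun p hpP => ?_⟩
      obtain ⟨i, hi⟩ := hp p hpP
      have e : g⁻¹ * p * g = ((g⁻¹ * u * g) ^ i)⁻¹ * (g⁻¹ * (u ^ i * p) * g) := by
        have e1 : (g⁻¹ * u * g) ^ i = g⁻¹ * u ^ i * g := by
          have := conj_pow (i := i) (a := g⁻¹) (b := u)
          rwa [inv_inv] at this
        rw [e1]; group
      rw [e]
      exact C.mul_mem (C.inv_mem (C.pow_mem h i)) hi
    unfold TransferOrbit.Neg at hneg
    generalize hm : Function.minimalPeriod (u • ·) (g : G ⧸ C) = m at hneg hper hdvd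
    have hm4 : m = 1 ∨ m = 2 ∨ m = 4 := by
      have h7 : m ≤ 4 := Nat.le_of_dvd (by norm_num) hdvd
      interval_cases m
      · exact absurd hdvd (by norm_num)
      · exact Or.inl rfl
      · exact Or.inr (Or.inl rfl)
      · exact absurd hdvd (by norm_num)
      · exact Or.inr (Or.inr rfl)
    rcases hm4 with rfl | rfl | rfl
    · rw [pow_one] at hper
      exact done ((smul_eq_iff C u g).1 hper)
    · rcases hu with hu | hu
      · exfalso
        apply hneg
        rw [pow_two, hu, mul_one, inv_mul_cancel]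
        exact M.one_mem
      · apply done
        rw [pow_two, hu] at hneg hper
        have hzg : g⁻¹ * z * g ∈ C := (smul_eq_iff C z g).1 hper
        -- all elements of `S` fix `gC`
        have hS : ∀ p ∈ S, g⁻¹ * p * g ∈ C := by
          intro p hpS
          obtain ⟨i, hi⟩ := hp p (Subgroup.subset_closure hpS)
          have hup : ∀ j : ℕ, (g⁻¹ * z * g) ^ j * (g⁻¹ * p * g) = g⁻¹ * (u ^ (2 * j) * p) * g := by
            intro j
            have e1 : (g⁻¹ * z * g) ^ j = g⁻¹ * z ^ j * g := by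
              have := conj_pow (i := j) (a := g⁻¹) (b := z)
              rwa [inv_inv] at this
            rw [e1, pow_mul, pow_two, hu]; group
          rcases Nat.even_or_odd' i with ⟨j, rfl | rfl⟩
          · rw [← hup] at hi
            exact (C.mul_mem_cancel_left (C.pow_mem hzg j)).1 hi
          · exfalso
            have h7 : g⁻¹ * (u * p) * g ∈ C := by
              have e1 : (g⁻¹ * z * g) ^ j = g⁻¹ * z ^ j * g := by
                have := conj_pow (i := j) (a := g⁻¹) (b := z)
                rwa [inv_inv] at this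
              have e2 : g⁻¹ * (u ^ (2 * j + 1) * p) * g = (g⁻¹ * z * g) ^ j * (g⁻¹ * (u * p) * g) := by
                rw [e1, pow_succ, pow_mul, pow_two, hu]; group
              rw [e2] at hi
              exact (C.mul_mem_cancel_left (C.pow_mem hzg j)).1 hi
            apply hneg
            have h8 : (u * p) * (u * p) = z := by
              calc (u * p) * (u * p) = u * (p * u) * p := by group
                _ = u * (u * p) * p := by rw [hSu p hpS]
                _ = (u * u) * (p * p) := by group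
                _ = z := by rw [hu, hS2 p hpS, mul_one]
            have e3 : g⁻¹ * z * g = (g⁻¹ * (u * p) * g) * (g⁻¹ * (u * p) * g) := by
              rw [← h8]; group
            rw [e3]
            have h9 := Subgroup.mem_centralizer_singleton_iff.1 h7
            rw [mul_mem_iff hle h2 h9 h9]
        -- hence `d` commutes with `u`
        have hcomm : ∀ p : G, g⁻¹ * p * g ∈ C → p * (g * z * g⁻¹) = (g * z * g⁻¹) * p := by
          intro p hp
          exact (comm_iff rfl).1 (Subgroup.mem_centralizer_singleton_iff.1 hp)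
        have h7 := hC (g * z * g⁻¹) (hcomm z hzg).symm (fun p hpS => hcomm p (hS p hpS))
        exact Subgroup.mem_centralizer_singleton_iff.2 ((comm_iff rfl).2 h7.symm)
    · exfalso
      apply hneg
      rw [hu4, mul_one, inv_mul_cancel]
      exact M.one_mem)
  convert key using 1
  symm
  have hkey : ∀ x : G ⧸ C, ∀ g : G, (g : G ⧸ C) = x → x.out * z * x.out⁻¹ = g * z * g⁻¹ := by
    intro x g hg
    have h1 : x.out⁻¹ * g ∈ C := by
      rw [← QuotientGroup.eq, QuotientGroup.out_eq', hg]
    have h4 := Subgroup.mem_centralizer_singleton_iff.1 h1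
    calc x.out * z * x.out⁻¹ = x.out * (z * (x.out⁻¹ * g)) * g⁻¹ := by group
      _ = x.out * ((x.out⁻¹ * g) * z) * g⁻¹ := by rw [h4]
      _ = _ := by group
  have hiff : ∀ (P : Subgroup G) (g : G), (∀ p ∈ P, p • (g : G ⧸ C) = g) ↔
      ∀ p ∈ P, p * (g * z * g⁻¹) = (g * z * g⁻¹) * p := by
    intro P g
    refine forall₂_congr fun p _ => ?_
    rw [smul_eq_iff, Subgroup.mem_centralizer_singleton_iff]
    exact comm_iff rfl
  apply Nat.card_congr
  refine Equiv.ofBijective (fun x => ⟨x.1.out * z * x.1.out⁻¹, ?_, ?_⟩) ⟨?_, ?_⟩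
  · exact ⟨x.1.out, rfl, Subgroup.mem_centralizer_singleton_iff.1 x.2.1.1, x.2.1.2⟩
  · rw [← hiff, QuotientGroup.out_eq']
    exact x.2.2
  · intro x y hxy
    have h4 : x.1.out * z * x.1.out⁻¹ = y.1.out * z * y.1.out⁻¹ := congrArg Subtype.val hxy
    apply Subtype.ext
    rw [← QuotientGroup.out_eq' x.1, ← QuotientGroup.out_eq' y.1, QuotientGroup.eq,
      Subgroup.mem_centralizer_singleton_iff]
    calc x.1.out⁻¹ * y.1.out * z = x.1.out⁻¹ * (y.1.out * z * y.1.out⁻¹) * y.1.out := by group
      _ = x.1.out⁻¹ * (x.1.out * z * x.1.out⁻¹) * y.1.out := by rw [h4]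
      _ = _ := by group
  · rintro ⟨d, ⟨g, hg, hgC, hgM⟩, hd⟩
    refine ⟨⟨(g : G ⧸ C), (odd1_iff hle h2 u g).2
      ⟨Subgroup.mem_centralizer_singleton_iff.2 hgC, hgM⟩, ?_⟩, ?_⟩
    · rw [hiff, hg]
      exact hd
    · apply Subtype.ext
      exact (hkey _ g rfl).trans hg

/-- **The fusion theorem.** `r`, `s` are the canonical lifts of the long and of the short highest root involution;
`S` a set of involutions generating a 2-group, which centralises `u`, `z`, `r`, `s`, and whose centraliser is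
`⟨z, u, r, s⟩`. -/
theorem exists_conj2 [Finite G] (hG : ∀ H : Subgroup G, H.index ≠ 2) (hz : z * z = 1) (hz1 : z ≠ 1)
    (hle : M ≤ Subgroup.centralizer ({z} : Set G))
    (h2 : M.relIndex (Subgroup.centralizer ({z} : Set G)) = 2) (hzM : z ∈ M) {u r s c n : G}
    (huz : u * z = z * u) (huM : u ∉ M) (hu : u * u = 1 ∨ u * u = z)
    (hrM : r ∈ M) (hsM : s ∈ M) (hr : r * r = 1) (hr1 : r ≠ 1) (hs : s * s = 1) (hs1 : s ≠ 1)
    (hrs : r * s = s * r) (hru : r * u = u * r) (hsu : s * u = u * s)
    (S : Set G) (hS2 : ∀ p ∈ S, p * p = 1) (hP : IsPGroup 2 (Subgroup.closure S))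
    (hSu : ∀ p ∈ S, p * u = u * p) (hSz : ∀ p ∈ S, p * z = z * p)
    (hSr : ∀ p ∈ S, p * r = r * p) (hSs : ∀ p ∈ S, p * s = s * p)
    (hCP : ∀ x : G, (∀ p ∈ S, p * x = x * p) → ∃ m a : G, (m = 1 ∨ m = z) ∧
      (a = 1 ∨ a = r ∨ a = s ∨ a = r * s) ∧ (x = m * a ∨ x = m * u * a))
    (hcz : c * z = z * c) (hcr : c * r = r * c) (hcs : c * s = s * c) (hcu : c * u * c⁻¹ = u * s)
    (hnz : n * z = z * n) (hns : n * s * n⁻¹ = r * s)
    (h4 : u * (n⁻¹ * u * n) ∈ Subgroup.closure {w : G | ∃ y : G, y * z = z * y ∧ y * s = s * y ∧ y * y = w})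
    (h5 : s ∈ Subgroup.closure {w : G | ∃ y : G, y * z = z * y ∧ y * u = u * y ∧ y * r = r * y ∧ y * y = w}) :
    ∃ g : G, g * z * g⁻¹ = r ∨ g * z * g⁻¹ = z * r := by
  classical
  by_contra hno
  push_neg at hno
  have hrz : r * z = z * r := Subgroup.mem_centralizer_singleton_iff.1 (hle hrM)
  have hsz : s * z = z * s := Subgroup.mem_centralizer_singleton_iff.1 (hle hsM)
  have hzz : z * z = z * z := rfl
  set P := Subgroup.closure S with hPdef
  have hext : ∀ y : G, (∀ p ∈ S, p * y = y * p) → ∀ p ∈ P, p * y = y * p := by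
    intro y hy p hp
    have h3 : P ≤ Subgroup.centralizer ({y} : Set G) := by
      rw [hPdef, Subgroup.closure_le]
      intro p hp
      exact Subgroup.mem_centralizer_singleton_iff.2 (hy p hp)
    exact Subgroup.mem_centralizer_singleton_iff.1 (h3 hp)
  have hPu := hext u hSu
  have hPz := hext z hSz
  have hPr := hext r hSr
  have hPs := hext s hSs
  -- the set `X` has even cardinality
  have heven : Even (Nat.card {d : G // Out z M d u ∧ ∀ p ∈ P, p * d = d * p}) := by
    refine even_card2 hG hz hle h2 hu S hS2 hSu hP ?_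
    intro x _ hx
    obtain ⟨m, a, hm, ha, hx⟩ := hCP x hx
    have e1 : m * u = u * m := by
      rcases hm with h | h
      · rw [h, one_mul, mul_one]
      · rw [h, huz]
    have e2 : a * u = u * a := by
      rcases ha with h | h | h | h
      · rw [h, one_mul, mul_one]
      · rw [h, hru]
      · rw [h, hsu]
      · rw [h, mul_assoc, hsu, ← mul_assoc, hru, mul_assoc]
    rcases hx with rfl | rfl
    · rw [mul_assoc, e2, ← mul_assoc, e1, mul_assoc]
    · calc m * u * a * u = m * u * (a * u) := by group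
        _ = (m * u) * u * a := by rw [e2]; group
        _ = (u * m) * u * a := by rw [e1]
        _ = u * (m * u * a) := by group
  -- conjugates of `z` are involutions
  have hinv : ∀ d, (∃ g : G, g * z * g⁻¹ = d) → d * d = 1 ∧ d ≠ 1 := by
    rintro d ⟨g, rfl⟩
    constructor
    · calc g * z * g⁻¹ * (g * z * g⁻¹) = g * (z * z) * g⁻¹ := by group
        _ = 1 := by rw [hz]; group
    · intro h
      apply hz1
      calc z = g⁻¹ * (g * z * g⁻¹) * g := by group
        _ = 1 := by rw [h]; group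
  -- the classification of the elements of `X`
  have hclass : ∀ d, Out z M d u → (∀ p ∈ P, p * d = d * p) → d ≠ z →
      (∃ m, (m = 1 ∨ m = z) ∧ (d = m * s ∨ d = m * (r * s))) ∨
      (∃ m a, (m = 1 ∨ m = z) ∧ (a = 1 ∨ a = r ∨ a = s ∨ a = r * s) ∧ d = m * u * a) := by
    intro d hd hdP hdz
    obtain ⟨g, hg⟩ := hd.isConj
    have hne := (hinv d ⟨g, hg⟩).2
    obtain ⟨m, a, hm, ha, rfl | rfl⟩ := hCP d (fun p hp => hdP p (Subgroup.subset_closure hp))
    · left
      refine ⟨m, hm, ?_⟩
      rcases ha with rfl | rfl | rfl | rfl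
      · rcases hm with rfl | rfl
        · exact absurd (mul_one 1) hne
        · exact absurd (mul_one _) hdz
      · rcases hm with rfl | rfl
        · exact absurd (hg.trans (one_mul _)) (hno g).1
        · exact absurd hg (hno g).2
      · exact Or.inl rfl
      · exact Or.inr rfl
    · right
      exact ⟨m, a, hm, ha, rfl⟩
  have hmM : ∀ m, (m = 1 ∨ m = z) → m ∈ M := by
    rintro m (rfl | rfl)
    · exact M.one_mem
    · exact hzM
  have hmc : ∀ m, (m = 1 ∨ m = z) → ∀ w : G, w * z = z * w → w * m = m * w := by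
    intro m hm w hw
    rcases hm with h | h
    · rw [h, mul_one, one_mul]
    · rw [h, hw]
  have hac : ∀ a, (a = 1 ∨ a = r ∨ a = s ∨ a = r * s) → ∀ w : G, w * r = r * w → w * s = s * w →
      w * a = a * w := by
    intro a ha w hw1 hw2
    rcases ha with h | h | h | h
    · rw [h, mul_one, one_mul]
    · rw [h, hw1]
    · rw [h, hw2]
    · rw [h, ← mul_assoc, hw1, mul_assoc, hw2, mul_assoc]
  have haM : ∀ a, (a = 1 ∨ a = r ∨ a = s ∨ a = r * s) → a ∈ M := by
    rintro a (rfl | rfl | rfl | rfl)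
    · exact M.one_mem
    · exact hrM
    · exact hsM
    · exact M.mul_mem hrM hsM
  -- inner elements
  have hA : ∀ m, (m = 1 ∨ m = z) → (∃ g : G, g * z * g⁻¹ = m * s) →
      (Out z M (m * s) u ↔ Out z M (m * (r * s)) u) := by
    intro m hm hg
    have hms : ∀ w : G, w * z = z * w → w * s = s * w → w * (m * s) = (m * s) * w := by
      intro w hwz hws
      rw [← mul_assoc, hmc m hm w hwz, mul_assoc, hws, mul_assoc]
    set y := n⁻¹ * u * n with hy
    have hnz' : n⁻¹ * z = z * n⁻¹ := by
      rw [inv_mul_eq_iff_eq_mul, ← mul_assoc, hnz, mul_assoc, mul_inv_cancel, mul_one]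
    have hyz : y * z = z * y := by
      calc n⁻¹ * u * n * z = n⁻¹ * u * (n * z) := by group
        _ = n⁻¹ * (u * z) * n := by rw [hnz]; group
        _ = (n⁻¹ * z) * u * n := by rw [huz]; group
        _ = z * n⁻¹ * u * n := by rw [hnz']
        _ = _ := by rw [hy]; group
    have hyM : y ∉ M := by
      rw [hy, normal_of_relIndex hle h2 (Subgroup.mem_centralizer_singleton_iff.2 hnz)]
      exact huM
    have hys : y * s = s * y := by
      have h6 : u * (r * s) = (r * s) * u := by
        rw [← mul_assoc, ← hru, mul_assoc, ← hsu, mul_assoc]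
      rw [← hns] at h6
      calc n⁻¹ * u * n * s = n⁻¹ * (u * (n * s * n⁻¹)) * n := by group
        _ = n⁻¹ * ((n * s * n⁻¹) * u) * n := by rw [h6]
        _ = _ := by rw [hy]; group
    have h7 : Inn z M (m * s) (u * y) := by
      refine inn_closure hle h2 hg ?_ h4
      rintro w ⟨x, hx1, hx2, hx3⟩
      exact ⟨x, hms x hx1 hx2, hx3⟩
    have hcu1 := hms u huz hsu.symm
    have hcy1 := hms y hyz hys
    have h8 := out_mul hle h2 hg hcu1 hcy1
    have h9 : ¬ Out z M (m * s) (u * y) := by
      rw [out_iff_not hle h2 hg (by rw [mul_assoc, hcy1, ← mul_assoc, hcu1, mul_assoc])]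
      exact not_not.2 h7
    have h10 : Out z M (m * s) y ↔ Out z M (m * (r * s)) u := by
      rw [← out_conj (h := n)]
      have e1 : n * (m * s) * n⁻¹ = m * (r * s) := by
        rw [← hns]
        calc n * (m * s) * n⁻¹ = (n * m) * s * n⁻¹ := by group
          _ = m * n * s * n⁻¹ := by rw [hmc m hm n hnz]
          _ = _ := by group
      have e2 : n * y * n⁻¹ = u := by rw [hy]; group
      rw [e1, e2]
    tauto
  -- outer elements
  have hB : ∀ m a, (m = 1 ∨ m = z) → (a = 1 ∨ a = r ∨ a = s ∨ a = r * s) →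
      c * (m * u * a) * c⁻¹ = m * u * a * s := by
    intro m a hm ha
    have e1 : c * m * c⁻¹ = m := by rw [hmc m hm c hcz, mul_inv_cancel_right]
    have e2 : c * a * c⁻¹ = a := by rw [hac a ha c hcr hcs, mul_inv_cancel_right]
    have e3 : s * a = a * s := hac a ha s hrs.symm rfl
    calc c * (m * u * a) * c⁻¹ = (c * m * c⁻¹) * (c * u * c⁻¹) * (c * a * c⁻¹) := by group
      _ = m * (u * s) * a := by rw [e1, e2, hcu]
      _ = m * u * (s * a) := by group
      _ = _ := by rw [e3, ← mul_assoc]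
  have hC1 : ∀ m a, (m = 1 ∨ m = z) → (a = 1 ∨ a = r) → (∃ g : G, g * z * g⁻¹ = m * u * a) →
      Inn z M (m * u * a) s := by
    intro m a hm ha hg
    refine inn_closure hle h2 hg ?_ h5
    rintro w ⟨y, hyz, hyu, hyr, hyw⟩
    refine ⟨y, ?_, hyw⟩
    have e1 : y * m = m * y := hmc m hm y hyz
    have e2 : y * a = a * y := by
      rcases ha with h | h
      · rw [h, one_mul, mul_one]
      · rw [h, hyr]
    rw [← mul_assoc, ← mul_assoc, e1, mul_assoc m y u, hyu, mul_assoc m (u * y) a, mul_assoc u y a, e2]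
    group
  have hC : ∀ m a, (m = 1 ∨ m = z) → (a = 1 ∨ a = r ∨ a = s ∨ a = r * s) →
      (∃ g : G, g * z * g⁻¹ = m * u * a) → ¬ Out z M (m * u * a) s := by
    intro m a hm ha hg hO
    have hred : ∀ a', (a' = 1 ∨ a' = r) → a = a' * s → False := by
      intro a' ha' haa
      have ha4 : a' = 1 ∨ a' = r ∨ a' = s ∨ a' = r * s := by tauto
      have e1 := hB m a' hm ha4
      have e2 : m * u * a' * s = m * u * a := by rw [haa]; group
      rw [e2] at e1
      have e3 : c * s * c⁻¹ = s := by rw [hcs, mul_inv_cancel_right]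
      rw [← e1, ← e3, out_conj] at hO
      have hg' : ∃ g : G, g * z * g⁻¹ = m * u * a' := by
        obtain ⟨g, hg⟩ := hg
        refine ⟨c⁻¹ * g, ?_⟩
        calc c⁻¹ * g * z * (c⁻¹ * g)⁻¹ = c⁻¹ * (g * z * g⁻¹) * c := by group
          _ = c⁻¹ * (c * (m * u * a') * c⁻¹) * c := by rw [hg, e1]
          _ = _ := by group
      rw [out_iff_not hle h2 hg' hO.comm] at hO
      exact hO (hC1 m a' hm ha' hg')
    rcases ha with ha | ha | ha | ha
    · rw [out_iff_not hle h2 hg hO.comm] at hO
      exact hO (hC1 m a hm (Or.inl ha) hg)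
    · rw [out_iff_not hle h2 hg hO.comm] at hO
      exact hO (hC1 m a hm (Or.inr ha) hg)
    · exact hred 1 (Or.inl rfl) (by rw [ha, one_mul])
    · exact hred r (Or.inr rfl) ha
  have hcu' : c⁻¹ * u * c = u * s := by
    have h6 : c⁻¹ * (c * u * c⁻¹) * c = u := by group
    have h7 : c⁻¹ * (c * u * c⁻¹) * c = (c⁻¹ * u * c) * s := by
      rw [hcu]
      calc c⁻¹ * (u * s) * c = c⁻¹ * u * (s * c) := by group
        _ = c⁻¹ * u * (c * s) := by rw [hcs]
        _ = _ := by group
    have h8 : (c⁻¹ * u * c) * s = u := h7.symm.trans h6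
    calc c⁻¹ * u * c = (c⁻¹ * u * c) * s * s := by rw [mul_assoc _ s s, hs, mul_one]
      _ = _ := by rw [h8]
  -- the fixed point free involution
  have hstep : ∀ d, Out z M d u → (∀ p ∈ P, p * d = d * p) → d ≠ z →
      (d ∈ M ∧ Out z M (d * r) u ∧ d * r ≠ z) ∨ (d ∉ M ∧ Out z M (d * s) u ∧ d * s ∉ M) := by
    intro d hd hdP hdz
    rcases hclass d hd hdP hdz with ⟨m, hm, hms⟩ | ⟨m, a, hm, ha, rfl⟩
    · left
      have hdr : d * r ≠ z := by
        intro h
        obtain ⟨g, hg⟩ := hd.isConj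
        apply (hno g).2
        rw [hg]
        calc d = d * r * r := by rw [mul_assoc, hr, mul_one]
          _ = _ := by rw [h]
      rcases hms with rfl | rfl
      · refine ⟨M.mul_mem (hmM m hm) hsM, ?_, hdr⟩
        have e : m * s * r = m * (r * s) := by rw [mul_assoc, hrs]
        rw [e]
        exact (hA m hm hd.isConj).1 hd
      · refine ⟨M.mul_mem (hmM m hm) (M.mul_mem hrM hsM), ?_, hdr⟩
        have e : m * (r * s) * r = m * s := by rw [hrs, mul_assoc, mul_assoc, hr, mul_one]
        rw [e]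
        have hg' : ∃ g : G, g * z * g⁻¹ = m * s := by
          obtain ⟨g, hg⟩ := hd.isConj
          refine ⟨n⁻¹ * g, ?_⟩
          calc n⁻¹ * g * z * (n⁻¹ * g)⁻¹ = n⁻¹ * (g * z * g⁻¹) * n := by group
            _ = n⁻¹ * (m * (n * s * n⁻¹)) * n := by rw [hg, hns]
            _ = n⁻¹ * (m * n) * s := by group
            _ = n⁻¹ * (n * m) * s := by rw [hmc m hm n hnz]
            _ = m * s := by group
        exact (hA m hm hg').2 hd
    · right
      have hdM : ∀ b ∈ M, m * u * b ∉ M := by
        intro b hb h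
        apply huM
        have e : u = m⁻¹ * (m * u * b) * b⁻¹ := by group
        rw [e]
        exact M.mul_mem (M.mul_mem (M.inv_mem (hmM m hm)) h) (M.inv_mem hb)
      refine ⟨hdM a (haM a ha), ?_, ?_⟩
      · rw [← hB m a hm ha]
        have e : u = c * (c⁻¹ * u * c) * c⁻¹ := by group
        rw [e, out_conj, ← e, hcu']
        have h6 : s * (m * u * a) = (m * u * a) * s := by
          have e1 : s * m = m * s := hmc m hm s hsz
          have e2 : s * a = a * s := hac a ha s hrs.symm rfl
          rw [← mul_assoc, ← mul_assoc, e1, mul_assoc m s u, hsu, mul_assoc m (u * s) a, mul_assoc u s a, e2]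
          group
        rw [out_mul hle h2 hd.isConj hd.comm h6]
        exact ⟨fun _ => hC m a hm ha hd.isConj, fun _ => hd⟩
      · rw [mul_assoc (m * u) a s]
        exact hdM _ (M.mul_mem (haM a ha) hsM)
  have hz0 : Out z M z u ∧ ∀ p ∈ P, p * z = z * p := by
    refine ⟨⟨1, by group, ?_, ?_⟩, hPz⟩
    · rw [inv_one, one_mul, mul_one]; exact huz
    · rw [inv_one, one_mul, mul_one]; exact huM
  have hfX : ∀ x : {d : G // Out z M d u ∧ ∀ p ∈ P, p * d = d * p}, x.1 ≠ z →
      Out z M (if x.1 ∈ M then x.1 * r else x.1 * s) u ∧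
        ∀ p ∈ P, p * (if x.1 ∈ M then x.1 * r else x.1 * s) = (if x.1 ∈ M then x.1 * r else x.1 * s) * p := by
    intro x hx
    rcases hstep x.1 x.2.1 x.2.2 hx with ⟨h6, h7, h8⟩ | ⟨h6, h7, h8⟩
    · rw [if_pos h6]
      exact ⟨h7, fun p hp => by rw [← mul_assoc, x.2.2 p hp, mul_assoc, hPr p hp, mul_assoc]⟩
    · rw [if_neg h6]
      exact ⟨h7, fun p hp => by rw [← mul_assoc, x.2.2 p hp, mul_assoc, hPs p hp, mul_assoc]⟩
  let f : {d : G // Out z M d u ∧ ∀ p ∈ P, p * d = d * p} → {d : G // Out z M d u ∧ ∀ p ∈ P, p * d = d * p} :=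
    fun x => if hx : x.1 ≠ z then ⟨if x.1 ∈ M then x.1 * r else x.1 * s, hfX x hx⟩ else x
  have hf : ∀ x, x.1 ≠ z → (f x).1 = if x.1 ∈ M then x.1 * r else x.1 * s := by
    intro x hx
    show (if hx : x.1 ≠ z then (⟨if x.1 ∈ M then x.1 * r else x.1 * s, hfX x hx⟩ :
      {d : G // Out z M d u ∧ ∀ p ∈ P, p * d = d * p}) else x).1 = _
    rw [dif_pos hx]
  have hval : ∀ x : {d : G // Out z M d u ∧ ∀ p ∈ P, p * d = d * p}, x ≠ ⟨z, hz0⟩ → x.1 ≠ z :=
    fun x hx h => hx (Subtype.ext h)
  apply odd_of_involution (⟨z, hz0⟩ : {d : G // Out z M d u ∧ ∀ p ∈ P, p * d = d * p}) f ?_ ?_ ?_ heven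
  · intro x hx h
    have h1 := hf x (hval x hx)
    rw [h] at h1
    rcases hstep x.1 x.2.1 x.2.2 (hval x hx) with ⟨h6, h7, h8⟩ | ⟨h6, h7, h8⟩
    · rw [if_pos h6] at h1
      exact h8 h1.symm
    · rw [if_neg h6] at h1
      rw [← h1] at h8
      exact h8 hzM
  · intro x hx
    have h1 := hf x (hval x hx)
    apply Subtype.ext
    rcases hstep x.1 x.2.1 x.2.2 (hval x hx) with ⟨h6, h7, h8⟩ | ⟨h6, h7, h8⟩
    · rw [if_pos h6] at h1
      have h9 : (f x).1 ≠ z := by rw [h1]; exact h8
      rw [hf (f x) h9, h1, if_pos (M.mul_mem h6 hrM), mul_assoc, hr, mul_one]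
    · rw [if_neg h6] at h1
      have h9 : (f x).1 ≠ z := by
        rw [h1]; intro h; rw [h] at h8; exact h8 hzM
      rw [hf (f x) h9, h1, if_neg h8, mul_assoc, hs, mul_one]
  · intro x hx h
    have h1 := hf x (hval x hx)
    rw [h] at h1
    by_cases h6 : x.1 ∈ M
    · rw [if_pos h6] at h1
      exact hr1 (mul_eq_left.1 h1.symm)
    · rw [if_neg h6] at h1
      exact hs1 (mul_eq_left.1 h1.symm)

end Cfsg.Agent.BabyU.FusParity2
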