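import Cfsg.Agent.BabyU.FusCfg
import Cfsg.Agent.BabyU.FusParity2

/-!
# The 2-group for the parity argument, and the first fusion theorem (U-B P3)

`Gen K L S` : `L` a set of `σ`-fixed roots, `S` a set of roots `c` such that `c`, `σ c` is a commuting pair; the elements
`y ∈ L` and `c * σ c` generate a 2-group whose centraliser in `E` is `{1, r, a a', r a a'}`.
-/

set_option autoImplicit false

namespace Cfsg.Agent.BabyU.FusGen

open Lab FusCfg

/-- Generators of the 2-group. -/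
structure Gen {E : Type*} [Group E] {T : Set E} {σ : E →* E} (K : Cfg E T σ) (L S : Set E) : Prop where
  l_mem : ∀ y ∈ L, y ∈ T
  l_σ : ∀ y ∈ L, σ y = y
  l_r : ∀ y ∈ L, y * K.r = K.r * y
  l_s : ∀ y ∈ L, y * (K.a * K.as_) = (K.a * K.as_) * y
  s_mem : ∀ c ∈ S, c ∈ T
  s_σσ : ∀ c ∈ S, σ (σ c) = c
  s_comm : ∀ c ∈ S, c * σ c = σ c * c
  s_r : ∀ c ∈ S, (c * σ c) * K.r = K.r * (c * σ c)
  s_a : ∀ c ∈ S, (c * σ c) * K.a = K.a * (c * σ c) ∨ (c * σ c) * K.a = K.as_ * (c * σ c) ∨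
    ∃ ρ ∈ T, σ ρ = ρ ∧ (c * σ c) * K.a = (K.a * ρ) * (c * σ c)
  two : IsPGroup 2 (Subgroup.closure (L ∪ (fun c => c * σ c) '' S))

/-- The centraliser of the 2-group. -/
def Cent {E : Type*} [Group E] {T : Set E} {σ : E →* E} (K : Cfg E T σ) (L S : Set E) : Prop :=
  ∀ x : E, (∀ y ∈ L, y * x = x * y) → (∀ c ∈ S, (c * σ c) * x = x * (c * σ c)) →
    x = 1 ∨ x = K.r ∨ x = K.a * K.as_ ∨ x = K.r * (K.a * K.as_)

section transport

variable {E E' : Type*} [Group E] [Group E'] {T : Set E} {T' : Set E'} {σ : E →* E} {σ' : E' →* E'}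

theorem Gen.map {K : Cfg E T σ} {L S : Set E} (h : Gen K L S) (f : E →* E') (hf : Function.Injective f)
    (hT : ∀ x ∈ T, f x ∈ T') (hσ : ∀ x, f (σ x) = σ' (f x)) :
    Gen (K.map f hf hT hσ) (f '' L) (f '' S) where
  l_mem := by rintro _ ⟨y, hy, rfl⟩; exact hT _ (h.l_mem y hy)
  l_σ := by rintro _ ⟨y, hy, rfl⟩; rw [← hσ, h.l_σ y hy]
  l_r := by
    rintro _ ⟨y, hy, rfl⟩
    show f y * f K.r = f K.r * f y
    rw [← map_mul, ← map_mul, h.l_r y hy]
  l_s := by
    rintro _ ⟨y, hy, rfl⟩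
    show f y * (f K.a * f K.as_) = (f K.a * f K.as_) * f y
    rw [← map_mul, ← map_mul, ← map_mul, h.l_s y hy]
  s_mem := by rintro _ ⟨y, hy, rfl⟩; exact hT _ (h.s_mem y hy)
  s_σσ := by rintro _ ⟨y, hy, rfl⟩; rw [← hσ, ← hσ, h.s_σσ y hy]
  s_comm := by rintro _ ⟨y, hy, rfl⟩; rw [← hσ, ← map_mul, ← map_mul, h.s_comm y hy]
  s_r := by
    rintro _ ⟨y, hy, rfl⟩
    show f y * σ' (f y) * f K.r = f K.r * (f y * σ' (f y))
    rw [← hσ, ← map_mul, ← map_mul, ← map_mul, h.s_r y hy]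
  s_a := by
    rintro _ ⟨y, hy, rfl⟩
    show f y * σ' (f y) * f K.a = f K.a * (f y * σ' (f y)) ∨ f y * σ' (f y) * f K.a = f K.as_ * (f y * σ' (f y)) ∨
      ∃ ρ ∈ T', σ' ρ = ρ ∧ f y * σ' (f y) * f K.a = (f K.a * ρ) * (f y * σ' (f y))
    rw [← hσ, ← map_mul, ← map_mul, ← map_mul, ← map_mul]
    rcases h.s_a y hy with h1 | h1 | ⟨ρ, hρ, h2, h1⟩
    · exact Or.inl (by rw [h1])
    · exact Or.inr (Or.inl (by rw [h1]))
    · refine Or.inr (Or.inr ⟨f ρ, hT _ hρ, by rw [← hσ, h2], ?_⟩)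
      rw [h1, ← map_mul, ← map_mul]
  two := by
    have e : f '' L ∪ (fun c => c * σ' c) '' (f '' S) = f '' (L ∪ (fun c => c * σ c) '' S) := by
      rw [Set.image_union, Set.image_image, Set.image_image]
      congr 1
      apply Set.image_congr
      intro c _
      rw [← hσ, ← map_mul]
    rw [e, ← MonoidHom.map_closure]
    exact h.two.map f

theorem Cent.map {K : Cfg E T σ} {L S : Set E} (h : Cent K L S) (f : E ≃* E') (hT : ∀ x ∈ T, f x ∈ T')
    (hσ : ∀ x, f (σ x) = σ' (f x)) :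
    Cent (K.map f.toMonoidHom f.injective hT hσ) (f '' L) (f '' S) := by
  intro x h1 h2
  obtain ⟨x, rfl⟩ := f.surjective x
  have h3 := h x (fun y hy => f.injective (by
    rw [map_mul, map_mul]; exact h1 _ ⟨y, hy, rfl⟩)) (fun c hc => f.injective (by
    have h4 := h2 _ ⟨c, hc, rfl⟩
    rw [map_mul, map_mul f x, map_mul, hσ]
    exact h4))
  show f x = 1 ∨ f x = f K.r ∨ f x = f K.a * f K.as_ ∨ f x = f K.r * (f K.a * f K.as_)
  rcases h3 with h3 | h3 | h3 | h3
  · exact Or.inl (by rw [h3, map_one])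
  · exact Or.inr (Or.inl (by rw [h3]))
  · exact Or.inr (Or.inr (Or.inl (by rw [h3, map_mul])))
  · exact Or.inr (Or.inr (Or.inr (by rw [h3, map_mul, map_mul])))

end transport

section lifts

variable {M E : Type*} [Group M] [Group E] {π : M →* E} {t : M} {T : Set E} {σ : E →* E}

/-- the lift of `c * σ c` -/
noncomputable def pr (π : M →* E) (T : Set E) (σ : E →* E) (c : E) : M := w π T c * w π T (σ c)

theorem map_pr (C : Cover π t) (R : Roots E T) (hσ : ∀ r ∈ T, σ r ∈ T) {c : E} (hc : c ∈ T) :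
    π (pr π T σ c) = c * σ c := by
  unfold pr
  rw [map_mul, map_w C R hc, map_w C R (hσ _ hc)]

theorem pr_sq (C : Cover π t) (R : Roots E T) (hσ : ∀ r ∈ T, σ r ∈ T) {c : E} (hc : c ∈ T)
    (h : c * σ c = σ c * c) : pr π T σ c * pr π T σ c = 1 := by
  unfold pr
  have e1 := w_comm C R hc (hσ _ hc) h
  calc w π T c * w π T (σ c) * (w π T c * w π T (σ c))
      = w π T c * (w π T (σ c) * w π T c) * w π T (σ c) := by group
    _ = (w π T c * w π T c) * (w π T (σ c) * w π T (σ c)) := by rw [← e1]; group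
    _ = 1 := by rw [w_sq C R hc, w_sq C R (hσ _ hc), mul_one]

variable {K : Cfg E T σ} {L S : Set E}

theorem l_sh (C : Cover π t) (R : Roots E T) (h : Gen K L S) {y : E} (hy : y ∈ L) :
    w π T y * sh π K = sh π K * w π T y := by
  apply commute_lift C R (by rw [map_w C R (h.l_mem y hy)]; exact h.l_mem y hy)
  rw [map_w C R (h.l_mem y hy), map_sh K C R]
  exact h.l_s y hy

theorem s_r (C : Cover π t) (R : Roots E T) (hσ : ∀ r ∈ T, σ r ∈ T) (h : Gen K L S) {c : E} (hc : c ∈ S) :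
    pr π T σ c * w π T K.r = w π T K.r * pr π T σ c := by
  symm
  apply commute_lift C R (by rw [map_w C R K.m_r]; exact K.m_r)
  rw [map_w C R K.m_r, map_pr C R hσ (h.s_mem c hc)]
  exact (h.s_r c hc).symm

theorem s_sh (C : Cover π t) (R : Roots E T) (hσ : ∀ r ∈ T, σ r ∈ T) (h : Gen K L S) {c : E} (hc : c ∈ S) :
    pr π T σ c * sh π K = sh π K * pr π T σ c := by
  have hcT := h.s_mem c hc
  obtain ⟨y, hy⟩ : ∃ y, y = c * σ c := ⟨_, rfl⟩
  have hσy : σ y = y := by rw [hy, map_mul, h.s_σσ c hc, h.s_comm c hc]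
  -- conjugation of `a` and `as_`
  have key : ∀ x ∈ T, ∀ x' ∈ T, y * x = x' * y → pr π T σ c * w π T x = w π T x' * pr π T σ c := by
    intro x hx x' hx' h1
    have h2 := w_conj C R (pr π T σ c) hx
    rw [map_pr C R hσ hcT, ← hy, h1, mul_inv_cancel_right, mul_inv_eq_iff_eq_mul] at h2
    exact h2
  have e0 : w π T K.a * w π T K.as_ = w π T K.as_ * w π T K.a := w_comm C R K.m_a K.m_as K.c_a
  rcases h.s_a c hc with h1 | h1 | ⟨ρ, hρ, h2, h1⟩
  · rw [← hy] at h1
    have h3 : y * K.as_ = K.as_ * y := by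
      have := congrArg σ h1
      rwa [map_mul, map_mul, K.σ_a, hσy] at this
    have e1 := key _ K.m_a _ K.m_a h1
    have e2 := key _ K.m_as _ K.m_as h3
    unfold sh
    rw [← mul_assoc, e1, mul_assoc, e2, mul_assoc]
  · rw [← hy] at h1
    have h3 : y * K.as_ = K.a * y := by
      have := congrArg σ h1
      rwa [map_mul, map_mul, K.σ_a, K.σ_as, hσy] at this
    have e1 := key _ K.m_a _ K.m_as h1
    have e2 := key _ K.m_as _ K.m_a h3
    unfold sh
    rw [← mul_assoc, e1, mul_assoc, e2, ← mul_assoc, e0]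
  · rw [← hy] at h1
    have h3 : y * K.as_ = (K.as_ * ρ) * y := by
      have := congrArg σ h1
      rwa [map_mul, map_mul, map_mul, K.σ_a, h2, hσy] at this
    have haρ : K.a * ρ ∈ T := by
      have := R.conj _ K.m_a y
      rwa [h1, mul_inv_cancel_right] at this
    have haρ' : K.as_ * ρ ∈ T := by
      have := R.conj _ K.m_as y
      rwa [h3, mul_inv_cancel_right] at this
    have hcomm : ρ * K.as_ = K.as_ * ρ := by
      have h4 := R.sq _ haρ'
      have h5 := R.sq _ K.m_as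
      have h6 := R.sq _ hρ
      calc ρ * K.as_ = (K.as_ * (K.as_ * ρ * (K.as_ * ρ)) * ρ) := by
            calc ρ * K.as_ = (K.as_ * K.as_) * (ρ * K.as_) * (ρ * ρ) := by rw [h5, h6, one_mul, mul_one]
              _ = _ := by group
        _ = K.as_ * ρ := by rw [h4, mul_one]
    have e1 := key _ K.m_a _ haρ h1
    have e2 := key _ K.m_as _ haρ' h3
    have e3 := w_comm C R hρ K.m_as hcomm
    rw [← w_line C R K.m_a hρ haρ] at e1
    rw [← w_line C R K.m_as hρ haρ'] at e2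
    have e4 := w_sq C R hρ
    unfold sh
    calc pr π T σ c * (w π T K.a * w π T K.as_) = (pr π T σ c * w π T K.a) * w π T K.as_ := by group
      _ = w π T K.a * w π T ρ * (pr π T σ c * w π T K.as_) := by rw [e1]; group
      _ = w π T K.a * (w π T ρ * w π T K.as_) * w π T ρ * pr π T σ c := by rw [e2]; group
      _ = w π T K.a * w π T K.as_ * (w π T ρ * w π T ρ) * pr π T σ c := by rw [e3]; group
      _ = _ := by rw [e4, mul_one]

end lifts

section group

variable {G E : Type*} [Group G] [Group E] {M : Subgroup G} {π : M →* E} {T : Set E} {σ : E →* E}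

variable {t : M} {u : G} {K : Cfg E T σ} {L S : Set E}

/-- the lifted generators -/
def lifts (π : M →* E) (T : Set E) (σ : E →* E) (t : M) (L S : Set E) : Set G :=
  (fun x : M => (x : G)) '' ({t} ∪ (w π T '' L ∪ pr π T σ '' S))

/-- **The first fusion theorem**: some lift of a root involution is conjugate to `t`. -/
theorem exists_conj_root [Finite G] (hG : ∀ H : Subgroup G, H.index ≠ 2)
    (hle : M ≤ Subgroup.centralizer ({(t : G)} : Set G))
    (h2 : M.relIndex (Subgroup.centralizer ({(t : G)} : Set G)) = 2)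
    (C : Cover π t) (R : Roots E T) (hσ : ∀ r ∈ T, σ r ∈ T) (h : Ind π σ u)
    (hut : u * t = t * u) (huM : u ∉ M) (hu : u * u = 1 ∨ u * u = t)
    (hK : Gen K L S) (hc : Cent K L S) :
    ∃ g : G, g * t * g⁻¹ = ((w π T K.r : M) : G) ∨ g * t * g⁻¹ = t * ((w π T K.r : M) : G) := by
  have hMt : ∀ x ∈ M, x * (t : G) = t * x := fun x hx => Subgroup.mem_centralizer_singleton_iff.1 (hle hx)
  have htt : (t : G) * t = 1 := congrArg Subtype.val C.t_mul_t
  have ht1 : (t : G) ≠ 1 := fun h1 => C.ne (Subtype.ext h1)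
  have hru : ((w π T K.r : M) : G) * u = u * ((w π T K.r : M) : G) := h.w_mul C R hσ K.m_r K.σ_r
  have hcl : IsPGroup 2 (Subgroup.closure (lifts π T σ t L S)) := by
    -- the closure of the lifted set inside `M`
    have e1 : Subgroup.closure (lifts π T σ t L S) =
        (Subgroup.closure ({t} ∪ (w π T '' L ∪ pr π T σ '' S))).map M.subtype := by
      rw [MonoidHom.map_closure]
      rfl
    rw [e1]
    apply IsPGroup.map
    intro x
    have h1 : π (x : M) ∈ Subgroup.closure (L ∪ (fun c => c * σ c) '' S) := by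
      have h3 : (Subgroup.closure ({t} ∪ (w π T '' L ∪ pr π T σ '' S))).map π ≤
          Subgroup.closure (L ∪ (fun c => c * σ c) '' S) := by
        rw [Subgroup.map_le_iff_le_comap, Subgroup.closure_le]
        rintro y (hy | ⟨l, hl, rfl⟩ | ⟨c, hc', rfl⟩)
        · rw [Set.mem_singleton_iff] at hy
          rw [hy]
          show π t ∈ Subgroup.closure (L ∪ (fun c => c * σ c) '' S)
          rw [C.map_t]
          exact one_mem _
        · show π (w π T l) ∈ Subgroup.closure (L ∪ (fun c => c * σ c) '' S)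
          rw [map_w C R (hK.l_mem l hl)]
          exact Subgroup.subset_closure (Or.inl hl)
        · show π (pr π T σ c) ∈ Subgroup.closure (L ∪ (fun c => c * σ c) '' S)
          rw [map_pr C R hσ (hK.s_mem c hc')]
          exact Subgroup.subset_closure (Or.inr ⟨c, hc', rfl⟩)
      exact h3 ⟨x, x.2, rfl⟩
    obtain ⟨k, hk⟩ := hK.two ⟨π (x : M), h1⟩
    have h4 : π ((x : M) ^ 2 ^ k) = 1 := by
      rw [map_pow]
      exact congrArg Subtype.val hk
    refine ⟨k + 1, Subtype.ext ?_⟩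
    show (x : M) ^ 2 ^ (k + 1) = 1
    rw [pow_succ, pow_mul]
    rcases (C.ker _).1 h4 with h5 | h5
    · rw [h5, one_pow]
    · rw [h5, pow_two, C.t_mul_t]
  have hval : ∀ {x y : M}, x * y = y * x → (x : G) * (y : G) = (y : G) * (x : G) := fun h1 => congrArg Subtype.val h1
  refine FusParity2.exists_conj2 (z := (t : G)) (M := M) (u := u) (r := ((w π T K.r : M) : G))
    (s := ((sh π K : M) : G)) (c := ((w π T K.a : M) : G)) (n := ((w π T K.b : M) : G)) hG htt ht1 hle h2 t.2 hut huM hu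
    (w π T K.r).2 (sh π K).2 (congrArg Subtype.val (w_sq C R K.m_r))
    (fun h1 => w_ne_one C R K.m_r (Subtype.ext h1)) (congrArg Subtype.val (sh_sq K C R))
    (fun h1 => sh_ne K C R (Subtype.ext h1)) (hval (r_sh K C R)) hru (sh_u K h C R hσ)
    (lifts π T σ t L S) ?_ hcl ?_ ?_ ?_ ?_ ?_ (hMt _ (w π T K.a).2) (hval (a_r K C R)) (hval (a_sh K C R))
    (c_u K h C R hσ) (hMt _ (w π T K.b).2) ?_ (four K h C R hσ hMt hut) (five K h C R hσ hMt)
  · rintro _ ⟨p, (hp | ⟨l, hl, rfl⟩ | ⟨c, hc', rfl⟩), rfl⟩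
    · rw [Set.mem_singleton_iff] at hp
      rw [hp]
      exact htt
    · exact congrArg Subtype.val (w_sq C R (hK.l_mem l hl))
    · exact congrArg Subtype.val (pr_sq C R hσ (hK.s_mem c hc') (hK.s_comm c hc'))
  · rintro _ ⟨p, (hp | ⟨l, hl, rfl⟩ | ⟨c, hc', rfl⟩), rfl⟩
    · rw [Set.mem_singleton_iff] at hp
      rw [hp]
      exact hut.symm
    · exact h.w_mul C R hσ (hK.l_mem l hl) (hK.l_σ l hl)
    · have e1 := h.w_mul C R hσ (hK.s_mem c hc') (rfl : σ c = σ c)
      have e2 := h.w_mul C R hσ (hσ _ (hK.s_mem c hc')) (hK.s_σσ c hc')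
      have e3 := hval (w_comm C R (hK.s_mem c hc') (hσ _ (hK.s_mem c hc')) (hK.s_comm c hc'))
      show ((w π T c : M) : G) * ((w π T (σ c) : M) : G) * u = u * (((w π T c : M) : G) * ((w π T (σ c) : M) : G))
      rw [mul_assoc, e2, ← mul_assoc, e1, mul_assoc, ← e3]
  · rintro _ ⟨p, -, rfl⟩
    exact hMt _ p.2
  · rintro _ ⟨p, (hp | ⟨l, hl, rfl⟩ | ⟨c, hc', rfl⟩), rfl⟩
    · rw [Set.mem_singleton_iff] at hp
      rw [hp]
      exact (hMt _ (w π T K.r).2).symm
    · exact hval (w_comm C R (hK.l_mem l hl) K.m_r (hK.l_r l hl))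
    · exact hval (s_r C R hσ hK hc')
  · rintro _ ⟨p, (hp | ⟨l, hl, rfl⟩ | ⟨c, hc', rfl⟩), rfl⟩
    · rw [Set.mem_singleton_iff] at hp
      rw [hp]
      exact (hMt _ (sh π K).2).symm
    · exact hval (l_sh C R hK hl)
    · exact hval (s_sh C R hσ hK hc')
  · -- the centraliser of the lifted generators
    intro x hx
    have htS : (t : G) ∈ lifts π T σ t L S := ⟨t, Or.inl rfl, rfl⟩
    have hxt : x * t = t * x := (hx _ htS).symm
    -- elements of `M`
    have key : ∀ y : M, (∀ p ∈ lifts π T σ t L S, p * (y : G) = y * p) → ∃ m a : G, (m = 1 ∨ m = t) ∧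
        (a = 1 ∨ a = ((w π T K.r : M) : G) ∨ a = ((sh π K : M) : G) ∨ a = ((w π T K.r : M) : G) * ((sh π K : M) : G)) ∧
        (y : G) = m * a := by
      intro y hy
      have h5 := hc (π y) (fun l hl => by
        have h6 : w π T l * y = y * w π T l := Subtype.ext (hy _ ⟨w π T l, Or.inr (Or.inl ⟨l, hl, rfl⟩), rfl⟩)
        have h7 := congrArg π h6
        rwa [map_mul, map_mul, map_w C R (hK.l_mem l hl)] at h7) (fun c hc' => by
        have h6 : pr π T σ c * y = y * pr π T σ c :=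
          Subtype.ext (hy _ ⟨pr π T σ c, Or.inr (Or.inr ⟨c, hc', rfl⟩), rfl⟩)
        have h7 := congrArg π h6
        rwa [map_mul, map_mul, map_pr C R hσ (hK.s_mem c hc')] at h7)
      have fin : ∀ a : M, π y = π a → ∃ m : G, (m = 1 ∨ m = t) ∧ (y : G) = m * (a : G) := by
        intro a h8
        rcases C.eq_or h8 with h9 | h9
        · exact ⟨1, Or.inl rfl, by rw [one_mul, h9]⟩
        · exact ⟨t, Or.inr rfl, congrArg Subtype.val h9⟩
      rcases h5 with h5 | h5 | h5 | h5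
      · obtain ⟨m, hm, hym⟩ := fin 1 (by rw [h5, map_one])
        exact ⟨m, _, hm, Or.inl rfl, hym⟩
      · obtain ⟨m, hm, hym⟩ := fin (w π T K.r) (by rw [h5, map_w C R K.m_r])
        exact ⟨m, _, hm, Or.inr (Or.inl rfl), hym⟩
      · obtain ⟨m, hm, hym⟩ := fin (sh π K) (by rw [h5, map_sh K C R])
        exact ⟨m, _, hm, Or.inr (Or.inr (Or.inl rfl)), hym⟩
      · obtain ⟨m, hm, hym⟩ := fin (w π T K.r * sh π K) (by rw [h5, map_mul, map_w C R K.m_r, map_sh K C R])
        exact ⟨m, _, hm, Or.inr (Or.inr (Or.inr rfl)), hym⟩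
    have hSu : ∀ p ∈ lifts π T σ t L S, p * u = u * p := by
      rintro _ ⟨p, (hp | ⟨l, hl, rfl⟩ | ⟨c, hc', rfl⟩), rfl⟩
      · rw [Set.mem_singleton_iff] at hp
        rw [hp]
        exact hut.symm
      · exact h.w_mul C R hσ (hK.l_mem l hl) (hK.l_σ l hl)
      · have e1 := h.w_mul C R hσ (hK.s_mem c hc') (rfl : σ c = σ c)
        have e2 := h.w_mul C R hσ (hσ _ (hK.s_mem c hc')) (hK.s_σσ c hc')
        have e3 := hval (w_comm C R (hK.s_mem c hc') (hσ _ (hK.s_mem c hc')) (hK.s_comm c hc'))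
        show ((w π T c : M) : G) * ((w π T (σ c) : M) : G) * u = u * (((w π T c : M) : G) * ((w π T (σ c) : M) : G))
        rw [mul_assoc, e2, ← mul_assoc, e1, mul_assoc, ← e3]
    by_cases hxM : x ∈ M
    · obtain ⟨m, a, hm, ha, hxa⟩ := key ⟨x, hxM⟩ hx
      exact ⟨m, a, hm, ha, Or.inl hxa⟩
    · -- `u⁻¹ * x ∈ M`
      have hut' : u⁻¹ * t = t * u⁻¹ := by
        rw [inv_mul_eq_iff_eq_mul, ← mul_assoc, hut, mul_assoc, mul_inv_cancel, mul_one]
      have huM' : u⁻¹ ∉ M := fun h1 => huM (by simpa using M.inv_mem h1)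
      have h6 : u⁻¹ * x ∈ M := (FusParity.mul_mem_iff hle h2 hut' hxt).2
        ⟨fun h1 => absurd h1 huM', fun h1 => absurd h1 hxM⟩
      obtain ⟨m, a, hm, ha, hxa⟩ := key ⟨u⁻¹ * x, h6⟩ (fun p hp => by
        show p * (u⁻¹ * x) = u⁻¹ * x * p
        have h7 := hSu p hp
        have h8 : p * u⁻¹ = u⁻¹ * p := by
          rw [eq_inv_mul_iff_mul_eq, ← mul_assoc, ← h7, mul_inv_cancel_right]
        rw [← mul_assoc, h8, mul_assoc, hx p hp, mul_assoc])
      refine ⟨m, a, hm, ha, Or.inr ?_⟩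
      have h7 : x = u * (m * a) := by
        rw [← hxa]
        show x = u * (u⁻¹ * x)
        group
      rw [h7]
      rcases hm with hm | hm
      · rw [hm, one_mul, one_mul]
      · rw [hm, ← mul_assoc, hut, mul_assoc]
  · rw [mul_inv_eq_iff_eq_mul]
    exact congrArg Subtype.val (n_sh K C R)

end group

end Cfsg.Agent.BabyU.FusGen
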