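import Mathlib.GroupTheory.Index
import Mathlib.GroupTheory.Commutator.Basic
import Mathlib.Algebra.Group.Subgroup.Finite
import Mathlib.Tactic.Group

/-!
# Canonical lifts of root involutions to a double cover  (U-B, piece [LAB])

`Roots E T` collects the facts about the class `T` of root involutions of `E = 2E6(2)` which are
used; `Cover π t` says that `π : M →* E` is onto with kernel `{1, t}`.

For `r ∈ T` the two lifts of `r` are distinguished: `w r = ⁅x, y⁆` for all lifts `x`, `y` of a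
special pair of roots with commutator `r`; `lab r = t * w r` is the other one.
-/

set_option autoImplicit false

namespace Cfsg.Agent.BabyU.Lab

open scoped commutatorElement

/-- The facts about the class of root involutions. -/
structure Roots (E : Type*) [Group E] (T : Set E) : Prop where
  ne_one : ∀ r ∈ T, r ≠ 1
  sq : ∀ r ∈ T, r * r = 1
  conj : ∀ r ∈ T, ∀ g : E, g * r * g⁻¹ ∈ T
  one : ∀ r ∈ T, ∀ s ∈ T, ∃ g : E, g * r * g⁻¹ = s
  /-- there are special pairs, and they form one orbit -/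
  spe_ex : ∃ a ∈ T, ∃ b ∈ T, (a * b) ^ 2 ∈ T
  spe : ∀ a ∈ T, ∀ b ∈ T, ∀ a' ∈ T, ∀ b' ∈ T, (a * b) ^ 2 ∈ T → (a' * b') ^ 2 ∈ T →
    ∃ g : E, g * a * g⁻¹ = a' ∧ g * b * g⁻¹ = b'
  /-- collinear pairs form one orbit -/
  col : ∀ a ∈ T, ∀ b ∈ T, ∀ a' ∈ T, ∀ b' ∈ T, a * b ∈ T → a' * b' ∈ T →
    ∃ g : E, g * a * g⁻¹ = a' ∧ g * b * g⁻¹ = b'
  /-- symplectic pairs form one orbit -/
  sym : ∀ a ∈ T, ∀ b ∈ T, ∀ a' ∈ T, ∀ b' ∈ T, a ≠ b → a * b = b * a → a * b ∉ T →
    a' ≠ b' → a' * b' = b' * a' → a' * b' ∉ T →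
    ∃ g : E, g * a * g⁻¹ = a' ∧ g * b * g⁻¹ = b'
  /-- the centraliser of a root involution has no subgroup of index two -/
  perf : ∀ r ∈ T, ∀ H : Subgroup E, H.relIndex (Subgroup.centralizer ({r} : Set E)) ≠ 2
  /-- a line `a`, `b`, `a * b` and a root `x` special to its three points -/
  cfg_line : ∃ a ∈ T, ∃ b ∈ T, ∃ x ∈ T, a * b ∈ T ∧ (x * a) ^ 2 ∈ T ∧ (x * b) ^ 2 ∈ T ∧
    (x * (a * b)) ^ 2 ∈ T ∧ a * (x * b) ^ 2 = (x * b) ^ 2 * a
  /-- a symplectic pair `a`, `b` and a root `x` opposite to both -/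
  cfg_sym : ∃ a ∈ T, ∃ b ∈ T, ∃ x ∈ T, a ≠ b ∧ a * b = b * a ∧ a * b ∉ T ∧
    (a * x) ^ 3 = 1 ∧ (x * b) ^ 3 = 1

/-- `π : M →* E` is onto with kernel `{1, t}`, `t ≠ 1`. -/
structure Cover {M E : Type*} [Group M] [Group E] (π : M →* E) (t : M) : Prop where
  surj : Function.Surjective π
  ker : ∀ m : M, π m = 1 ↔ m = 1 ∨ m = t
  ne : t ≠ 1

section cover

variable {M E : Type*} [Group M] [Group E] {π : M →* E} {t : M}

theorem Cover.map_t (C : Cover π t) : π t = 1 := (C.ker t).2 (Or.inr rfl)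

theorem Cover.t_mul_t (C : Cover π t) : t * t = 1 := by
  have h : π (t * t) = 1 := by rw [map_mul, C.map_t, one_mul]
  rcases (C.ker _).1 h with h1 | h1
  · exact h1
  · exact absurd (mul_eq_left.1 h1) C.ne

theorem Cover.inv_t (C : Cover π t) : t⁻¹ = t := by
  rw [inv_eq_iff_mul_eq_one, C.t_mul_t]

theorem Cover.central (C : Cover π t) (m : M) : m * t = t * m := by
  have h : π (m * t * m⁻¹) = 1 := by
    rw [map_mul, map_mul, C.map_t, mul_one, map_inv, mul_inv_cancel]
  rcases (C.ker _).1 h with h1 | h1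
  · exact absurd (by simpa using h1) C.ne
  · calc m * t = m * t * m⁻¹ * m := by group
      _ = t * m := by rw [h1]

theorem Cover.eq_or (C : Cover π t) {a b : M} (h : π a = π b) : a = b ∨ a = t * b := by
  have h1 : π (a * b⁻¹) = 1 := by rw [map_mul, map_inv, h, mul_inv_cancel]
  rcases (C.ker _).1 h1 with h2 | h2
  · exact Or.inl (by rwa [mul_inv_eq_one] at h2)
  · exact Or.inr (by rw [← h2]; group)

theorem Cover.map_t_mul (C : Cover π t) (a : M) : π (t * a) = π a := by
  rw [map_mul, C.map_t, one_mul]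

/-- the commutator of two elements depends only on their images -/
theorem Cover.commutator_eq (C : Cover π t) {a b a' b' : M} (ha : π a = π a') (hb : π b = π b') :
    ⁅a, b⁆ = ⁅a', b'⁆ := by
  have key : ∀ x y : M, ⁅t * x, y⁆ = ⁅x, y⁆ := by
    intro x y
    rw [commutatorElement_def, commutatorElement_def, mul_inv_rev, C.inv_t]
    calc t * x * y * (x⁻¹ * t) * y⁻¹ = t * (x * y * x⁻¹ * t) * y⁻¹ := by group
      _ = t * (t * (x * y * x⁻¹)) * y⁻¹ := by rw [C.central]
      _ = (t * t) * (x * y * x⁻¹ * y⁻¹) := by group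
      _ = _ := by rw [C.t_mul_t, one_mul]
  have key2 : ∀ x y : M, ⁅x, t * y⁆ = ⁅x, y⁆ := by
    intro x y
    rw [← commutatorElement_inv, key, commutatorElement_inv]
  rcases C.eq_or ha with rfl | rfl <;> rcases C.eq_or hb with rfl | rfl
  · rfl
  · rw [key2]
  · rw [key]
  · rw [key, key2]

end cover

/-- for involutions `(a * b) ^ 2 = ⁅a, b⁆` -/
theorem sq_mul_eq {E : Type*} [Group E] {a b : E} (ha : a * a = 1) (hb : b * b = 1) :
    (a * b) ^ 2 = ⁅a, b⁆ := by
  have ha' : a⁻¹ = a := inv_eq_iff_mul_eq_one.2 ha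
  have hb' : b⁻¹ = b := inv_eq_iff_mul_eq_one.2 hb
  rw [commutatorElement_def, ha', hb', pow_two]
  group

open Classical in
/-- The canonical lift of a root involution: the commutator of lifts of a special pair. -/
noncomputable def w {M E : Type*} [Group M] [Group E] (π : M →* E) (T : Set E) (r : E) : M :=
  if h : ∃ x y : M, π x ∈ T ∧ π y ∈ T ∧ ⁅π x, π y⁆ = r then ⁅h.choose, h.choose_spec.choose⁆
  else 1

/-- The other lift. -/
noncomputable def lab {M E : Type*} [Group M] [Group E] (π : M →* E) (t : M) (T : Set E) (r : E) :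
    M := t * w π T r

section main

variable {M E : Type*} [Group M] [Group E] {π : M →* E} {t : M} {T : Set E}

/-- Lifts of commuting elements commute if one of the elements is a root. -/
theorem commute_lift (C : Cover π t) (R : Roots E T) {x y : M} (hx : π x ∈ T)
    (h : π x * π y = π y * π x) : x * y = y * x := by
  classical
  set D : Subgroup E := Subgroup.centralizer ({π x} : Set E) with hD
  set H : Subgroup E := (Subgroup.centralizer ({x} : Set M)).map π with hH
  have memH : ∀ m : M, x * m = m * x → π m ∈ H := fun m hm =>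
    Subgroup.mem_map.2 ⟨m, Subgroup.mem_centralizer_iff.2 (by
      intro z hz; rw [Set.mem_singleton_iff] at hz; subst hz; exact hm), rfl⟩
  have ofH : ∀ m : M, π m ∈ H → x * m = m * x := by
    intro m hm
    obtain ⟨m', hm', he⟩ := Subgroup.mem_map.1 hm
    have hc := Subgroup.mem_centralizer_iff.1 hm' x rfl
    rcases C.eq_or he.symm with rfl | rfl
    · exact hc
    · rw [← mul_assoc, C.central, mul_assoc, hc, mul_assoc]
  by_contra hne
  have hdi : ∀ m : M, π x * π m = π m * π x → x * m = m * x ∨ x * m = t * (m * x) := by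
    intro m hm
    exact C.eq_or (by rw [map_mul, map_mul, hm])
  apply R.perf (π x) hx H
  rw [Subgroup.relIndex, Subgroup.index_eq_two_iff]
  refine ⟨⟨π y, Subgroup.mem_centralizer_iff.2 (by
      intro z hz; rw [Set.mem_singleton_iff] at hz; subst hz; exact h)⟩, ?_⟩
  rintro ⟨b, hb⟩
  obtain ⟨m, rfl⟩ := C.surj b
  have hm : π x * π m = π m * π x := Subgroup.mem_centralizer_iff.1 hb _ rfl
  rw [Subgroup.mem_subgroupOf, Subgroup.mem_subgroupOf]
  simp only [Subgroup.coe_mul]
  have hy : x * y = t * (y * x) := by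
    rcases hdi y h with h1 | h1
    · exact absurd h1 hne
    · exact h1
  rw [← map_mul]
  by_cases hm' : x * m = m * x
  · refine Or.inr ⟨memH m hm', fun hc => hne ?_⟩
    have h2 := ofH _ hc
    have h3 : x * (m * y) = m * (x * y) := by rw [← mul_assoc, hm', mul_assoc]
    rw [h3, mul_assoc] at h2
    exact mul_left_cancel h2
  · refine Or.inl ⟨memH _ ?_, fun hc => hm' (ofH _ hc)⟩
    have h4 : x * m = t * (m * x) := (hdi m hm).resolve_left hm'
    calc x * (m * y) = x * m * y := by group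
      _ = t * (m * (x * y)) := by rw [h4]; group
      _ = t * (m * (t * (y * x))) := by rw [hy]
      _ = t * (m * t) * (y * x) := by group
      _ = t * (t * m) * (y * x) := by rw [C.central]
      _ = (t * t) * (m * y * x) := by group
      _ = m * y * x := by rw [C.t_mul_t, one_mul]

/-- Two special pairs with the same commutator have lifts with the same commutator. -/
theorem spe_unique (C : Cover π t) (R : Roots E T) {x y x' y' : M} (hx : π x ∈ T) (hy : π y ∈ T)
    (hx' : π x' ∈ T) (hy' : π y' ∈ T) (h : ⁅π x, π y⁆ ∈ T) (he : ⁅π x, π y⁆ = ⁅π x', π y'⁆) :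
    ⁅x, y⁆ = ⁅x', y'⁆ := by
  obtain ⟨g, hg1, hg2⟩ := R.spe _ hx _ hy _ hx' _ hy'
    (by rwa [sq_mul_eq (R.sq _ hx) (R.sq _ hy)])
    (by rw [sq_mul_eq (R.sq _ hx') (R.sq _ hy'), ← he]; exact h)
  obtain ⟨m, rfl⟩ := C.surj g
  have h1 : m * ⁅x, y⁆ * m⁻¹ = ⁅x', y'⁆ := by
    rw [show m * ⁅x, y⁆ * m⁻¹ = ⁅m * x * m⁻¹, m * y * m⁻¹⁆ by
      rw [commutatorElement_def, commutatorElement_def]; group]
    exact C.commutator_eq (by rw [← hg1]; simp) (by rw [← hg2]; simp)
  have h2 : π ⁅x, y⁆ ∈ T := by rw [map_commutatorElement]; exact h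
  have h3 : ⁅x, y⁆ * m = m * ⁅x, y⁆ := by
    apply commute_lift C R h2
    have h4 : π (m * ⁅x, y⁆ * m⁻¹) = π ⁅x, y⁆ := by
      rw [h1, map_commutatorElement, map_commutatorElement, he]
    rw [map_mul, map_mul, map_inv, mul_inv_eq_iff_eq_mul] at h4
    exact h4.symm
  rw [← h1, ← h3]
  group

theorem exists_spe (C : Cover π t) (R : Roots E T) {r : E} (hr : r ∈ T) :
    ∃ x y : M, π x ∈ T ∧ π y ∈ T ∧ ⁅π x, π y⁆ = r := by
  obtain ⟨a, ha, b, hb, hab⟩ := R.spe_ex
  obtain ⟨g, hg⟩ := R.one _ hab _ hr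
  obtain ⟨x, hx⟩ := C.surj (g * a * g⁻¹)
  obtain ⟨y, hy⟩ := C.surj (g * b * g⁻¹)
  refine ⟨x, y, hx ▸ R.conj _ ha g, hy ▸ R.conj _ hb g, ?_⟩
  rw [hx, hy, ← hg, sq_mul_eq (R.sq _ ha) (R.sq _ hb), commutatorElement_def,
    commutatorElement_def]
  group

/-- (special pairs) -/
theorem w_commutator (C : Cover π t) (R : Roots E T) {x y : M} (hx : π x ∈ T) (hy : π y ∈ T)
    (h : ⁅π x, π y⁆ ∈ T) : w π T ⁅π x, π y⁆ = ⁅x, y⁆ := by
  classical
  have hex : ∃ x' y' : M, π x' ∈ T ∧ π y' ∈ T ∧ ⁅π x', π y'⁆ = ⁅π x, π y⁆ := ⟨x, y, hx, hy, rfl⟩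
  rw [w, dif_pos hex]
  obtain ⟨h1, h2, h3⟩ := hex.choose_spec.choose_spec
  exact spe_unique C R h1 h2 hx hy (by rw [h3]; exact h) h3

theorem map_w (C : Cover π t) (R : Roots E T) {r : E} (hr : r ∈ T) : π (w π T r) = r := by
  obtain ⟨x, y, hx, hy, rfl⟩ := exists_spe C R hr
  rw [w_commutator C R hx hy hr, map_commutatorElement]

theorem map_lab (C : Cover π t) (R : Roots E T) {r : E} (hr : r ∈ T) : π (lab π t T r) = r := by
  rw [lab, C.map_t_mul, map_w C R hr]

theorem eq_w_or_lab (C : Cover π t) (R : Roots E T) {m : M} (hm : π m ∈ T) :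
    m = w π T (π m) ∨ m = lab π t T (π m) :=
  C.eq_or (by rw [map_w C R hm])

theorem w_ne_lab (C : Cover π t) (r : E) : w π T r ≠ lab π t T r := by
  intro h
  rw [lab] at h
  exact C.ne (right_eq_mul.1 h)

/-- equivariance under isomorphisms of covers -/
theorem w_iso {M' E' : Type*} [Group M'] [Group E'] {π' : M' →* E'} {t' : M'} {T' : Set E'}
    (C : Cover π t) (R : Roots E T) (C' : Cover π' t') (R' : Roots E' T')
    (φ : M →* M') (ψ : E →* E') (hc : ∀ m, π' (φ m) = ψ (π m)) (hT : ∀ r ∈ T, ψ r ∈ T')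
    {r : E} (hr : r ∈ T) : φ (w π T r) = w π' T' (ψ r) := by
  obtain ⟨x, y, hx, hy, rfl⟩ := exists_spe C R hr
  rw [w_commutator C R hx hy hr, map_commutatorElement, map_commutatorElement, ← hc, ← hc]
  symm
  apply w_commutator C' R' (by rw [hc]; exact hT _ hx) (by rw [hc]; exact hT _ hy)
  rw [hc, hc, ← map_commutatorElement]
  exact hT _ hr

/-- equivariance under an automorphism of `M` over an automorphism of `E` preserving `T` -/
theorem w_aut (C : Cover π t) (R : Roots E T) (φ : M →* M) (ψ : E →* E)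
    (hc : ∀ m, π (φ m) = ψ (π m)) (hT : ∀ r ∈ T, ψ r ∈ T) {r : E} (hr : r ∈ T) :
    φ (w π T r) = w π T (ψ r) := w_iso C R C R φ ψ hc hT hr

theorem w_conj (C : Cover π t) (R : Roots E T) (m : M) {r : E} (hr : r ∈ T) :
    m * w π T r * m⁻¹ = w π T (π m * r * (π m)⁻¹) :=
  w_aut C R (MulAut.conj m).toMonoidHom (MulAut.conj (π m)).toMonoidHom (by intro; simp)
    (by intro r hr; simpa using R.conj r hr (π m)) hr

theorem lab_conj (C : Cover π t) (R : Roots E T) (m : M) {r : E} (hr : r ∈ T) :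
    m * lab π t T r * m⁻¹ = lab π t T (π m * r * (π m)⁻¹) := by
  rw [lab, lab, ← w_conj C R m hr, ← mul_assoc, C.central]
  group

/-- the lifts of root involutions are involutions -/
theorem w_sq (C : Cover π t) (R : Roots E T) {r : E} (hr : r ∈ T) : w π T r * w π T r = 1 := by
  obtain ⟨x, y, hx, hy, rfl⟩ := exists_spe C R hr
  set v := w π T ⁅π x, π y⁆ with hv
  have hv' : v = ⁅x, y⁆ := w_commutator C R hx hy hr
  have hy2 : y * y = 1 ∨ y * y = t := by
    rw [← C.ker, map_mul, R.sq _ hy]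
  -- `y * y` is central
  have hcy : ∀ m : M, m * (y * y) = y * y * m := by
    intro m
    rcases hy2 with h | h
    · rw [h, mul_one, one_mul]
    · rw [h, C.central]
  have h1 : x * y * x⁻¹ = v * y := by rw [hv', commutatorElement_def]; group
  have hvy : v * y = y * v := by
    apply commute_lift C R (by rw [hv, map_w C R hr]; exact hr)
    rw [hv, map_w C R hr]
    -- `⁅a, b⁆ = (a * b) ^ 2` commutes with `b`, since its square is one
    have ha := R.sq _ hx
    have hb := R.sq _ hy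
    have h2 := R.sq _ hr
    rw [← sq_mul_eq ha hb] at h2 ⊢
    have h3 : (π x * π y) ^ 2 = ((π x * π y) ^ 2)⁻¹ := by rw [eq_inv_iff_mul_eq_one, h2]
    have hb' : (π y)⁻¹ = π y := inv_eq_iff_mul_eq_one.2 hb
    have ha' : (π x)⁻¹ = π x := inv_eq_iff_mul_eq_one.2 ha
    calc (π x * π y) ^ 2 * π y = π x * π y * π x * (π y * π y) := by rw [pow_two]; group
      _ = π x * π y * π x := by rw [hb, mul_one]
      _ = (π y * π y) * (π x * π y * π x) := by rw [hb, one_mul]
      _ = π y * (π y * π x * π y * π x) := by group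
      _ = π y * ((π x * π y) ^ 2)⁻¹ := by
          rw [pow_two, mul_inv_rev, mul_inv_rev, ha', hb']; group
      _ = π y * (π x * π y) ^ 2 := by rw [← h3]
  have h4 : x * (y * y) * x⁻¹ = y * y := by rw [hcy]; group
  have h5 : x * (y * y) * x⁻¹ = (v * y) * (v * y) := by rw [← h1]; group
  have h6 : (v * y) * (v * y) = v * v * (y * y) := by
    calc (v * y) * (v * y) = v * (y * v) * y := by group
      _ = v * (v * y) * y := by rw [hvy]
      _ = _ := by group
  rw [h4, h6] at h5
  exact (right_eq_mul.1 h5)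

theorem lab_sq (C : Cover π t) (R : Roots E T) {r : E} (hr : r ∈ T) :
    lab π t T r * lab π t T r = 1 := by
  rw [lab, show t * w π T r * (t * w π T r) = t * (w π T r * t) * w π T r by group, C.central,
    show t * (t * w π T r) * w π T r = (t * t) * (w π T r * w π T r) by group, C.t_mul_t,
    w_sq C R hr, one_mul]

theorem w_inv (C : Cover π t) (R : Roots E T) {r : E} (hr : r ∈ T) : (w π T r)⁻¹ = w π T r :=
  inv_eq_iff_mul_eq_one.2 (w_sq C R hr)

theorem w_ne_one (C : Cover π t) (R : Roots E T) {r : E} (hr : r ∈ T) : w π T r ≠ 1 := by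
  intro h
  apply R.ne_one r hr
  rw [← map_w C R hr, h, map_one]

theorem lab_ne_one (C : Cover π t) (R : Roots E T) {r : E} (hr : r ∈ T) : lab π t T r ≠ 1 := by
  intro h
  apply R.ne_one r hr
  rw [← map_lab C R hr, h, map_one]

/-- special pairs, `(w a * w b) ^ 2 = w ((a * b) ^ 2)` -/
theorem w_spe (C : Cover π t) (R : Roots E T) {a b : E} (ha : a ∈ T) (hb : b ∈ T)
    (h : (a * b) ^ 2 ∈ T) : (w π T a * w π T b) ^ 2 = w π T ((a * b) ^ 2) := by
  have h' : ⁅a, b⁆ ∈ T := by rwa [← sq_mul_eq (R.sq _ ha) (R.sq _ hb)]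
  rw [sq_mul_eq (w_sq C R ha) (w_sq C R hb), sq_mul_eq (R.sq _ ha) (R.sq _ hb)]
  have := w_commutator C R (x := w π T a) (y := w π T b) (by rw [map_w C R ha]; exact ha)
    (by rw [map_w C R hb]; exact hb) (by rw [map_w C R ha, map_w C R hb]; exact h')
  rw [map_w C R ha, map_w C R hb] at this
  exact this.symm

/-- commuting pairs -/
theorem w_comm (C : Cover π t) (R : Roots E T) {a b : E} (ha : a ∈ T) (hb : b ∈ T)
    (h : a * b = b * a) : w π T a * w π T b = w π T b * w π T a :=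
  commute_lift C R (by rw [map_w C R ha]; exact ha) (by rw [map_w C R ha, map_w C R hb]; exact h)

theorem lab_mul_lab (C : Cover π t) (a b : E) :
    lab π t T a * lab π t T b = w π T a * w π T b := by
  rw [lab, lab, show t * w π T a * (t * w π T b) = t * (w π T a * t) * w π T b by group,
    C.central, show t * (t * w π T a) * w π T b = (t * t) * (w π T a * w π T b) by group,
    C.t_mul_t, one_mul]

theorem lab_comm (C : Cover π t) (R : Roots E T) {a b : E} (ha : a ∈ T) (hb : b ∈ T)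
    (h : a * b = b * a) : lab π t T a * lab π t T b = lab π t T b * lab π t T a := by
  rw [lab_mul_lab C, lab_mul_lab C, w_comm C R ha hb h]

theorem lab_spe (C : Cover π t) (R : Roots E T) {a b : E} (ha : a ∈ T) (hb : b ∈ T)
    (h : (a * b) ^ 2 ∈ T) : (lab π t T a * lab π t T b) ^ 2 = w π T ((a * b) ^ 2) := by
  rw [lab_mul_lab C, w_spe C R ha hb h]

/-- opposite pairs -/
theorem w_opp (C : Cover π t) (R : Roots E T) {a b : E} (ha : a ∈ T) (hb : b ∈ T)
    (h : (a * b) ^ 3 = 1) : (w π T a * w π T b) ^ 3 = 1 := by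
  have ha2 := R.sq _ ha
  have hb2 := R.sq _ hb
  have ha' : a⁻¹ = a := inv_eq_iff_mul_eq_one.2 ha2
  have hb' : b⁻¹ = b := inv_eq_iff_mul_eq_one.2 hb2
  have h1 : a * b * a = b * a * b := by
    have h2 : (a * b * a) * (b * a * b) = 1 := by rw [← h]; simp only [pow_succ, pow_zero, one_mul, mul_assoc]
    rw [mul_eq_one_iff_eq_inv] at h2
    rw [h2, mul_inv_rev, mul_inv_rev, ha', hb']
    group
  have e1 := w_conj C R (w π T a) hb
  have e2 := w_conj C R (w π T b) ha
  rw [map_w C R ha, w_inv C R ha, ha'] at e1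
  rw [map_w C R hb, w_inv C R hb, hb', ← h1, ← e1] at e2
  calc (w π T a * w π T b) ^ 3
      = (w π T a * w π T b * w π T a) * (w π T b * w π T a * w π T b) := by
        simp only [pow_succ, pow_zero, one_mul, mul_assoc]
    _ = (w π T a * w π T b * w π T a) * (w π T a * w π T b * w π T a) := by rw [e2]
    _ = w π T a * w π T b * (w π T a * w π T a) * w π T b * w π T a := by group
    _ = w π T a * (w π T b * w π T b) * w π T a := by rw [w_sq C R ha]; group
    _ = 1 := by rw [w_sq C R hb, mul_one, w_sq C R ha]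

theorem lab_opp (C : Cover π t) (R : Roots E T) {a b : E} (ha : a ∈ T) (hb : b ∈ T)
    (h : (a * b) ^ 3 = 1) : (lab π t T a * lab π t T b) ^ 3 = 1 := by
  rw [lab_mul_lab C, w_opp C R ha hb h]

/-- lines -/
theorem w_line (C : Cover π t) (R : Roots E T) {a b : E} (ha : a ∈ T) (hb : b ∈ T)
    (h : a * b ∈ T) : w π T a * w π T b = w π T (a * b) := by
  obtain ⟨a₀, ha₀, b₀, hb₀, x, hx, hab, hxa, hxb, hxab, hcom⟩ := R.cfg_line
  set A := w π T a₀ with hA
  set B := w π T b₀ with hB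
  set X := w π T x with hX
  have hπA : π A = a₀ := map_w C R ha₀
  have hπB : π B = b₀ := map_w C R hb₀
  have hπX : π X = x := map_w C R hx
  have hxa' : ⁅x, a₀⁆ ∈ T := by rwa [← sq_mul_eq (R.sq _ hx) (R.sq _ ha₀)]
  have hxb' : ⁅x, b₀⁆ ∈ T := by rwa [← sq_mul_eq (R.sq _ hx) (R.sq _ hb₀)]
  have hxab' : ⁅x, a₀ * b₀⁆ ∈ T := by rwa [← sq_mul_eq (R.sq _ hx) (R.sq _ hab)]
  rw [sq_mul_eq (R.sq _ hx) (R.sq _ hb₀)] at hcom
  have e1 : w π T ⁅x, a₀⁆ = ⁅X, A⁆ := by
    rw [← hπX, ← hπA]; exact w_commutator C R (hπX ▸ hx) (hπA ▸ ha₀) (by rw [hπX, hπA]; exact hxa')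
  have e2 : w π T ⁅x, b₀⁆ = ⁅X, B⁆ := by
    rw [← hπX, ← hπB]; exact w_commutator C R (hπX ▸ hx) (hπB ▸ hb₀) (by rw [hπX, hπB]; exact hxb')
  have e3 : w π T ⁅x, a₀ * b₀⁆ = ⁅X, A * B⁆ := by
    rw [← hπX, ← hπA, ← hπB, ← map_mul]
    exact w_commutator C R (hπX ▸ hx) (by rw [map_mul, hπA, hπB]; exact hab)
      (by rw [map_mul, hπX, hπA, hπB]; exact hxab')
  have e4 : ⁅x, a₀ * b₀⁆ = ⁅x, a₀⁆ * ⁅x, b₀⁆ := by
    rw [show ⁅x, a₀ * b₀⁆ = ⁅x, a₀⁆ * (a₀ * ⁅x, b₀⁆ * a₀⁻¹) by
      simp only [commutatorElement_def]; group, hcom]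
    group
  have e5 : A * ⁅X, B⁆ = ⁅X, B⁆ * A := by
    apply commute_lift C R (by rw [hπA]; exact ha₀)
    rw [map_commutatorElement, hπA, hπX, hπB]
    exact hcom
  have e6 : ⁅X, A * B⁆ = ⁅X, A⁆ * ⁅X, B⁆ := by
    rw [show ⁅X, A * B⁆ = ⁅X, A⁆ * (A * ⁅X, B⁆ * A⁻¹) by
      simp only [commutatorElement_def]; group, e5]
    group
  -- the law holds for the collinear pair `⁅x, a₀⁆`, `⁅x, b₀⁆`
  have e7 : w π T ⁅x, a₀⁆ * w π T ⁅x, b₀⁆ = w π T (⁅x, a₀⁆ * ⁅x, b₀⁆) := by
    rw [← e4, e3, e6, e1, e2]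
  obtain ⟨g, hg1, hg2⟩ := R.col _ hxa' _ hxb' _ ha _ hb (by rw [← e4]; exact hxab') h
  obtain ⟨m, rfl⟩ := C.surj g
  have f1 := w_conj C R m hxa'
  have f2 := w_conj C R m hxb'
  have f3 := w_conj C R m (r := ⁅x, a₀⁆ * ⁅x, b₀⁆) (by rw [← e4]; exact hxab')
  rw [hg1] at f1
  rw [hg2] at f2
  rw [show π m * (⁅x, a₀⁆ * ⁅x, b₀⁆) * (π m)⁻¹ =
    (π m * ⁅x, a₀⁆ * (π m)⁻¹) * (π m * ⁅x, b₀⁆ * (π m)⁻¹) by group, hg1, hg2] at f3
  rw [← f3, ← e7, ← f1, ← f2]
  group

/-- on a line the product of the good lifts is `t` -/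
theorem lab_line (C : Cover π t) (R : Roots E T) {a b : E} (ha : a ∈ T) (hb : b ∈ T)
    (h : a * b ∈ T) : lab π t T a * lab π t T b = t * lab π t T (a * b) := by
  rw [lab_mul_lab C, w_line C R ha hb h, lab, ← mul_assoc, C.t_mul_t, one_mul]

/-- the product of the lifts of a symplectic pair is a square (of an element of an `S₄`) -/
theorem sym_square (C : Cover π t) (R : Roots E T) {a b : E} (ha : a ∈ T) (hb : b ∈ T)
    (hne : a ≠ b) (h : a * b = b * a) (hn : a * b ∉ T) :
    ∃ y : M, y ^ 4 = 1 ∧ w π T a * w π T b = y ^ 2 := by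
  obtain ⟨a₀, ha₀, b₀, hb₀, x, hx, hne₀, hc₀, hn₀, hax, hxb⟩ := R.cfg_sym
  obtain ⟨g, hg1, hg2⟩ := R.sym _ ha₀ _ hb₀ _ ha _ hb hne₀ hc₀ hn₀ hne h hn
  obtain ⟨m, rfl⟩ := C.surj g
  set A := w π T a₀ with hA
  set B := w π T b₀ with hB
  set X := w π T x with hX
  have hA2 : A * A = 1 := w_sq C R ha₀
  have hB2 : B * B = 1 := w_sq C R hb₀
  have hX2 : X * X = 1 := w_sq C R hx
  have hAB : A * B = B * A := w_comm C R ha₀ hb₀ hc₀
  have hAX : (A * X) ^ 3 = 1 := w_opp C R ha₀ hx hax
  have hXB : (X * B) ^ 3 = 1 := w_opp C R hx hb₀ hxb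
  -- `A = (12)`, `X = (23)`, `B = (34)`;  `A B = (1324)^2`, `(1324) = (23) (12) (34) ... `
  have braid1 : A * X * A = X * A * X := by
    have h2 : (A * X * A) * (X * A * X) = 1 := by
      rw [← hAX]; simp only [pow_succ, pow_zero, one_mul, mul_assoc]
    have hA' : A⁻¹ = A := inv_eq_iff_mul_eq_one.2 hA2
    have hX' : X⁻¹ = X := inv_eq_iff_mul_eq_one.2 hX2
    rw [mul_eq_one_iff_eq_inv] at h2
    rw [h2, mul_inv_rev, mul_inv_rev, hA', hX']; group
  have braid2 : X * B * X = B * X * B := by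
    have h2 : (X * B * X) * (B * X * B) = 1 := by
      rw [← hXB]; simp only [pow_succ, pow_zero, one_mul, mul_assoc]
    have hB' : B⁻¹ = B := inv_eq_iff_mul_eq_one.2 hB2
    have hX' : X⁻¹ = X := inv_eq_iff_mul_eq_one.2 hX2
    rw [mul_eq_one_iff_eq_inv] at h2
    rw [h2, mul_inv_rev, mul_inv_rev, hB', hX']; group
  -- `y = X A B X A` : (23)(12)(34)(23)(12)
  have key : (X * (A * B) * X * A) ^ 2 = A * B := by
    have e1 : X * (A * B) * X * A * (X * (A * B) * X * A) = A * B := by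
      calc X * (A * B) * X * A * (X * (A * B) * X * A)
          = X * A * B * (X * A * X) * A * B * X * A := by group
        _ = X * A * B * (A * X * A) * A * B * X * A := by rw [braid1]
        _ = X * A * B * A * X * (A * A) * B * X * A := by group
        _ = X * A * (B * A) * X * B * X * A := by rw [hA2]; group
        _ = X * A * (A * B) * X * B * X * A := by rw [hAB]
        _ = X * (A * A) * B * (X * B * X) * A := by group
        _ = X * B * (B * X * B) * A := by rw [hA2, braid2]; group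
        _ = X * (B * B) * X * B * A := by group
        _ = X * X * (B * A) := by rw [hB2]; group
        _ = A * B := by rw [hX2, one_mul, hAB]
    rw [pow_two, e1]
  refine ⟨m * (X * (A * B) * X * A) * m⁻¹, ?_, ?_⟩
  · rw [show m * (X * (A * B) * X * A) * m⁻¹ = MulAut.conj m (X * (A * B) * X * A) from rfl,
      ← map_pow, show 4 = 2 * 2 from rfl, pow_mul, key, pow_two,
      show A * B * (A * B) = A * (B * A) * B by group, ← hAB,
      show A * (A * B) * B = (A * A) * (B * B) by group, hA2, hB2, one_mul, map_one]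
  · rw [show m * (X * (A * B) * X * A) * m⁻¹ = MulAut.conj m (X * (A * B) * X * A) from rfl,
      ← map_pow, key]
    have f1 := w_conj C R m ha₀
    have f2 := w_conj C R m hb₀
    rw [hg1] at f1
    rw [hg2] at f2
    rw [← f1, ← f2, MulAut.conj_apply, ← hA, ← hB]
    group

/-- the centraliser of the lift of a root is the full preimage of the centraliser of the root -/
theorem mem_centralizer_w (C : Cover π t) (R : Roots E T) {r : E} (hr : r ∈ T) (m : M) :
    m ∈ Subgroup.centralizer ({w π T r} : Set M) ↔ π m ∈ Subgroup.centralizer ({r} : Set E) := by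
  constructor
  · intro h
    refine Subgroup.mem_centralizer_iff.2 fun z hz => ?_
    rw [Set.mem_singleton_iff] at hz
    subst hz
    have := Subgroup.mem_centralizer_iff.1 h _ rfl
    conv_lhs => rw [← map_w C R hr]
    conv_rhs => rw [← map_w C R hr]
    rw [← map_mul, this, map_mul]
  · intro h
    refine Subgroup.mem_centralizer_iff.2 fun z hz => ?_
    rw [Set.mem_singleton_iff] at hz
    subst hz
    apply commute_lift C R (by rw [map_w C R hr]; exact hr)
    rw [map_w C R hr]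
    exact Subgroup.mem_centralizer_iff.1 h _ rfl

theorem centralizer_w (C : Cover π t) (R : Roots E T) {r : E} (hr : r ∈ T) :
    Subgroup.centralizer ({w π T r} : Set M) = (Subgroup.centralizer ({r} : Set E)).comap π := by
  ext m
  rw [Subgroup.mem_comap, mem_centralizer_w C R hr]

theorem centralizer_lab (C : Cover π t) (r : E) :
    Subgroup.centralizer ({lab π t T r} : Set M) = Subgroup.centralizer ({w π T r} : Set M) := by
  ext m
  rw [Subgroup.mem_centralizer_iff, Subgroup.mem_centralizer_iff]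
  simp only [Set.mem_singleton_iff, forall_eq, lab]
  rw [mul_assoc, ← mul_assoc m, C.central, mul_assoc]
  exact ⟨fun h => mul_left_cancel h, fun h => by rw [h]⟩

/-- products of good lifts and of canonical lifts of an odd word differ by `t` -/
theorem prod_lab (C : Cover π t) (l : List E) :
    (l.map (lab π t T)).prod = t ^ l.length * (l.map (w π T)).prod := by
  have hcen : ∀ (n : ℕ) (m : M), m * t ^ n = t ^ n * m := by
    intro n m
    induction n with
    | zero => simp
    | succ n ih => rw [pow_succ, ← mul_assoc, ih, mul_assoc, C.central, ← mul_assoc]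
  induction l with
  | nil => simp
  | cons a l ih =>
    rw [List.map_cons, List.prod_cons, List.map_cons, List.prod_cons, ih, List.length_cons, lab,
      pow_succ', mul_assoc t (w π T a), ← mul_assoc (w π T a), hcen]
    simp only [mul_assoc]

/-- **perfectness of the centraliser in `M`** (in the form: no subgroup of index two):
it is enough to know an odd word in roots symplectic to `r` whose canonical lift is `1`, and one
whose canonical lift is `t`. -/
theorem relIndex_ne_two (C : Cover π t) (R : Roots E T) {r : E} (hr : r ∈ T) (u v : List E)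
    (hu : ∀ a ∈ u, a ∈ T ∧ a ≠ r ∧ a * r = r * a ∧ r * a ∉ T)
    (hv : ∀ a ∈ v, a ∈ T ∧ a ≠ r ∧ a * r = r * a ∧ r * a ∉ T)
    (hodd : Odd u.length) (hu1 : (u.map (w π T)).prod = 1) (hv1 : (v.map (w π T)).prod = t)
    (H : Subgroup M) : H.relIndex (Subgroup.centralizer ({w π T r} : Set M)) ≠ 2 := by
  classical
  intro hH
  set D := Subgroup.centralizer ({w π T r} : Set M) with hD
  rw [Subgroup.relIndex, Subgroup.index_eq_two_iff] at hH
  obtain ⟨⟨y, hy⟩, hxor⟩ := hH
  -- membership in `H` of elements of `D`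
  have key : ∀ b ∈ D, Xor (b * y ∈ H) (b ∈ H) := by
    intro b hb
    have := hxor ⟨b, hb⟩
    rwa [Subgroup.mem_subgroupOf, Subgroup.mem_subgroupOf] at this
  have tD : t ∈ D := by
    rw [hD, mem_centralizer_w C R hr, C.map_t]; exact one_mem _
  -- products
  have pm : ∀ a ∈ D, ∀ b ∈ D, (a * b ∈ H ↔ (a ∈ H ↔ b ∈ H)) := by
    -- index two
    have hidx : (H.subgroupOf D).index = 2 := by
      rw [Subgroup.index_eq_two_iff]
      exact ⟨⟨y, hy⟩, hxor⟩
    intro a ha b hb
    have := Subgroup.mul_mem_iff_of_index_two hidx (a := ⟨a, ha⟩) (b := ⟨b, hb⟩)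
    simpa only [Subgroup.mem_subgroupOf, Subgroup.coe_mul] using this
  have cm : ∀ a ∈ D, ∀ g ∈ D, (g * a * g⁻¹ ∈ H ↔ a ∈ H) := by
    intro a ha g hg
    rw [pm _ (D.mul_mem hg ha) _ (D.inv_mem hg), pm _ hg _ ha, inv_mem_iff]
    tauto
  -- `t ∉ H`, otherwise the image of `H ⊓ D` has index two
  have htH : t ∉ H := by
    intro ht
    apply R.perf r hr ((H ⊓ D).map π)
    rw [Subgroup.relIndex, Subgroup.index_eq_two_iff]
    have hyr : π y ∈ Subgroup.centralizer ({r} : Set E) := (mem_centralizer_w C R hr y).1 hy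
    refine ⟨⟨π y, hyr⟩, ?_⟩
    rintro ⟨b, hb⟩
    obtain ⟨m, rfl⟩ := C.surj b
    have hm : m ∈ D := (mem_centralizer_w C R hr m).2 hb
    have himg : ∀ z ∈ D, (π z ∈ (H ⊓ D).map π ↔ z ∈ H) := by
      intro z hz
      constructor
      · intro h
        obtain ⟨z', hz', he⟩ := Subgroup.mem_map.1 h
        rcases C.eq_or he.symm with rfl | rfl
        · exact hz'.1
        · exact H.mul_mem ht hz'.1
      · intro h
        exact Subgroup.mem_map.2 ⟨z, ⟨h, hz⟩, rfl⟩
    rw [Subgroup.mem_subgroupOf, Subgroup.mem_subgroupOf]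
    simp only [Subgroup.coe_mul]
    rw [← map_mul, himg _ (D.mul_mem hm hy), himg _ hm]
    exact key m hm
  -- all canonical lifts of roots symplectic to `r` are conjugate in `D`
  have same : ∀ a b : E, (a ∈ T ∧ a ≠ r ∧ a * r = r * a ∧ r * a ∉ T) →
      (b ∈ T ∧ b ≠ r ∧ b * r = r * b ∧ r * b ∉ T) → (w π T a ∈ H ↔ w π T b ∈ H) := by
    rintro a b ⟨ha, ha1, ha2, ha3⟩ ⟨hb, hb1, hb2, hb3⟩
    obtain ⟨g, hg1, hg2⟩ := R.sym _ hr _ ha _ hr _ hb ha1.symm ha2.symm ha3 hb1.symm hb2.symm hb3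
    obtain ⟨m, rfl⟩ := C.surj g
    have hm : m ∈ D := by
      rw [hD, mem_centralizer_w C R hr, Subgroup.mem_centralizer_iff]
      intro z hz
      rw [Set.mem_singleton_iff] at hz
      subst hz
      exact (mul_inv_eq_iff_eq_mul.1 hg1).symm
    have haD : w π T a ∈ D := by
      rw [hD, mem_centralizer_w C R hr, map_w C R ha, Subgroup.mem_centralizer_iff]
      intro z hz
      rw [Set.mem_singleton_iff] at hz
      subst hz
      exact ha2.symm
    have := cm _ haD _ hm
    rw [w_conj C R m ha, hg2] at this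
    exact this.symm
  have memD : ∀ a : E, (a ∈ T ∧ a ≠ r ∧ a * r = r * a ∧ r * a ∉ T) → w π T a ∈ D := by
    rintro a ⟨ha, -, ha2, -⟩
    rw [hD, mem_centralizer_w C R hr, map_w C R ha, Subgroup.mem_centralizer_iff]
    intro z hz
    rw [Set.mem_singleton_iff] at hz
    subst hz
    exact ha2.symm
  have prodD : ∀ l : List E, (∀ a ∈ l, a ∈ T ∧ a ≠ r ∧ a * r = r * a ∧ r * a ∉ T) →
      (l.map (w π T)).prod ∈ D := by
    intro l hl
    apply Subgroup.list_prod_mem
    intro x hx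
    obtain ⟨a, ha, rfl⟩ := List.mem_map.1 hx
    exact memD a (hl a ha)
  -- the canonical lifts lie in `H`
  have hall : ∀ a : E, (a ∈ T ∧ a ≠ r ∧ a * r = r * a ∧ r * a ∉ T) → w π T a ∈ H := by
    intro a ha
    by_contra hna
    have hno : ∀ b : E, (b ∈ T ∧ b ≠ r ∧ b * r = r * b ∧ r * b ∉ T) → w π T b ∉ H :=
      fun b hb h => hna ((same a b ha hb).2 h)
    have hpar : ∀ l : List E, (∀ a ∈ l, a ∈ T ∧ a ≠ r ∧ a * r = r * a ∧ r * a ∉ T) →
        ((l.map (w π T)).prod ∈ H ↔ Even l.length) := by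
      intro l
      induction l with
      | nil => intro _; simp
      | cons b l ih =>
        intro hl
        have hb := hl b List.mem_cons_self
        have hl' : ∀ a ∈ l, a ∈ T ∧ a ≠ r ∧ a * r = r * a ∧ r * a ∉ T :=
          fun a ha => hl a (List.mem_cons_of_mem _ ha)
        rw [List.map_cons, List.prod_cons, pm _ (memD b hb) _ (prodD l hl'), ih hl',
          List.length_cons, Nat.even_add_one]
        have := hno b hb
        tauto
    have h1 := (hpar u hu)
    rw [hu1] at h1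
    exact (Nat.not_even_iff_odd.2 hodd) (h1.1 H.one_mem)
  apply htH
  rw [← hv1]
  apply Subgroup.list_prod_mem
  intro x hx
  obtain ⟨a, ha, rfl⟩ := List.mem_map.1 hx
  exact hall a (hv a ha)

end main

end Cfsg.Agent.BabyU.Lab
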