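import Cfsg.Agent.TwoESix.Cover

/-!
# Arm permutations of a configuration of type `Y₃₃₃` are not inner

`E` is presented by ten generators `f` with the relations `Good` and has a non-split double cover `M`.  Then no
non-trivial permutation of the three arms of `f` is induced by conjugation in `E`.
-/

set_option autoImplicit false

namespace Cfsg.Agent.BabyU.OutFree

open Cfsg Cfsg.Agent.TwoESix Cfsg.Agent.TwoESix.Cox10 Cfsg.Agent.TwoESix.Lift Cfsg.Agent.TwoESix.Cover
open Cfsg.Agent.R01.Lifts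

/-! ### The six permutations -/

/-- exchange the second and the third arm -/
def pBC : Fin 10 → Fin 10 := ![0, 1, 2, 3, 7, 8, 9, 4, 5, 6]

/-- the six permutations of the arms -/
def P6 : Fin 6 → Fin 10 → Fin 10 := ![id, pAB, pAC, pBC, pAB ∘ pAC, pAC ∘ pAB]

theorem P6_zero (i : Fin 10) : P6 0 i = i := rfl

theorem lab_P6 : ∀ k i j, lab (P6 k i) (P6 k j) = lab i j := by decide

theorem adj_P6 : ∀ k i j, adj (P6 k i) (P6 k j) = adj i j := by decide

theorem P6_div : ∀ k l : Fin 6, k ≠ l → ∃ n : Fin 6, n ≠ 0 ∧ ∀ i, P6 l i = P6 n (P6 k i) := by decide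

theorem P6_surj : ∀ k : Fin 6, ∀ i, ∃ j, P6 k j = i := by decide

/-- The permutation of the three `E₇` words. -/
def Q6 : Fin 6 → Fin 3 → Fin 3 := ![id, ![1, 0, 2], ![2, 1, 0], ![0, 2, 1], ![2, 0, 1], ![1, 2, 0]]

theorem Q6_cases : ∀ n, Q6 n 1 = 0 ∨ Q6 n 1 = 1 ∨ Q6 n 1 = 2 := by decide

theorem Q6_cases2 : ∀ n, Q6 n 1 = 0 → Q6 n 2 ≠ 0 := by decide

section Sig

variable {G : Type*} [Group G]

/-- Coxeter relations and spider relation. -/
structure CS (s : Fin 10 → G) : Prop where
  lift : M10.IsLiftable s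
  spider : ev s spider ^ 10 = 1

theorem CS.AB {s : Fin 10 → G} (h : CS s) : CS (fun i => s (pAB i)) :=
  ⟨lift_perm h.lift lab_pAB, spider_pAB h.lift h.spider⟩

theorem CS.AC {s : Fin 10 → G} (h : CS s) : CS (fun i => s (pAC i)) :=
  ⟨lift_perm h.lift lab_pAC, spider_pAC h.lift h.spider⟩

theorem CS.P6 {s : Fin 10 → G} (h : CS s) (k : Fin 6) : CS (fun i => s (P6 k i)) := by
  fin_cases k
  · exact h
  · exact h.AB
  · exact h.AC
  · have := h.AB.AC.AB
    have e : (fun i => s (pAB (pAC (pAB i)))) = fun i => s (OutFree.P6 3 i) := by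
      funext i; congr 1; revert i; decide
    show CS (fun i => s (OutFree.P6 3 i))
    rw [← e]; exact this
  · exact h.AB.AC
  · exact h.AC.AB

/-- The three `E₇` words. -/
def W : Fin 3 → List (Fin 10) := ![W321, W231, W213]

/-- Ninth powers of the `E₇` words. -/
def sig (s : Fin 10 → G) (k : Fin 3) : G := ev s (W k) ^ 9

theorem sig_AB {s : Fin 10 → G} (h : CS s) (k : Fin 3) : sig (fun i => s (pAB i)) k = sig s (![1, 0, 2] k) := by
  fin_cases k
  · show ev (fun i => s (pAB i)) W321 ^ 9 = ev s W231 ^ 9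
    rw [ev_comp, pow9_eq h.lift chkAB1]
  · show ev (fun i => s (pAB i)) W231 ^ 9 = ev s W321 ^ 9
    rw [ev_comp, pow9_eq h.lift chkAB2]
  · show ev (fun i => s (pAB i)) W213 ^ 9 = ev s W213 ^ 9
    rw [ev_comp, pow9_eq h.lift chkAB3, W213_eq h.lift h.spider]

theorem sig_AC {s : Fin 10 → G} (h : CS s) (k : Fin 3) : sig (fun i => s (pAC i)) k = sig s (![2, 1, 0] k) := by
  fin_cases k
  · show ev (fun i => s (pAC i)) W321 ^ 9 = ev s W213 ^ 9
    rw [ev_comp, pow9_eq h.lift chkAC1, W213_eq h.lift h.spider]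
  · show ev (fun i => s (pAC i)) W231 ^ 9 = ev s W231 ^ 9
    rw [ev_comp, pow9_eq h.lift chkAC2, W231_eq h.lift h.spider]
  · show ev (fun i => s (pAC i)) W213 ^ 9 = ev s W321 ^ 9
    rw [ev_comp, pow9_eq h.lift chkAC3, W321_eq h.lift h.spider]

theorem sig_P6 {s : Fin 10 → G} (h : CS s) (n : Fin 6) (k : Fin 3) :
    sig (fun i => s (P6 n i)) k = sig s (Q6 n k) := by
  fin_cases n
  · rfl
  · exact sig_AB h k
  · exact sig_AC h k
  · have e : (fun i => s (pAB (pAC (pAB i)))) = fun i => s (OutFree.P6 3 i) := by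
      funext i; congr 1; revert i; decide
    show sig (fun i => s (OutFree.P6 3 i)) k = _
    rw [← e, sig_AB h.AB.AC, sig_AC h.AB, sig_AB h]
    fin_cases k <;> rfl
  · show sig (fun i => s (pAB (pAC i))) k = _
    rw [sig_AC h.AB, sig_AB h]
    fin_cases k <;> rfl
  · show sig (fun i => s (pAC (pAB i))) k = _
    rw [sig_AB h.AC, sig_AC h]
    fin_cases k <;> rfl

theorem good_iff {s : Fin 10 → G} : Good s ↔ CS s ∧ ∀ k, sig s k = 1 := by
  constructor
  · intro h
    refine ⟨⟨h.lift, h.spider⟩, fun k => ?_⟩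
    fin_cases k
    · exact h.e321
    · exact h.e231
    · exact h.e213
  · rintro ⟨h, h'⟩
    exact ⟨h.lift, h.spider, h' 0, h' 1, h' 2⟩

theorem good_P6 {s : Fin 10 → G} (h : Good s) (n : Fin 6) : Good (fun i => s (P6 n i)) := by
  rw [good_iff] at h ⊢
  exact ⟨h.1.P6 n, fun k => by rw [sig_P6 h.1, h.2]⟩

end Sig

/-! ### Automorphisms of the double cover -/

section Ext

variable {M E : Type*} [Group M] [Group E] {π : M →* E} {z : M}

theorem z3 (h : Ext π z) {a : M} (ha : a ^ 3 = 1) : (a * z) ^ 3 = z := by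
  have hc : Commute a z := h.comm a
  rw [hc.mul_pow, ha, one_mul, pow_succ, pow_two, h.zz, one_mul]

/-- An endomorphism fixing `z` which permutes the nodes modulo `z` permutes them up to a global sign. -/
theorem global (h : Ext π z) {m : Fin 10 → M} (hm : M10.IsLiftable m) (θ : M →* M) {p : Fin 10 → Fin 10}
    (hp : ∀ i j, lab (p i) (p j) = lab i j) (hθ : ∀ i, π (θ (m i)) = π (m (p i))) :
    (∀ i, θ (m i) = m (p i)) ∨ (∀ i, θ (m i) = m (p i) * z) := by
  have hlift : ∀ i, θ (m i) = m (p i) ∨ θ (m i) = m (p i) * z := fun i => h.map_eq.1 (hθ i)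
  have h3 : ∀ {i j}, adj i j = true → (m i * m j) ^ 3 = 1 := by
    intro i j hij
    have := hm i j
    rwa [M10_apply, lab_adj i j hij] at this
  have hadj : ∀ {i j}, adj i j = true → adj (p i) (p j) = true := by
    intro i j hij
    apply adj_of_lab
    rw [hp, lab_adj i j hij]
  have hθ3 : ∀ {i j}, adj i j = true → (θ (m i) * θ (m j)) ^ 3 = 1 := by
    intro i j hij
    rw [← map_mul, ← map_pow, h3 hij, map_one]
  rcases hlift 3 with h0 | h0
  · left
    refine all_nodes (fun i => θ (m i) = m (p i)) ?_ h0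
    intro i j hij hi
    rcases hlift j with hj | hj
    · exact hj
    · exfalso
      have := hθ3 hij
      rw [hi, hj, ← mul_assoc, z3 h (h3 (hadj hij))] at this
      exact h.zne this
  · right
    refine all_nodes (fun i => θ (m i) = m (p i) * z) ?_ h0
    intro i j hij hi
    rcases hlift j with hj | hj
    · exfalso
      have := hθ3 hij
      rw [hi, hj] at this
      have e : m (p i) * z * m (p j) = m (p i) * m (p j) * z := by
        rw [mul_assoc, ← h.comm, ← mul_assoc]
      rw [e, z3 h (h3 (hadj hij))] at this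
      exact h.zne this
    · exact hj

theorem W_length : ∀ k, (W k).length = 7 := by decide

theorem sig_mul_z (h : Ext π z) (s : Fin 10 → M) (k : Fin 3) : sig (fun i => s i * z) k = sig s k * z :=
  ev7_mul_z h s (W_length k)

/-- Signature condition. -/
theorem sig_global (h : Ext π z) {m : Fin 10 → M} (hm : CS m) (θ : M →* M) {n : Fin 6}
    (hθ : ∀ i, π (θ (m i)) = π (m (P6 n i))) (hz : ∀ k, θ (sig m k) = sig m k) :
    ((∀ i, θ (m i) = m (P6 n i)) ∧ ∀ k, sig m k = sig m (Q6 n k)) ∨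
      ((∀ i, θ (m i) = m (P6 n i) * z) ∧ ∀ k, sig m k = sig m (Q6 n k) * z) := by
  have key : ∀ k, sig m k = sig (fun i => θ (m i)) k := by
    intro k
    rw [← hz]
    show θ (ev m (W k) ^ 9) = _
    rw [map_pow, ev_map]; rfl
  rcases global h hm.lift θ (lab_P6 n) hθ with h1 | h1
  · left
    refine ⟨h1, fun k => ?_⟩
    rw [key, ← sig_P6 hm]
    congr 1
    funext i; exact h1 i
  · right
    refine ⟨h1, fun k => ?_⟩
    rw [key, ← sig_P6 hm, ← sig_mul_z h]
    congr 1
    funext i; exact h1 i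

/-- The signature of the standard generators. -/
theorem _root_.Cfsg.Agent.TwoESix.Lift.ZRels.cs {s : Fin 10 → M} (h : ZRels s z) : CS s := ⟨h.lift, h.spider⟩

theorem sig_zrels {s : Fin 10 → M} (h : ZRels s z) (k : Fin 3) : sig s k = ![z, 1, 1] k := by
  fin_cases k
  · exact h.e321
  · exact h.e231
  · exact h.e213

/-- An endomorphism of the double cover which fixes `z` and permutes the arms modulo `z` is trivial or exchanges
the last two arms. -/
theorem zero_or_three (h : Ext π z) {m : Fin 10 → M} (hm : ZRels m z) (θ : M →* M) {n : Fin 6}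
    (hθ : ∀ i, π (θ (m i)) = π (m (P6 n i))) (hz : θ z = z) :
    (n = 0 ∨ n = 3) ∧ ∀ i, θ (m i) = m (P6 n i) := by
  have hz' : ∀ k, θ (sig m k) = sig m k := by
    intro k
    rw [sig_zrels hm]
    fin_cases k
    · exact hz
    · exact map_one θ
    · exact map_one θ
  have hz0 : sig m 0 = z := hm.e321
  have hz1 : sig m 1 = 1 := hm.e231
  have hz2 : sig m 2 = 1 := hm.e213
  have hne := h.zne
  have hzz := h.zz
  rcases sig_global h hm.cs θ hθ hz' with ⟨h1, h2⟩ | ⟨h1, h2⟩
  · refine ⟨?_, h1⟩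
    have a0 := h2 0
    rw [hz0] at a0
    fin_cases n
    · exact Or.inl rfl
    · exfalso
      have : z = sig m 1 := a0
      exact hne (this.trans hz1)
    · exfalso
      have : z = sig m 2 := a0
      exact hne (this.trans hz2)
    · exact Or.inr rfl
    · exfalso
      have : z = sig m 2 := a0
      exact hne (this.trans hz2)
    · exfalso
      have : z = sig m 1 := a0
      exact hne (this.trans hz1)
  · exfalso
    have a1 := h2 1
    have a2 := h2 2
    rw [hz1] at a1
    rw [hz2] at a2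
    have hcase : Q6 n 1 = 0 ∨ Q6 n 1 = 1 ∨ Q6 n 1 = 2 := Q6_cases n
    have hcase2 : Q6 n 1 = 0 → Q6 n 2 ≠ 0 := Q6_cases2 n
    rcases hcase with h3 | h3 | h3
    · have h4 : Q6 n 2 = 1 ∨ Q6 n 2 = 2 := by
        have := hcase2 h3
        revert this
        generalize Q6 n 2 = q
        revert q; decide
      rcases h4 with h4 | h4
      · rw [h4, hz1, one_mul] at a2; exact hne a2.symm
      · rw [h4, hz2, one_mul] at a2; exact hne a2.symm
    · rw [h3, hz1, one_mul] at a1; exact hne a1.symm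
    · rw [h3, hz2, one_mul] at a1; exact hne a1.symm

/-! ### Freeness -/

/-- A class of configurations: relations and generation. -/
def GG (f : Fin 10 → E) : Prop := Good f ∧ Subgroup.closure (Set.range f) = ⊤

omit [Group M] in
theorem closure_perm {f : Fin 10 → E} (h : Subgroup.closure (Set.range f) = ⊤) (n : Fin 6) :
    Subgroup.closure (Set.range fun i => f (P6 n i)) = ⊤ := by
  have e : (Set.range fun i => f (P6 n i)) = Set.range f := by
    ext x
    constructor
    · rintro ⟨i, rfl⟩; exact ⟨_, rfl⟩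
    · rintro ⟨i, rfl⟩
      obtain ⟨j, rfl⟩ := P6_surj n i
      exact ⟨j, rfl⟩
  rw [e, h]

theorem GG.P6 {f : Fin 10 → E} (h : GG f) (n : Fin 6) : GG (fun i => f (P6 n i)) :=
  ⟨good_P6 h.1 n, closure_perm h.2 n⟩

theorem GG.equiv {f : Fin 10 → E} (h : GG f) (φ : E ≃* E) : GG (fun i => φ (f i)) := by
  refine ⟨h.1.map φ.toMonoidHom, ?_⟩
  have e : (Set.range fun i => φ (f i)) = φ.toMonoidHom '' Set.range f := by
    rw [← Set.range_comp]; rfl
  rw [e, ← MonoidHom.map_closure, h.2, ← MonoidHom.range_eq_map, MonoidHom.range_eq_top]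
  exact φ.surjective

/-- Two generating configurations are equivalent under an automorphism. -/
theorem exists_auto [Finite HB] {f f' : Fin 10 → E} (h : GG f) (h' : GG f') (hcard : Nat.card HB ≤ Nat.card E) :
    ∃ α : E ≃* E, ∀ i, α (f i) = f' i := by
  refine ⟨(MulEquiv.ofBijective _ (toHom_bijective h.1 h.2 hcard)).symm.trans
    (MulEquiv.ofBijective _ (toHom_bijective h'.1 h'.2 hcard)), fun i => ?_⟩
  rw [MulEquiv.trans_apply]
  have : (MulEquiv.ofBijective _ (toHom_bijective h.1 h.2 hcard)).symm (f i) = s0 i := by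
    rw [MulEquiv.symm_apply_eq]
    exact (toHom_s0 h.1 i).symm
  rw [this]
  exact toHom_s0 h'.1 i

/-- Index arithmetic. -/
theorem P6_conj4 : ∀ n : Fin 6, n = 1 ∨ n = 2 ∨ n = 3 → ∀ i, P6 n (P6 4 (P6 n (P6 5 i))) = P6 4 i := by decide

theorem P6_45 : ∀ i, P6 4 (P6 5 i) = i := by decide
theorem P6_54 : ∀ i, P6 5 (P6 4 i) = i := by decide
theorem P6_AB : ∀ i, pAB (pAB i) = i := pAB_pAB

theorem P6_rot : ∀ (p : Fin 10 → Fin 10), (p = id ∨ p = pAB ∨ p = pAC) → ∀ n : Fin 6, n = 4 ∨ n = 5 →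
    ∃ n' : Fin 6, (n' = 4 ∨ n' = 5) ∧ ∀ i, P6 n (p i) = p (P6 n' i) := by
  rintro p (rfl | rfl | rfl) n hn
  · exact ⟨n, hn, fun i => rfl⟩
  · revert n; decide
  · revert n; decide

/-- Rotations of the arms are not inner. -/
theorem rot_not_inner [Finite HB] (hcov : IsNonsplitDoubleCover M E) (hcard : Nat.card HB ≤ Nat.card E)
    {f : Fin 10 → E} (hf : GG f) {n : Fin 6} (hn : n = 4 ∨ n = 5) (x : E) : ¬ ∀ i, x * f i * x⁻¹ = f (P6 n i) := by
  intro hx
  obtain ⟨π, z, h⟩ := exists_ext hcov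
  obtain ⟨p, hp, m, hm, hz, -⟩ := exists_gens hcov hf.1 hf.2 hcard h
  obtain ⟨n', hn', hnn⟩ := P6_rot p hp n hn
  obtain ⟨y, rfl⟩ := h.surj x
  have h1 := zero_or_three h hz (MulAut.conj y).toMonoidHom (n := n') (fun i => by
    show π (y * m i * y⁻¹) = _
    rw [map_mul, map_mul, map_inv, hm, hx, hnn, hm]) (by
    show y * z * y⁻¹ = z
    rw [h.comm, mul_assoc, mul_inv_cancel, mul_one])
  rcases h1.1 with h2 | h2 <;> rcases hn' with h3 | h3 <;> rw [h2] at h3 <;> exact absurd h3 (by decide)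

/-- **Non-trivial permutations of the arms are not inner.** -/
theorem not_inner [Finite HB] (hcov : IsNonsplitDoubleCover M E) (hcard : Nat.card HB ≤ Nat.card E)
    {f : Fin 10 → E} (hf : GG f) {n : Fin 6} (hn : n ≠ 0) (x : E) : ¬ ∀ i, x * f i * x⁻¹ = f (P6 n i) := by
  intro hx
  have hcase : (n = 1 ∨ n = 2 ∨ n = 3) ∨ (n = 4 ∨ n = 5) := by
    revert hn; clear hx; revert n; decide
  rcases hcase with h123 | h45
  · obtain ⟨α, hα⟩ := exists_auto hf (hf.P6 4) hcard
    -- `α x` permutes the nodes by the conjugate transposition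
    have h1 : ∀ i, α x * f (P6 4 i) * (α x)⁻¹ = f (P6 4 (P6 n i)) := by
      intro i
      have := congrArg α (hx i)
      rw [map_mul, map_mul, map_inv, hα, hα] at this
      exact this
    have h2 : ∀ i, α x * f i * (α x)⁻¹ = f (P6 4 (P6 n (P6 5 i))) := by
      intro i
      have := h1 (P6 5 i)
      rwa [P6_45] at this
    refine rot_not_inner hcov hcard hf (Or.inl rfl) (x * α x) fun i => ?_
    calc x * α x * f i * (x * α x)⁻¹ = x * (α x * f i * (α x)⁻¹) * x⁻¹ := by group
      _ = f (P6 n (P6 4 (P6 n (P6 5 i)))) := by rw [h2, hx]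
      _ = f (P6 4 i) := by rw [P6_conj4 n h123]
  · exact rot_not_inner hcov hcard hf h45 x hx

end Ext

end Cfsg.Agent.BabyU.OutFree
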