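import Cfsg.Agent.BabyU.FusCore
import Cfsg.Agent.BabyU.FusGen
import Cfsg.Agent.TwoESix.SwapNodes
import Cfsg.Agent.TwoESix.ClassIso
import Cfsg.Agent.TwoESix.FrameCent

/-!
# The fusion step: some lift of a root involution is conjugate to `t`  (R19U, U-B P3, helper234)

`fuse` : for a `Setup` of index two with `E ≃* Gam` (the 78-dimensional model), from THEOREM OUT, the configuration
`FrameCfg.cfg` and a 2-group `Gen`, `Cent`.
-/

set_option autoImplicit false

namespace Cfsg.Agent.BabyU.FusFinal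

open Cfsg.Lie Cfsg.Agent.BabyU.Lab Cfsg.Agent.BabyU.FusCfg Cfsg.Agent.BabyU.OutFree Cfsg.Agent.BabyU.OutCount
open Cfsg.Agent.TwoESix Cfsg.Agent.TwoESix.Cox10 Cfsg.Agent.TwoESix.Lift Cfsg.Agent.TwoESix.Cover

/-- A finite simple group with two elements which do not commute has no subgroup of index two. -/
theorem index_ne_two {G : Type*} [Group G] [IsSimpleGroup G] (h : ∃ a b : G, a * b ≠ b * a)
    (H : Subgroup G) : H.index ≠ 2 := by
  intro h2
  have hn : H.Normal := Subgroup.normal_of_index_eq_two h2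
  rcases hn.eq_bot_or_eq_top with h3 | h3
  · obtain ⟨a, b, hab⟩ := h
    rw [h3, Subgroup.index_bot] at h2
    apply hab
    have hc : IsCyclic G := isCyclic_of_prime_card (p := 2) h2
    exact (IsCyclic.commGroup (α := G)).mul_comm a b
  · rw [h3, Subgroup.index_top] at h2
    exact absurd h2 (by norm_num)

/-- the centre of `M` -/
theorem nonsplit {G : Type*} [Group G] {t : G} {M : Subgroup G} {E : Type*} [Group E] {π : M →* E}
    (S : Setup t M π) : Cfsg.IsNonsplitDoubleCover M E := by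
  refine FusRoot.nonsplit_of S.ext (fun c hc => ?_) S.nosec
  rcases S.cent (c : G) (fun m hm => congrArg Subtype.val (hc ⟨m, hm⟩)) with h1 | h1
  · exact Or.inl (Subtype.ext h1)
  · exact Or.inr (Subtype.ext h1)

theorem P6_three : ∀ i, P6 3 i = pBC i := by decide

/-- the group is not commutative -/
theorem exists_not_commute {E : Type*} [Group E] {R : Set E} (roots : Roots E R) : ∃ a b : E, ¬ Commute a b := by
  obtain ⟨a, ha, b, hb, h⟩ := roots.spe_ex
  refine ⟨a, b, fun hc => roots.ne_one _ h ?_⟩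
  rw [hc.mul_pow, pow_two, pow_two, roots.sq a ha, roots.sq b hb, mul_one]

/-- the 78-dimensional model, as an abstract group -/
theorem model : ∃ (Γ : Type) (_ : Group Γ) (T : Set Γ) (σ : Γ →* Γ) (T' : Fin 10 → Γ) (K : Cfg Γ T σ) (L S' : Set Γ),
    GG T' ∧ (∀ i, T' i ∈ T) ∧ (∀ i, σ (T' i) = T' (pBC i)) ∧ (∀ r ∈ T, σ r ∈ T) ∧ FusGen.Gen K L S' ∧
    ((∀ y : Γ, ∃ x, σ x ≠ y * x * y⁻¹) → FusGen.Cent K L S') ∧
    ∀ (F : Type) [Field F] [Fintype F], Fintype.card F = 4 →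
      ∃ θ : twistedE6 F 2 ≃* Γ, ∀ x, x ∈ rootClass F ↔ θ x ∈ T :=
  ⟨Iso.Gam, inferInstance, FrameCfg.TS, FrameCfg.sig, SwapNodes.S, FrameCfg.cfg, FrameU.Lset, FrameU.Sset,
    SwapNodes.gg_S, SwapNodes.S_mem, SwapNodes.sig_S, fun _ hr => FrameCfg.sig_TS hr, FrameU.gen,
    fun h => FrameCent.cent (FrameCent.Phi_notMem h), fun F _ _ hF => ClassIso.exists_equiv F hF⟩

/-- The fusion step for an abstract model. -/
theorem fuse_abs [Finite HB] {G : Type*} [Group G] [Finite G] (hG : ∀ H : Subgroup G, H.index ≠ 2) {t : G}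
    {M : Subgroup G} {E : Type*} [Group E] {π : M →* E} (S : Setup t M π) {F : Type*} [Field F] [Fintype F]
    {hF : Fintype.card F = 4} {R : Set E} (hcard : Nat.card HB ≤ Nat.card E) (hyp : Hyp hF R) (roots : Roots E R)
    (hinv : ∀ (g : G) (hg : g * t = t * g) (x : M), π x ∈ R → π ⟨g * x * g⁻¹, S.norm g hg x x.2⟩ ∈ R)
    {Γ : Type*} [Group Γ] {T : Set Γ} (θ : E ≃* Γ) (hθ : ∀ x, x ∈ R ↔ θ x ∈ T) {T' : Fin 10 → Γ} (hT' : GG T')
    (hT'm : ∀ i, T' i ∈ T) (σ : Γ →* Γ) (hσ : ∀ i, σ (T' i) = T' (pBC i)) (hσT : ∀ r ∈ T, σ r ∈ T) (K : Cfg Γ T σ)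
    {L S' : Set Γ} (hK : FusGen.Gen K L S') (hc : FusGen.Cent K L S') (hout : ∃ g : G, g * t = t * g ∧ g ∉ M) :
    ∃ m : M, π m ∈ R ∧ ∃ g : G, g * t * g⁻¹ = m := by
  obtain ⟨g, hg, hgM⟩ := hout
  have rootsΓ : Roots Γ T := FusRoot.roots_map roots θ hθ
  have hθs : ∀ y : Γ, y ∈ T → θ.symm y ∈ R := fun y hy => by
    rw [hθ, θ.apply_symm_apply]; exact hy
  obtain ⟨π', u, C, hmem, I, hut, huM, hu⟩ := FusRoot.bridge S hcard (exists_not_commute roots) hyp hinv
    (e := fun i => θ.symm (T' i)) (FusRoot.gg_equiv hT' θ.symm) (fun i => hθs _ (hT'm i)) θ hθ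
    (fun r hr x => rootsΓ.conj r hr x) rootsΓ.one hT' hT'm σ hσ hg hgM
  have hle : M ≤ Subgroup.centralizer ({(S.z : G)} : Set G) := fun x hx =>
    Subgroup.mem_centralizer_singleton_iff.2 (S.comm x hx)
  obtain ⟨x, hx⟩ := FusGen.exists_conj_root hG (t := S.z) hle (FusCore.relIndex_two S hut huM) C rootsΓ
    hσT I hut huM hu hK hc
  have hr : π' (w π' T K.r) ∈ T := by
    rw [map_w C rootsΓ K.m_r]
    exact K.m_r
  rcases hx with hx | hx
  · exact ⟨w π' T K.r, (hmem _).1 hr, x, hx⟩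
  · refine ⟨S.z * w π' T K.r, (hmem _).1 ?_, x, hx⟩
    rw [map_mul, C.map_t, one_mul]
    exact hr

/-- **The fusion step.** -/
theorem fuse [Finite HB] {G : Type*} [Group G] [Finite G] [IsSimpleGroup G] {F : Type} [Field F] [Fintype F]
    (hF : Fintype.card F = 4) {t : G} {M : Subgroup G} {π : M →* twistedE6 F 2} (S : Setup t M π)
    (hcard : Nat.card HB ≤ Nat.card (twistedE6 F 2))
    (hyp : Hyp hF (rootClass F)) (roots : Roots (twistedE6 F 2) (rootClass F))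
    (hinv : ∀ (g : G) (hg : g * t = t * g) (x : M), π x ∈ rootClass F →
      π ⟨g * x * g⁻¹, S.norm g hg x x.2⟩ ∈ rootClass F)
    (hout : ∃ g : G, g * t = t * g ∧ g ∉ M) :
    ∃ m : M, π m ∈ rootClass F ∧ ∃ g : G, g * t * g⁻¹ = m := by
  obtain ⟨Γ, _, T, σ, T', K, L, S', h1, h2, h3, h4, h5, h6, h7⟩ := model
  obtain ⟨θ, hθ⟩ := h7 F hF
  refine fuse_abs (index_ne_two ?_) S hcard hyp roots hinv θ hθ h1 h2 σ h3 h4 K h5 (h6 ?_) hout
  · obtain ⟨a, b, hab⟩ := exists_not_commute roots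
    obtain ⟨a, rfl⟩ := S.surj a
    obtain ⟨b, rfl⟩ := S.surj b
    refine ⟨a, b, fun h => hab ?_⟩
    have h8 : a * b = b * a := Subtype.ext h
    show π a * π b = π b * π a
    rw [← map_mul, h8, map_mul]
  · intro y
    by_contra hcon
    push Not at hcon
    refine not_inner (nonsplit S) hcard (FusRoot.gg_equiv h1 θ.symm) (n := 3) (by decide) (θ.symm y) fun i => ?_
    rw [P6_three, ← map_mul, ← map_inv, ← map_mul, ← hcon, h3]

end Cfsg.Agent.BabyU.FusFinal
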