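import Cfsg.Agent.BabyU.Setup
import Cfsg.Agent.BabyU.Lab
import Mathlib.GroupTheory.Sylow

/-!
# U-B, fusion, second half: good lifts  (pieces (a) and (u1*)-(u3))

`Flag T R S b a c`: facts about one flag of `E = 2E6(2)`: `b` the top root, `c` the second root of the
line, `R = O_2(C_E(b))`, `S` a Sylow 2-subgroup, `a` a root symplectic to `b`, central in `S / R`.

`Hyp`: the setup, the laws of the canonical lifts, the flag, and the three facts on `M`.

Results (with `D = t^G`): `w_not` (no canonical lift is in `D`), `lab_mem` (all good lifts are in `D`),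
`nb_symm`, `closed` (two commuting good neighbours of `c` are good neighbours of each other).
-/

set_option autoImplicit false

namespace Cfsg.Agent.BabyU.FusGood

open Cfsg.Agent.BabyU Cfsg.Agent.BabyU.Lab
open scoped commutatorElement Pointwise

universe u v

/-- Facts about one flag of `E`. -/
structure Flag {E : Type v} [Group E] (T : Set E) (R S : Subgroup E) (b a c : E) : Prop where
  b_mem : b ∈ T
  a_mem : a ∈ T
  c_mem : c ∈ T
  bc : b * c ∈ T
  ab : a * b = b * a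
  ab_not : a * b ∉ T
  a_ne : a ≠ b
  R_le : R ≤ S
  S_le : ∀ x ∈ S, x * b = b * x
  S_two : IsPGroup 2 S
  S_odd : ¬ 2 ∣ S.index
  R_norm : ∀ y, y * b = b * y → ∀ x ∈ R, y * x * y⁻¹ ∈ R
  R_gen : R ≤ Subgroup.closure ((R : Set E) ∩ T)
  R_comm : ∀ x ∈ R, x ∈ T → ∀ y ∈ R, y ∈ T → x * y = y * x ∨ ⁅x, y⁆ = b
  R_non : ∃ x ∈ R, x ∈ T ∧ ∃ y ∈ R, y ∈ T ∧ ⁅x, y⁆ = b
  R_max : ∀ N : Subgroup E, (∀ x ∈ N, x * b = b * x) → IsPGroup 2 N →
    (∀ y, y * b = b * y → ∀ x ∈ N, y * x * y⁻¹ ∈ N) → N ≤ R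
  S_cen : ∀ x ∈ S, (∀ y ∈ S, y * x = x * y) → x = 1 ∨ x = b
  c_R : c ∈ R
  c_fix : ∀ y ∈ S, y * c * y⁻¹ = c ∨ y * c * y⁻¹ = b * c
  c_uni : ∀ x ∈ R, (∀ y ∈ S, y * x * y⁻¹ = x ∨ y * x * y⁻¹ = b * x) →
    x = 1 ∨ x = b ∨ x = c ∨ x = b * c
  a_S : a ∈ S
  a_R : a ∉ R
  a_fix : ∀ y ∈ S, y * a * y⁻¹ * a⁻¹ ∈ R
  a_uni : ∀ x ∈ S, (∀ y ∈ S, y * x * y⁻¹ * x⁻¹ ∈ R) → x ∈ R ∨ x * a⁻¹ ∈ R
  a_bor : ∀ y, y * b = b * y → (∀ x ∈ S, y * x * y⁻¹ ∈ S) → ∃ q ∈ R, y * a * y⁻¹ = q * a * q⁻¹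
  a_van : ∀ x ∈ R, (∀ y, y * b = b * y → (∀ x ∈ S, y * x * y⁻¹ ∈ S) →
      ∃ q ∈ R, y * x * y⁻¹ * x⁻¹ = ⁅q, a⁆ ∨ y * x * y⁻¹ * x⁻¹ = b * ⁅q, a⁆) →
    ∃ q ∈ R, x = ⁅q, a⁆ ∨ x = b * ⁅q, a⁆

/-- The hypotheses of the second half of the fusion step. -/
structure Hyp {G : Type u} [Group G] {E : Type v} [Group E] (t : G) (M : Subgroup G) (π : M →* E)
    (T : Set E) (R S : Subgroup E) (b a c : E) : Prop where
  set : Setup t M π
  roots : Roots E T
  flag : Flag T R S b a c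
  /-- (e2) for `b` -/
  perf : ∀ H : Subgroup M, H.relIndex (Subgroup.centralizer ({w π T b} : Set M)) ≠ 2
  /-- `T` is invariant under `C_G(t)` -/
  out : ∀ h : G, h * t = t * h → ∀ m m' : M, (m' : G) = h * m * h⁻¹ → π m ∈ T → π m' ∈ T
  /-- output of the first half of the fusion step -/
  fuse : ∃ m : M, π m ∈ T ∧ ∃ g : G, g * t * g⁻¹ = m
  /-- pairwise commuting roots whose canonical lifts have product `t` -/
  chain : ∃ l : List E, (∀ r ∈ l, r ∈ T) ∧ l.Pairwise (fun r s => r * s = s * r ∧ r ≠ s) ∧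
    (((l.map (w π T)).prod : M) : G) = t

section

variable {G : Type u} [Group G] {t : G} {M : Subgroup G} {E : Type v} [Group E] {π : M →* E}
  {T : Set E} {R S : Subgroup E} {b a c : E}

theorem _root_.Cfsg.Agent.BabyU.Setup.cover (h : Setup t M π) : Cover π h.z where
  surj := h.surj
  ker := fun m => by
    rw [h.ker]
    constructor
    · rintro (h1 | h1)
      · exact Or.inl (Subtype.ext h1)
      · exact Or.inr (Subtype.ext h1)
    · rintro (h1 | h1)
      · exact Or.inl (congrArg Subtype.val h1)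
      · exact Or.inr (congrArg Subtype.val h1)
  ne := fun h1 => h.ne (congrArg Subtype.val h1)

/-- the canonical lift as an element of `G` -/
noncomputable def W (π : M →* E) (T : Set E) (r : E) : G := ((w π T r : M) : G)

/-- `x` is a canonical lift relative to `c` -/
def Cn (t : G) (π : M →* E) (T : Set E) (c x : G) : Prop :=
  ∃ g : G, g * t * g⁻¹ = c ∧ ∃ r ∈ T, g * W π T r * g⁻¹ = x

/-- `x` is a good lift relative to `c` -/
def Nb (t : G) (π : M →* E) (T : Set E) (c x : G) : Prop :=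
  ∃ g : G, g * t * g⁻¹ = c ∧ ∃ r ∈ T, g * (t * W π T r) * g⁻¹ = x

theorem nb_iff (ht : t * t = 1) (c x : G) : Nb t π T c x ↔ Cn t π T c (c * x) := by
  constructor
  · rintro ⟨g, rfl, r, hr, rfl⟩
    refine ⟨g, rfl, r, hr, ?_⟩
    calc g * W π T r * g⁻¹ = g * (1 * W π T r) * g⁻¹ := by rw [one_mul]
      _ = g * (t * t * W π T r) * g⁻¹ := by rw [ht]
      _ = g * t * g⁻¹ * (g * (t * W π T r) * g⁻¹) := by group
  · rintro ⟨g, rfl, r, hr, h⟩
    refine ⟨g, rfl, r, hr, ?_⟩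
    have ht' : t⁻¹ = t := inv_eq_iff_mul_eq_one.2 ht
    have : x = (g * t * g⁻¹)⁻¹ * (g * W π T r * g⁻¹) := by rw [h]; group
    rw [this]
    calc g * (t * W π T r) * g⁻¹ = g * (t⁻¹ * W π T r) * g⁻¹ := by rw [ht']
      _ = (g * t * g⁻¹)⁻¹ * (g * W π T r * g⁻¹) := by group

theorem Nb.conj {x y : G} (h : Nb t π T x y) (g : G) : Nb t π T (g * x * g⁻¹) (g * y * g⁻¹) := by
  obtain ⟨k, rfl, r, hr, rfl⟩ := h
  exact ⟨g * k, by group, r, hr, by group⟩

theorem Cn.conj {x y : G} (h : Cn t π T x y) (g : G) : Cn t π T (g * x * g⁻¹) (g * y * g⁻¹) := by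
  obtain ⟨k, rfl, r, hr, rfl⟩ := h
  exact ⟨g * k, by group, r, hr, by group⟩

end

/-- commutators of a group generated by elements with commutators in a central `{1, z}` -/
theorem comm_closure {A : Type*} [Group A] {z : A} {X : Set A} (hz : ∀ x ∈ X, x * z = z * x)
    (hzz : z * z = 1) (hX : ∀ x ∈ X, ∀ y ∈ X, ⁅x, y⁆ = 1 ∨ ⁅x, y⁆ = z) :
    ∀ x ∈ Subgroup.closure X, ∀ y ∈ Subgroup.closure X, ⁅x, y⁆ = 1 ∨ ⁅x, y⁆ = z := by
  have hcl : ∀ x ∈ Subgroup.closure X, x * z = z * x := by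
    intro x hx
    have : Subgroup.closure X ≤ Subgroup.centralizer ({z} : Set A) := by
      rw [Subgroup.closure_le]
      intro x hx
      rw [SetLike.mem_coe, Subgroup.mem_centralizer_iff]
      rintro _ rfl
      exact (hz x hx).symm
    exact ((Subgroup.mem_centralizer_iff.1 (this hx)) z rfl).symm
  have hzi : z⁻¹ = z := inv_eq_iff_mul_eq_one.2 hzz
  -- the right argument
  have step : ∀ x : A, x * z = z * x → (∀ y ∈ X, ⁅x, y⁆ = 1 ∨ ⁅x, y⁆ = z) →
      ∀ y ∈ Subgroup.closure X, ⁅x, y⁆ = 1 ∨ ⁅x, y⁆ = z := by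
    intro x hx h y hy
    induction hy using Subgroup.closure_induction with
    | mem y hy => exact h y hy
    | one => left; simp
    | mul y y' hy hy' ih ih' =>
      have e : ⁅x, y * y'⁆ = ⁅x, y⁆ * (y * ⁅x, y'⁆ * y⁻¹) := by
        simp only [commutatorElement_def]; group
      have hyz := hcl y hy
      rw [e]
      rcases ih with h1 | h1 <;> rcases ih' with h2 | h2 <;> rw [h1, h2]
      · left; simp
      · right; rw [hyz]; group
      · right; simp
      · left; rw [hyz]; rw [show z * (z * y * y⁻¹) = z * z by group, hzz]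
    | inv y hy ih =>
      have e : ⁅x, y⁻¹⁆ = y⁻¹ * ⁅x, y⁆⁻¹ * y := by
        simp only [commutatorElement_def]; group
      have hyz := hcl y hy
      rw [e]
      rcases ih with h1 | h1 <;> rw [h1]
      · left; simp
      · right; rw [hzi, mul_assoc, ← hyz]; group
  intro x hx y hy
  have hflip : ∀ x y : A, (⁅x, y⁆ = 1 ∨ ⁅x, y⁆ = z) → (⁅y, x⁆ = 1 ∨ ⁅y, x⁆ = z) := by
    intro x y h
    rw [← commutatorElement_inv x y]
    rcases h with h | h <;> rw [h]
    · left; simp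
    · right; exact hzi
  apply step x (hcl x hx) _ y hy
  intro y hy
  apply hflip
  exact step y (hz y hy) (fun x hx => hX y hy x hx) x hx

section flag

variable {E : Type v} [Group E] {T : Set E} {R S : Subgroup E} {b a c : E}

theorem Flag.comm (F : Flag T R S b a c) (hT : Roots E T) :
    ∀ x ∈ R, ∀ y ∈ R, ⁅x, y⁆ = 1 ∨ ⁅x, y⁆ = b := by
  have := comm_closure (z := b) (X := (R : Set E) ∩ T)
    (fun x hx => F.S_le x (F.R_le hx.1)) (hT.sq b F.b_mem)
    (fun x hx y hy => by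
      rcases F.R_comm x hx.1 hx.2 y hy.1 hy.2 with h | h
      · left; rw [commutatorElement_def, h]; group
      · right; exact h)
  exact fun x hx y hy => this x (F.R_gen hx) y (F.R_gen hy)

theorem Flag.van (F : Flag T R S b a c) (hT : Roots E T) {x y q₁ q₂ : E} (hxa : x * a⁻¹ ∈ R)
    (hq₁ : q₁ ∈ R) (hq₂ : q₂ ∈ R) (ha : y * a * y⁻¹ = q₁ * a * q₁⁻¹)
    (hx : y * x * y⁻¹ = q₂ * x * q₂⁻¹) :
    ∃ q ∈ R, y * (x * a⁻¹) * y⁻¹ * (x * a⁻¹)⁻¹ = ⁅q, a⁆ ∨
      y * (x * a⁻¹) * y⁻¹ * (x * a⁻¹)⁻¹ = b * ⁅q, a⁆ := by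
  have hb2 := hT.sq b F.b_mem
  have hbR : ∀ u ∈ R, u * b = b * u := fun u hu => F.S_le u (F.R_le hu)
  have swap : ∀ u ∈ R, ∀ v ∈ R, u * v = v * u ∨ u * v = b * (v * u) := by
    intro u hu v hv
    rcases F.comm hT u hu v hv with h | h
    · left
      rw [commutatorElement_def] at h
      calc u * v = u * v * u⁻¹ * v⁻¹ * (v * u) := by group
        _ = v * u := by rw [h, one_mul]
    · right
      rw [commutatorElement_def] at h
      calc u * v = u * v * u⁻¹ * v⁻¹ * (v * u) := by group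
        _ = b * (v * u) := by rw [h]
  set Y := x * a⁻¹ with hY
  set p := q₂⁻¹ * q₁ with hp
  have hpR : p ∈ R := R.mul_mem (R.inv_mem hq₂) hq₁
  set A := a * p * a⁻¹ with hA
  have hAR : A ∈ R := F.R_norm a F.ab p hpR
  have trans : ∀ u v w : E, (u = v ∨ u = b * v) → (v = w ∨ v = b * w) → (u = w ∨ u = b * w) := by
    intro u v w h1 h2
    rcases h1 with h1 | h1 <;> rcases h2 with h2 | h2 <;> rw [h1, h2]
    · left; rfl
    · right; rfl
    · right; rfl
    · left; rw [← mul_assoc, hb2, one_mul]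
  have e0 : y * Y * y⁻¹ * Y⁻¹ = (q₂ * Y * A * q₁⁻¹) * Y⁻¹ := by
    have e1 : y * Y * y⁻¹ = (y * x * y⁻¹) * (y * a * y⁻¹)⁻¹ := by rw [hY]; group
    rw [e1, ha, hx, hA, hp, hY]
    group
  have m1 : q₂ * Y * A * q₁⁻¹ ∈ R :=
    R.mul_mem (R.mul_mem (R.mul_mem hq₂ hxa) hAR) (R.inv_mem hq₁)
  have s1 := swap _ m1 _ (R.inv_mem hxa)
  have e2 : Y⁻¹ * (q₂ * Y * A * q₁⁻¹) = (Y⁻¹ * q₂) * (Y * A * q₁⁻¹) := by group
  have s2 : Y⁻¹ * (q₂ * Y * A * q₁⁻¹) = q₂ * A * q₁⁻¹ ∨
      Y⁻¹ * (q₂ * Y * A * q₁⁻¹) = b * (q₂ * A * q₁⁻¹) := by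
    rw [e2]
    rcases swap _ (R.inv_mem hxa) _ hq₂ with h | h
    · left; rw [h]; group
    · right; rw [h]; group
  have s3 := swap _ (R.mul_mem hq₂ hAR) _ (R.inv_mem hq₁)
  have e3 : q₁⁻¹ * (q₂ * A) = ⁅p⁻¹, a⁆ := by
    rw [commutatorElement_def, hA, hp]; group
  refine ⟨p⁻¹, R.inv_mem hpR, ?_⟩
  rw [e0, ← e3]
  exact trans _ _ _ s1 (trans _ _ _ s2 s3)

end flag

namespace Hyp

variable {G : Type u} [Group G] {t : G} {M : Subgroup G} {E : Type v} [Group E] {π : M →* E}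
  {T : Set E} {R S : Subgroup E} {b a c : E}

section basic

variable (H : Hyp t M π T R S b a c)
include H

theorem tt : t * t = 1 := H.set.sq

theorem tinv : t⁻¹ = t := inv_eq_iff_mul_eq_one.2 H.tt

omit H in
theorem mem_W (r : E) : (W π T r : G) ∈ M := (w π T r : M).2

theorem t_comm {m : G} (hm : m ∈ M) : m * t = t * m := H.set.comm m hm

theorem W_comm_t (r : E) : (W π T r : G) * t = t * W π T r := H.t_comm (mem_W r)

theorem pi_W {r : E} (hr : r ∈ T) : π (w π T r) = r := map_w H.set.cover H.roots hr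

theorem W_sq {r : E} (hr : r ∈ T) : (W π T r : G) * W π T r = 1 :=
  congrArg Subtype.val (w_sq H.set.cover H.roots hr)

theorem W_inv {r : E} (hr : r ∈ T) : (W π T r : G)⁻¹ = W π T r :=
  inv_eq_iff_mul_eq_one.2 (H.W_sq hr)

theorem W_conj (m : M) {r : E} (hr : r ∈ T) :
    (m : G) * W π T r * (m : G)⁻¹ = W π T (π m * r * (π m)⁻¹) :=
  congrArg Subtype.val (w_conj H.set.cover H.roots m hr)

/-- conjugation by an arbitrary element of `C_G(t)` -/
theorem W_conj_out {g : G} (hg : g * t = t * g) {r : E} (hr : r ∈ T) :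
    ∃ r' ∈ T, g * W π T r * g⁻¹ = W π T r' := by
  -- the automorphism `φ` of `M` and the automorphism `ψ` of `E`
  have hn := H.set.norm g hg
  let φ : M →* M :=
    { toFun := fun m => ⟨g * m * g⁻¹, hn m m.2⟩
      map_one' := Subtype.ext (by simp)
      map_mul' := fun x y => Subtype.ext (by simp [mul_assoc]) }
  have hφ : ∀ m : M, ((φ m : M) : G) = g * m * g⁻¹ := fun _ => rfl
  have hker : ∀ x y : M, π x = π y → π (φ x) = π (φ y) := by
    intro x y hxy
    rcases H.set.cover.eq_or hxy with h | h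
    · rw [h]
    · rw [h, map_mul, map_mul]
      have : φ H.set.z = H.set.z := Subtype.ext (by
        rw [hφ]; show g * t * g⁻¹ = t; rw [hg]; group)
      rw [this, H.set.cover.map_t, one_mul]
  let ψ : E →* E :=
    { toFun := fun e => π (φ (Function.surjInv H.set.surj e))
      map_one' := by
        have h1 : π (Function.surjInv H.set.surj (1 : E)) = π 1 := by
          rw [Function.surjInv_eq H.set.surj, map_one]
        rw [hker _ _ h1, map_one, map_one]
      map_mul' := fun x y => by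
        have h1 : π (Function.surjInv H.set.surj (x * y)) =
            π (Function.surjInv H.set.surj x * Function.surjInv H.set.surj y) := by
          rw [Function.surjInv_eq H.set.surj, map_mul, Function.surjInv_eq H.set.surj,
            Function.surjInv_eq H.set.surj]
        rw [hker _ _ h1, map_mul, map_mul] }
  have hψ : ∀ m : M, π (φ m) = ψ (π m) := by
    intro m
    show π (φ m) = π (φ (Function.surjInv H.set.surj (π m)))
    exact hker _ _ (Function.surjInv_eq H.set.surj (π m)).symm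
  have hT : ∀ r ∈ T, ψ r ∈ T := by
    intro r hr
    have := H.out g hg (w π T r) (φ (w π T r)) (hφ _) (by rw [H.pi_W hr]; exact hr)
    rwa [hψ, H.pi_W hr] at this
  refine ⟨ψ r, hT r hr, ?_⟩
  exact congrArg Subtype.val (w_aut H.set.cover H.roots φ ψ hψ hT hr)

/-- `Cn t x` does not depend on the conjugating element -/
theorem Cn_t {x : G} (h : Cn t π T t x) : ∃ r ∈ T, x = W π T r := by
  obtain ⟨g, hg, r, hr, rfl⟩ := h
  obtain ⟨r', hr', h'⟩ := H.W_conj_out (g := g) (mul_inv_eq_iff_eq_mul.1 hg) hr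
  exact ⟨r', hr', h'⟩

theorem Cn_conj {g x : G} (h : Cn t π T (g * t * g⁻¹) x) :
    ∃ r ∈ T, x = g * W π T r * g⁻¹ := by
  have h1 := h.conj g⁻¹
  rw [show g⁻¹ * (g * t * g⁻¹) * g⁻¹⁻¹ = t by group] at h1
  obtain ⟨r, hr, he⟩ := H.Cn_t h1
  refine ⟨r, hr, ?_⟩
  rw [← he]
  group

theorem Nb_conj {g x : G} (h : Nb t π T (g * t * g⁻¹) x) :
    ∃ r ∈ T, x = g * (t * W π T r) * g⁻¹ := by
  rw [nb_iff H.tt] at h
  obtain ⟨r, hr, he⟩ := H.Cn_conj h
  refine ⟨r, hr, ?_⟩
  have : x = (g * t * g⁻¹)⁻¹ * (g * W π T r * g⁻¹) := by rw [← he]; group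
  rw [this]
  calc (g * t * g⁻¹)⁻¹ * (g * W π T r * g⁻¹) = g * (t⁻¹ * W π T r) * g⁻¹ := by group
    _ = _ := by rw [H.tinv]

end basic

/-- full preimage in `G` of a subgroup of `E` -/
def pre (π : M →* E) (X : Subgroup E) : Subgroup G := (X.comap π).map M.subtype

theorem mem_pre {X : Subgroup E} {g : G} : g ∈ pre π X ↔ ∃ h : g ∈ M, π ⟨g, h⟩ ∈ X := by
  rw [pre, Subgroup.mem_map]
  constructor
  · rintro ⟨x, hx, rfl⟩
    exact ⟨x.2, hx⟩
  · rintro ⟨h, hx⟩
    exact ⟨⟨g, h⟩, hx, rfl⟩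

theorem pre_mem_iff {X : Subgroup E} {m : M} : (m : G) ∈ pre π X ↔ π m ∈ X := by
  rw [mem_pre]
  exact ⟨fun ⟨_, h⟩ => h, fun h => ⟨m.2, h⟩⟩

theorem pre_mono {X Y : Subgroup E} (h : X ≤ Y) : (pre π X : Subgroup G) ≤ pre π Y := by
  intro g hg
  obtain ⟨h1, h2⟩ := mem_pre.1 hg
  exact mem_pre.2 ⟨h1, h h2⟩

theorem pre_le {X : Subgroup E} : (pre π X : Subgroup G) ≤ M := fun _ hg => (mem_pre.1 hg).1

section two

variable (H : Hyp t M π T R S b a c)
include H

theorem t_mem_pre (X : Subgroup E) : t ∈ pre π X :=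
  mem_pre.2 ⟨H.set.mem, by
    have : π ⟨t, H.set.mem⟩ = 1 := H.set.cover.map_t
    rw [this]; exact X.one_mem⟩

/-- the centraliser of the canonical lift -/
theorem mem_K {r : E} (hr : r ∈ T) {g : G} :
    g ∈ pre π (Subgroup.centralizer ({r} : Set E)) ↔ g ∈ M ∧ g * W π T r = W π T r * g := by
  constructor
  · intro hg
    obtain ⟨h1, h2⟩ := mem_pre.1 hg
    have := (mem_centralizer_w H.set.cover H.roots hr ⟨g, h1⟩).2 h2
    exact ⟨h1, (congrArg Subtype.val (Subgroup.mem_centralizer_iff.1 this _ rfl)).symm⟩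
  · rintro ⟨h1, h2⟩
    refine mem_pre.2 ⟨h1, (mem_centralizer_w H.set.cover H.roots hr ⟨g, h1⟩).1 ?_⟩
    rw [Subgroup.mem_centralizer_iff]
    rintro _ rfl
    exact Subtype.ext h2.symm

theorem R_mem_K {x : E} (hx : x ∈ S) : x ∈ Subgroup.centralizer ({b} : Set E) := by
  rw [Subgroup.mem_centralizer_iff]
  rintro _ rfl
  exact (H.flag.S_le x hx).symm

theorem S_le_K : (pre π S : Subgroup G) ≤ pre π (Subgroup.centralizer ({b} : Set E)) :=
  pre_mono fun _ hx => H.R_mem_K hx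

theorem R_le_S : (pre π R : Subgroup G) ≤ pre π S := pre_mono H.flag.R_le

theorem K_comm_t {k : G} (hk : k ∈ pre π (Subgroup.centralizer ({b} : Set E))) : k * t = t * k :=
  H.t_comm (pre_le hk)

theorem K_comm_z {k : G} (hk : k ∈ pre π (Subgroup.centralizer ({b} : Set E))) :
    k * W π T b = W π T b * k := ((H.mem_K H.flag.b_mem).1 hk).2

/-- if a conjugate of `K₀ = C_M(w b)` lies in `C_G(t)`, then in `M` -/
theorem perf' {g : G} (hg : ∀ k ∈ pre π (Subgroup.centralizer ({b} : Set E)),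
    g * k * g⁻¹ * t = t * (g * k * g⁻¹)) {k : G}
    (hk : k ∈ pre π (Subgroup.centralizer ({b} : Set E))) : g * k * g⁻¹ ∈ M := by
  by_contra hcon
  apply H.perf ((M.comap (MulAut.conj g).toMonoidHom).comap M.subtype)
  rw [Subgroup.relIndex_eq_two_iff_exists_notMem_and]
  obtain ⟨hkM, hk2⟩ := (H.mem_K H.flag.b_mem).1 hk
  have memc : ∀ m : M, m ∈ Subgroup.centralizer ({w π T b} : Set M) ↔
      (m : G) ∈ pre π (Subgroup.centralizer ({b} : Set E)) := by
    intro m
    rw [mem_centralizer_w H.set.cover H.roots H.flag.b_mem, pre_mem_iff]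
  refine ⟨⟨k, hkM⟩, (memc _).2 hk, hcon, ?_⟩
  intro m hm
  rw [memc] at hm
  by_cases h1 : g * m * g⁻¹ ∈ M
  · right; exact h1
  · left
    show g * (m * k) * g⁻¹ ∈ M
    rw [show g * (m * k) * g⁻¹ = g * m * g⁻¹ * (g * k * g⁻¹) by group]
    exact H.set.index _ _ (hg _ hm) (hg _ hk) h1 hcon

theorem z_ne_one : (W π T b : G) ≠ 1 := fun h =>
  w_ne_one H.set.cover H.roots H.flag.b_mem (Subtype.ext h)

theorem z_ne_t : (W π T b : G) ≠ t := by
  intro h
  have h1 : w π T b = H.set.z := Subtype.ext h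
  have h2 := H.pi_W H.flag.b_mem
  rw [h1, H.set.cover.map_t] at h2
  exact H.roots.ne_one b H.flag.b_mem h2.symm

theorem eq_of_pi_one {g : G} (hg : g ∈ M) (h : π ⟨g, hg⟩ = 1) : g = 1 ∨ g = t :=
  (H.set.ker _).1 h

theorem eq_of_pi {g g' : G} (hg : g ∈ M) (hg' : g' ∈ M) (h : π ⟨g, hg⟩ = π ⟨g', hg'⟩) :
    g = g' ∨ g = t * g' := by
  rcases H.set.cover.eq_or h with h1 | h1
  · exact Or.inl (congrArg Subtype.val h1)
  · exact Or.inr (congrArg Subtype.val h1)

/-- the centre of `S₀` -/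
theorem S_center {x : G} (hx : x ∈ pre π S) (h : ∀ y ∈ pre π S, y * x = x * y) :
    x = 1 ∨ x = t ∨ x = W π T b ∨ x = t * W π T b := by
  obtain ⟨hxM, hxS⟩ := mem_pre.1 hx
  have h1 : π ⟨x, hxM⟩ = 1 ∨ π ⟨x, hxM⟩ = b := by
    apply H.flag.S_cen _ hxS
    intro y hy
    obtain ⟨m, rfl⟩ := H.set.surj y
    have := h m (pre_mem_iff.2 hy)
    rw [← map_mul, ← map_mul]
    congr 1
    exact Subtype.ext this
  rcases h1 with h1 | h1
  · rcases H.eq_of_pi_one hxM h1 with h2 | h2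
    · exact Or.inl h2
    · exact Or.inr (Or.inl h2)
  · have h2 : π ⟨x, hxM⟩ = π ⟨W π T b, mem_W b⟩ := by
      rw [h1]; exact (H.pi_W H.flag.b_mem).symm
    rcases H.eq_of_pi _ _ h2 with h3 | h3
    · exact Or.inr (Or.inr (Or.inl h3))
    · exact Or.inr (Or.inr (Or.inr h3))

theorem z_mem_S : (W π T b : G) ∈ pre π S := by
  obtain ⟨x, hx, -, y, hy, -, h⟩ := H.flag.R_non
  have hb : b ∈ S := by
    rw [← h, commutatorElement_def]
    exact H.flag.R_le (R.mul_mem (R.mul_mem (R.mul_mem hx hy) (R.inv_mem hx)) (R.inv_mem hy))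
  refine mem_pre.2 ⟨mem_W b, ?_⟩
  have := H.pi_W H.flag.b_mem
  rw [show (⟨W π T b, mem_W b⟩ : M) = w π T b from rfl, this]
  exact hb

/-- Sylow: if `t` is conjugate to an element `u` centralised by `K₀`, then by an element
normalising `S₀`. -/
theorem exists_norm [Finite G] {u : G}
    (hu : ∀ k ∈ pre π (Subgroup.centralizer ({b} : Set E)), k * u = u * k)
    (hg : ∃ g : G, g * t * g⁻¹ = u) :
    ∃ n : G, n * t * n⁻¹ = u ∧ ∀ x, x ∈ pre π S ↔ n * x * n⁻¹ ∈ pre π S := by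
  classical
  obtain ⟨g, rfl⟩ := hg
  have h1 : ∀ k ∈ pre π (Subgroup.centralizer ({b} : Set E)), g⁻¹ * k * g ∈ M := by
    intro k hk
    have := H.perf' (g := g⁻¹) (fun k hk => by
      have h2 := hu k hk
      calc g⁻¹ * k * g⁻¹⁻¹ * t = g⁻¹ * (k * (g * t * g⁻¹)) * g := by group
        _ = g⁻¹ * (g * t * g⁻¹ * k) * g := by rw [h2]
        _ = t * (g⁻¹ * k * g⁻¹⁻¹) := by group) hk
    simpa using this
  have : Fact (Nat.Prime 2) := ⟨Nat.prime_two⟩
  -- the Sylow subgroup `P`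
  have hP1 : IsPGroup 2 (S.comap π) := by
    apply H.flag.S_two.comap_of_ker_isPGroup
    intro x
    refine ⟨1, ?_⟩
    have hx : π x = 1 := x.2
    apply Subtype.ext
    show (x : M) ^ 2 ^ 1 = 1
    rcases (H.set.cover.ker _).1 hx with h | h
    · rw [h, one_pow]
    · rw [h, pow_one, pow_two, H.set.cover.t_mul_t]
  have hP2 : ¬ 2 ∣ (S.comap π).index := by
    rw [Subgroup.index_comap_of_surjective _ H.set.surj]
    exact H.flag.S_odd
  set P : Sylow 2 M := hP1.toSylow hP2 with hP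
  let Q2 : Subgroup M := ((pre π S).comap (MulAut.conj g).toMonoidHom).comap M.subtype
  have memQ2 : ∀ m : M, m ∈ Q2 ↔ g * m * g⁻¹ ∈ pre π S := fun _ => Iff.rfl
  have hcard : Nat.card Q2 = Nat.card (S.comap π) := by
    have e1 : Nat.card (pre π S) = Nat.card (S.comap π) :=
      Subgroup.card_map_of_injective M.subtype_injective
    rw [← e1]
    refine Nat.card_congr (Equiv.ofBijective
      (fun x : Q2 => (⟨g * x * g⁻¹, (memQ2 _).1 x.2⟩ : pre π S)) ⟨?_, ?_⟩)
    · intro x y hxy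
      have h3 : g * (x : M) * g⁻¹ = g * (y : M) * g⁻¹ := congrArg Subtype.val hxy
      have h4 : (((x : M) : G)) = ((y : M) : G) := by
        have := congrArg (fun z => g⁻¹ * z * g) h3
        simpa [mul_assoc] using this
      exact Subtype.ext (Subtype.ext h4)
    · rintro ⟨y, hy⟩
      have h5 := h1 y (H.S_le_K hy)
      refine ⟨⟨⟨g⁻¹ * y * g, h5⟩, (memQ2 _).2 ?_⟩, ?_⟩
      · show g * (g⁻¹ * y * g) * g⁻¹ ∈ pre π S
        rw [show g * (g⁻¹ * y * g) * g⁻¹ = y by group]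
        exact hy
      · apply Subtype.ext
        show g * (g⁻¹ * y * g) * g⁻¹ = y
        group
  have hcard' : Nat.card Q2 = 2 ^ (Nat.card M).factorization 2 := by
    rw [hcard]
    exact P.card_eq_multiplicity
  obtain ⟨m, hm⟩ := MulAction.exists_smul_eq M P (Sylow.ofCard Q2 hcard')
  have hm' : ∀ x : M, x ∈ S.comap π ↔ m * x * m⁻¹ ∈ Q2 := by
    intro x
    have h6 : (MulAut.conj m • ((P : Subgroup M) : Set M)) = (Q2 : Set M) := by
      rw [← Sylow.coe_ofCard Q2 hcard', ← hm]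
      rfl
    have h7 : m * x * m⁻¹ ∈ (Q2 : Set M) ↔ x ∈ ((P : Subgroup M) : Set M) := by
      rw [← h6]
      have : m * x * m⁻¹ = MulAut.conj m • x := rfl
      rw [this, Set.smul_mem_smul_set_iff]
    exact h7.symm
  refine ⟨g * m, ?_, ?_⟩
  · have h8 : (m : G) * t * (m : G)⁻¹ = t := by
      rw [H.t_comm m.2]; group
    calc g * m * t * (g * m)⁻¹ = g * (m * t * (m : G)⁻¹) * g⁻¹ := by group
      _ = g * t * g⁻¹ := by rw [h8]
  · intro x
    constructor
    · intro hx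
      obtain ⟨hxM, hxS⟩ := mem_pre.1 hx
      have := (memQ2 _).1 ((hm' ⟨x, hxM⟩).1 hxS)
      rw [show g * m * x * (g * m)⁻¹ = g * (m * x * (m : G)⁻¹) * g⁻¹ by group]
      exact this
    · intro hx
      have h9 := h1 _ (H.S_le_K hx)
      have h10 : (m : G) * x * (m : G)⁻¹ ∈ M := by
        rw [show (m : G) * x * (m : G)⁻¹ = g⁻¹ * (g * m * x * (g * m)⁻¹) * g by group]
        exact h9
      have hxM : x ∈ M := by
        have := M.mul_mem (M.mul_mem (M.inv_mem m.2) h10) m.2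
        simpa [mul_assoc] using this
      refine mem_pre.2 ⟨hxM, (hm' ⟨x, hxM⟩).2 ((memQ2 _).2 ?_)⟩
      show g * (m * x * (m : G)⁻¹) * g⁻¹ ∈ pre π S
      rw [show g * (m * x * (m : G)⁻¹) * g⁻¹ = g * m * x * (g * m)⁻¹ by group]
      exact hx

theorem pre_two {X : Subgroup E} (hX : IsPGroup 2 X) : IsPGroup 2 (pre π X : Subgroup G) := by
  have hP1 : IsPGroup 2 (X.comap π) := by
    apply hX.comap_of_ker_isPGroup
    intro x
    refine ⟨1, ?_⟩
    have hx : π x = 1 := x.2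
    apply Subtype.ext
    show (x : M) ^ 2 ^ 1 = 1
    rcases (H.set.cover.ker _).1 hx with h | h
    · rw [h, one_pow]
    · rw [h, pow_one, pow_two, H.set.cover.t_mul_t]
  exact hP1.map _

/-- commutators in `Q₀` -/
theorem Q_comm {x y : G} (hx : x ∈ pre π R) (hy : y ∈ pre π R) : ⁅x, y⁆ = 1 ∨ ⁅x, y⁆ = W π T b := by
  set X : Set M := {m | ∃ r ∈ (R : Set E) ∩ T, m = w π T r} ∪ {H.set.z} with hX
  have hgen : ∀ e ∈ Subgroup.closure ((R : Set E) ∩ T), ∀ m : M, π m = e →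
      m ∈ Subgroup.closure X := by
    intro e he
    have hz : H.set.z ∈ Subgroup.closure X := Subgroup.subset_closure (Or.inr rfl)
    have lift : ∀ m m' : M, π m = π m' → m' ∈ Subgroup.closure X → m ∈ Subgroup.closure X := by
      intro m m' h hm'
      rcases H.set.cover.eq_or h with h1 | h1
      · rw [h1]; exact hm'
      · rw [h1]; exact (Subgroup.closure X).mul_mem hz hm'
    induction he using Subgroup.closure_induction with
    | mem r hr =>
      intro m hm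
      refine lift m (w π T r) ?_ (Subgroup.subset_closure (Or.inl ⟨r, hr, rfl⟩))
      rw [hm, H.pi_W hr.2]
    | one =>
      intro m hm
      exact lift m 1 (by rw [hm, map_one]) (Subgroup.one_mem _)
    | mul e e' _ _ ih ih' =>
      intro m hm
      obtain ⟨m1, rfl⟩ := H.set.surj e
      obtain ⟨m2, rfl⟩ := H.set.surj e'
      exact lift m (m1 * m2) (by rw [hm, map_mul])
        (Subgroup.mul_mem _ (ih m1 rfl) (ih' m2 rfl))
    | inv e _ ih =>
      intro m hm
      obtain ⟨m1, rfl⟩ := H.set.surj e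
      exact lift m m1⁻¹ (by rw [hm, map_inv]) (Subgroup.inv_mem _ (ih m1 rfl))
  have hb := H.flag.b_mem
  have hcomm := comm_closure (z := w π T b) (X := X) ?_ (w_sq H.set.cover H.roots hb) ?_
  · obtain ⟨hxM, hxR⟩ := mem_pre.1 hx
    obtain ⟨hyM, hyR⟩ := mem_pre.1 hy
    have := hcomm ⟨x, hxM⟩ (hgen _ (H.flag.R_gen hxR) _ rfl) ⟨y, hyM⟩
      (hgen _ (H.flag.R_gen hyR) _ rfl)
    rcases this with h | h
    · exact Or.inl (congrArg Subtype.val h)
    · exact Or.inr (congrArg Subtype.val h)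
  · rintro x (⟨r, hr, rfl⟩ | rfl)
    · exact w_comm H.set.cover H.roots hr.2 hb (H.flag.S_le _ (H.flag.R_le hr.1))
    · exact (H.set.cover.central _).symm
  · rintro x (⟨r, hr, rfl⟩ | rfl) y (⟨s, hs, rfl⟩ | rfl)
    · rcases H.flag.R_comm r hr.1 hr.2 s hs.1 hs.2 with h | h
      · left
        rw [commutatorElement_def, w_comm H.set.cover H.roots hr.2 hs.2 h]; group
      · right
        have := w_commutator H.set.cover H.roots (x := w π T r) (y := w π T s)
          (by rw [H.pi_W hr.2]; exact hr.2) (by rw [H.pi_W hs.2]; exact hs.2)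
          (by rw [H.pi_W hr.2, H.pi_W hs.2, h]; exact hb)
        rw [← this, H.pi_W hr.2, H.pi_W hs.2, h]
    · left
      rw [commutatorElement_def, H.set.cover.central]; group
    · left
      rw [commutatorElement_def, ← H.set.cover.central]; group
    · left
      rw [commutatorElement_def]; group

/-- a noncommuting pair in `Q₀` -/
theorem Q_non : ∃ x ∈ pre π R, ∃ y ∈ pre π R, ⁅x, y⁆ = (W π T b : G) := by
  obtain ⟨r, hr, hrT, s, hs, hsT, h⟩ := H.flag.R_non
  refine ⟨W π T r, ?_, W π T s, ?_, ?_⟩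
  · exact pre_mem_iff.2 (by rw [H.pi_W hrT]; exact hr)
  · exact pre_mem_iff.2 (by rw [H.pi_W hsT]; exact hs)
  · have := w_commutator H.set.cover H.roots (x := w π T r) (y := w π T s)
      (by rw [H.pi_W hrT]; exact hrT) (by rw [H.pi_W hsT]; exact hsT)
      (by rw [H.pi_W hrT, H.pi_W hsT, h]; exact H.flag.b_mem)
    rw [H.pi_W hrT, H.pi_W hsT, h] at this
    exact (congrArg Subtype.val this).symm

end two

/-- `n` normalises `S₀` -/
def Nn (π : M →* E) (S : Subgroup E) (n : G) : Prop := ∀ x : G, x ∈ pre π S ↔ n * x * n⁻¹ ∈ pre π S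

theorem Nn.inv {n : G} (h : Nn π S n) : Nn π S n⁻¹ := by
  intro x
  have := h (n⁻¹ * x * n)
  rw [show n * (n⁻¹ * x * n) * n⁻¹ = x by group] at this
  rw [inv_inv]
  exact this.symm

section three

variable (H : Hyp t M π T R S b a c)
include H

/-- `n` permutes the centre of `S₀` -/
theorem Nn_center {n : G} (hn : Nn π S n) {x : G}
    (hx : x = 1 ∨ x = t ∨ x = W π T b ∨ x = t * W π T b) :
    n * x * n⁻¹ = 1 ∨ n * x * n⁻¹ = t ∨ n * x * n⁻¹ = W π T b ∨ n * x * n⁻¹ = t * W π T b := by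
  have ht : t ∈ pre π S := H.t_mem_pre S
  have hxS : x ∈ pre π S := by
    rcases hx with rfl | rfl | rfl | rfl
    · exact Subgroup.one_mem _
    · exact ht
    · exact H.z_mem_S
    · exact Subgroup.mul_mem _ ht H.z_mem_S
  have hxc : ∀ k ∈ pre π S, k * x = x * k := by
    intro k hk
    have hk' := H.S_le_K hk
    have h1 := H.K_comm_t hk'
    have h2 := H.K_comm_z hk'
    rcases hx with rfl | rfl | rfl | rfl
    · simp
    · exact h1
    · exact h2
    · rw [← mul_assoc, h1, mul_assoc, h2, mul_assoc]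
  apply H.S_center ((hn x).1 hxS)
  intro y hy
  have h3 := (hn.inv y).1 hy
  rw [inv_inv] at h3
  have h4 := hxc _ h3
  calc y * (n * x * n⁻¹) = n * (n⁻¹ * y * n * x) * n⁻¹ := by group
    _ = n * (x * (n⁻¹ * y * n)) * n⁻¹ := by rw [h4]
    _ = n * x * n⁻¹ * y := by group

/-- `n` normalises `K₀` -/
theorem Nn_K {n : G} (hn : Nn π S n) {k : G} (hk : k ∈ pre π (Subgroup.centralizer ({b} : Set E))) :
    n * k * n⁻¹ ∈ pre π (Subgroup.centralizer ({b} : Set E)) := by
  have key : ∀ k ∈ pre π (Subgroup.centralizer ({b} : Set E)), ∀ x : G,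
      (x = 1 ∨ x = t ∨ x = W π T b ∨ x = t * W π T b) → n * k * n⁻¹ * x = x * (n * k * n⁻¹) := by
    intro k hk x hx
    have h1 := H.Nn_center hn.inv hx
    rw [inv_inv] at h1
    have h2 : k * (n⁻¹ * x * n) = n⁻¹ * x * n * k := by
      have e1 := H.K_comm_t hk
      have e2 := H.K_comm_z hk
      rcases h1 with h | h | h | h <;> rw [h]
      · simp
      · exact e1
      · exact e2
      · rw [← mul_assoc, e1, mul_assoc, e2, mul_assoc]
    calc n * k * n⁻¹ * x = n * (k * (n⁻¹ * x * n)) * n⁻¹ := by group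
      _ = n * (n⁻¹ * x * n * k) * n⁻¹ := by rw [h2]
      _ = x * (n * k * n⁻¹) := by group
  rw [H.mem_K H.flag.b_mem]
  exact ⟨H.perf' (fun k hk => key k hk t (Or.inr (Or.inl rfl))) hk,
    key k hk _ (Or.inr (Or.inr (Or.inl rfl)))⟩

/-- `n` normalises `Q₀` -/
theorem Nn_Q {n : G} (hn : Nn π S n) {x : G} (hx : x ∈ pre π R) : n * x * n⁻¹ ∈ pre π R := by
  set N : Subgroup E := (((pre π R).map (MulAut.conj n).toMonoidHom).comap M.subtype).map π with hN
  have memN : ∀ e : E, e ∈ N ↔ ∃ m : M, (∃ q ∈ pre π R, n * q * n⁻¹ = m) ∧ π m = e := by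
    intro e
    rw [hN, Subgroup.mem_map]
    constructor
    · rintro ⟨m, hm, he⟩
      obtain ⟨q, hq, h⟩ := hm
      exact ⟨m, ⟨q, hq, h⟩, he⟩
    · rintro ⟨m, ⟨q, hq, h⟩, he⟩
      exact ⟨m, ⟨q, hq, h⟩, he⟩
  have hNK : ∀ q ∈ pre π R, n * q * n⁻¹ ∈ pre π (Subgroup.centralizer ({b} : Set E)) :=
    fun q hq => H.Nn_K hn (H.S_le_K (H.R_le_S hq))
  have hNR : N ≤ R := by
    apply H.flag.R_max
    · intro e he
      obtain ⟨m, ⟨q, hq, h⟩, rfl⟩ := (memN e).1 he
      have := hNK q hq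
      rw [h, pre_mem_iff, Subgroup.mem_centralizer_iff] at this
      exact (this b rfl).symm
    · rw [hN]
      apply IsPGroup.map
      apply IsPGroup.comap_of_injective _ _ M.subtype_injective
      apply IsPGroup.map
      exact H.pre_two (H.flag.S_two.to_le H.flag.R_le)
    · intro y hy e he
      obtain ⟨m, ⟨q, hq, h⟩, rfl⟩ := (memN e).1 he
      obtain ⟨k, rfl⟩ := H.set.surj y
      rw [memN]
      have hk : (k : G) ∈ pre π (Subgroup.centralizer ({b} : Set E)) := by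
        rw [pre_mem_iff, Subgroup.mem_centralizer_iff]
        rintro _ rfl
        exact hy.symm
      -- `n⁻¹ k n ∈ K₀` normalises `Q₀`
      have hk' := H.Nn_K hn.inv hk
      rw [inv_inv] at hk'
      refine ⟨k * m * k⁻¹, ⟨n⁻¹ * k * n * q * (n⁻¹ * k * n)⁻¹, ?_, ?_⟩, by simp⟩
      · obtain ⟨hM1, hC1⟩ := mem_pre.1 hk'
        obtain ⟨hM2, hC2⟩ := mem_pre.1 hq
        refine mem_pre.2 ⟨M.mul_mem (M.mul_mem hM1 hM2) (M.inv_mem hM1), ?_⟩
        have h5 : π ⟨n⁻¹ * k * n, hM1⟩ * b = b * π ⟨n⁻¹ * k * n, hM1⟩ :=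
          ((Subgroup.mem_centralizer_iff.1 hC1) b rfl).symm
        have h6 := H.flag.R_norm _ h5 _ hC2
        rw [← map_mul, ← map_inv, ← map_mul] at h6
        exact h6
      · show n * (n⁻¹ * k * n * q * (n⁻¹ * k * n)⁻¹) * n⁻¹ = k * m * (k : G)⁻¹
        rw [← h]; group
  have hM := pre_le (hNK x hx)
  refine mem_pre.2 ⟨hM, hNR ((memN _).2 ⟨⟨_, hM⟩, ⟨x, hx, rfl⟩, rfl⟩)⟩

/-- `n` centralises `z = w b` -/
theorem Nn_z {n : G} (hn : Nn π S n) : n * W π T b * n⁻¹ = W π T b := by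
  obtain ⟨x, hx, y, hy, h⟩ := H.Q_non
  have h1 := H.Q_comm (H.Nn_Q hn hx) (H.Nn_Q hn hy)
  have h2 : ⁅n * x * n⁻¹, n * y * n⁻¹⁆ = n * ⁅x, y⁆ * n⁻¹ := by
    simp only [commutatorElement_def]; group
  rw [h2, h] at h1
  rcases h1 with h1 | h1
  · exfalso
    apply H.z_ne_one
    have := congrArg (fun g => n⁻¹ * g * n) h1
    simpa [mul_assoc] using this
  · exact h1

/-- (a) for `b` -/
theorem not_z [Finite G] (g : G) : g * t * g⁻¹ ≠ W π T b := by
  intro h
  obtain ⟨n, hn1, hn⟩ := H.exists_norm (u := W π T b) (fun k hk => H.K_comm_z hk) ⟨g, h⟩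
  have h1 := H.Nn_z hn
  rw [← h1] at hn1
  have : t = W π T b := by
    have := congrArg (fun g => n⁻¹ * g * n) hn1
    simpa [mul_assoc] using this
  exact H.z_ne_t this.symm

/-- every root is conjugate to `b` -/
theorem exists_conj_b {r : E} (hr : r ∈ T) : ∃ m : M, (m : G) * W π T r * (m : G)⁻¹ = W π T b := by
  obtain ⟨e, he⟩ := H.roots.one r hr b H.flag.b_mem
  obtain ⟨m, rfl⟩ := H.set.surj e
  exact ⟨m, by rw [H.W_conj m hr, he]⟩

/-- (a): a canonical lift is never conjugate to `t` -/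
theorem w_not [Finite G] {r : E} (hr : r ∈ T) (g : G) : g * t * g⁻¹ ≠ W π T r := by
  intro h
  obtain ⟨m, hm⟩ := H.exists_conj_b hr
  apply H.not_z (m * g)
  rw [← hm, ← h]
  group

/-- all good lifts are conjugate to `t` -/
theorem lab_mem [Finite G] {r : E} (hr : r ∈ T) : ∃ g : G, g * t * g⁻¹ = t * W π T r := by
  obtain ⟨m, hm, g, hg⟩ := H.fuse
  have h1 : (m : G) = t * W π T (π m) := by
    rcases eq_w_or_lab H.set.cover H.roots hm with h | h
    · exfalso
      apply H.w_not hm g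
      rw [hg]
      exact congrArg Subtype.val h
    · exact congrArg Subtype.val h
  obtain ⟨e, he⟩ := H.roots.one (π m) hm r hr
  obtain ⟨k, rfl⟩ := H.set.surj e
  refine ⟨k * g, ?_⟩
  have h2 := H.W_conj k hm
  rw [he] at h2
  have h3 := H.t_comm k.2
  calc k * g * t * (k * g)⁻¹ = k * (g * t * g⁻¹) * (k : G)⁻¹ := by group
    _ = k * (t * W π T (π m)) * (k : G)⁻¹ := by rw [hg, ← h1]
    _ = (k * t) * W π T (π m) * (k : G)⁻¹ := by group
    _ = t * (k * W π T (π m) * (k : G)⁻¹) := by rw [h3]; group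
    _ = t * W π T r := by rw [h2]

/-- the swap `t ↔ t z` -/
theorem exists_swap [Finite G] : ∃ n : G, Nn π S n ∧ n * t * n⁻¹ = t * W π T b ∧
    n * (t * W π T b) * n⁻¹ = t ∧ n * W π T b * n⁻¹ = W π T b := by
  obtain ⟨n, hn1, hn⟩ := H.exists_norm (u := t * W π T b) (fun k hk => by
    have e1 := H.K_comm_t hk
    have e2 := H.K_comm_z hk
    rw [← mul_assoc, e1, mul_assoc, e2, mul_assoc]) (H.lab_mem H.flag.b_mem)
  have h1 := H.Nn_z hn
  refine ⟨n, hn, hn1, ?_, h1⟩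
  calc n * (t * W π T b) * n⁻¹ = (n * t * n⁻¹) * (n * W π T b * n⁻¹) := by group
    _ = t * (W π T b * W π T b) := by rw [hn1, h1, mul_assoc]
    _ = t := by rw [H.W_sq H.flag.b_mem, mul_one]

/-- symmetry -/
theorem nb_symm [Finite G] {x y : G} (h : Nb t π T x y) : Nb t π T y x := by
  obtain ⟨g, rfl, r, hr, rfl⟩ := h
  obtain ⟨n, -, h1, h2, -⟩ := H.exists_swap
  obtain ⟨m, hm⟩ := H.exists_conj_b hr
  have hmt := H.t_comm m.2
  have hbase : Nb t π T (t * W π T b) t := ⟨n, h1, b, H.flag.b_mem, h2⟩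
  have h3 := hbase.conj (g * (m : G)⁻¹)
  have e1 : g * (m : G)⁻¹ * (t * W π T b) * (g * (m : G)⁻¹)⁻¹ = g * (t * W π T r) * g⁻¹ := by
    rw [← hm]
    calc g * (m : G)⁻¹ * (t * (m * W π T r * (m : G)⁻¹)) * (g * (m : G)⁻¹)⁻¹
        = g * ((m : G)⁻¹ * (t * m)) * W π T r * g⁻¹ := by group
      _ = g * ((m : G)⁻¹ * (m * t)) * W π T r * g⁻¹ := by rw [hmt]
      _ = _ := by group
  have e2 : g * (m : G)⁻¹ * t * (g * (m : G)⁻¹)⁻¹ = g * t * g⁻¹ := by
    calc g * (m : G)⁻¹ * t * (g * (m : G)⁻¹)⁻¹ = g * ((m : G)⁻¹ * (t * m)) * g⁻¹ := by group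
      _ = g * ((m : G)⁻¹ * (m * t)) * g⁻¹ := by rw [hmt]
      _ = _ := by group
  rwa [e1, e2] at h3

theorem lab_eq_of_pi {x : G} (hx : x ∈ M) {r : E} (hr : r ∈ T) (h : π ⟨x, hx⟩ = r) :
    x = W π T r ∨ x = t * W π T r := by
  have h2 : π ⟨x, hx⟩ = π ⟨W π T r, mem_W r⟩ := by rw [h]; exact (H.pi_W hr).symm
  exact H.eq_of_pi _ _ h2

theorem pi_lab {r : E} (hr : r ∈ T) (h : t * W π T r ∈ M) : π ⟨t * W π T r, h⟩ = r := by
  have : (⟨t * W π T r, h⟩ : M) = H.set.z * w π T r := rfl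
  rw [this, H.set.cover.map_t_mul, H.pi_W hr]

theorem lab_in_M (r : E) : t * W π T r ∈ M := M.mul_mem H.set.mem (mem_W r)

theorem W_inj {r s : E} (hr : r ∈ T) (hs : s ∈ T) (h : (W π T r : G) = W π T s) : r = s := by
  have h1 : w π T r = w π T s := Subtype.ext h
  rw [← H.pi_W hr, h1, H.pi_W hs]

theorem W_line {r s : E} (hr : r ∈ T) (hs : s ∈ T) (h : r * s ∈ T) :
    (W π T r : G) * W π T s = W π T (r * s) :=
  congrArg Subtype.val (w_line H.set.cover H.roots hr hs h)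

theorem W_comm_iff {r s : E} (hr : r ∈ T) (hs : s ∈ T) :
    (W π T r : G) * W π T s = W π T s * W π T r ↔ r * s = s * r := by
  constructor
  · intro h
    have h1 : w π T r * w π T s = w π T s * w π T r := Subtype.ext h
    have := congrArg π h1
    rwa [map_mul, map_mul, H.pi_W hr, H.pi_W hs] at this
  · intro h
    exact congrArg Subtype.val (w_comm H.set.cover H.roots hr hs h)

/-- conjugating good and canonical lifts by elements of `M` -/
theorem lab_conj_M (m : M) {r : E} (hr : r ∈ T) :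
    (m : G) * (t * W π T r) * (m : G)⁻¹ = t * W π T (π m * r * (π m)⁻¹) := by
  rw [← H.W_conj m hr]
  have hmt := H.t_comm m.2
  calc (m : G) * (t * W π T r) * (m : G)⁻¹ = (m * t) * W π T r * (m : G)⁻¹ := by group
    _ = _ := by rw [hmt]; group

/-- the collinear case for the flag -/
theorem nb_col_flag [Finite G] : Nb t π T (t * W π T b) (t * W π T c) := by
  obtain ⟨n, hn, h1, h2, h3⟩ := H.exists_swap
  have hc := H.flag.c_mem
  have hb := H.flag.b_mem
  have hbc : b ≠ c := by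
    intro h
    apply H.roots.ne_one _ H.flag.bc
    rw [← h]; exact H.roots.sq b hb
  have hcQ : t * W π T c ∈ pre π R :=
    mem_pre.2 ⟨H.lab_in_M c, by rw [H.pi_lab hc]; exact H.flag.c_R⟩
  set x := n⁻¹ * (t * W π T c) * n with hx
  have hxQ : x ∈ pre π R := by
    have := H.Nn_Q hn.inv hcQ
    rwa [inv_inv] at this
  have hxn : n * x * n⁻¹ = t * W π T c := by rw [hx]; group
  obtain ⟨hxM, hxR⟩ := mem_pre.1 hxQ
  -- conjugates of `x` under `S₀`
  have hfix : ∀ y ∈ pre π S, y * (t * W π T c) * y⁻¹ = t * W π T c ∨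
      y * (t * W π T c) * y⁻¹ = W π T b * (t * W π T c) := by
    intro y hy
    obtain ⟨hyM, hyS⟩ := mem_pre.1 hy
    have e := H.lab_conj_M ⟨y, hyM⟩ hc
    change y * (t * W π T c) * y⁻¹ = _ at e
    rw [e]
    rcases H.flag.c_fix _ hyS with h | h
    · left; rw [h]
    · right
      rw [h, ← H.W_line hb hc H.flag.bc, ← mul_assoc, ← mul_assoc, H.W_comm_t]
  have hfix' : ∀ y ∈ S, y * π ⟨x, hxM⟩ * y⁻¹ = π ⟨x, hxM⟩ ∨
      y * π ⟨x, hxM⟩ * y⁻¹ = b * π ⟨x, hxM⟩ := by
    intro y hy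
    obtain ⟨m, rfl⟩ := H.set.surj y
    have hm : (m : G) ∈ pre π S := pre_mem_iff.2 hy
    have hm' := (hn m).1 hm
    have key : (m : G) * x * (m : G)⁻¹ = x ∨ (m : G) * x * (m : G)⁻¹ = W π T b * x := by
      have e : (m : G) * x * (m : G)⁻¹ =
          n⁻¹ * (n * m * n⁻¹ * (t * W π T c) * (n * m * n⁻¹)⁻¹) * n := by rw [hx]; group
      rw [e]
      rcases hfix _ hm' with h | h
      · left; rw [h]
      · right
        rw [h]
        have h4 : n⁻¹ * W π T b * n = W π T b := by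
          conv_lhs => rw [← h3]
          group
        calc n⁻¹ * (W π T b * (t * W π T c)) * n
            = (n⁻¹ * W π T b * n) * (n⁻¹ * (t * W π T c) * n) := by group
          _ = W π T b * x := by rw [h4]
    rcases key with h | h
    · left
      rw [← map_mul, ← map_inv, ← map_mul]
      congr 1
      exact Subtype.ext h
    · right
      have h5 : m * ⟨x, hxM⟩ * m⁻¹ = w π T b * ⟨x, hxM⟩ := Subtype.ext h
      rw [← map_mul, ← map_inv, ← map_mul, h5, map_mul, H.pi_W hb]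
  have hconj : ∀ y : G, y = n⁻¹ * (t * W π T c) * n → ∃ g : G, g * t * g⁻¹ = y := by
    rintro y rfl
    obtain ⟨g, hg⟩ := H.lab_mem hc
    exact ⟨n⁻¹ * g, by rw [← hg]; group⟩
  have fin : ∀ r ∈ T, x = t * W π T r → Nb t π T (t * W π T b) (t * W π T c) := by
    intro r hr h
    exact ⟨n, h1, r, hr, by rw [← h, hxn]⟩
  rcases H.flag.c_uni _ hxR hfix' with h | h | h | h
  · exfalso
    rcases H.eq_of_pi_one hxM h with h4 | h4
    · rw [h4] at hxn
      have h5 : t * W π T c = 1 := by rw [← hxn]; group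
      have h6 : (W π T c : G) = t := by
        rw [← inv_eq_of_mul_eq_one_right h5, H.tinv]
      have h7 : w π T c = H.set.z := Subtype.ext h6
      have h8 := H.pi_W hc
      rw [h7, H.set.cover.map_t] at h8
      exact H.roots.ne_one c hc h8.symm
    · rw [h4, h1] at hxn
      exact hbc (H.W_inj hb hc (mul_left_cancel hxn))
  · exfalso
    rcases H.lab_eq_of_pi hxM hb h with h4 | h4
    · rw [h4, h3] at hxn
      have h5 : w π T b = H.set.z * w π T c := Subtype.ext hxn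
      have h6 := congrArg π h5
      rw [H.set.cover.map_t_mul, H.pi_W hb, H.pi_W hc] at h6
      exact hbc h6
    · rw [h4, h2] at hxn
      have h5 : (W π T c : G) = 1 := by
        have := congrArg (fun g => t⁻¹ * g) hxn
        simpa using this.symm
      exact w_ne_one H.set.cover H.roots hc (Subtype.ext h5)
  · rcases H.lab_eq_of_pi hxM hc h with h4 | h4
    · exfalso
      obtain ⟨g, hg⟩ := hconj x rfl
      exact H.w_not hc g (hg.trans h4)
    · exact fin c hc h4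
  · rcases H.lab_eq_of_pi hxM H.flag.bc h with h4 | h4
    · exfalso
      obtain ⟨g, hg⟩ := hconj x rfl
      exact H.w_not H.flag.bc g (hg.trans h4)
    · exact fin _ H.flag.bc h4

/-- the collinear case -/
theorem nb_col [Finite G] {r s : E} (hr : r ∈ T) (hs : s ∈ T) (h : r * s ∈ T) :
    Nb t π T (t * W π T r) (t * W π T s) := by
  obtain ⟨e, h1, h2⟩ := H.roots.col b H.flag.b_mem c H.flag.c_mem r hr s hs H.flag.bc h
  obtain ⟨m, rfl⟩ := H.set.surj e
  have h3 := H.nb_col_flag.conj (m : G)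
  rwa [H.lab_conj_M m H.flag.b_mem, H.lab_conj_M m H.flag.c_mem, h1, h2] at h3

/-- the dichotomy for the symplectic pair of the flag -/
theorem dicho [Finite G] : ∃ n : G, n * t * n⁻¹ = t * W π T b ∧ n * W π T b * n⁻¹ = W π T b ∧
    (n * (t * W π T a) * n⁻¹ = t * W π T a ∨
      n * (t * W π T a) * n⁻¹ = W π T b * (t * W π T a)) := by
  obtain ⟨n, hn, h1, h2, h3⟩ := H.exists_swap
  have ha := H.flag.a_mem
  have hb := H.flag.b_mem
  have haM := H.lab_in_M a
  have haS : t * W π T a ∈ pre π S :=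
    mem_pre.2 ⟨haM, by rw [H.pi_lab ha]; exact H.flag.a_S⟩
  set a' := t * W π T a with ha'
  have hpia : π ⟨a', haM⟩ = a := H.pi_lab ha haM
  -- `[a', S₀] ≤ Q₀`
  have hfix : ∀ y ∈ pre π S, y * a' * y⁻¹ * a'⁻¹ ∈ pre π R := by
    intro y hy
    obtain ⟨hyM, hyS⟩ := mem_pre.1 hy
    refine mem_pre.2 ⟨M.mul_mem (M.mul_mem (M.mul_mem hyM haM) (M.inv_mem hyM)) (M.inv_mem haM), ?_⟩
    have := H.flag.a_fix _ hyS
    rw [← hpia, ← map_mul, ← map_inv, ← map_mul, ← map_inv, ← map_mul] at this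
    exact this
  set x := n * a' * n⁻¹ with hx
  have hxS : x ∈ pre π S := (hn a').1 haS
  obtain ⟨hxM, hxS'⟩ := mem_pre.1 hxS
  have hfix' : ∀ y ∈ S, y * π ⟨x, hxM⟩ * y⁻¹ * (π ⟨x, hxM⟩)⁻¹ ∈ R := by
    intro y hy
    obtain ⟨m, rfl⟩ := H.set.surj y
    have hm : (m : G) ∈ pre π S := pre_mem_iff.2 hy
    have hm' := (hn.inv m).1 hm
    rw [inv_inv] at hm'
    have h4 := H.Nn_Q hn (hfix _ hm')
    have e : n * (n⁻¹ * m * n * a' * (n⁻¹ * m * n)⁻¹ * a'⁻¹) * n⁻¹ =
        ((m * ⟨x, hxM⟩ * m⁻¹ * (⟨x, hxM⟩ : M)⁻¹ : M) : G) := by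
      show _ = (m : G) * x * (m : G)⁻¹ * x⁻¹
      rw [hx]; group
    rw [e, pre_mem_iff, map_mul, map_mul, map_mul, map_inv, map_inv] at h4
    exact h4
  -- `x ∈ Q₀ a'`
  have hxa : π ⟨x, hxM⟩ * a⁻¹ ∈ R := by
    rcases H.flag.a_uni _ hxS' hfix' with h | h
    · exfalso
      have h4 : x ∈ pre π R := mem_pre.2 ⟨hxM, h⟩
      have h5 := H.Nn_Q hn.inv h4
      rw [inv_inv, show n⁻¹ * x * n = a' by rw [hx]; group] at h5
      obtain ⟨_, h6⟩ := mem_pre.1 h5
      rw [hpia] at h6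
      exact H.flag.a_R h6
    · exact h
  -- the element `x a'⁻¹` is fixed by the Borel group modulo `[Q₀, a']`
  have hvan := H.flag.a_van _ hxa (by
    intro y hyb hyS
    obtain ⟨k, rfl⟩ := H.set.surj y
    have hk : (k : G) ∈ pre π (Subgroup.centralizer ({b} : Set E)) := by
      rw [pre_mem_iff, Subgroup.mem_centralizer_iff]
      rintro _ rfl
      exact hyb.symm
    have hkS : ∀ y ∈ pre π S, (k : G) * y * (k : G)⁻¹ ∈ pre π S := by
      intro y hy
      obtain ⟨hyM, hyS'⟩ := mem_pre.1 hy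
      have := hyS _ hyS'
      rw [← map_mul, ← map_inv, ← map_mul] at this
      exact pre_mem_iff.2 this
    -- `k' = n⁻¹ k n`
    have hk' := H.Nn_K hn.inv hk
    rw [inv_inv] at hk'
    obtain ⟨hk'M, hk'C⟩ := mem_pre.1 hk'
    have hk'S : ∀ y ∈ S, π ⟨n⁻¹ * k * n, hk'M⟩ * y * (π ⟨n⁻¹ * k * n, hk'M⟩)⁻¹ ∈ S := by
      intro y hy
      obtain ⟨m, rfl⟩ := H.set.surj y
      have hm : (m : G) ∈ pre π S := pre_mem_iff.2 hy
      have h5 := hkS _ ((hn m).1 hm)
      have h6 := (hn.inv _).1 h5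
      rw [inv_inv] at h6
      have e : n⁻¹ * (k * (n * m * n⁻¹) * (k : G)⁻¹) * n =
          ((⟨n⁻¹ * k * n, hk'M⟩ * m * (⟨n⁻¹ * k * n, hk'M⟩ : M)⁻¹ : M) : G) := by
        show _ = n⁻¹ * k * n * m * (n⁻¹ * k * n)⁻¹
        group
      rw [e, pre_mem_iff, map_mul, map_mul, map_inv] at h6
      exact h6
    obtain ⟨q₁, hq₁, e₁⟩ := H.flag.a_bor _ hyb hyS
    obtain ⟨q₂, hq₂, e₂⟩ := H.flag.a_bor _
      ((Subgroup.mem_centralizer_iff.1 hk'C) b rfl).symm hk'S
    obtain ⟨m₂, rfl⟩ := H.set.surj q₂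
    have f₂ := H.lab_conj_M ⟨n⁻¹ * k * n, hk'M⟩ ha
    rw [e₂, ← H.lab_conj_M m₂ ha] at f₂
    change n⁻¹ * k * n * a' * (n⁻¹ * k * n)⁻¹ = m₂ * a' * (m₂ : G)⁻¹ at f₂
    have hm₂ : n * m₂ * n⁻¹ ∈ pre π R := H.Nn_Q hn (pre_mem_iff.2 hq₂)
    obtain ⟨hm₂M, hm₂R⟩ := mem_pre.1 hm₂
    apply H.flag.van H.roots hxa hq₁ hm₂R e₁
    have g1 : (k : G) * x * (k : G)⁻¹ = n * m₂ * n⁻¹ * x * (n * m₂ * n⁻¹)⁻¹ := by
      calc (k : G) * x * (k : G)⁻¹ = n * (n⁻¹ * k * n * a' * (n⁻¹ * k * n)⁻¹) * n⁻¹ := by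
            rw [hx]; group
        _ = n * (m₂ * a' * (m₂ : G)⁻¹) * n⁻¹ := by rw [f₂]
        _ = _ := by rw [hx]; group
    have g2 : k * ⟨x, hxM⟩ * k⁻¹ =
        ⟨n * m₂ * n⁻¹, hm₂M⟩ * ⟨x, hxM⟩ * (⟨n * m₂ * n⁻¹, hm₂M⟩ : M)⁻¹ := Subtype.ext g1
    have g3 := congrArg π g2
    rw [map_mul, map_mul, map_inv, map_mul, map_mul, map_inv] at g3
    exact g3)
  obtain ⟨q, hq, hvan⟩ := hvan
  obtain ⟨m, rfl⟩ := H.set.surj q
  have hmQ : (m : G) ∈ pre π R := pre_mem_iff.2 hq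
  have hmK := H.S_le_K (H.R_le_S hmQ)
  have hmt := H.K_comm_t hmK
  have hmz := H.K_comm_z hmK
  have hzt := H.W_comm_t (π := π) b
  have hzz := H.W_sq hb
  have htt := H.tt
  -- `x = e m a' m⁻¹` with `e ∈ {1, t, z, t z}`
  have hpx : π ⟨x, hxM⟩ = π (m * ⟨a', haM⟩ * m⁻¹) ∨
      π ⟨x, hxM⟩ = π (w π T b * (m * ⟨a', haM⟩ * m⁻¹)) := by
    rcases hvan with h | h
    · left
      rw [map_mul, map_mul, map_inv, hpia]
      rw [commutatorElement_def] at h
      calc π ⟨x, hxM⟩ = π ⟨x, hxM⟩ * a⁻¹ * a := by group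
        _ = _ := by rw [h]; group
    · right
      rw [map_mul, map_mul, map_mul, map_inv, hpia, H.pi_W hb]
      rw [commutatorElement_def] at h
      calc π ⟨x, hxM⟩ = π ⟨x, hxM⟩ * a⁻¹ * a := by group
        _ = _ := by rw [h]; group
  have hx4 : x = m * a' * (m : G)⁻¹ ∨ x = t * (m * a' * (m : G)⁻¹) ∨
      x = W π T b * (m * a' * (m : G)⁻¹) ∨ x = t * (W π T b * (m * a' * (m : G)⁻¹)) := by
    rcases hpx with h | h
    · rcases H.set.cover.eq_or h with h4 | h4
      · exact Or.inl (congrArg Subtype.val h4)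
      · exact Or.inr (Or.inl (congrArg Subtype.val h4))
    · rcases H.set.cover.eq_or h with h4 | h4
      · exact Or.inr (Or.inr (Or.inl (congrArg Subtype.val h4)))
      · exact Or.inr (Or.inr (Or.inr (congrArg Subtype.val h4)))
  obtain ⟨g₀, hg₀⟩ := H.lab_mem ha
  have hmt' : (m : G)⁻¹ * t = t * (m : G)⁻¹ := by
    rw [inv_mul_eq_iff_eq_mul, ← mul_assoc, hmt]; group
  have hmz' : (m : G)⁻¹ * W π T b = W π T b * (m : G)⁻¹ := by
    rw [inv_mul_eq_iff_eq_mul, ← mul_assoc, hmz]; group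
  refine ⟨(m : G)⁻¹ * n, ?_, ?_, ?_⟩
  · calc (m : G)⁻¹ * n * t * ((m : G)⁻¹ * n)⁻¹ = (m : G)⁻¹ * (n * t * n⁻¹) * m := by group
      _ = ((m : G)⁻¹ * t) * W π T b * m := by rw [h1]; group
      _ = t * ((m : G)⁻¹ * W π T b) * m := by rw [hmt']; group
      _ = t * W π T b := by rw [hmz']; group
  · calc (m : G)⁻¹ * n * W π T b * ((m : G)⁻¹ * n)⁻¹
        = (m : G)⁻¹ * (n * W π T b * n⁻¹) * m := by group
      _ = ((m : G)⁻¹ * W π T b) * m := by rw [h3]
      _ = W π T b := by rw [hmz']; group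
  · have e0 : (m : G)⁻¹ * n * a' * ((m : G)⁻¹ * n)⁻¹ = (m : G)⁻¹ * x * m := by rw [hx]; group
    rw [e0]
    rcases hx4 with h | h | h | h
    · left; rw [h]; group
    · exfalso
      -- `W a` would be conjugate to `t`
      apply H.w_not ha ((m : G)⁻¹ * n * g₀)
      calc (m : G)⁻¹ * n * g₀ * t * ((m : G)⁻¹ * n * g₀)⁻¹
          = (m : G)⁻¹ * n * (g₀ * t * g₀⁻¹) * ((m : G)⁻¹ * n)⁻¹ := by group
        _ = (m : G)⁻¹ * x * m := by rw [hg₀, ← e0]
        _ = ((m : G)⁻¹ * t) * (m * a' * (m : G)⁻¹) * m := by rw [h]; group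
        _ = t * a' := by rw [hmt']; group
        _ = W π T a := by rw [ha', ← mul_assoc, htt, one_mul]
    · right
      rw [h]
      calc (m : G)⁻¹ * (W π T b * (m * a' * (m : G)⁻¹)) * m
          = ((m : G)⁻¹ * W π T b) * (m * a') := by group
        _ = _ := by rw [hmz']; group
    · exfalso
      apply H.w_not ha (n⁻¹ * m * g₀)
      -- `n (W a) n⁻¹ = m a' m⁻¹`
      have e1 : n * W π T a * n⁻¹ = m * a' * (m : G)⁻¹ := by
        calc n * W π T a * n⁻¹ = n * (1 * W π T a) * n⁻¹ := by rw [one_mul]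
          _ = (n * t * n⁻¹) * (n * (t * W π T a) * n⁻¹) := by rw [← htt]; group
          _ = t * W π T b * (t * (W π T b * (m * a' * (m : G)⁻¹))) := by rw [h1, ← ha', ← hx, h]
          _ = t * (W π T b * t) * W π T b * (m * a' * (m : G)⁻¹) := by group
          _ = (t * t) * (W π T b * W π T b) * (m * a' * (m : G)⁻¹) := by rw [hzt]; group
          _ = _ := by rw [htt, hzz, one_mul, one_mul]
      calc n⁻¹ * m * g₀ * t * (n⁻¹ * m * g₀)⁻¹ = n⁻¹ * (m * (g₀ * t * g₀⁻¹) * (m : G)⁻¹) * n := by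
            group
        _ = n⁻¹ * (n * W π T a * n⁻¹) * n := by rw [hg₀, ← ha', ← e1]
        _ = W π T a := by group

/-- pairs of distinct commuting roots: good neighbours in the collinear case, and in the symplectic
case as soon as this holds for the flag -/
theorem nb_of_flag [Finite G] (hgood : Nb t π T (t * W π T b) (t * W π T a)) {r s : E} (hr : r ∈ T)
    (hs : s ∈ T) (h : r * s = s * r) (hne : r ≠ s) : Nb t π T (t * W π T r) (t * W π T s) := by
  by_cases hT : r * s ∈ T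
  · exact H.nb_col hr hs hT
  · obtain ⟨e, h1, h2⟩ := H.roots.sym b H.flag.b_mem a H.flag.a_mem r hr s hs H.flag.a_ne.symm
      H.flag.ab.symm (by rw [← H.flag.ab]; exact H.flag.ab_not) hne h hT
    obtain ⟨m, rfl⟩ := H.set.surj e
    have h3 := hgood.conj (m : G)
    rwa [H.lab_conj_M m H.flag.b_mem, H.lab_conj_M m H.flag.a_mem, h1, h2] at h3

/-- the bad case: canonical lifts are inherited -/
theorem bad_step [Finite G] (hbad : Cn t π T (t * W π T b) (W π T a)) {c x y : G}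
    (hx : Cn t π T c x) (hy : Cn t π T c y) (hxy : x * y = y * x) (hne : x ≠ y) :
    Cn t π T (c * x) y := by
  obtain ⟨g, rfl, r, hr, rfl⟩ := hx
  obtain ⟨s, hs, rfl⟩ := H.Cn_conj hy
  have hcom : (W π T r : G) * W π T s = W π T s * W π T r := by
    have := congrArg (fun x => g⁻¹ * x * g) hxy
    simpa [mul_assoc] using this
  have hrs : r * s = s * r := (H.W_comm_iff hr hs).1 hcom
  have hrs' : r ≠ s := by rintro rfl; exact hne rfl
  have base : Cn t π T (t * W π T r) (W π T s) := by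
    by_cases hT : r * s ∈ T
    · have hrr := H.roots.sq r hr
      have h1 : r * (r * s) = s := by rw [← mul_assoc, hrr, one_mul]
      have h2 := H.nb_col hr hT (by rw [h1]; exact hs)
      rw [nb_iff H.tt] at h2
      have h3 : t * W π T r * (t * W π T (r * s)) = W π T s := by
        have e1 := H.W_comm_t (π := π) r
        rw [← H.W_line hr hs hT]
        calc t * W π T r * (t * (W π T r * W π T s))
            = t * (W π T r * t) * (W π T r * W π T s) := by group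
          _ = (t * t) * (W π T r * W π T r) * W π T s := by rw [e1]; group
          _ = W π T s := by rw [H.tt, H.W_sq hr, one_mul, one_mul]
      rwa [h3] at h2
    · obtain ⟨e, h1, h2⟩ := H.roots.sym b H.flag.b_mem a H.flag.a_mem r hr s hs H.flag.a_ne.symm
        H.flag.ab.symm (by rw [← H.flag.ab]; exact H.flag.ab_not) hrs' hrs hT
      obtain ⟨m, rfl⟩ := H.set.surj e
      have h3 := hbad.conj (m : G)
      rwa [H.lab_conj_M m H.flag.b_mem, H.W_conj m H.flag.a_mem, h1, h2] at h3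
  have h4 := base.conj g
  rwa [show g * (t * W π T r) * g⁻¹ = g * t * g⁻¹ * (g * W π T r * g⁻¹) by group] at h4

theorem bad_chain [Finite G] (hbad : Cn t π T (t * W π T b) (W π T a)) (l : List G) :
    ∀ c : G, (∃ g : G, g * t * g⁻¹ = c) → (∀ x ∈ l, Cn t π T c x) →
      l.Pairwise (fun x y => x * y = y * x ∧ x ≠ y) → ∃ g : G, g * t * g⁻¹ = c * l.prod := by
  induction l with
  | nil => intro c hc _ _; simpa using hc
  | cons x l ih =>
    intro c hc hl hp
    rw [List.prod_cons, ← mul_assoc]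
    rw [List.pairwise_cons] at hp
    apply ih (c * x) _ _ hp.2
    · obtain ⟨g, rfl, r, hr, rfl⟩ := hl x List.mem_cons_self
      obtain ⟨k, hk⟩ := H.lab_mem hr
      exact ⟨g * k, by
        calc g * k * t * (g * k)⁻¹ = g * (k * t * k⁻¹) * g⁻¹ := by group
          _ = g * (t * W π T r) * g⁻¹ := by rw [hk]
          _ = _ := by group⟩
    · intro y hy
      exact H.bad_step hbad (hl x List.mem_cons_self) (hl y (List.mem_cons_of_mem _ hy))
        (hp.1 y hy).1 (hp.1 y hy).2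

theorem not_bad [Finite G] : ¬ Cn t π T (t * W π T b) (W π T a) := by
  intro hbad
  obtain ⟨l, hl, hp, hprod⟩ := H.chain
  obtain ⟨g, hg⟩ := H.bad_chain hbad (l.map (W π T)) t ⟨1, by simp⟩
    (by
      intro x hx
      obtain ⟨r, hr, rfl⟩ := List.mem_map.1 hx
      exact ⟨1, by simp, r, hl r hr, by simp⟩)
    (by
      rw [List.pairwise_map]
      apply hp.imp_of_mem
      intro r s hr hs h
      exact ⟨(H.W_comm_iff (hl r hr) (hl s hs)).2 h.1, fun h' => h.2 (H.W_inj (hl r hr) (hl s hs) h')⟩)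
  have h1 : (l.map (W π T)).prod = t := by
    rw [← hprod]
    have : (l.map (W π T) : List G) = (l.map (w π T)).map M.subtype := by
      rw [List.map_map]; rfl
    rw [this, ← map_list_prod]
    rfl
  rw [h1, H.tt] at hg
  apply H.set.ne
  have := congrArg (fun x => g⁻¹ * x * g) hg
  simpa [mul_assoc] using this

/-- the good case for the flag -/
theorem good_flag [Finite G] : Nb t π T (t * W π T b) (t * W π T a) := by
  obtain ⟨n, h1, h3, h | h⟩ := H.dicho
  · exact ⟨n, h1, a, H.flag.a_mem, h⟩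
  · exfalso
    apply H.not_bad
    refine ⟨n, h1, a, H.flag.a_mem, ?_⟩
    calc n * W π T a * n⁻¹ = n * (1 * W π T a) * n⁻¹ := by rw [one_mul]
      _ = (n * t * n⁻¹) * (n * (t * W π T a) * n⁻¹) := by rw [← H.tt]; group
      _ = t * (W π T b * W π T b) * t * W π T a := by rw [h1, h]; group
      _ = W π T a := by rw [H.W_sq H.flag.b_mem, mul_one, H.tt, one_mul]

/-- **(u1\*)**: two distinct commuting good lifts relative to `c` are good relative to each other -/
theorem closed [Finite G] {c x y : G} (hx : Nb t π T c x) (hy : Nb t π T c y) (hxy : x * y = y * x)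
    (hne : x ≠ y) : Nb t π T x y := by
  obtain ⟨g, rfl, r, hr, rfl⟩ := hx
  obtain ⟨s, hs, rfl⟩ := H.Nb_conj hy
  have hcom : t * (W π T r : G) * (t * W π T s) = t * W π T s * (t * W π T r) := by
    have := congrArg (fun x => g⁻¹ * x * g) hxy
    simpa [mul_assoc] using this
  have hcom' : (W π T r : G) * W π T s = W π T s * W π T r := by
    have e1 : ∀ u v : E, t * (W π T u : G) * (t * W π T v) = W π T u * W π T v := by
      intro u v
      calc t * (W π T u : G) * (t * W π T v) = t * (W π T u * t) * W π T v := by group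
        _ = (t * t) * W π T u * W π T v := by rw [H.W_comm_t]; group
        _ = _ := by rw [H.tt, one_mul]
    rwa [e1, e1] at hcom
  have hrs : r * s = s * r := (H.W_comm_iff hr hs).1 hcom'
  have hrs' : r ≠ s := by rintro rfl; exact hne rfl
  exact (H.nb_of_flag H.good_flag hr hs hrs hrs').conj g

end three

end Hyp

/-- The output of the fusion step in the form used by the identification (helper444's `FusW`). -/
theorem Hyp.fusW {G : Type u} [Group G] [Finite G] {E : Type v} [Group E] {t : G} {M : Subgroup G}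
    {π : M →* E} {T : Set E} {R S : Subgroup E} {b a c : E} (H : Hyp t M π T R S b a c) :
    (∀ m : M, π m ∈ T → Xor (∃ g : G, g * t * g⁻¹ = m) (∃ g : G, g * t * g⁻¹ = t * m)) ∧
    (∀ g : G, g * t = t * g → ∀ m m' : M, (m' : G) = g * m * g⁻¹ → π m ∈ T → π m' ∈ T) ∧
    (∀ x y : M, π x ∈ T → π y ∈ T → x ≠ y → x * y = y * x → (∃ g : G, g * t * g⁻¹ = y) →
      ∀ g : G, (x : G) = g * t * g⁻¹ → ∃ h : g⁻¹ * y * g ∈ M, π ⟨g⁻¹ * y * g, h⟩ ∈ T) := by
  have dich : ∀ m : M, π m ∈ T → (m : G) = W π T (π m) ∨ (m : G) = t * W π T (π m) := by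
    intro m hm
    rcases eq_w_or_lab H.set.cover H.roots hm with h | h
    · exact Or.inl (congrArg Subtype.val h)
    · exact Or.inr (congrArg Subtype.val h)
  have good : ∀ m : M, π m ∈ T → (∃ g : G, g * t * g⁻¹ = m) → (m : G) = t * W π T (π m) := by
    rintro m hm ⟨g, hg⟩
    rcases dich m hm with h | h
    · exact absurd (hg.trans h) (H.w_not hm g)
    · exact h
  refine ⟨?_, H.out, ?_⟩
  · intro m hm
    rcases dich m hm with h | h
    · right
      refine ⟨by rw [h]; exact H.lab_mem hm, ?_⟩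
      rintro ⟨g, hg⟩
      exact H.w_not hm g (hg.trans h)
    · left
      refine ⟨by rw [h]; exact H.lab_mem hm, ?_⟩
      rintro ⟨g, hg⟩
      apply H.w_not hm g
      rw [hg, h, ← mul_assoc, H.tt, one_mul]
  · intro x y hx hy hne hxy hyD g hg
    have hx' := good x hx ⟨g, hg.symm⟩
    have hy' := good y hy hyD
    have n1 : Nb t π T t (x : G) := ⟨1, by simp, π x, hx, by rw [hx']; simp⟩
    have n2 : Nb t π T t (y : G) := ⟨1, by simp, π y, hy, by rw [hy']; simp⟩
    have n3 := H.closed n1 n2 (congrArg Subtype.val hxy) (fun h => hne (Subtype.ext h))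
    rw [hg] at n3
    obtain ⟨r, hr, h⟩ := H.Nb_conj n3
    have e : g⁻¹ * y * g = t * W π T r := by rw [h]; group
    have hM : g⁻¹ * y * g ∈ M := by rw [e]; exact H.lab_in_M r
    refine ⟨hM, ?_⟩
    have : (⟨g⁻¹ * y * g, hM⟩ : M) = ⟨t * W π T r, H.lab_in_M r⟩ := Subtype.ext e
    rw [this, H.pi_lab hr]
    exact hr

end Cfsg.Agent.BabyU.FusGood
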