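import Cfsg.Agent.BabyU.FusParity

/-!
# The parity of the fusion step in the isoclinic case (helper635)

`u² = z`, `u ∈ C_G(z) ∖ M`. The number of `d ∈ z^G` with `u ∉ M_d` is even if every involution `y` of
`C_G(z) ∖ M` has `4 ∣ |C_G(z) : C_G(z, y)|`.
-/

set_option autoImplicit false
set_option linter.style.haveILetI false

namespace Cfsg.Agent.BabyU.FusIso

open Cfsg.Agent.LargeExtra Cfsg.Agent.LargeExtra.Transfer Cfsg.Agent.LargeExtra.TransferPow
open Cfsg.Agent.BabyU.FusParity

variable {G : Type*} [Group G] {C C₀ : Subgroup G}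

/-- The transfer of an element `u` with `u ^ 4 = 1`: `|X| + b` is even, where `2 b` is the number of cosets `gC` with
`g⁻¹ u² g ∈ C ∖ C₀`. -/
theorem exists_half [Finite G] (hG : ∀ H : Subgroup G, H.index ≠ 2)
    (hle : C₀ ≤ C) (h2 : C₀.relIndex C = 2) (u : G) (hu : u ^ 4 = 1) :
    ∃ b : ℕ, Even (Nat.card {x : G ⧸ C // Odd1 C C₀ u x} + b) ∧
      Nat.card {x : G ⧸ C // Odd1 C C₀ (u ^ 2) x} = 2 * b := by
  classical
  have : Fintype (G ⧸ C) := Fintype.ofFinite _
  have : Fintype (Quotient (MulAction.orbitRel (Subgroup.zpowers u) (G ⧸ C))) := Fintype.ofFinite _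
  set f : G →* ℤˣ := MonoidHom.transfer (sgn h2) with hf
  have hf1 : f u = 1 := by
    by_contra hne
    have h3 : f u = -1 := (Int.units_eq_one_or (f u)).resolve_left hne
    apply hG f.ker
    rw [Subgroup.index_ker]
    have : f.range = ⊤ := by
      rw [eq_top_iff]
      intro x _
      rcases Int.units_eq_one_or x with rfl | rfl
      · exact f.range.one_mem
      · exact ⟨u, h3⟩
    rw [this, Subgroup.card_top, Nat.card_eq_fintype_card]
    rfl
  rw [hf, MonoidHom.transfer_eq_prod_quotient_orbitRel_zpowers_quot] at hf1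
  set P : Quotient (MulAction.orbitRel (Subgroup.zpowers u) (G ⧸ C)) → ℤˣ := fun q =>
    sgn h2 ⟨q.out.out⁻¹ * u ^ Function.minimalPeriod (u • ·) q.out * q.out.out,
      QuotientGroup.out_conj_pow_minimalPeriod_mem C u q.out⟩ with hP
  have hprod : ∏ q, P q = 1 := hf1
  have heven : Even (Finset.univ.filter (fun q => P q = -1)).card := by
    have h3 : ∏ q, P q = ∏ q ∈ Finset.univ.filter (fun q => P q = -1), (-1 : ℤˣ) := by
      rw [Finset.prod_filter]
      apply Finset.prod_congr rfl
      intro q _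
      by_cases hq : P q = -1
      · rw [if_pos hq, hq]
      · rw [if_neg hq]
        exact (Int.units_eq_one_or (P q)).resolve_right hq
    rw [h3, Finset.prod_const] at hprod
    by_contra hodd
    rw [Nat.not_even_iff_odd] at hodd
    rw [hodd.neg_one_pow] at hprod
    exact absurd hprod (by decide)
  have hP_iff : ∀ q, P q = -1 ↔ q.out.out⁻¹ * u ^ Function.minimalPeriod (u • ·) q.out * q.out.out ∉ C₀ := by
    intro q
    rw [← sgn_eq_one_iff h2 ⟨_, QuotientGroup.out_conj_pow_minimalPeriod_mem C u q.out⟩]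
    constructor
    · intro h3 h4
      have h5 : P q = 1 := h4
      rw [h5] at h3
      exact absurd h3 (by decide)
    · intro h3
      exact (Int.units_eq_one_or (P q)).resolve_left h3
  -- orbits with sign `-1` have length one or two
  have hper : ∀ q, P q = -1 → Function.minimalPeriod (u • ·) q.out = 1 ∨
      Function.minimalPeriod (u • ·) q.out = 2 := by
    intro q hq
    rw [hP_iff] at hq
    have hdvd : Function.minimalPeriod (u • ·) q.out ∣ 2 ^ 2 := by
      apply Function.IsPeriodicPt.minimalPeriod_dvd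
      show (u • ·)^[2 ^ 2] q.out = q.out
      rw [smul_iterate]
      show u ^ 4 • q.out = q.out
      rw [hu]
      exact one_smul _ _
    obtain ⟨j, hj2, hj⟩ := (Nat.dvd_prime_pow Nat.prime_two).1 hdvd
    interval_cases j
    · left; rw [hj, pow_zero]
    · right; rw [hj, pow_one]
    · exfalso
      apply hq
      rw [hj]
      show q.out.out⁻¹ * u ^ 4 * q.out.out ∈ C₀
      rw [hu, mul_one, inv_mul_cancel]
      exact C₀.one_mem
  have hsplit : (Finset.univ.filter (fun q => P q = -1)).card =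
      (Finset.univ.filter (fun q => P q = -1 ∧ Function.minimalPeriod (u • ·) q.out = 1)).card +
      (Finset.univ.filter (fun q => P q = -1 ∧ Function.minimalPeriod (u • ·) q.out = 2)).card := by
    rw [← Finset.card_union_of_disjoint]
    · congr 1
      ext q
      simp only [Finset.mem_filter, Finset.mem_univ, true_and, Finset.mem_union]
      constructor
      · intro h
        rcases hper q h with h' | h'
        · exact Or.inl ⟨h, h'⟩
        · exact Or.inr ⟨h, h'⟩
      · rintro (h | h) <;> exact h.1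
    · rw [Finset.disjoint_filter]
      rintro q - ⟨-, h1⟩ ⟨-, h3⟩
      omega
  -- fixed points
  have hsing : ∀ x y : G ⧸ C, u • x = x →
      (MulAction.orbitRel (Subgroup.zpowers u) (G ⧸ C)) y x → y = x := by
    rintro x y hx ⟨⟨v, hv⟩, hvy⟩
    obtain ⟨m, rfl⟩ := Subgroup.mem_zpowers_iff.1 hv
    have h3 : u ^ m • x = x := by
      have h4 : u ∈ MulAction.stabilizer G x := hx
      exact (MulAction.stabilizer G x).zpow_mem h4 m
    have h5 : u ^ m • x = y := hvy
    rw [← h5, h3]
  have hper1 : ∀ x : G ⧸ C, u • x = x → Function.minimalPeriod (u • ·) x = 1 := fun x hx =>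
    Function.minimalPeriod_eq_one_iff_isFixedPt.2 hx
  have hcard1 : Nat.card {x : G ⧸ C // Odd1 C C₀ u x} =
      (Finset.univ.filter (fun q => P q = -1 ∧ Function.minimalPeriod (u • ·) q.out = 1)).card := by
    rw [← Fintype.card_subtype, ← Nat.card_eq_fintype_card]
    have hfixed : ∀ x : G ⧸ C, Odd1 C C₀ u x → u • x = x := by
      intro x hx
      have := (smul_eq_iff C u x.out).2 hx.1
      rwa [QuotientGroup.out_eq'] at this
    have hout : ∀ x : G ⧸ C, u • x = x →
        (Quotient.mk (MulAction.orbitRel (Subgroup.zpowers u) (G ⧸ C)) x).out = x := by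
      intro x hx
      exact hsing x _ hx (Quotient.mk_out (s := MulAction.orbitRel (Subgroup.zpowers u) (G ⧸ C)) x)
    apply Nat.card_congr
    refine
      { toFun := fun x => ⟨Quotient.mk _ x.1, ?_, ?_⟩
        invFun := fun q => ⟨q.1.out, ?_⟩
        left_inv := fun x => Subtype.ext (hout x.1 (hfixed x.1 x.2))
        right_inv := fun q => Subtype.ext (Quotient.out_eq q.1) }
    · rw [hP_iff, hout x.1 (hfixed x.1 x.2), hper1 x.1 (hfixed x.1 x.2), pow_one]
      exact x.2.2
    · rw [hout x.1 (hfixed x.1 x.2)]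
      exact hper1 x.1 (hfixed x.1 x.2)
    · have h3 := q.2.2
      have h4 := (hP_iff q.1).1 q.2.1
      have h5 := QuotientGroup.out_conj_pow_minimalPeriod_mem C u q.1.out
      rw [h3, pow_one] at h4 h5
      exact ⟨h5, h4⟩
  refine ⟨(Finset.univ.filter (fun q => P q = -1 ∧ Function.minimalPeriod (u • ·) q.out = 2)).card, ?_, ?_⟩
  · rw [hcard1, ← hsplit]; exact heven
  -- two-cycles
  · set B := Finset.univ.filter (fun q => P q = -1 ∧ Function.minimalPeriod (u • ·) q.out = 2) with hB
    -- `Odd1 (u ^ 2)` is invariant under `u`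
    have hinv : ∀ x : G ⧸ C, Odd1 C C₀ (u ^ 2) x → Odd1 C C₀ (u ^ 2) (u • x) := by
      intro x hx
      obtain ⟨g, rfl⟩ := QuotientGroup.mk_surjective x
      rw [odd1_iff hle h2] at hx
      show Odd1 C C₀ (u ^ 2) ((u * g : G) : G ⧸ C)
      rw [odd1_iff hle h2]
      have e : (u * g)⁻¹ * u ^ 2 * (u * g) = g⁻¹ * u ^ 2 * g := by group
      rw [e]; exact hx
    have hinvz : ∀ (n : ℕ) (x : G ⧸ C), Odd1 C C₀ (u ^ 2) x → Odd1 C C₀ (u ^ 2) (u ^ n • x) := by
      intro n
      induction n with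
      | zero => intro x hx; rwa [pow_zero, one_smul]
      | succ n ih =>
        intro x hx
        have e2 : u ^ (n + 1) • x = u ^ n • (u • x) := by rw [pow_succ, mul_smul]
        rw [e2]; exact ih _ (hinv _ hx)
    have horb : ∀ x y : G ⧸ C, (MulAction.orbitRel (Subgroup.zpowers u) (G ⧸ C)) y x →
        ∃ n : ℕ, y = u ^ n • x := by
      rintro x y ⟨⟨v, hv⟩, hvy⟩
      obtain ⟨m, hm⟩ := (isOfFinOrder_of_finite u).mem_zpowers_iff_mem_range_orderOf.1 hv |> fun h => by
        simpa using h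
      exact ⟨m, by rw [← show (v • x : G ⧸ C) = y from hvy, ← hm.2]⟩
    -- points of `Odd1 (u ^ 2)` have period two
    have hper2 : ∀ x : G ⧸ C, Odd1 C C₀ (u ^ 2) x → Function.minimalPeriod (u • ·) x = 2 := by
      intro x hx
      have hx2 : u ^ 2 • x = x := by
        have := (smul_eq_iff C (u ^ 2) x.out).2 hx.1
        rwa [QuotientGroup.out_eq'] at this
      have hdvd : Function.minimalPeriod (u • ·) x ∣ 2 := by
        apply Function.IsPeriodicPt.minimalPeriod_dvd
        show (u • ·)^[2] x = x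
        rw [smul_iterate]
        exact hx2
      rcases (Nat.dvd_prime Nat.prime_two).1 hdvd with h | h
      · exfalso
        have h3 : u • x = x := Function.minimalPeriod_eq_one_iff_isFixedPt.1 h
        have h4 : x.out⁻¹ * u * x.out ∈ C := by
          rw [← smul_eq_iff, QuotientGroup.out_eq']; exact h3
        apply hx.2
        have h5 : x.out⁻¹ * u ^ 2 * x.out = (x.out⁻¹ * u * x.out) * (x.out⁻¹ * u * x.out) := by
          rw [pow_two]; simp only [mul_assoc, mul_inv_cancel_left]
        rw [h5]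
        have h6 := Subgroup.mul_mem_iff_of_index_two (H := C₀.subgroupOf C) h2 (a := ⟨_, h4⟩) (b := ⟨_, h4⟩)
        rw [Subgroup.mem_subgroupOf, Subgroup.mem_subgroupOf] at h6
        exact h6.2 Iff.rfl
      · exact h
    have hmaps : ∀ x : G ⧸ C, Odd1 C C₀ (u ^ 2) x →
        Quotient.mk (MulAction.orbitRel (Subgroup.zpowers u) (G ⧸ C)) x ∈ B := by
      intro x hx
      obtain ⟨n, hn⟩ := horb x _ (Quotient.mk_out (s := MulAction.orbitRel (Subgroup.zpowers u) (G ⧸ C)) x)
      have hy : Odd1 C C₀ (u ^ 2) (Quotient.mk (MulAction.orbitRel (Subgroup.zpowers u) (G ⧸ C)) x).out := by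
        rw [hn]; exact hinvz n x hx
      rw [hB, Finset.mem_filter]
      refine ⟨Finset.mem_univ _, ?_, hper2 _ hy⟩
      rw [hP_iff, hper2 _ hy]
      exact hy.2
    have hcardT : Nat.card {x : G ⧸ C // Odd1 C C₀ (u ^ 2) x} =
        (Finset.univ.filter (fun x : G ⧸ C => Odd1 C C₀ (u ^ 2) x)).card := by
      rw [Nat.card_eq_fintype_card, Fintype.card_subtype]
    rw [hcardT, Finset.card_eq_sum_card_fiberwise (f := Quotient.mk (MulAction.orbitRel (Subgroup.zpowers u) (G ⧸ C)))
      (t := B) (fun x hx => hmaps x (Finset.mem_filter.1 hx).2)]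
    have hfib : ∀ q ∈ B, (Finset.filter (fun x => Quotient.mk (MulAction.orbitRel (Subgroup.zpowers u) (G ⧸ C)) x = q)
        (Finset.univ.filter (fun x : G ⧸ C => Odd1 C C₀ (u ^ 2) x))).card = 2 := by
      intro q hq
      rw [hB, Finset.mem_filter] at hq
      obtain ⟨-, hq1, hq2⟩ := hq
      have hqo : Odd1 C C₀ (u ^ 2) q.out := by
        have h4 := (hP_iff q).1 hq1
        have h5 := QuotientGroup.out_conj_pow_minimalPeriod_mem C u q.out
        rw [hq2] at h4 h5
        exact ⟨h5, h4⟩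
      have hne : q.out ≠ u • q.out := by
        intro h
        have : Function.minimalPeriod (u • ·) q.out = 1 := hper1 _ h.symm
        omega
      have hu2 : u ^ 2 • q.out = q.out := by
        have := (smul_eq_iff C (u ^ 2) q.out.out).2 hqo.1
        rwa [QuotientGroup.out_eq'] at this
      rw [Finset.card_eq_two]
      refine ⟨q.out, u • q.out, hne, ?_⟩
      ext x
      simp only [Finset.mem_filter, Finset.mem_univ, true_and, Finset.mem_insert, Finset.mem_singleton]
      constructor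
      · rintro ⟨-, hx2⟩
        have hrel : (MulAction.orbitRel (Subgroup.zpowers u) (G ⧸ C)) x q.out := by
          apply Quotient.exact
          rw [hx2, Quotient.out_eq]
        obtain ⟨n, rfl⟩ := horb _ _ hrel
        have key : ∀ n : ℕ, u ^ n • q.out = q.out ∨ u ^ n • q.out = u • q.out := by
          intro n
          induction n with
          | zero => left; rw [pow_zero, one_smul]
          | succ n ih =>
            rw [pow_succ', mul_smul]
            rcases ih with h | h
            · right; rw [h]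
            · left; rw [h, ← mul_smul, ← pow_two, hu2]
        exact key n
      · rintro (rfl | rfl)
        · exact ⟨hqo, Quotient.out_eq q⟩
        · refine ⟨hinv _ hqo, ?_⟩
          have h6 : Quotient.mk (MulAction.orbitRel (Subgroup.zpowers u) (G ⧸ C)) (u • q.out) =
              Quotient.mk (MulAction.orbitRel (Subgroup.zpowers u) (G ⧸ C)) q.out := by
            apply Quotient.sound
            exact ⟨⟨u, Subgroup.mem_zpowers u⟩, rfl⟩
          rw [h6, Quotient.out_eq]
    rw [Finset.sum_congr rfl hfib, Finset.sum_const, smul_eq_mul, mul_comm]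

/-- Passing to the cosets fixed by a 2-subgroup of `C_G(u)`. -/
theorem even_fixed [Finite G] (hle : C₀ ≤ C) (h2 : C₀.relIndex C = 2) (u : G)
    (heven : Even (Nat.card {x : G ⧸ C // Odd1 C C₀ u x})) (P : Subgroup G)
    (hP : IsPGroup 2 P) (hPu : ∀ p ∈ P, p * u = u * p) :
    Even (Nat.card {x : G ⧸ C // Odd1 C C₀ u x ∧ ∀ p ∈ P, p • x = x}) := by
  classical
  have : Fact (Nat.Prime 2) := ⟨Nat.prime_two⟩
  have hinv : ∀ p ∈ P, ∀ x : G ⧸ C, Odd1 C C₀ u x → Odd1 C C₀ u (p • x) := by
    intro p hp x hx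
    obtain ⟨g, rfl⟩ := QuotientGroup.mk_surjective x
    rw [odd1_iff hle h2] at hx
    show Odd1 C C₀ u ((p * g : G) : G ⧸ C)
    rw [odd1_iff hle h2]
    have e : (p * g)⁻¹ * u * (p * g) = g⁻¹ * u * g := by
      have : p⁻¹ * u * p = u := by
        rw [mul_assoc, ← hPu p hp, ← mul_assoc, inv_mul_cancel, one_mul]
      calc (p * g)⁻¹ * u * (p * g) = g⁻¹ * (p⁻¹ * u * p) * g := by group
        _ = _ := by rw [this]
    rw [e]; exact hx
  letI : MulAction P {x : G ⧸ C // Odd1 C C₀ u x} :=
    { smul := fun p x => ⟨(p : G) • x.1, hinv p p.2 x.1 x.2⟩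
      one_smul := fun x => Subtype.ext (one_smul G x.1)
      mul_smul := fun p q x => Subtype.ext (mul_smul (p : G) (q : G) x.1) }
  have h3 := hP.card_modEq_card_fixedPoints {x : G ⧸ C // Odd1 C C₀ u x}
  have h4 : Nat.card (MulAction.fixedPoints P {x : G ⧸ C // Odd1 C C₀ u x}) =
      Nat.card {x : G ⧸ C // Odd1 C C₀ u x ∧ ∀ p ∈ P, p • x = x} := by
    apply Nat.card_congr
    refine
      { toFun := fun x => ⟨x.1.1, x.1.2, fun p hp => congrArg Subtype.val (x.2 ⟨p, hp⟩)⟩
        invFun := fun x => ⟨⟨x.1, x.2.1⟩, fun p => Subtype.ext (x.2.2 p p.2)⟩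
        left_inv := fun _ => rfl
        right_inv := fun _ => rfl }
  rw [h4] at h3
  rw [Nat.even_iff] at heven ⊢
  rw [← heven]
  exact h3.symm

section

variable {z : G} {M : Subgroup G}

/-- The conjugates of `z` in `C_G(z) ∖ M`. -/
def DOut (z : G) (M : Subgroup G) : Type _ := {y : G // (∃ g : G, g * z * g⁻¹ = y) ∧ y * z = z * y ∧ y ∉ M}

/-- Double counting of the commuting pairs. -/
theorem card_dout [Finite G] (hle : M ≤ Subgroup.centralizer ({z} : Set G))
    (h2 : M.relIndex (Subgroup.centralizer ({z} : Set G)) = 2) :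
    Nat.card {x : G ⧸ Subgroup.centralizer ({z} : Set G) // Odd1 (Subgroup.centralizer ({z} : Set G)) M z x} =
      Nat.card (DOut z M) := by
  classical
  set C := Subgroup.centralizer ({z} : Set G) with hC
  have hpos : 0 < Nat.card C := Nat.card_pos
  apply Nat.eq_of_mul_eq_mul_right hpos
  have hz : ∀ h ∈ C, h * z = z * h := fun h hh => Subgroup.mem_centralizer_singleton_iff.1 hh
  have h3 := card_subtype_eq C (fun g => g⁻¹ * z * g ∈ C ∧ g⁻¹ * z * g ∉ M) (by
    intro g h hh
    have e : (g * h)⁻¹ * z * (g * h) = h⁻¹ * (g⁻¹ * z * g) * h := by group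
    rw [e, normal_of_relIndex hle h2 hh]
    have e2 : h⁻¹ * (g⁻¹ * z * g) * h ∈ C ↔ g⁻¹ * z * g ∈ C := by
      constructor
      · intro h4
        have := C.mul_mem (C.mul_mem hh h4) (C.inv_mem hh)
        have e3 : h * (h⁻¹ * (g⁻¹ * z * g) * h) * h⁻¹ = g⁻¹ * z * g := by group
        rwa [e3] at this
      · intro h4
        exact C.mul_mem (C.mul_mem (C.inv_mem hh) h4) hh
    rw [e2])
  have h4 := card_subtype_eq C (fun g => g * z * g⁻¹ ∈ C ∧ g * z * g⁻¹ ∉ M) (by
    intro g h hh
    have e : (g * h) * z * (g * h)⁻¹ = g * z * g⁻¹ := by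
      calc (g * h) * z * (g * h)⁻¹ = g * (h * z) * h⁻¹ * g⁻¹ := by group
        _ = g * (z * h) * h⁻¹ * g⁻¹ := by rw [hz h hh]
        _ = _ := by group
    rw [e])
  have h5 : Nat.card {g : G // g⁻¹ * z * g ∈ C ∧ g⁻¹ * z * g ∉ M} =
      Nat.card {g : G // g * z * g⁻¹ ∈ C ∧ g * z * g⁻¹ ∉ M} := by
    apply Nat.card_congr
    refine
      { toFun := fun g => ⟨g.1⁻¹, by simpa using g.2⟩
        invFun := fun g => ⟨g.1⁻¹, by simpa using g.2⟩
        left_inv := fun g => Subtype.ext (inv_inv _)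
        right_inv := fun g => Subtype.ext (inv_inv _) }
  have h6 : Nat.card {x : G ⧸ C // x.out * z * x.out⁻¹ ∈ C ∧ x.out * z * x.out⁻¹ ∉ M} = Nat.card (DOut z M) := by
    apply Nat.card_congr
    refine Equiv.ofBijective (fun x => ⟨x.1.out * z * x.1.out⁻¹, ⟨x.1.out, rfl⟩,
      Subgroup.mem_centralizer_singleton_iff.1 x.2.1, x.2.2⟩) ⟨?_, ?_⟩
    · intro x y hxy
      have h7 : x.1.out * z * x.1.out⁻¹ = y.1.out * z * y.1.out⁻¹ := congrArg Subtype.val hxy
      apply Subtype.ext
      rw [← QuotientGroup.out_eq' x.1, ← QuotientGroup.out_eq' y.1, QuotientGroup.eq]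
      refine Subgroup.mem_centralizer_singleton_iff.2 ?_
      calc x.1.out⁻¹ * y.1.out * z = x.1.out⁻¹ * (y.1.out * z * y.1.out⁻¹) * y.1.out := by group
        _ = x.1.out⁻¹ * (x.1.out * z * x.1.out⁻¹) * y.1.out := by rw [h7]
        _ = _ := by group
    · rintro ⟨d, ⟨g, hg⟩, hd1, hd2⟩
      have h7 : ((g : G ⧸ C).out) * z * ((g : G ⧸ C).out)⁻¹ = d := by
        have h8 : (g : G ⧸ C).out⁻¹ * g ∈ C := by rw [← QuotientGroup.eq, QuotientGroup.out_eq']
        have h9 := hz _ h8
        rw [← hg]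
        calc ((g : G ⧸ C).out) * z * ((g : G ⧸ C).out)⁻¹
            = (g : G ⧸ C).out * (z * ((g : G ⧸ C).out⁻¹ * g)) * g⁻¹ := by group
          _ = (g : G ⧸ C).out * (((g : G ⧸ C).out⁻¹ * g) * z) * g⁻¹ := by rw [h9]
          _ = _ := by group
      refine ⟨⟨(g : G ⧸ C), ?_, ?_⟩, Subtype.ext h7⟩
      · rw [h7]; exact Subgroup.mem_centralizer_singleton_iff.2 hd1
      · rw [h7]; exact hd2
  rw [← h6, ← h4, ← h5, h3]
  rfl

/-- If the classes of the involutions of `C_G(z) ∖ M` have length divisible by four. -/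
theorem four_dvd [Finite G] (hz : z * z = 1) (hle : M ≤ Subgroup.centralizer ({z} : Set G))
    (h2 : M.relIndex (Subgroup.centralizer ({z} : Set G)) = 2)
    (H4 : ∀ y : G, y * z = z * y → y ∉ M → y * y = 1 →
      4 ∣ (Subgroup.centralizer ({y} : Set G)).relIndex (Subgroup.centralizer ({z} : Set G))) :
    4 ∣ Nat.card (DOut z M) := by
  classical
  set C := Subgroup.centralizer ({z} : Set G) with hC
  have hzc : ∀ h ∈ C, h * z = z * h := fun h hh => Subgroup.mem_centralizer_singleton_iff.1 hh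
  letI : MulAction C (DOut z M) :=
    { smul := fun c y => ⟨c * y.1 * (c : G)⁻¹, by
        obtain ⟨y, ⟨g, rfl⟩, h3, h4⟩ := y
        refine ⟨⟨c * g, by group⟩, ?_, ?_⟩
        · have := Subgroup.mem_centralizer_singleton_iff.1
            (C.mul_mem (C.mul_mem c.2 (Subgroup.mem_centralizer_singleton_iff.2 h3)) (C.inv_mem c.2))
          exact this
        · intro h5
          apply h4
          have h6 := (normal_of_relIndex hle h2 (c := (c : G)⁻¹) (x := g * z * g⁻¹) (C.inv_mem c.2)).1
          rw [inv_inv] at h6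
          exact h6 h5⟩
      one_smul := fun y => Subtype.ext (by
        show ((1 : C) : G) * y.1 * ((1 : C) : G)⁻¹ = y.1
        simp)
      mul_smul := fun c d y => Subtype.ext (by
        show ((c * d : C) : G) * y.1 * ((c * d : C) : G)⁻¹ = c * (d * y.1 * (d : G)⁻¹) * (c : G)⁻¹
        rw [Subgroup.coe_mul]; group) }
  have : Finite (DOut z M) := Subtype.finite
  have : Fintype (DOut z M) := Fintype.ofFinite _
  have : Fintype (Quotient (MulAction.orbitRel C (DOut z M))) := Fintype.ofFinite _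
  rw [Nat.card_congr (MulAction.selfEquivSigmaOrbits C (DOut z M)), Nat.card_sigma]
  refine Finset.dvd_sum fun ω _ => ?_
  -- the length of an orbit
  obtain ⟨y, hy⟩ : ∃ y : DOut z M, y = ω.out := ⟨_, rfl⟩
  have h3 : Nat.card (MulAction.orbit C (ω.out : DOut z M)) = (MulAction.stabilizer C y).index := by
    rw [hy]
    exact (MulAction.index_stabilizer C (ω.out : DOut z M)).symm
  rw [h3]
  have h4 : MulAction.stabilizer C y = (Subgroup.centralizer ({y.1} : Set G)).subgroupOf C := by
    ext c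
    rw [MulAction.mem_stabilizer_iff, Subgroup.mem_subgroupOf, Subgroup.mem_centralizer_singleton_iff]
    constructor
    · intro h
      have h5 : (c : G) * y.1 * (c : G)⁻¹ = y.1 := congrArg Subtype.val h
      rwa [mul_inv_eq_iff_eq_mul] at h5
    · intro h
      apply Subtype.ext
      show (c : G) * y.1 * (c : G)⁻¹ = y.1
      rwa [mul_inv_eq_iff_eq_mul]
  rw [h4]
  obtain ⟨y, ⟨g, hg⟩, hy1, hy2⟩ := y
  refine H4 y hy1 hy2 ?_
  rw [← hg]
  calc g * z * g⁻¹ * (g * z * g⁻¹) = g * (z * z) * g⁻¹ := by group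
    _ = 1 := by rw [hz]; group

/-- **PARITY in the isoclinic case.** -/
theorem even_card_iso [Finite G] (hG : ∀ H : Subgroup G, H.index ≠ 2) (hz : z * z = 1)
    (hle : M ≤ Subgroup.centralizer ({z} : Set G))
    (h2 : M.relIndex (Subgroup.centralizer ({z} : Set G)) = 2) {u : G} (hu : u * u = z)
    (H4 : ∀ y : G, y * z = z * y → y ∉ M → y * y = 1 →
      4 ∣ (Subgroup.centralizer ({y} : Set G)).relIndex (Subgroup.centralizer ({z} : Set G)))
    (P : Subgroup G) (hP : IsPGroup 2 P) (hPu : ∀ p ∈ P, p * u = u * p) :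
    Even (Nat.card {d : G // Out z M d u ∧ ∀ p ∈ P, p * d = d * p}) := by
  classical
  have hu2 : u ^ 2 = z := by rw [pow_two, hu]
  have hu4 : u ^ 4 = 1 := by
    have : u ^ 4 = u ^ 2 * u ^ 2 := by rw [← pow_add]
    rw [this, hu2, hz]
  obtain ⟨b, hb1, hb2⟩ := exists_half hG hle h2 u hu4
  rw [hu2, card_dout hle h2] at hb2
  have h4 := four_dvd hz hle h2 H4
  rw [hb2] at h4
  have hbe : Even b := by
    obtain ⟨k, hk⟩ := h4
    exact ⟨k, by omega⟩
  have h0 : Even (Nat.card {x : G ⧸ Subgroup.centralizer ({z} : Set G) //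
      Odd1 (Subgroup.centralizer ({z} : Set G)) M u x}) := (Nat.even_add.1 hb1).2 hbe
  have h3 := even_fixed hle h2 u h0 P hP hPu
  convert h3 using 1
  symm
  have key : ∀ x : G ⧸ Subgroup.centralizer ({z} : Set G), ∀ g : G, (g : G ⧸ _) = x →
      x.out * z * x.out⁻¹ = g * z * g⁻¹ := by
    intro x g hg
    have h1 : x.out⁻¹ * g ∈ Subgroup.centralizer ({z} : Set G) := by
      rw [← QuotientGroup.eq, QuotientGroup.out_eq', hg]
    have h4 := Subgroup.mem_centralizer_singleton_iff.1 h1
    calc x.out * z * x.out⁻¹ = x.out * (z * (x.out⁻¹ * g)) * g⁻¹ := by group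
      _ = x.out * ((x.out⁻¹ * g) * z) * g⁻¹ := by rw [h4]
      _ = _ := by group
  have hiff : ∀ (P : Subgroup G) (g : G), (∀ p ∈ P, p • (g : G ⧸ Subgroup.centralizer ({z} : Set G)) = g) ↔
      ∀ p ∈ P, p * (g * z * g⁻¹) = (g * z * g⁻¹) * p := by
    intro P g
    refine forall₂_congr fun p _ => ?_
    rw [smul_eq_iff, Subgroup.mem_centralizer_singleton_iff]
    exact comm_iff rfl
  apply Nat.card_congr
  refine Equiv.ofBijective (fun x => ⟨x.1.out * z * x.1.out⁻¹, ?_, ?_⟩) ⟨?_, ?_⟩
  · exact ⟨x.1.out, rfl, Subgroup.mem_centralizer_singleton_iff.1 x.2.1.1, x.2.1.2⟩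
  · rw [← hiff, QuotientGroup.out_eq']
    exact x.2.2
  · intro x y hxy
    have h4 : x.1.out * z * x.1.out⁻¹ = y.1.out * z * y.1.out⁻¹ := congrArg Subtype.val hxy
    apply Subtype.ext
    rw [← QuotientGroup.out_eq' x.1, ← QuotientGroup.out_eq' y.1, QuotientGroup.eq,
      Subgroup.mem_centralizer_singleton_iff]
    calc x.1.out⁻¹ * y.1.out * z = x.1.out⁻¹ * (y.1.out * z * y.1.out⁻¹) * y.1.out := by group
      _ = x.1.out⁻¹ * (x.1.out * z * x.1.out⁻¹) * y.1.out := by rw [h4]
      _ = _ := by group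
  · rintro ⟨d, ⟨g, hg, hgC, hgM⟩, hd⟩
    refine ⟨⟨(g : G ⧸ _), (odd1_iff hle h2 u g).2
      ⟨Subgroup.mem_centralizer_singleton_iff.2 hgC, hgM⟩, ?_⟩, ?_⟩
    · rw [hiff, hg]
      exact hd
    · apply Subtype.ext
      exact (key _ g rfl).trans hg

end

end Cfsg.Agent.BabyU.FusIso
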