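import Cfsg.Agent.LargeExtra.TransferPow

/-!
# The fusion step of the Baby Monster type by parity of the transfer (R19U, U-B P3, helper941)

`G` finite without subgroups of index 2, `z` an involution, `C = C_G(z)`, `M ≤ C` of index 2. For a conjugate
`d` of `z` let `M_d` be the corresponding conjugate of `M`. For `u ∈ C ∖ M` (with `u² = 1`, or `u² = z` and no
involutions in `C ∖ M`) and a 2-subgroup `P ≤ C_C(u)`, the number of `d ∈ z^G ∩ C_G(P)` commuting with `u` such
that `u ∉ M_d` is even. With `C_G(P) ≤ {z^i u^j r^k s^l}` and a few facts this gives that `r` or `z r` is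
conjugate to `z`.
-/

set_option autoImplicit false

namespace Cfsg.Agent.BabyU.FusParity

open Cfsg.Agent.LargeExtra Cfsg.Agent.LargeExtra.Transfer

variable {G : Type*} [Group G]

/-- `d = z^g`, `x ∈ C_G(d) ∖ M_d` -/
def Out (z : G) (M : Subgroup G) (d x : G) : Prop :=
  ∃ g : G, g * z * g⁻¹ = d ∧ (g⁻¹ * x * g) * z = z * (g⁻¹ * x * g) ∧ g⁻¹ * x * g ∉ M

/-- `d = z^g`, `x ∈ M_d` -/
def Inn (z : G) (M : Subgroup G) (d x : G) : Prop :=
  ∃ g : G, g * z * g⁻¹ = d ∧ g⁻¹ * x * g ∈ M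

variable {z : G} {M : Subgroup G}

theorem conj_mem (hle : M ≤ Subgroup.centralizer ({z} : Set G))
    (h2 : M.relIndex (Subgroup.centralizer ({z} : Set G)) = 2) {g g' x : G}
    (h : g * z * g⁻¹ = g' * z * g'⁻¹) : g⁻¹ * x * g ∈ M ↔ g'⁻¹ * x * g' ∈ M := by
  have hc : g'⁻¹ * g ∈ Subgroup.centralizer ({z} : Set G) := by
    rw [Subgroup.mem_centralizer_singleton_iff]
    calc g'⁻¹ * g * z = g'⁻¹ * (g * z * g⁻¹) * g := by group
      _ = g'⁻¹ * (g' * z * g'⁻¹) * g := by rw [h]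
      _ = _ := by group
  have e : (g'⁻¹ * g)⁻¹ * (g'⁻¹ * x * g') * (g'⁻¹ * g) = g⁻¹ * x * g := by group
  rw [← e]
  exact normal_of_relIndex hle h2 hc

theorem comm_iff {g d x : G} (h : g * z * g⁻¹ = d) :
    (g⁻¹ * x * g) * z = z * (g⁻¹ * x * g) ↔ x * d = d * x := by
  rw [← h]
  constructor
  · intro h1
    calc x * (g * z * g⁻¹) = g * ((g⁻¹ * x * g) * z) * g⁻¹ := by group
      _ = g * (z * (g⁻¹ * x * g)) * g⁻¹ := by rw [h1]
      _ = _ := by group
  · intro h1
    calc (g⁻¹ * x * g) * z = g⁻¹ * (x * (g * z * g⁻¹)) * g := by group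
      _ = g⁻¹ * ((g * z * g⁻¹) * x) * g := by rw [h1]
      _ = _ := by group

theorem Out.comm {d x : G} (h : Out z M d x) : x * d = d * x := by
  obtain ⟨g, h1, h2, -⟩ := h
  exact (comm_iff h1).1 h2

theorem Out.isConj {d x : G} (h : Out z M d x) : ∃ g : G, g * z * g⁻¹ = d := by
  obtain ⟨g, h1, -⟩ := h
  exact ⟨g, h1⟩

theorem Inn.comm (hle : M ≤ Subgroup.centralizer ({z} : Set G)) {d x : G} (h : Inn z M d x) :
    x * d = d * x := by
  obtain ⟨g, h1, h2⟩ := h
  exact (comm_iff h1).1 (Subgroup.mem_centralizer_singleton_iff.1 (hle h2))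

theorem out_iff (hle : M ≤ Subgroup.centralizer ({z} : Set G))
    (h2 : M.relIndex (Subgroup.centralizer ({z} : Set G)) = 2) {g d x : G} (hg : g * z * g⁻¹ = d)
    (hx : x * d = d * x) : Out z M d x ↔ g⁻¹ * x * g ∉ M := by
  constructor
  · rintro ⟨g', h1, -, h3⟩
    rwa [conj_mem hle h2 (hg.trans h1.symm)]
  · intro h3
    exact ⟨g, hg, (comm_iff hg).2 hx, h3⟩

theorem inn_iff (hle : M ≤ Subgroup.centralizer ({z} : Set G))
    (h2 : M.relIndex (Subgroup.centralizer ({z} : Set G)) = 2) {g d x : G} (hg : g * z * g⁻¹ = d) :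
    Inn z M d x ↔ g⁻¹ * x * g ∈ M := by
  constructor
  · rintro ⟨g', h1, h3⟩
    rwa [conj_mem hle h2 (hg.trans h1.symm)]
  · intro h3
    exact ⟨g, hg, h3⟩

theorem out_iff_not (hle : M ≤ Subgroup.centralizer ({z} : Set G))
    (h2 : M.relIndex (Subgroup.centralizer ({z} : Set G)) = 2) {d x : G}
    (hd : ∃ g : G, g * z * g⁻¹ = d) (hx : x * d = d * x) : Out z M d x ↔ ¬ Inn z M d x := by
  obtain ⟨g, hg⟩ := hd
  rw [out_iff hle h2 hg hx, inn_iff hle h2 hg]

theorem out_conj {d x h : G} : Out z M (h * d * h⁻¹) (h * x * h⁻¹) ↔ Out z M d x := by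
  constructor
  · rintro ⟨g, h1, h3, h4⟩
    have e : (h⁻¹ * g)⁻¹ * x * (h⁻¹ * g) = g⁻¹ * (h * x * h⁻¹) * g := by group
    refine ⟨h⁻¹ * g, ?_, ?_, ?_⟩
    · calc h⁻¹ * g * z * (h⁻¹ * g)⁻¹ = h⁻¹ * (g * z * g⁻¹) * h := by group
        _ = h⁻¹ * (h * d * h⁻¹) * h := by rw [h1]
        _ = d := by group
    · rw [e]; exact h3
    · rw [e]; exact h4
  · rintro ⟨g, h1, h3, h4⟩
    have e : (h * g)⁻¹ * (h * x * h⁻¹) * (h * g) = g⁻¹ * x * g := by group
    refine ⟨h * g, ?_, ?_, ?_⟩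
    · calc h * g * z * (h * g)⁻¹ = h * (g * z * g⁻¹) * h⁻¹ := by group
        _ = _ := by rw [h1]
    · rw [e]; exact h3
    · rw [e]; exact h4

/-- additivity of `χ_d` -/
theorem out_mul (hle : M ≤ Subgroup.centralizer ({z} : Set G))
    (h2 : M.relIndex (Subgroup.centralizer ({z} : Set G)) = 2) {d x y : G}
    (hd : ∃ g : G, g * z * g⁻¹ = d) (hx : x * d = d * x) (hy : y * d = d * y) :
    Out z M d (x * y) ↔ (Out z M d x ↔ ¬ Out z M d y) := by
  obtain ⟨g, hg⟩ := hd
  have hxy : (x * y) * d = d * (x * y) := by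
    rw [mul_assoc, hy, ← mul_assoc, hx, mul_assoc]
  rw [out_iff hle h2 hg hx, out_iff hle h2 hg hy, out_iff hle h2 hg hxy]
  have e : g⁻¹ * (x * y) * g = (g⁻¹ * x * g) * (g⁻¹ * y * g) := by group
  rw [e]
  have hxC : g⁻¹ * x * g ∈ Subgroup.centralizer ({z} : Set G) :=
    Subgroup.mem_centralizer_singleton_iff.2 ((comm_iff hg).2 hx)
  have hyC : g⁻¹ * y * g ∈ Subgroup.centralizer ({z} : Set G) :=
    Subgroup.mem_centralizer_singleton_iff.2 ((comm_iff hg).2 hy)
  have h3 := Subgroup.mul_mem_iff_of_index_two (H := M.subgroupOf (Subgroup.centralizer ({z} : Set G))) h2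
    (a := ⟨_, hxC⟩) (b := ⟨_, hyC⟩)
  rw [Subgroup.mem_subgroupOf, Subgroup.mem_subgroupOf, Subgroup.mem_subgroupOf] at h3
  change (g⁻¹ * x * g) * (g⁻¹ * y * g) ∈ M ↔ (g⁻¹ * x * g ∈ M ↔ g⁻¹ * y * g ∈ M) at h3
  tauto

/-- elements of odd order of `C_G(d)` are in `M_d` -/
theorem inn_of_odd (hle : M ≤ Subgroup.centralizer ({z} : Set G))
    (h2 : M.relIndex (Subgroup.centralizer ({z} : Set G)) = 2) {d x : G}
    (hd : ∃ g : G, g * z * g⁻¹ = d) (hx : x * d = d * x) (hodd : Odd (orderOf x)) : Inn z M d x := by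
  obtain ⟨g, hg⟩ := hd
  rw [inn_iff hle h2 hg]
  by_contra hne
  have hxC : g⁻¹ * x * g ∈ Subgroup.centralizer ({z} : Set G) :=
    Subgroup.mem_centralizer_singleton_iff.2 ((comm_iff hg).2 hx)
  obtain ⟨m, hm⟩ := hodd
  have hpow : (g⁻¹ * x * g) ^ (orderOf x) = 1 := by
    have e : (g⁻¹ * x * g) = MulAut.conj g⁻¹ x := by rw [MulAut.conj_apply, inv_inv]
    rw [e, ← map_pow, pow_orderOf_eq_one, map_one]
  rw [hm, pow_succ, pow_mul] at hpow
  have h4 : (g⁻¹ * x * g) ^ 2 ∈ M := by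
    have h3 := Subgroup.mul_mem_iff_of_index_two
      (H := M.subgroupOf (Subgroup.centralizer ({z} : Set G))) h2 (a := ⟨_, hxC⟩) (b := ⟨_, hxC⟩)
    rw [Subgroup.mem_subgroupOf, Subgroup.mem_subgroupOf] at h3
    change (g⁻¹ * x * g) * (g⁻¹ * x * g) ∈ M ↔ (g⁻¹ * x * g ∈ M ↔ g⁻¹ * x * g ∈ M) at h3
    rw [pow_two]
    exact h3.2 Iff.rfl
  apply hne
  have h5 : g⁻¹ * x * g = (((g⁻¹ * x * g) ^ 2) ^ m)⁻¹ := by
    rw [eq_inv_iff_mul_eq_one, ← hpow]
    rw [← pow_mul, ← pow_succ, ← pow_succ']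
  rw [h5]
  exact M.inv_mem (M.pow_mem h4 m)

/-- PARITY: the number of `d ∈ z^G` centralised by `P` with `u ∉ M_d` is even. -/
theorem even_card [Finite G] (hG : ∀ H : Subgroup G, H.index ≠ 2)
    (hle : M ≤ Subgroup.centralizer ({z} : Set G))
    (h2 : M.relIndex (Subgroup.centralizer ({z} : Set G)) = 2) (u : G) {k : ℕ} (hu : u ^ (2 ^ k) = 1)
    (hev : ∀ (m : ℕ) (g : G), 2 ∣ m → (g⁻¹ * u ^ m * g) * z = z * (g⁻¹ * u ^ m * g) →
      g⁻¹ * u ^ m * g ∈ M) (P : Subgroup G) (hP : IsPGroup 2 P) (hPu : ∀ p ∈ P, p * u = u * p) :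
    Even (Nat.card {d : G // Out z M d u ∧ ∀ p ∈ P, p * d = d * p}) := by
  classical
  have h3 := TransferPow.even_card_fixed hG hle h2 u hu (fun m g hm hg =>
    hev m g hm (Subgroup.mem_centralizer_singleton_iff.1 hg)) P hP hPu
  convert h3 using 1
  symm
  have key : ∀ x : G ⧸ Subgroup.centralizer ({z} : Set G), ∀ g : G, (g : G ⧸ _) = x →
      x.out * z * x.out⁻¹ = g * z * g⁻¹ := by
    intro x g hg
    have h1 : x.out⁻¹ * g ∈ Subgroup.centralizer ({z} : Set G) := by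
      rw [← QuotientGroup.eq, QuotientGroup.out_eq', hg]
    have h4 := Subgroup.mem_centralizer_singleton_iff.1 h1
    calc x.out * z * x.out⁻¹ = x.out * (z * (x.out⁻¹ * g)) * g⁻¹ := by group
      _ = x.out * ((x.out⁻¹ * g) * z) * g⁻¹ := by rw [h4]
      _ = _ := by group
  have hiff : ∀ (P : Subgroup G) (g : G), (∀ p ∈ P, p • (g : G ⧸ Subgroup.centralizer ({z} : Set G)) = g) ↔
      ∀ p ∈ P, p * (g * z * g⁻¹) = (g * z * g⁻¹) * p := by
    intro P g
    refine forall₂_congr fun p _ => ?_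
    rw [smul_eq_iff, Subgroup.mem_centralizer_singleton_iff]
    exact comm_iff rfl
  apply Nat.card_congr
  refine Equiv.ofBijective (fun x => ⟨x.1.out * z * x.1.out⁻¹, ?_, ?_⟩) ⟨?_, ?_⟩
  · exact ⟨x.1.out, rfl, Subgroup.mem_centralizer_singleton_iff.1 x.2.1.1, x.2.1.2⟩
  · rw [← hiff, QuotientGroup.out_eq']
    exact x.2.2
  · intro x y hxy
    have h4 : x.1.out * z * x.1.out⁻¹ = y.1.out * z * y.1.out⁻¹ := congrArg Subtype.val hxy
    apply Subtype.ext
    rw [← QuotientGroup.out_eq' x.1, ← QuotientGroup.out_eq' y.1, QuotientGroup.eq,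
      Subgroup.mem_centralizer_singleton_iff]
    calc x.1.out⁻¹ * y.1.out * z = x.1.out⁻¹ * (y.1.out * z * y.1.out⁻¹) * y.1.out := by group
      _ = x.1.out⁻¹ * (x.1.out * z * x.1.out⁻¹) * y.1.out := by rw [h4]
      _ = _ := by group
  · rintro ⟨d, ⟨g, hg, hgC, hgM⟩, hd⟩
    refine ⟨⟨(g : G ⧸ _), (odd1_iff hle h2 u g).2
      ⟨Subgroup.mem_centralizer_singleton_iff.2 hgC, hgM⟩, ?_⟩, ?_⟩
    · rw [hiff, hg]
      exact hd
    · apply Subtype.ext
      exact (key _ g rfl).trans hg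

/-- A finite set with a fixed point free involution off one point has odd cardinality. -/
theorem odd_of_involution {α : Type*} [Finite α] (a : α) (f : α → α) (hf : ∀ x, x ≠ a → f x ≠ a)
    (hff : ∀ x, x ≠ a → f (f x) = x) (hne : ∀ x, x ≠ a → f x ≠ x) : ¬ Even (Nat.card α) := by
  classical
  have : Fintype α := Fintype.ofFinite α
  have : Fact (Nat.Prime 2) := ⟨Nat.prime_two⟩
  let g : Function.End α := fun x => if x = a then a else f x
  have ga : g a = a := if_pos rfl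
  have gx : ∀ x, x ≠ a → g x = f x := fun x hx => if_neg hx
  have hg : g ^ 2 ^ 1 = 1 := by
    rw [pow_one, pow_two]
    funext x
    show g (g x) = x
    by_cases hx : x = a
    · rw [hx, ga, ga]
    · rw [gx x hx, gx _ (hf x hx), hff x hx]
  have h1 := Equiv.Perm.card_fixedPoints_modEq hg
  have h2 : Fintype.card (Function.fixedPoints g) = 1 := by
    rw [Fintype.card_eq_one_iff]
    refine ⟨⟨a, ga⟩, ?_⟩
    rintro ⟨y, hy⟩
    apply Subtype.ext
    by_contra hya
    exact hne y hya ((gx y hya).symm.trans hy)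
  rw [h2] at h1
  rw [Nat.card_eq_fintype_card, Nat.even_iff]
  intro h3
  have h4 : Fintype.card α % 2 = 1 % 2 := h1
  omega

theorem mul_mem_iff (hle : M ≤ Subgroup.centralizer ({z} : Set G))
    (h2 : M.relIndex (Subgroup.centralizer ({z} : Set G)) = 2) {x y : G}
    (hx : x * z = z * x) (hy : y * z = z * y) : x * y ∈ M ↔ (x ∈ M ↔ y ∈ M) := by
  have h3 := Subgroup.mul_mem_iff_of_index_two (H := M.subgroupOf (Subgroup.centralizer ({z} : Set G))) h2
    (a := ⟨x, Subgroup.mem_centralizer_singleton_iff.2 hx⟩)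
    (b := ⟨y, Subgroup.mem_centralizer_singleton_iff.2 hy⟩)
  rw [Subgroup.mem_subgroupOf, Subgroup.mem_subgroupOf, Subgroup.mem_subgroupOf] at h3
  exact h3

/-- If `L ≤ C_G(d)` has no subgroup of index two, then `L ≤ M_d`. -/
theorem inn_of_perfect (hle : M ≤ Subgroup.centralizer ({z} : Set G))
    (h2 : M.relIndex (Subgroup.centralizer ({z} : Set G)) = 2) {d : G}
    (hd : ∃ g : G, g * z * g⁻¹ = d) {L : Subgroup G} (hL : ∀ w ∈ L, w * d = d * w)
    (h4 : ∀ K : Subgroup G, K ≤ L → K.relIndex L ≠ 2) : ∀ w ∈ L, Inn z M d w := by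
  obtain ⟨g, hg⟩ := hd
  by_contra hcon
  push_neg at hcon
  obtain ⟨w, hw, hwI⟩ := hcon
  have hmem : ∀ x : G, x ∈ L ⊓ M.map (MulAut.conj g).toMonoidHom ↔ x ∈ L ∧ Inn z M d x := by
    intro x
    rw [Subgroup.mem_inf, inn_iff hle h2 hg]
    refine and_congr_right fun _ => ?_
    constructor
    · rintro ⟨y, hy, rfl⟩
      show g⁻¹ * (g * y * g⁻¹) * g ∈ M
      have e : g⁻¹ * (g * y * g⁻¹) * g = y := by group
      rw [e]; exact hy
    · intro hx
      refine ⟨g⁻¹ * x * g, hx, ?_⟩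
      show g * (g⁻¹ * x * g) * g⁻¹ = x
      group
  apply h4 (L ⊓ M.map (MulAut.conj g).toMonoidHom) inf_le_left
  rw [Subgroup.relIndex_eq_two_iff]
  refine ⟨w, hw, fun b hb => ?_⟩
  have h5 := out_mul hle h2 ⟨g, hg⟩ (hL b hb) (hL w hw)
  rw [out_iff_not hle h2 ⟨g, hg⟩ (hL b hb), out_iff_not hle h2 ⟨g, hg⟩ (hL w hw),
    out_iff_not hle h2 ⟨g, hg⟩ (x := b * w) (by rw [mul_assoc, hL w hw, ← mul_assoc, hL b hb, mul_assoc])] at h5
  rw [hmem, hmem]
  have h6 : b * w ∈ L := L.mul_mem hb hw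
  unfold Xor
  tauto

/-- The fusion theorem. `r`, `s` are the canonical lifts of the long and of the short highest root involution. -/
theorem exists_conj [Finite G] (hG : ∀ H : Subgroup G, H.index ≠ 2) (hz : z * z = 1) (hz1 : z ≠ 1)
    (hle : M ≤ Subgroup.centralizer ({z} : Set G))
    (h2 : M.relIndex (Subgroup.centralizer ({z} : Set G)) = 2) (hzM : z ∈ M) {u r s c n : G}
    (huz : u * z = z * u) (huM : u ∉ M)
    (hu : u * u = 1 ∨ (u * u = z ∧ ∀ x : G, x * z = z * x → x * x = 1 → x ∈ M))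
    (hrM : r ∈ M) (hsM : s ∈ M) (hr : r * r = 1) (hr1 : r ≠ 1) (hs : s * s = 1) (hs1 : s ≠ 1)
    (hrs : r * s = s * r) (hru : r * u = u * r) (hsu : s * u = u * s)
    (P : Subgroup G) (hP : IsPGroup 2 P) (hPu : ∀ p ∈ P, p * u = u * p) (hPz : ∀ p ∈ P, p * z = z * p)
    (hPr : ∀ p ∈ P, p * r = r * p) (hPs : ∀ p ∈ P, p * s = s * p)
    (hCP : ∀ x : G, (∀ p ∈ P, p * x = x * p) → ∃ m a : G, (m = 1 ∨ m = z) ∧
      (a = 1 ∨ a = r ∨ a = s ∨ a = r * s) ∧ (x = m * a ∨ x = m * u * a))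
    (hcz : c * z = z * c) (hcr : c * r = r * c) (hcs : c * s = s * c) (hcu : c * u * c⁻¹ = u * s)
    (hnz : n * z = z * n) (hns : n * s * n⁻¹ = r * s)
    (h4 : ∀ K : Subgroup G, K ≤ M ⊓ Subgroup.centralizer ({s} : Set G) →
      K.relIndex (M ⊓ Subgroup.centralizer ({s} : Set G)) ≠ 2)
    (h5 : s ∈ Subgroup.closure {y : G | Odd (orderOf y) ∧ y * z = z * y ∧ y * u = u * y ∧ y * r = r * y}) :
    ∃ g : G, g * z * g⁻¹ = r ∨ g * z * g⁻¹ = z * r := by
  classical
  by_contra hno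
  push_neg at hno
  have hrz : r * z = z * r := Subgroup.mem_centralizer_singleton_iff.1 (hle hrM)
  have hsz : s * z = z * s := Subgroup.mem_centralizer_singleton_iff.1 (hle hsM)
  have hzz : z * z = z * z := rfl
  -- the set `X` has even cardinality
  have heven : Even (Nat.card {d : G // Out z M d u ∧ ∀ p ∈ P, p * d = d * p}) := by
    rcases hu with hu | ⟨hu, hinv⟩
    · refine even_card hG hle h2 u (k := 1) (by rw [pow_one, pow_two, hu]) ?_ P hP hPu
      rintro m g ⟨j, rfl⟩ -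
      rw [pow_mul, pow_two, hu, one_pow, mul_one, inv_mul_cancel]
      exact M.one_mem
    · refine even_card hG hle h2 u (k := 2) ?_ ?_ P hP hPu
      · show u ^ (2 * 2) = 1
        rw [pow_mul, pow_two u, hu, pow_two, hz]
      · rintro m g ⟨j, rfl⟩ hcomm
        apply hinv _ hcomm
        have e : (g⁻¹ * u ^ (2 * j) * g) * (g⁻¹ * u ^ (2 * j) * g) = g⁻¹ * (u ^ (2 * j) * u ^ (2 * j)) * g := by
          group
        rw [e, pow_mul, pow_two u, hu, ← pow_add, ← two_mul, pow_mul, pow_two z, hz, one_pow, mul_one,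
          inv_mul_cancel]
  -- conjugates of `z` are involutions
  have hinv : ∀ d, (∃ g : G, g * z * g⁻¹ = d) → d * d = 1 ∧ d ≠ 1 := by
    rintro d ⟨g, rfl⟩
    constructor
    · calc g * z * g⁻¹ * (g * z * g⁻¹) = g * (z * z) * g⁻¹ := by group
        _ = 1 := by rw [hz]; group
    · intro h
      apply hz1
      calc z = g⁻¹ * (g * z * g⁻¹) * g := by group
        _ = 1 := by rw [h]; group
  -- the classification of the elements of `X`
  have hclass : ∀ d, Out z M d u → (∀ p ∈ P, p * d = d * p) → d ≠ z →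
      (∃ m, (m = 1 ∨ m = z) ∧ (d = m * s ∨ d = m * (r * s))) ∨
      (∃ m a, (m = 1 ∨ m = z) ∧ (a = 1 ∨ a = r ∨ a = s ∨ a = r * s) ∧ d = m * u * a) := by
    intro d hd hdP hdz
    obtain ⟨g, hg⟩ := hd.isConj
    have hne := (hinv d ⟨g, hg⟩).2
    obtain ⟨m, a, hm, ha, rfl | rfl⟩ := hCP d hdP
    · left
      refine ⟨m, hm, ?_⟩
      rcases ha with rfl | rfl | rfl | rfl
      · rcases hm with rfl | rfl
        · exact absurd (mul_one 1) hne
        · exact absurd (mul_one _) hdz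
      · rcases hm with rfl | rfl
        · exact absurd (hg.trans (one_mul _)) (hno g).1
        · exact absurd hg (hno g).2
      · exact Or.inl rfl
      · exact Or.inr rfl
    · right
      exact ⟨m, a, hm, ha, rfl⟩
  have hmM : ∀ m, (m = 1 ∨ m = z) → m ∈ M := by
    rintro m (rfl | rfl)
    · exact M.one_mem
    · exact hzM
  have hmc : ∀ m, (m = 1 ∨ m = z) → ∀ w : G, w * z = z * w → w * m = m * w := by
    intro m hm w hw
    rcases hm with h | h
    · rw [h, mul_one, one_mul]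
    · rw [h, hw]
  have hac : ∀ a, (a = 1 ∨ a = r ∨ a = s ∨ a = r * s) → ∀ w : G, w * r = r * w → w * s = s * w →
      w * a = a * w := by
    intro a ha w hw1 hw2
    rcases ha with h | h | h | h
    · rw [h, mul_one, one_mul]
    · rw [h, hw1]
    · rw [h, hw2]
    · rw [h, ← mul_assoc, hw1, mul_assoc, hw2, mul_assoc]
  have haM : ∀ a, (a = 1 ∨ a = r ∨ a = s ∨ a = r * s) → a ∈ M := by
    rintro a (rfl | rfl | rfl | rfl)
    · exact M.one_mem
    · exact hrM
    · exact hsM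
    · exact M.mul_mem hrM hsM
  -- inner elements
  have hA : ∀ m, (m = 1 ∨ m = z) → (∃ g : G, g * z * g⁻¹ = m * s) →
      (Out z M (m * s) u ↔ Out z M (m * (r * s)) u) := by
    intro m hm hg
    have hms : ∀ w : G, w * z = z * w → w * s = s * w → w * (m * s) = (m * s) * w := by
      intro w hwz hws
      rw [← mul_assoc, hmc m hm w hwz, mul_assoc, hws, mul_assoc]
    have hI := inn_of_perfect hle h2 hg (L := M ⊓ Subgroup.centralizer ({s} : Set G))
      (fun w hw => hms w (Subgroup.mem_centralizer_singleton_iff.1 (hle hw.1))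
        (Subgroup.mem_centralizer_singleton_iff.1 hw.2)) h4
    set y := n⁻¹ * u * n with hy
    have hnz' : n⁻¹ * z = z * n⁻¹ := by
      rw [inv_mul_eq_iff_eq_mul, ← mul_assoc, hnz, mul_assoc, mul_inv_cancel, mul_one]
    have hyz : y * z = z * y := by
      calc n⁻¹ * u * n * z = n⁻¹ * u * (n * z) := by group
        _ = n⁻¹ * (u * z) * n := by rw [hnz]; group
        _ = (n⁻¹ * z) * u * n := by rw [huz]; group
        _ = z * n⁻¹ * u * n := by rw [hnz']
        _ = _ := by rw [hy]; group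
    have hyM : y ∉ M := by
      rw [hy, normal_of_relIndex hle h2 (Subgroup.mem_centralizer_singleton_iff.2 hnz)]
      exact huM
    have hys : y * s = s * y := by
      have h6 : u * (r * s) = (r * s) * u := by
        rw [← mul_assoc, ← hru, mul_assoc, ← hsu, mul_assoc]
      rw [← hns] at h6
      calc n⁻¹ * u * n * s = n⁻¹ * (u * (n * s * n⁻¹)) * n := by group
        _ = n⁻¹ * ((n * s * n⁻¹) * u) * n := by rw [h6]
        _ = _ := by rw [hy]; group
    have huy : u * y ∈ M ⊓ Subgroup.centralizer ({s} : Set G) := by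
      refine ⟨(mul_mem_iff hle h2 huz hyz).2 ⟨fun h => absurd h huM, fun h => absurd h hyM⟩,
        Subgroup.mem_centralizer_singleton_iff.2 ?_⟩
      rw [mul_assoc, hys, ← mul_assoc, ← hsu, mul_assoc]
    have h7 := hI _ huy
    have hcu1 := hms u huz hsu.symm
    have hcy1 := hms y hyz hys
    have h8 := out_mul hle h2 hg hcu1 hcy1
    have h9 : ¬ Out z M (m * s) (u * y) := by
      rw [out_iff_not hle h2 hg (by rw [mul_assoc, hcy1, ← mul_assoc, hcu1, mul_assoc])]
      exact not_not.2 h7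
    have h10 : Out z M (m * s) y ↔ Out z M (m * (r * s)) u := by
      rw [← out_conj (h := n)]
      have e1 : n * (m * s) * n⁻¹ = m * (r * s) := by
        rw [← hns]
        calc n * (m * s) * n⁻¹ = (n * m) * s * n⁻¹ := by group
          _ = m * n * s * n⁻¹ := by rw [hmc m hm n hnz]
          _ = _ := by group
      have e2 : n * y * n⁻¹ = u := by rw [hy]; group
      rw [e1, e2]
    tauto
  -- outer elements
  have hB : ∀ m a, (m = 1 ∨ m = z) → (a = 1 ∨ a = r ∨ a = s ∨ a = r * s) →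
      c * (m * u * a) * c⁻¹ = m * u * a * s := by
    intro m a hm ha
    have e1 : c * m * c⁻¹ = m := by rw [hmc m hm c hcz, mul_inv_cancel_right]
    have e2 : c * a * c⁻¹ = a := by rw [hac a ha c hcr hcs, mul_inv_cancel_right]
    have e3 : s * a = a * s := hac a ha s hrs.symm rfl
    calc c * (m * u * a) * c⁻¹ = (c * m * c⁻¹) * (c * u * c⁻¹) * (c * a * c⁻¹) := by group
      _ = m * (u * s) * a := by rw [e1, e2, hcu]
      _ = m * u * (s * a) := by group
      _ = _ := by rw [e3, ← mul_assoc]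
  have hC1 : ∀ m a, (m = 1 ∨ m = z) → (a = 1 ∨ a = r) → (∃ g : G, g * z * g⁻¹ = m * u * a) →
      Inn z M (m * u * a) s := by
    rintro m a hm ha ⟨g, hg⟩
    have h6 : Subgroup.closure {y : G | Odd (orderOf y) ∧ y * z = z * y ∧ y * u = u * y ∧ y * r = r * y} ≤
        M.map (MulAut.conj g).toMonoidHom := by
      rw [Subgroup.closure_le]
      rintro y ⟨hy, hyz, hyu, hyr⟩
      have hyd : y * (m * u * a) = (m * u * a) * y := by
        have e1 : y * m = m * y := hmc m hm y hyz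
        have e2 : y * a = a * y := by
          rcases ha with h | h
          · rw [h, one_mul, mul_one]
          · rw [h, hyr]
        rw [← mul_assoc, ← mul_assoc, e1, mul_assoc m y u, hyu, mul_assoc m (u * y) a, mul_assoc u y a, e2]
        group
      have h7 := inn_of_odd hle h2 ⟨g, hg⟩ hyd hy
      rw [inn_iff hle h2 hg] at h7
      refine ⟨_, h7, ?_⟩
      show g * (g⁻¹ * y * g) * g⁻¹ = y
      group
    obtain ⟨w, hw, hws⟩ := h6 h5
    refine ⟨g, hg, ?_⟩
    rw [← hws]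
    show g⁻¹ * (g * w * g⁻¹) * g ∈ M
    have e : g⁻¹ * (g * w * g⁻¹) * g = w := by group
    rw [e]; exact hw
  have hC : ∀ m a, (m = 1 ∨ m = z) → (a = 1 ∨ a = r ∨ a = s ∨ a = r * s) →
      (∃ g : G, g * z * g⁻¹ = m * u * a) → ¬ Out z M (m * u * a) s := by
    intro m a hm ha hg hO
    have hred : ∀ a', (a' = 1 ∨ a' = r) → a = a' * s → False := by
      intro a' ha' haa
      have ha4 : a' = 1 ∨ a' = r ∨ a' = s ∨ a' = r * s := by tauto
      have e1 := hB m a' hm ha4
      have e2 : m * u * a' * s = m * u * a := by rw [haa]; group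
      rw [e2] at e1
      have e3 : c * s * c⁻¹ = s := by rw [hcs, mul_inv_cancel_right]
      rw [← e1, ← e3, out_conj] at hO
      have hg' : ∃ g : G, g * z * g⁻¹ = m * u * a' := by
        obtain ⟨g, hg⟩ := hg
        refine ⟨c⁻¹ * g, ?_⟩
        calc c⁻¹ * g * z * (c⁻¹ * g)⁻¹ = c⁻¹ * (g * z * g⁻¹) * c := by group
          _ = c⁻¹ * (c * (m * u * a') * c⁻¹) * c := by rw [hg, e1]
          _ = _ := by group
      rw [out_iff_not hle h2 hg' hO.comm] at hO
      exact hO (hC1 m a' hm ha' hg')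
    rcases ha with ha | ha | ha | ha
    · rw [out_iff_not hle h2 hg hO.comm] at hO
      exact hO (hC1 m a hm (Or.inl ha) hg)
    · rw [out_iff_not hle h2 hg hO.comm] at hO
      exact hO (hC1 m a hm (Or.inr ha) hg)
    · exact hred 1 (Or.inl rfl) (by rw [ha, one_mul])
    · exact hred r (Or.inr rfl) ha
  have hcu' : c⁻¹ * u * c = u * s := by
    have h6 : c⁻¹ * (c * u * c⁻¹) * c = u := by group
    have h7 : c⁻¹ * (c * u * c⁻¹) * c = (c⁻¹ * u * c) * s := by
      rw [hcu]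
      calc c⁻¹ * (u * s) * c = c⁻¹ * u * (s * c) := by group
        _ = c⁻¹ * u * (c * s) := by rw [hcs]
        _ = _ := by group
    have h8 : (c⁻¹ * u * c) * s = u := h7.symm.trans h6
    calc c⁻¹ * u * c = (c⁻¹ * u * c) * s * s := by rw [mul_assoc _ s s, hs, mul_one]
      _ = _ := by rw [h8]
  -- the fixed point free involution
  have hstep : ∀ d, Out z M d u → (∀ p ∈ P, p * d = d * p) → d ≠ z →
      (d ∈ M ∧ Out z M (d * r) u ∧ d * r ≠ z) ∨ (d ∉ M ∧ Out z M (d * s) u ∧ d * s ∉ M) := by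
    intro d hd hdP hdz
    rcases hclass d hd hdP hdz with ⟨m, hm, hms⟩ | ⟨m, a, hm, ha, rfl⟩
    · left
      have hdr : d * r ≠ z := by
        intro h
        obtain ⟨g, hg⟩ := hd.isConj
        apply (hno g).2
        rw [hg]
        calc d = d * r * r := by rw [mul_assoc, hr, mul_one]
          _ = _ := by rw [h]
      rcases hms with rfl | rfl
      · refine ⟨M.mul_mem (hmM m hm) hsM, ?_, hdr⟩
        have e : m * s * r = m * (r * s) := by rw [mul_assoc, hrs]
        rw [e]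
        exact (hA m hm hd.isConj).1 hd
      · refine ⟨M.mul_mem (hmM m hm) (M.mul_mem hrM hsM), ?_, hdr⟩
        have e : m * (r * s) * r = m * s := by rw [hrs, mul_assoc, mul_assoc, hr, mul_one]
        rw [e]
        have hg' : ∃ g : G, g * z * g⁻¹ = m * s := by
          obtain ⟨g, hg⟩ := hd.isConj
          refine ⟨n⁻¹ * g, ?_⟩
          calc n⁻¹ * g * z * (n⁻¹ * g)⁻¹ = n⁻¹ * (g * z * g⁻¹) * n := by group
            _ = n⁻¹ * (m * (n * s * n⁻¹)) * n := by rw [hg, hns]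
            _ = n⁻¹ * (m * n) * s := by group
            _ = n⁻¹ * (n * m) * s := by rw [hmc m hm n hnz]
            _ = m * s := by group
        exact (hA m hm hg').2 hd
    · right
      have hdM : ∀ b ∈ M, m * u * b ∉ M := by
        intro b hb h
        apply huM
        have e : u = m⁻¹ * (m * u * b) * b⁻¹ := by group
        rw [e]
        exact M.mul_mem (M.mul_mem (M.inv_mem (hmM m hm)) h) (M.inv_mem hb)
      refine ⟨hdM a (haM a ha), ?_, ?_⟩
      · rw [← hB m a hm ha]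
        have e : u = c * (c⁻¹ * u * c) * c⁻¹ := by group
        rw [e, out_conj, ← e, hcu']
        have h6 : s * (m * u * a) = (m * u * a) * s := by
          have e1 : s * m = m * s := hmc m hm s hsz
          have e2 : s * a = a * s := hac a ha s hrs.symm rfl
          rw [← mul_assoc, ← mul_assoc, e1, mul_assoc m s u, hsu, mul_assoc m (u * s) a, mul_assoc u s a, e2]
          group
        rw [out_mul hle h2 hd.isConj hd.comm h6]
        exact ⟨fun _ => hC m a hm ha hd.isConj, fun _ => hd⟩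
      · rw [mul_assoc (m * u) a s]
        exact hdM _ (M.mul_mem (haM a ha) hsM)
  have hz0 : Out z M z u ∧ ∀ p ∈ P, p * z = z * p := by
    refine ⟨⟨1, by group, ?_, ?_⟩, hPz⟩
    · rw [inv_one, one_mul, mul_one]; exact huz
    · rw [inv_one, one_mul, mul_one]; exact huM
  have hfX : ∀ x : {d : G // Out z M d u ∧ ∀ p ∈ P, p * d = d * p}, x.1 ≠ z →
      Out z M (if x.1 ∈ M then x.1 * r else x.1 * s) u ∧
        ∀ p ∈ P, p * (if x.1 ∈ M then x.1 * r else x.1 * s) = (if x.1 ∈ M then x.1 * r else x.1 * s) * p := by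
    intro x hx
    rcases hstep x.1 x.2.1 x.2.2 hx with ⟨h6, h7, h8⟩ | ⟨h6, h7, h8⟩
    · rw [if_pos h6]
      exact ⟨h7, fun p hp => by rw [← mul_assoc, x.2.2 p hp, mul_assoc, hPr p hp, mul_assoc]⟩
    · rw [if_neg h6]
      exact ⟨h7, fun p hp => by rw [← mul_assoc, x.2.2 p hp, mul_assoc, hPs p hp, mul_assoc]⟩
  let f : {d : G // Out z M d u ∧ ∀ p ∈ P, p * d = d * p} → {d : G // Out z M d u ∧ ∀ p ∈ P, p * d = d * p} :=
    fun x => if hx : x.1 ≠ z then ⟨if x.1 ∈ M then x.1 * r else x.1 * s, hfX x hx⟩ else x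
  have hf : ∀ x, x.1 ≠ z → (f x).1 = if x.1 ∈ M then x.1 * r else x.1 * s := by
    intro x hx
    show (if hx : x.1 ≠ z then (⟨if x.1 ∈ M then x.1 * r else x.1 * s, hfX x hx⟩ :
      {d : G // Out z M d u ∧ ∀ p ∈ P, p * d = d * p}) else x).1 = _
    rw [dif_pos hx]
  have hval : ∀ x : {d : G // Out z M d u ∧ ∀ p ∈ P, p * d = d * p}, x ≠ ⟨z, hz0⟩ → x.1 ≠ z :=
    fun x hx h => hx (Subtype.ext h)
  apply odd_of_involution (⟨z, hz0⟩ : {d : G // Out z M d u ∧ ∀ p ∈ P, p * d = d * p}) f ?_ ?_ ?_ heven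
  · intro x hx h
    have h1 := hf x (hval x hx)
    rw [h] at h1
    rcases hstep x.1 x.2.1 x.2.2 (hval x hx) with ⟨h6, h7, h8⟩ | ⟨h6, h7, h8⟩
    · rw [if_pos h6] at h1
      exact h8 h1.symm
    · rw [if_neg h6] at h1
      rw [← h1] at h8
      exact h8 hzM
  · intro x hx
    have h1 := hf x (hval x hx)
    apply Subtype.ext
    rcases hstep x.1 x.2.1 x.2.2 (hval x hx) with ⟨h6, h7, h8⟩ | ⟨h6, h7, h8⟩
    · rw [if_pos h6] at h1
      have h9 : (f x).1 ≠ z := by rw [h1]; exact h8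
      rw [hf (f x) h9, h1, if_pos (M.mul_mem h6 hrM), mul_assoc, hr, mul_one]
    · rw [if_neg h6] at h1
      have h9 : (f x).1 ≠ z := by
        rw [h1]; intro h; rw [h] at h8; exact h8 hzM
      rw [hf (f x) h9, h1, if_neg h8, mul_assoc, hs, mul_one]
  · intro x hx h
    have h1 := hf x (hval x hx)
    rw [h] at h1
    by_cases h6 : x.1 ∈ M
    · rw [if_pos h6] at h1
      exact hr1 (mul_eq_left.1 h1.symm)
    · rw [if_neg h6] at h1
      exact hs1 (mul_eq_left.1 h1.symm)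

end Cfsg.Agent.BabyU.FusParity
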