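import Cfsg.Agent.BabyU.Out
import Cfsg.Agent.BabyU.Setup
import Cfsg.Agent.BabyU.FusCfg
import Cfsg.Agent.BabyU.FusParity2

/-!
# The fusion step: some lift of a root involution is conjugate to `t`  (R19U, U-B P3, helper234)

`bridge`: from `Setup t M π` with an element of `C_G(t)` outside of `M`, by THEOREM OUT, an element `u` of
`C_G(t) ∖ M` with `u² ∈ {1, t}` and a projection `π' : M →* Γ` onto the model `Γ` of `²E₆(2)`, such that `u`
induces the field automorphism `σ` of the model.
-/

set_option autoImplicit false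

namespace Cfsg.Agent.BabyU.FusRoot

open Cfsg.Agent.R01.Lifts Cfsg.Agent.TwoESix.Cox10 Cfsg.Agent.TwoESix.Lift Cfsg.Agent.TwoESix.Cover
open Cfsg.Agent.BabyU.OutFree Cfsg.Agent.BabyU.OutCount Cfsg.Agent.BabyU.Lab
open scoped Pointwise

/-- A double cover with centre `{1, z}` and without section is a nonsplit double cover. -/
theorem nonsplit_of {M E : Type*} [Group M] [Group E] {π : M →* E} {z : M} (h : Ext π z)
    (hc : ∀ c : M, (∀ d, c * d = d * c) → c = 1 ∨ c = z) (hno : ∀ s : E →* M, ¬ ∀ x, π (s x) = x) :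
    Cfsg.IsNonsplitDoubleCover M E := by
  have hcen : Subgroup.center M = π.ker := by
    ext c
    rw [Subgroup.mem_center_iff, MonoidHom.mem_ker, h.ker]
    constructor
    · intro h1
      exact hc c fun d => (h1 d).symm
    · rintro (rfl | rfl) d
      · rw [mul_one, one_mul]
      · exact h.comm d
  refine ⟨?_, ?_, ?_⟩
  · have h3 : Nat.card π.ker = 2 := by
      have : (π.ker : Set M) = {1, z} := by
        ext c
        exact h.ker c
      have h4 : Nat.card π.ker = (π.ker : Set M).ncard := rfl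
      rw [h4, this, Set.ncard_pair (Ne.symm h.zne)]
    rw [hcen, h3]
  · exact ⟨(QuotientGroup.quotientMulEquivOfEq hcen).trans (QuotientGroup.quotientKerEquivOfSurjective π h.surj)⟩
  · intro L hL
    have hinj : Function.Injective (π.comp L.subtype) := by
      rw [← MonoidHom.ker_eq_bot_iff, eq_bot_iff]
      intro x hx
      have hx' : (x : M) ∈ Subgroup.center M := by rw [hcen]; exact hx
      exact Subtype.ext ((Subgroup.disjoint_def.1 hL.disjoint) hx' x.2)
    have hsurj : Function.Surjective (π.comp L.subtype) := by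
      intro y
      obtain ⟨m, rfl⟩ := h.surj y
      have hm : m ∈ (Subgroup.center M : Set M) * (L : Set M) := by
        rw [hL.mul_eq]; trivial
      obtain ⟨c, hc', l, hl, rfl⟩ := hm
      refine ⟨⟨l, hl⟩, ?_⟩
      have : π c = 1 := by
        have h5 : c ∈ π.ker := hcen ▸ hc'
        exact h5
      show π l = π (c * l)
      rw [map_mul, this, one_mul]
    let f : L ≃* E := MulEquiv.ofBijective (π.comp L.subtype) ⟨hinj, hsurj⟩
    exact hno (L.subtype.comp f.symm.toMonoidHom) fun x => f.apply_symm_apply x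

/-- transport of the root facts -/
theorem roots_map {E Γ : Type*} [Group E] [Group Γ] {R : Set E} {T : Set Γ} (L : Roots E R) (f : E ≃* Γ)
    (hf : ∀ x, x ∈ R ↔ f x ∈ T) : Roots Γ T := by
  have hT : ∀ y, y ∈ T ↔ f.symm y ∈ R := fun y => by rw [hf, f.apply_symm_apply]
  have tr : ∀ {a b a' b' : Γ}, (∃ g : E, g * f.symm a * g⁻¹ = f.symm a' ∧ g * f.symm b * g⁻¹ = f.symm b') →
      ∃ g : Γ, g * a * g⁻¹ = a' ∧ g * b * g⁻¹ = b' := by
    rintro a b a' b' ⟨g, h1, h2⟩
    refine ⟨f g, ?_, ?_⟩
    · have := congrArg f h1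
      simpa only [map_mul, map_inv, f.apply_symm_apply] using this
    · have := congrArg f h2
      simpa only [map_mul, map_inv, f.apply_symm_apply] using this
  refine
    { ne_one := fun r hr h => L.ne_one _ ((hT r).1 hr) (by rw [h, map_one])
      sq := fun r hr => by
        have := congrArg f (L.sq _ ((hT r).1 hr))
        simpa only [map_mul, f.apply_symm_apply, map_one] using this
      conj := fun r hr g => by
        rw [hT, map_mul, map_mul, map_inv]
        exact L.conj _ ((hT r).1 hr) _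
      one := fun r hr s hs => by
        obtain ⟨g, hg⟩ := L.one _ ((hT r).1 hr) _ ((hT s).1 hs)
        obtain ⟨g', h1, -⟩ := tr (a := r) (b := r) (a' := s) (b' := s) ⟨g, hg, hg⟩
        exact ⟨g', h1⟩
      spe_ex := by
        obtain ⟨a, ha, b, hb, h⟩ := L.spe_ex
        refine ⟨f a, (hf a).1 ha, f b, (hf b).1 hb, ?_⟩
        rw [← map_mul, ← map_pow]
        exact (hf _).1 h
      spe := fun a ha b hb a' ha' b' hb' h h' => tr (L.spe _ ((hT a).1 ha) _ ((hT b).1 hb) _ ((hT a').1 ha') _
        ((hT b').1 hb') (by rw [← map_mul, ← map_pow]; exact (hT _).1 h)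
        (by rw [← map_mul, ← map_pow]; exact (hT _).1 h'))
      col := fun a ha b hb a' ha' b' hb' h h' => tr (L.col _ ((hT a).1 ha) _ ((hT b).1 hb) _ ((hT a').1 ha') _
        ((hT b').1 hb') (by rw [← map_mul]; exact (hT _).1 h)
        (by rw [← map_mul]; exact (hT _).1 h'))
      sym := fun a ha b hb a' ha' b' hb' h1 h2 h3 h1' h2' h3' => tr (L.sym _ ((hT a).1 ha) _ ((hT b).1 hb) _
        ((hT a').1 ha') _ ((hT b').1 hb') (fun h => h1 (f.symm.injective h))
        (by rw [← map_mul, ← map_mul, h2]) (by rw [← map_mul]; exact fun h => h3 ((hT _).2 h))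
        (fun h => h1' (f.symm.injective h))
        (by rw [← map_mul, ← map_mul, h2']) (by rw [← map_mul]; exact fun h => h3' ((hT _).2 h)))
      perf := fun r hr H hH => by
        apply L.perf _ ((hT r).1 hr) (H.comap f.toMonoidHom)
        have e : Subgroup.centralizer ({f.symm r} : Set E) =
            (Subgroup.centralizer ({r} : Set Γ)).comap f.toMonoidHom := by
          ext x
          rw [Subgroup.mem_comap, Subgroup.mem_centralizer_singleton_iff, Subgroup.mem_centralizer_singleton_iff]
          constructor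
          · intro h
            have := congrArg f h
            rw [map_mul, map_mul, f.apply_symm_apply] at this
            exact this
          · intro h
            apply f.injective
            rw [map_mul, map_mul, f.apply_symm_apply]
            exact h
        rw [e, Subgroup.relIndex_comap]
        have e2 : ((Subgroup.centralizer ({r} : Set Γ)).comap f.toMonoidHom).map f.toMonoidHom =
            Subgroup.centralizer ({r} : Set Γ) := Subgroup.map_comap_eq_self_of_surjective f.surjective _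
        rw [e2]
        exact hH
      cfg_line := by
        obtain ⟨a, ha, b, hb, x, hx, h1, h2, h3, h4, h5⟩ := L.cfg_line
        refine ⟨f a, (hf a).1 ha, f b, (hf b).1 hb, f x, (hf x).1 hx, ?_, ?_, ?_, ?_, ?_⟩
        · rw [← map_mul]; exact (hf _).1 h1
        · rw [← map_mul, ← map_pow]; exact (hf _).1 h2
        · rw [← map_mul, ← map_pow]; exact (hf _).1 h3
        · rw [← map_mul, ← map_mul, ← map_pow]; exact (hf _).1 h4
        · rw [← map_mul, ← map_pow, ← map_mul, ← map_mul, h5]
      cfg_sym := by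
        obtain ⟨a, ha, b, hb, x, hx, h1, h2, h3, h4, h5⟩ := L.cfg_sym
        refine ⟨f a, (hf a).1 ha, f b, (hf b).1 hb, f x, (hf x).1 hx, ?_, ?_, ?_, ?_, ?_⟩
        · exact fun h => h1 (f.injective h)
        · rw [← map_mul, ← map_mul, h2]
        · rw [← map_mul]; exact fun h => h3 ((hf _).2 h)
        · rw [← map_mul, ← map_pow, h4, map_one]
        · rw [← map_mul, ← map_pow, h5, map_one] }

theorem pBC_pBC : ∀ i, pBC (pBC i) = i := by decide

theorem gg_equiv {E Γ : Type*} [Group E] [Group Γ] {f : Fin 10 → E} (h : GG f) (φ : E ≃* Γ) :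
    GG (fun i => φ (f i)) := by
  refine ⟨h.1.map φ.toMonoidHom, ?_⟩
  have e : (Set.range fun i => φ (f i)) = φ.toMonoidHom '' Set.range f := by
    rw [← Set.range_comp]; rfl
  rw [e, ← MonoidHom.map_closure, h.2, ← MonoidHom.range_eq_map, MonoidHom.range_eq_top]
  exact φ.surjective

/-- **The bridge to the model.** -/
theorem bridge [Finite HB] {G : Type*} [Group G] {t : G} {M : Subgroup G} {E : Type*} [Group E] {π : M →* E}
    (S : Setup t M π) {F : Type*} [Field F] [Fintype F] {hF : Fintype.card F = 4} {R : Set E}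
    (hcard : Nat.card HB ≤ Nat.card E) (hE : ∃ a b : E, ¬ Commute a b) (hyp : Hyp hF R)
    (hinv : ∀ (g : G) (hg : g * t = t * g) (x : M), π x ∈ R → π ⟨g * x * g⁻¹, S.norm g hg x x.2⟩ ∈ R)
    {e : Fin 10 → E} (he : GG e) (heR : ∀ i, e i ∈ R)
    {Γ : Type*} [Group Γ] {T : Set Γ} (θ : E ≃* Γ) (hθ : ∀ x, x ∈ R ↔ θ x ∈ T)
    (hconj : ∀ r ∈ T, ∀ g : Γ, g * r * g⁻¹ ∈ T) (hone : ∀ r ∈ T, ∀ s ∈ T, ∃ g : Γ, g * r * g⁻¹ = s)
    {T' : Fin 10 → Γ} (hT' : GG T') (hT'm : ∀ i, T' i ∈ T) (σ : Γ →* Γ) (hσ : ∀ i, σ (T' i) = T' (pBC i))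
    {g : G} (hg : g * t = t * g) (hgM : g ∉ M) :
    ∃ (π' : M →* Γ) (u : G), Cover π' S.z ∧ (∀ m, π' m ∈ T ↔ π m ∈ R) ∧ FusCfg.Ind π' σ u ∧ u * t = t * u ∧
      u ∉ M ∧ (u * u = 1 ∨ u * u = t) := by
  classical
  have memC : ∀ x : G, x ∈ Subgroup.centralizer ({t} : Set G) ↔ x * t = t * x := fun x =>
    Subgroup.mem_centralizer_singleton_iff
  set C := Subgroup.centralizer ({t} : Set G) with hC
  have hle : M ≤ C := fun m hm => (memC m).2 (S.comm m hm)
  have hnormal : (M.subgroupOf C).Normal := by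
    constructor
    intro x hx y
    rw [Subgroup.mem_subgroupOf] at hx ⊢
    exact S.norm y ((memC y).1 y.2) x hx
  let ι : M.subgroupOf C ≃* M := Subgroup.subgroupOfEquivOfLe hle
  have hι : ∀ x : M.subgroupOf C, ((ι x : M) : G) = ((x : C) : G) := fun x => rfl
  let πN : M.subgroupOf C →* E := π.comp ι.toMonoidHom
  let zN : M.subgroupOf C := ι.symm S.z
  have hιz : ι zN = S.z := ι.apply_symm_apply _
  have hzN : ((zN : C) : G) = t := by
    rw [← hι, hιz]; rfl
  have hext : Ext πN zN := by
    have h := S.ext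
    refine ⟨h.surj.comp ι.surjective, ?_, ?_, ?_, ?_⟩
    · apply ι.injective
      rw [map_mul, hιz, h.zz, map_one]
    · intro h1
      apply h.zne
      rw [← hιz, h1, map_one]
    · intro c
      show π (ι c) = 1 ↔ _
      rw [h.ker, ← hιz, ι.injective.eq_iff, map_eq_one_iff ι ι.injective]
    · intro c
      apply ι.injective
      rw [map_mul, map_mul, hιz, h.comm]
  have hcenter : ∀ c : M.subgroupOf C, (∀ d, c * d = d * c) → c = 1 ∨ c = zN := by
    intro c hc
    rcases S.cent ((ι c : M) : G) (fun m hm => by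
      have := congrArg (fun x => ((ι x : M) : G)) (hc (ι.symm ⟨m, hm⟩))
      simpa only [map_mul, ι.apply_symm_apply, Subgroup.coe_mul] using this) with h1 | h1
    · left
      apply ι.injective
      rw [map_one]
      exact Subtype.ext h1
    · right
      apply ι.injective
      rw [hιz]
      exact Subtype.ext h1
  have hcov : Cfsg.IsNonsplitDoubleCover (M.subgroupOf C) E := by
    refine nonsplit_of hext hcenter fun s hs => ?_
    exact S.nosec (ι.toMonoidHom.comp s) fun x => hs x
  have hout : Subgroup.centralizer ((M.subgroupOf C : Subgroup C) : Set C) ≤ M.subgroupOf C := by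
    intro c hc
    rw [Subgroup.mem_subgroupOf]
    rcases S.cent (c : G) (fun m hm => by
      have := (Subgroup.mem_centralizer_iff.1 hc) ⟨m, hle hm⟩ (by
        show (⟨m, hle hm⟩ : C) ∈ M.subgroupOf C
        rw [Subgroup.mem_subgroupOf]; exact hm)
      exact (congrArg Subtype.val this).symm) with h1 | h1
    · rw [h1]; exact M.one_mem
    · rw [h1]; exact S.mem
  obtain ⟨p, hp, m, hm, hZ, htop⟩ := Cfsg.Agent.TwoESix.Cover.exists_gens hcov he.1 he.2 hcard hext
  have hp6 : ∃ k : Fin 6, p = P6 k := by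
    rcases hp with rfl | rfl | rfl
    · exact ⟨0, rfl⟩
    · exact ⟨1, rfl⟩
    · exact ⟨2, rfl⟩
  obtain ⟨k, rfl⟩ := hp6
  have hgN : (⟨g, (memC g).2 hg⟩ : C) ∉ M.subgroupOf C := by
    rw [Subgroup.mem_subgroupOf]; exact hgM
  obtain ⟨y, hy, hsq⟩ := Out.outer hout hcov hcard hE hyp hext hZ htop (fun i => by rw [hm]; exact heR _)
    (fun c x hx => by
      have h1 := hinv (c : G) ((memC c).1 c.2) (ι x) hx
      have e1 : (⟨(c : G) * (ι x : M) * (c : G)⁻¹, S.norm c ((memC c).1 c.2) (ι x) (ι x).2⟩ : M) =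
          ι (MulAut.conjNormal c x) := by
        apply Subtype.ext
        show (c : G) * ((x : C) : G) * (c : G)⁻¹ = (((MulAut.conjNormal c x : M.subgroupOf C) : C) : G)
        rw [MulAut.conjNormal_apply]
        rfl
      rw [e1] at h1
      exact h1) hgN
  set uC : C := ⟨g, (memC g).2 hg⟩ * y with huC
  set u : G := (uC : G) with hu
  have hut : u * t = t * u := (memC u).1 uC.2
  have huM : u ∉ M := by
    intro h
    apply hgN
    have h1 : uC ∈ M.subgroupOf C := by rw [Subgroup.mem_subgroupOf]; exact h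
    exact (Subgroup.mul_mem_cancel_right _ y.2).1 h1
  -- the isomorphism with the model
  have hGG : GG (fun i => θ (e (P6 k i))) := gg_equiv (he.P6 k) θ
  have hcardΓ : Nat.card HB ≤ Nat.card Γ := by rwa [← Nat.card_congr θ.toEquiv]
  obtain ⟨α, hα⟩ := exists_auto hGG hT' hcardΓ
  let π' : M →* Γ := (α.toMonoidHom.comp θ.toMonoidHom).comp π
  have hπ' : ∀ x, π' x = α (θ (π x)) := fun x => rfl
  let m' : Fin 10 → M := fun i => ι (m i)
  have hm' : ∀ i, π' (m' i) = T' i := by
    intro i
    rw [hπ', ← hα i]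
    congr 2
    exact hm i
  have htop' : Subgroup.closure (Set.range m') = ⊤ := by
    have e1 : Set.range m' = ι.toMonoidHom '' Set.range m := by rw [← Set.range_comp]; rfl
    rw [e1, ← MonoidHom.map_closure, htop, ← MonoidHom.range_eq_map, MonoidHom.range_eq_top]
    exact ι.surjective
  have hαT : ∀ x, α x ∈ T ↔ x ∈ T := by
    have h0 : θ (e (P6 k 0)) ∈ T := (hθ _).1 (heR _)
    intro x
    constructor
    · intro hx
      obtain ⟨v, hv⟩ := hone _ (hT'm 0) _ hx
      have h1 : x = (α.symm v) * θ (e (P6 k 0)) * (α.symm v)⁻¹ := by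
        apply α.injective
        rw [map_mul, map_mul, map_inv, α.apply_symm_apply, hα 0, hv]
      rw [h1]
      exact hconj _ h0 _
    · intro hx
      obtain ⟨v, rfl⟩ := hone _ h0 _ hx
      rw [map_mul, map_mul, map_inv, hα 0]
      exact hconj _ (hT'm 0) _
  -- the action of `u`
  have hum : ∀ i, u * (m' i : G) * u⁻¹ = m' (pBC i) := by
    intro i
    have h1 := congrArg (fun x : M.subgroupOf C => ((x : C) : G)) (hy i)
    simp only [MulAut.conjNormal_apply] at h1
    exact h1
  have hum' : ∀ i, u⁻¹ * (m' i : G) * u = m' (pBC i) := by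
    intro i
    have h1 := hum (pBC i)
    rw [pBC_pBC i] at h1
    rw [← h1]; group
  have humem : ∀ x : M, u⁻¹ * (x : G) * u ∈ M := by
    intro x
    have h1 : u⁻¹ * t = t * u⁻¹ := by
      rw [inv_mul_eq_iff_eq_mul, ← mul_assoc, hut, mul_assoc, mul_inv_cancel, mul_one]
    have := S.norm u⁻¹ h1 x x.2
    rwa [inv_inv] at this
  let φ : M →* M :=
    { toFun := fun x => ⟨u⁻¹ * x * u, humem x⟩
      map_one' := Subtype.ext (by simp)
      map_mul' := fun x y => Subtype.ext (by simp only [Subgroup.coe_mul]; group) }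
  have hφ : ∀ i, φ (m' i) = m' (pBC i) := fun i => Subtype.ext (hum' i)
  have hcomp : π'.comp φ = σ.comp π' := by
    refine MonoidHom.eq_of_eqOn_dense htop' ?_
    rintro _ ⟨i, rfl⟩
    show π' (φ (m' i)) = σ (π' (m' i))
    rw [hφ, hm', hm', hσ]
  refine ⟨π', u, ⟨?_, ?_, S.ext.zne⟩, ?_, ⟨humem, fun x => DFunLike.congr_fun hcomp x⟩, hut, huM, ?_⟩
  · exact α.surjective.comp (θ.surjective.comp S.surj)
  · intro x
    rw [hπ', map_eq_one_iff α α.injective, map_eq_one_iff θ θ.injective]
    exact S.ext.ker x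
  · intro x
    rw [hπ', hαT, ← hθ]
  · rcases hsq with h1 | h1
    · left; exact congrArg Subtype.val h1
    · right
      have := congrArg (fun x : C => (x : G)) h1
      rw [← hzN]
      exact this

end Cfsg.Agent.BabyU.FusRoot
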