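import Cfsg.Agent.BabyU.Symm

/-!
# U-B: the full fusion statement (u1)

Every conjugate of `t` in `M`, different from `t`, lies over a root involution.

Input: `Ident.Hyp` (with `FusW`), one orbit of symplectic pairs, the list of the involutions of `M` (`KeyM`) and a heptad:
seven commuting good lifts with product one.
-/

set_option autoImplicit false

namespace Cfsg.Agent.BabyU.FusU1

open Cfsg Cfsg.Agent.BabyU Cfsg.Agent.BabyU.RootCfg Cfsg.Agent.BabyU.Ident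

universe u v w

variable {G : Type u} [Group G] {E : Type v} [Group E] {F : Type w} [Field F] [Fintype F]
variable {hF : Fintype.card F = 2 ^ 2} {t : G} {M : Subgroup G} {π : M →* E} {R : Set E}

/-- The list of the involutions of `M`. -/
def KeyM (t : G) (M : Subgroup G) (π : M →* E) (R : Set E) : Prop :=
  ∀ y : M, y * y = 1 → (y : G) ≠ 1 → (y : G) ≠ t →
    π y ∈ R ∨ (∃ a ∈ R, ∃ b ∈ R, a ≠ b ∧ a * b = b * a ∧ π y = a * b) ∨
    ∃ x₁ x₂ x₃ : G, Rel t M π R t x₁ ∧ Rel t M π R t x₂ ∧ Rel t M π R t x₃ ∧ x₁ ≠ x₂ ∧ x₁ ≠ x₃ ∧ x₂ ≠ x₃ ∧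
      x₁ * x₂ = x₂ * x₁ ∧ x₁ * x₃ = x₃ * x₁ ∧ x₂ * x₃ = x₃ * x₂ ∧ (y : G) = x₁ * x₂ * x₃

/-- Seven commuting good lifts with product one. -/
def Heptad (t : G) (M : Subgroup G) (π : M →* E) (R : Set E) : Prop :=
  ∃ x : Fin 7 → G, (∀ i, Rel t M π R t (x i)) ∧ (∀ i j, i ≠ j → x i ≠ x j ∧ x i * x j = x j * x i) ∧
    x 0 * x 1 * x 2 * x 3 * x 4 * x 5 * x 6 = 1

/-- Symplectic pairs form one orbit. -/
def Sym (R : Set E) : Prop :=
  ∀ a ∈ R, ∀ b ∈ R, ∀ a' ∈ R, ∀ b' ∈ R, a ≠ b → a * b = b * a → a * b ∉ R →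
    a' ≠ b' → a' * b' = b' * a' → a' * b' ∉ R → ∃ g : E, g * a * g⁻¹ = a' ∧ g * b * g⁻¹ = b'

variable (H : Hyp hF t M π R)

include H

theorem prod_notin {a b : G} (h : Rel t M π R a b) : ¬ ∃ g : G, g * t * g⁻¹ = a * b := by
  obtain ⟨g, rfl, ⟨hm, hr⟩, hD⟩ := h
  rcases H.W.xor ⟨g⁻¹ * b * g, hm⟩ hr with ⟨-, h2⟩ | ⟨-, h2⟩
  · intro h3
    apply h2
    rw [← exists_conj_iff' (g := g⁻¹)]
    obtain ⟨k, hk⟩ := h3
    refine ⟨k, ?_⟩
    rw [hk]
    show g * t * g⁻¹ * b = g⁻¹⁻¹ * (t * (g⁻¹ * b * g)) * g⁻¹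
    group
  · exact absurd ((exists_conj_iff' (g := g)).2 hD) h2

theorem sq_of {x : G} (h : ∃ g : G, g * t * g⁻¹ = x) : x * x = 1 := H.tt h

theorem ne_one {x : G} (h : ∃ g : G, g * t * g⁻¹ = x) : x ≠ 1 := by
  rintro rfl
  obtain ⟨g, hg⟩ := h
  apply H.S.ne
  calc t = g⁻¹ * (g * t * g⁻¹) * g := by group
    _ = 1 := by rw [hg]; group

/-- The list of the involutions at every base point. -/
theorem keyG (K : KeyM t M π R) {c y : G} (h : NN t M c y) (hy : y * y = 1) (h1 : y ≠ 1) (hc : y ≠ c) :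
    (Rel t M π R c y ∨ Rel t M π R c (c * y)) ∨
    (∃ x₁ x₂ : G, Rel t M π R c x₁ ∧ Rel t M π R c x₂ ∧ x₁ ≠ x₂ ∧ x₁ * x₂ = x₂ * x₁ ∧
      (y = x₁ * x₂ ∨ y = c * x₁ * x₂)) ∨
    ∃ x₁ x₂ x₃ : G, Rel t M π R c x₁ ∧ Rel t M π R c x₂ ∧ Rel t M π R c x₃ ∧ x₁ ≠ x₂ ∧ x₁ ≠ x₃ ∧ x₂ ≠ x₃ ∧
      x₁ * x₂ = x₂ * x₁ ∧ x₁ * x₃ = x₃ * x₁ ∧ x₂ * x₃ = x₃ * x₂ ∧ y = x₁ * x₂ * x₃ := by
  obtain ⟨g, rfl, hM⟩ := h
  have back : ∀ x : G, g * (g⁻¹ * x * g) * g⁻¹ = x := fun x => by group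
  have conj : ∀ {a b : G}, Rel t M π R a b → Rel t M π R (g * a * g⁻¹) (g * b * g⁻¹) := fun h => h.equiv g
  have ne : ∀ {a b : G}, a ≠ b → g * a * g⁻¹ ≠ g * b * g⁻¹ := by
    intro a b h h'
    exact h (mul_left_cancel (mul_right_cancel h'))
  have cm : ∀ {a b : G}, a * b = b * a → (g * a * g⁻¹) * (g * b * g⁻¹) = (g * b * g⁻¹) * (g * a * g⁻¹) := by
    intro a b h
    calc (g * a * g⁻¹) * (g * b * g⁻¹) = g * (a * b) * g⁻¹ := by group
      _ = g * (b * a) * g⁻¹ := by rw [h]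
      _ = _ := by group
  obtain ⟨y', hy'⟩ : ∃ y' : M, (y' : G) = g⁻¹ * y * g := ⟨⟨_, hM⟩, rfl⟩
  have hy0 : y = g * y' * g⁻¹ := by rw [hy', back]
  rcases K y' (Subtype.ext (by
      show (y' : G) * y' = 1
      rw [hy']
      calc g⁻¹ * y * g * (g⁻¹ * y * g) = g⁻¹ * (y * y) * g := by group
        _ = 1 := by rw [hy]; group)) (by
      rw [hy']
      intro h
      apply h1
      rw [← back y, h]; group) (by
      rw [hy']
      intro h
      apply hc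
      rw [← back y, h]) with h | ⟨a, ha, b, hb, hne, hab, h⟩ | ⟨x₁, x₂, x₃, r1, r2, r3, n1, n2, n3, c1, c2, c3, h⟩
  · left
    rcases H.W.xor y' h with ⟨h2, -⟩ | ⟨h2, -⟩
    · left
      rw [hy0]
      exact conj (H.rel_base.2 ⟨⟨y'.2, h⟩, h2⟩)
    · right
      have h3 : g * t * g⁻¹ * y = g * (t * y') * g⁻¹ := by rw [hy0]; group
      rw [h3]
      refine conj (H.rel_base.2 ⟨⟨M.mul_mem H.S.mem y'.2, ?_⟩, h2⟩)
      have h4 : π ⟨t * y', M.mul_mem H.S.mem y'.2⟩ = π y' := by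
        have : (⟨t * y', M.mul_mem H.S.mem y'.2⟩ : M) = H.S.z * y' := rfl
        rw [this, map_mul, H.S.ext.mapz, one_mul]
      rw [h4]; exact h
  · right; left
    obtain ⟨x₁, e1, d1⟩ := H.exists_good ha
    obtain ⟨x₂, e2, d2⟩ := H.exists_good hb
    have hcomm : (x₁ : G) * x₂ = x₂ * x₁ := H.comm_of (by rw [e2]; exact hb) d2 (by rw [e1, e2]; exact hab)
    have hn : (x₁ : G) ≠ x₂ := fun e => hne (by rw [← e1, ← e2, Subtype.ext e])
    refine ⟨g * x₁ * g⁻¹, g * x₂ * g⁻¹, conj (H.rel_base.2 ⟨⟨x₁.2, by rw [Subtype.coe_eta, e1]; exact ha⟩, d1⟩),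
      conj (H.rel_base.2 ⟨⟨x₂.2, by rw [Subtype.coe_eta, e2]; exact hb⟩, d2⟩), ne hn, cm hcomm, ?_⟩
    have h5 : π y' = π (x₁ * x₂) := by rw [h, map_mul, e1, e2]
    rcases H.eq_or h5 with h6 | h6
    · left
      rw [hy0, h6]
      show g * ((x₁ : G) * x₂) * g⁻¹ = _
      group
    · right
      rw [hy0, h6]
      show g * (t * ((x₁ : G) * x₂)) * g⁻¹ = _
      group
  · right; right
    refine ⟨g * x₁ * g⁻¹, g * x₂ * g⁻¹, g * x₃ * g⁻¹, conj r1, conj r2, conj r3, ne n1, ne n2, ne n3, cm c1, cm c2,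
      cm c3, ?_⟩
    rw [hy0, h]; group

/-- If one product `t x y` of a symplectic pair is a conjugate of `t`, then all. -/
theorem all_base (sym : Sym R) {x₀ y₀ : M} (hx₀ : Rel t M π R t x₀) (hy₀ : Rel t M π R t y₀) (hne₀ : (x₀ : G) ≠ y₀)
    (hc₀ : (x₀ : G) * y₀ = y₀ * x₀) (hR : π x₀ * π y₀ ∉ R) (hD₀ : ∃ g : G, g * t * g⁻¹ = t * x₀ * y₀)
    {x y : G} (hx : Rel t M π R t x) (hy : Rel t M π R t y) (hne : x ≠ y) (hc : x * y = y * x) :
    ∃ g : G, g * t * g⁻¹ = t * x * y := by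
  obtain ⟨⟨mx, rx⟩, dx⟩ := H.rel_base.1 hx
  obtain ⟨⟨my, ry⟩, dy⟩ := H.rel_base.1 hy
  obtain ⟨⟨mx₀, rx₀⟩, dx₀⟩ := H.rel_base.1 hx₀
  obtain ⟨⟨my₀, ry₀⟩, dy₀⟩ := H.rel_base.1 hy₀
  obtain ⟨X, rfl⟩ : ∃ X : M, (X : G) = x := ⟨⟨x, mx⟩, rfl⟩
  obtain ⟨Y, rfl⟩ : ∃ Y : M, (Y : G) = y := ⟨⟨y, my⟩, rfl⟩
  rw [Subtype.coe_eta] at rx ry rx₀ ry₀
  have hcE : π X * π Y = π Y * π X := by
    rw [← map_mul, ← map_mul]; congr 1; exact Subtype.ext hc
  have hcE₀ : π x₀ * π y₀ = π y₀ * π x₀ := by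
    rw [← map_mul, ← map_mul]; congr 1; exact Subtype.ext hc₀
  by_cases hXY : π X * π Y ∈ R
  · rw [← map_mul] at hXY
    rcases H.W.xor _ hXY with ⟨h1, -⟩ | ⟨h1, -⟩
    · exact absurd h1 (prod_notin H (H.star' hx hy hne hc))
    · obtain ⟨g, hg⟩ := h1
      refine ⟨g, ?_⟩
      rw [hg]
      show t * ((X : G) * Y) = _
      group
  · obtain ⟨e, he1, he2⟩ := sym _ rx₀ _ ry₀ _ rx _ ry (fun h => hne₀ (H.eq_of_map rx₀ dx₀ dy₀ h)) hcE₀ hR
      (fun h => hne (H.eq_of_map rx dx dy h)) hcE hXY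
    obtain ⟨m, rfl⟩ := H.S.surj e
    have move : ∀ {a b : M}, π a ∈ R → (∃ g : G, g * t * g⁻¹ = a) → (∃ g : G, g * t * g⁻¹ = b) →
        π m * π a * (π m)⁻¹ = π b → (m : G) * a * (m : G)⁻¹ = b := by
      intro a b ha da db h
      have h1 : π (m * a * m⁻¹) = π b := by rw [map_mul, map_mul, map_inv, h]
      have h2 : π (m * a * m⁻¹) ∈ R := by
        rw [map_mul, map_mul, map_inv]
        exact H.RF.conj _ ha _
      refine H.eq_of_map (x := m * a * m⁻¹) h2 ?_ db h1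
      obtain ⟨g, hg⟩ := da
      refine ⟨m * g, ?_⟩
      show (m : G) * g * t * ((m : G) * g)⁻¹ = m * a * (m : G)⁻¹
      rw [← hg]; group
    have f1 := move rx₀ dx₀ dx he1
    have f2 := move ry₀ dy₀ dy he2
    obtain ⟨g, hg⟩ := hD₀
    refine ⟨m * g, ?_⟩
    have ht : (m : G) * t * (m : G)⁻¹ = t := by rw [H.S.comm m m.2]; group
    calc (m : G) * g * t * ((m : G) * g)⁻¹ = m * (g * t * g⁻¹) * (m : G)⁻¹ := by group
      _ = (m * t * (m : G)⁻¹) * (m * x₀ * (m : G)⁻¹) * (m * y₀ * (m : G)⁻¹) := by rw [hg]; group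
      _ = t * X * Y := by rw [ht, f1, f2]

/-- Transport of a statement on pairs of good lifts to other base points. -/
theorem to_all {P : G → Prop} (hP : ∀ g x, P x → P (g * x * g⁻¹))
    (h : ∀ x y : G, Rel t M π R t x → Rel t M π R t y → x ≠ y → x * y = y * x → P (t * x * y)) {c x y : G}
    (hx : Rel t M π R c x) (hy : Rel t M π R c y) (hne : x ≠ y) (hc : x * y = y * x) : P (c * x * y) := by
  obtain ⟨g, hg⟩ := H.conjL hx
  have h1 := hx.equiv g⁻¹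
  have h2 := hy.equiv g⁻¹
  have e : g⁻¹ * c * g⁻¹⁻¹ = t := by rw [← hg]; group
  rw [e] at h1 h2
  have h3 := hP g _ (h _ _ h1 h2 (fun h => hne (mul_left_cancel (mul_right_cancel h))) (by
    calc (g⁻¹ * x * g⁻¹⁻¹) * (g⁻¹ * y * g⁻¹⁻¹) = g⁻¹ * (x * y) * g⁻¹⁻¹ := by group
      _ = g⁻¹ * (y * x) * g⁻¹⁻¹ := by rw [hc]
      _ = _ := by group))
  have e2 : g * (t * (g⁻¹ * x * g⁻¹⁻¹) * (g⁻¹ * y * g⁻¹⁻¹)) * g⁻¹ = c * x * y := by rw [← hg]; group
  rwa [e2] at h3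

/-- Two elements commuting with `c` and not in `N_c` have product in `N_c`. -/
theorem nn_mul {c x y : G} (hc : ∃ g : G, g * t * g⁻¹ = c) (hx : x * c = c * x) (hy : y * c = c * y)
    (hx' : ¬ NN t M c x) (hy' : ¬ NN t M c y) : NN t M c (x * y) := by
  obtain ⟨g, rfl⟩ := hc
  have conj : ∀ v : G, v * (g * t * g⁻¹) = (g * t * g⁻¹) * v → (g⁻¹ * v * g) * t = t * (g⁻¹ * v * g) := by
    intro v hv
    calc (g⁻¹ * v * g) * t = g⁻¹ * (v * (g * t * g⁻¹)) * g := by group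
      _ = g⁻¹ * ((g * t * g⁻¹) * v) * g := by rw [hv]
      _ = _ := by group
  refine ⟨g, rfl, ?_⟩
  have := H.S.index _ _ (conj x hx) (conj y hy) (fun h => hx' ⟨g, rfl, h⟩) (fun h => hy' ⟨g, rfl, h⟩)
  have e : g⁻¹ * x * g * (g⁻¹ * y * g) = g⁻¹ * (x * y) * g := by group
  rwa [e] at this

/-- The contradiction. -/
theorem contra (K : KeyM t M π R) (hep : Heptad t M π R)
    (hA : ∀ x y : G, Rel t M π R t x → Rel t M π R t y → x ≠ y → x * y = y * x →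
      ∃ g : G, g * t * g⁻¹ = t * x * y) : False := by
  -- all products of three
  have A2 : ∀ {c x y : G}, Rel t M π R c x → Rel t M π R c y → x ≠ y → x * y = y * x →
      ∃ g : G, g * t * g⁻¹ = c * x * y := fun h1 h2 h3 h4 =>
    to_all H (P := fun z => ∃ g : G, g * t * g⁻¹ = z) (by
      rintro g _ ⟨k, rfl⟩
      exact ⟨g * k, by group⟩) hA h1 h2 h3 h4
  -- (W)
  have W : ∀ {c y : G}, NN t M c y → y * y = 1 → y ≠ 1 → y ≠ c →
      (∃ g : G, g * t * g⁻¹ = y) ∨ ∃ g : G, g * t * g⁻¹ = c * y := by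
    intro c y h hy h1 hc
    rcases keyG H K h hy h1 hc with (h | h) | ⟨x₁, x₂, r1, r2, n1, c1, h | h⟩ |
      ⟨x₁, x₂, x₃, r1, r2, r3, n1, n2, n3, c1, c2, c3, h⟩
    · exact Or.inl (H.conjR h)
    · exact Or.inr (H.conjR h)
    · right
      rw [h, ← mul_assoc]
      exact A2 r1 r2 n1 c1
    · left
      rw [h]
      exact A2 r1 r2 n1 c1
    · left
      rw [h]
      exact A2 (H.star r1 r2 n1 c1) (H.star r1 r3 n2 c2) n3 c3
  obtain ⟨x, hx, hc, hprod⟩ := hep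
  have rel : ∀ i j, i ≠ j → Rel t M π R (x i) (x j) := fun i j h =>
    H.star (hx i) (hx j) (hc i j h).1 (hc i j h).2
  have sq : ∀ i, x i * x i = 1 := fun i => H.tt (H.conjR (hx i))
  have cm : ∀ i j, x i * x j = x j * x i := by
    intro i j
    by_cases h : i = j
    · rw [h]
    · exact (hc i j h).2
  have hX : ∃ g : G, g * t * g⁻¹ = x 0 * x 1 * x 2 :=
    A2 (rel 0 1 (by decide)) (rel 0 2 (by decide)) (hc 1 2 (by decide)).1 (cm 1 2)
  have cX : ∀ i j, (x i * x j) * (x 0 * x 1 * x 2) = (x 0 * x 1 * x 2) * (x i * x j) := by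
    intro i j
    have h1 : ∀ k, Commute (x k) (x 0 * x 1 * x 2) := fun k =>
      ((show Commute (x k) (x 0) from cm k 0).mul_right (cm k 1)).mul_right (cm k 2)
    exact ((h1 i).mul_left (h1 j)).eq
  -- the pairs
  have nn : ∀ i j k l : Fin 7, i ≠ j → k ≠ l → (x 0 * x 1 * x 2) * (x i * x j) = x k * x l →
      ¬ NN t M (x 0 * x 1 * x 2) (x i * x j) := by
    intro i j k l hij hkl e h
    have hno : ∀ i j, i ≠ j → ¬ ∃ g : G, g * t * g⁻¹ = x i * x j := fun i j h => prod_notin H (rel i j h)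
    rcases W h (by
        calc (x i * x j) * (x i * x j) = x i * (x j * x i) * x j := by group
          _ = x i * (x i * x j) * x j := by rw [cm i j]
          _ = (x i * x i) * (x j * x j) := by group
          _ = 1 := by rw [sq, sq, one_mul]) (by
        intro h1
        apply (hc i j hij).1
        calc x i = x i * (x j * x j) := by rw [sq, mul_one]
          _ = (x i * x j) * x j := by group
          _ = x j := by rw [h1, one_mul]) (by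
        intro h1
        apply hno i j hij
        rw [h1]; exact hX) with h2 | h2
    · exact hno i j hij h2
    · rw [e] at h2
      exact hno k l hkl h2
  have key : ∀ a b c d : G, x 0 * x 1 * x 2 * a * b * c * d = 1 → c * c = 1 → d * d = 1 → c * d = d * c →
      (x 0 * x 1 * x 2) * (a * b) = c * d := by
    intro a b c d h h1 h2 h3
    calc (x 0 * x 1 * x 2) * (a * b) = (x 0 * x 1 * x 2 * a * b * c * d) * d⁻¹ * c⁻¹ := by group
      _ = d⁻¹ * c⁻¹ := by rw [h]; group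
      _ = d * c := by rw [inv_eq_of_mul_eq_one_left h1, inv_eq_of_mul_eq_one_left h2]
      _ = c * d := h3.symm
  have p34 : (x 0 * x 1 * x 2) * (x 3 * x 4) = x 5 * x 6 := key _ _ _ _ hprod (sq 5) (sq 6) (cm 5 6)
  have p45 : (x 0 * x 1 * x 2) * (x 4 * x 5) = x 3 * x 6 := by
    refine key _ _ _ _ ?_ (sq 3) (sq 6) (cm 3 6)
    calc x 0 * x 1 * x 2 * x 4 * x 5 * x 3 * x 6 = x 0 * x 1 * x 2 * x 4 * (x 5 * x 3) * x 6 := by group
      _ = x 0 * x 1 * x 2 * (x 4 * x 3) * x 5 * x 6 := by rw [cm 5 3]; group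
      _ = x 0 * x 1 * x 2 * x 3 * x 4 * x 5 * x 6 := by rw [cm 4 3]; group
      _ = 1 := hprod
  have p35 : (x 0 * x 1 * x 2) * (x 3 * x 5) = x 4 * x 6 := by
    refine key _ _ _ _ ?_ (sq 4) (sq 6) (cm 4 6)
    calc x 0 * x 1 * x 2 * x 3 * x 5 * x 4 * x 6 = x 0 * x 1 * x 2 * x 3 * (x 5 * x 4) * x 6 := by group
      _ = x 0 * x 1 * x 2 * x 3 * x 4 * x 5 * x 6 := by rw [cm 5 4]; group
      _ = 1 := hprod
  have n34 := nn 3 4 5 6 (by decide) (by decide) p34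
  have n45 := nn 4 5 3 6 (by decide) (by decide) p45
  have n35 := nn 3 5 4 6 (by decide) (by decide) p35
  apply n35
  have h := nn_mul H hX (cX 3 4) (cX 4 5) n34 n45
  have e : x 3 * x 4 * (x 4 * x 5) = x 3 * x 5 := by
    calc x 3 * x 4 * (x 4 * x 5) = x 3 * (x 4 * x 4) * x 5 := by group
      _ = x 3 * x 5 := by rw [sq, mul_one]
  rwa [e] at h

/-- `t x y` is a conjugate of `t` only if it is a good lift. -/
theorem claim (K : KeyM t M π R) (hep : Heptad t M π R) (sym : Sym R) {x y : G} (hx : Rel t M π R t x)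
    (hy : Rel t M π R t y) (hne : x ≠ y) (hc : x * y = y * x) (hD : ∃ g : G, g * t * g⁻¹ = t * x * y) :
    Rel t M π R t (t * x * y) := by
  by_contra hcon
  obtain ⟨⟨mx, rx⟩, dx⟩ := H.rel_base.1 hx
  obtain ⟨⟨my, ry⟩, dy⟩ := H.rel_base.1 hy
  have hR : π ⟨x, mx⟩ * π ⟨y, my⟩ ∉ R := by
    intro h
    apply hcon
    refine H.rel_base.2 ⟨⟨M.mul_mem (M.mul_mem H.S.mem mx) my, ?_⟩, hD⟩
    have : (⟨t * x * y, M.mul_mem (M.mul_mem H.S.mem mx) my⟩ : M) = H.S.z * ⟨x, mx⟩ * ⟨y, my⟩ := rfl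
    rw [this, map_mul, map_mul, H.S.ext.mapz, one_mul]
    exact h
  exact contra H K hep fun x' y' hx' hy' hne' hc' =>
    all_base H sym (x₀ := ⟨x, mx⟩) (y₀ := ⟨y, my⟩) hx hy hne hc hR hD hx' hy' hne' hc'

theorem claim' (K : KeyM t M π R) (hep : Heptad t M π R) (sym : Sym R) {c x y : G} (hx : Rel t M π R c x)
    (hy : Rel t M π R c y) (hne : x ≠ y) (hc : x * y = y * x) (hD : ∃ g : G, g * t * g⁻¹ = c * x * y) :
    Rel t M π R c (c * x * y) := by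
  obtain ⟨g, hg⟩ := H.conjL hx
  have h1 := hx.equiv g⁻¹
  have h2 := hy.equiv g⁻¹
  have e : g⁻¹ * c * g⁻¹⁻¹ = t := by rw [← hg]; group
  rw [e] at h1 h2
  have e2 : t * (g⁻¹ * x * g⁻¹⁻¹) * (g⁻¹ * y * g⁻¹⁻¹) = g⁻¹ * (c * x * y) * g := by rw [← hg]; group
  have h3 := claim H K hep sym h1 h2 (fun h => hne (mul_left_cancel (mul_right_cancel h))) (by
    calc (g⁻¹ * x * g⁻¹⁻¹) * (g⁻¹ * y * g⁻¹⁻¹) = g⁻¹ * (x * y) * g⁻¹⁻¹ := by group
      _ = g⁻¹ * (y * x) * g⁻¹⁻¹ := by rw [hc]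
      _ = _ := by group) (by rw [e2, exists_conj_iff']; exact hD)
  have h4 := h3.equiv g
  rw [e2] at h4
  have e3 : g * (g⁻¹ * (c * x * y) * g) * g⁻¹ = c * x * y := by group
  rwa [e3, hg] at h4

/-- **(u1)** -/
theorem root (K : KeyM t M π R) (hep : Heptad t M π R) (sym : Sym R) (y : M)
    (hD : ∃ g : G, g * t * g⁻¹ = y) (hne : (y : G) ≠ t) : π y ∈ R := by
  have hyt : (y : G) * t = t * y := H.S.comm y y.2
  have fin : Rel t M π R t y → π y ∈ R := by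
    intro h
    obtain ⟨⟨h1, h2⟩, -⟩ := H.rel_base.1 h
    exact h2
  rcases keyG H K (H.nn_base.2 y.2) (H.tt hD) (ne_one H hD) hne with (h | h) | ⟨x₁, x₂, r1, r2, n1, c1, h | h⟩ |
      ⟨x₁, x₂, x₃, r1, r2, r3, n1, n2, n3, c1, c2, c3, h⟩
  · exact fin h
  · obtain ⟨⟨h1, h2⟩, -⟩ := H.rel_base.1 h
    have : (⟨t * y, h1⟩ : M) = H.S.z * y := rfl
    rw [this, map_mul, H.S.ext.mapz, one_mul] at h2
    exact h2
  · exfalso
    rw [h] at hD
    exact prod_notin H (H.star r1 r2 n1 c1) hD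
  · apply fin
    rw [h] at hD ⊢
    exact claim H K hep sym r1 r2 n1 c1 hD
  · apply fin
    have s2 := H.star r1 r2 n1 c1
    have s3 := H.star r1 r3 n2 c2
    have hD' : ∃ g : G, g * t * g⁻¹ = x₁ * x₂ * x₃ := by rw [← h]; exact hD
    have h4 := claim' H K hep sym s2 s3 n3 c3 hD'
    rw [← h] at h4
    exact H.star (H.symm r1) h4 (fun e => hne e.symm) hyt.symm

end Cfsg.Agent.BabyU.FusU1
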