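import Cfsg.Agent.BabyU.LitA

/-!
# S1736 (a): the literal statement from `C_G(L) = Z(L)`

`KEqSt`: the remaining input (`C_G(L) = {1, t}` from `CtxTwo`), `half_a`: a locally balanced finite simple group with
a standard subgroup `L`, `|Z(L)| = 2`, `L / Z(L) ≃ ²E₆(2)`, is isomorphic to the Baby Monster.
-/

set_option autoImplicit false

namespace Cfsg.Agent.BabyU.HalfA

open Cfsg.Lie Cfsg.Agent.BabyU.Lab Cfsg.Agent.BabyU.RootCfg Cfsg.Agent.BabyU.Clos
open Cfsg.Agent.TwoESix Cfsg.Agent.TwoESix.Cox10 Cfsg.Agent.TwoESix.Lift Cfsg.Agent.TwoESix.Cover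
open Cfsg.Agent.BabyU.Ident

universe u v

/-- The centraliser of the standard subgroup is `{1, t}`. -/
def KEqSt : Prop :=
  ∀ (G : Type u) [Group G] [Finite G] [IsSimpleGroup G] (_ : ¬ IsMulCommutative G) (F : Type) [Field F] [Fintype F]
    (_ : Fintype.card F = 4) (L K : Subgroup G) (t : G) (π : L →* twistedE6 F 2), CtxTwo L K t π →
    ∀ k ∈ K, k = 1 ∨ k = t

theorem half_a [Finite HB] (card : ∀ (K : Type) [Field K] [Fintype K], Fintype.card K = 4 →
      Nat.card HB ≤ Nat.card (twistedE6 K 2)) (cent : CentralizerSt) {Γ : Type} [Group Γ] (model : Lit.ModelB Γ)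
    (keq : KEqSt.{u}) {G : Type u} [Group G] [Finite G] [IsSimpleGroup G] (hG : ¬ IsMulCommutative G)
    (hbal : ∀ t : G, orderOf t = 2 → Cfsg.centralizerPPrimeCore 2 t = ⊥)
    (L : Subgroup G) (hL : Cfsg.IsStandardSubgroup L) {K : Type v} [Field K] [Fintype K] (hK : Fintype.card K = 4)
    (h2 : Nat.card ↥(Subgroup.center ↥L) = 2)
    (hX : Nonempty (↥L ⧸ Subgroup.center ↥L ≃* ↥(twistedE6 K 2))) : Cfsg.Spor.IsoB G := by
  obtain ⟨K', _, _, hK', ⟨θ⟩⟩ := SetupOf.exists_type K hK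
  obtain ⟨f⟩ := hX
  have F := LitE6.facts card (fun K _ _ hK => FlagInst.exists_flag K hK) K' hK'
  obtain ⟨e, he, hegen, heR⟩ := Lit.exists_good (K := K') hK'
  obtain ⟨t, π, c⟩ := exists_ctxTwo (E := twistedE6 K' 2) (hF := hK') (card K' hK')
    (by obtain ⟨a, b, h⟩ := FusFinal.exists_not_commute F.roots; exact ⟨a, b, h⟩) F.out
    (fun α r hr => (ExtTwisted.auto K' K' hK' hK' α r).1 hr) he hegen heR hbal hL h2 ⟨f.trans θ⟩
  have hc := keq G hG K' hK' L _ t π c
  exact LitA.isoB hK' F cent model (c.setup hc)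

/-- **S1736** from the input `KEqSt` and the second half. -/
theorem literal [Finite HB] (card : ∀ (K : Type) [Field K] [Fintype K], Fintype.card K = 4 →
      Nat.card HB ≤ Nat.card (twistedE6 K 2)) (cent : CentralizerSt) {Γ : Type} [Group Γ] (model : Lit.ModelB Γ)
    (keq : KEqSt.{u})
    (half_b : ∀ (G : Type u) [Group G] [Finite G] [IsSimpleGroup G] (_ : ¬ IsMulCommutative G)
      (_ : ∀ t : G, orderOf t = 2 → Cfsg.centralizerPPrimeCore 2 t = ⊥) (L : Subgroup G)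
      (_ : Cfsg.IsStandardSubgroup L) (F : Type v) [Field F] [Fintype F] (_ : Fintype.card F = 2)
      (_ : Nonempty (↥L ≃* ↥(Cfsg.Lie.chevF4.group F))), False)
    {G : Type u} [Group G] [Finite G] [IsSimpleGroup G] (hG : ¬ IsMulCommutative G)
    (hbal : ∀ t : G, orderOf t = 2 → Cfsg.centralizerPPrimeCore 2 t = ⊥) (L : Subgroup G)
    (hL : Cfsg.IsStandardSubgroup L) {F : Type v} [Field F] [Fintype F] (hF : Fintype.card F = 2)
    {K : Type*} [Field K] [Fintype K] (hK : Fintype.card K = 4)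
    (hLX : (Nat.card ↥(Subgroup.center ↥L) = 2 ∧ Nonempty (↥L ⧸ Subgroup.center ↥L ≃* ↥(Cfsg.Lie.twistedE6 K 2))) ∨
      Nonempty (↥L ≃* ↥(Cfsg.Lie.chevF4.group F))) : Cfsg.Spor.IsoB G := by
  rcases hLX with ⟨h2, hX⟩ | h
  · exact half_a card cent model keq hG hbal L hL hK h2 hX
  · exact (half_b G hG hbal L hL F hF h).elim

end Cfsg.Agent.BabyU.HalfA
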