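import Cfsg.Agent.BabyU.Chain
import Cfsg.Agent.BabyU.FusU1

/-!
# U-B: a heptad

The seven roots of an `E₇` frame give seven commuting good lifts with product one.
-/

set_option autoImplicit false

namespace Cfsg.Agent.BabyU.Heptad

open Cfsg Cfsg.Agent.BabyU Cfsg.Agent.BabyU.RootCfg Cfsg.Agent.BabyU.Ident
open Cfsg.Agent.TwoESix.Cox10 Cfsg.Agent.TwoESix.Lift Cfsg.Agent.BabyU.Lab Cfsg.Agent.BabyU.Chain

universe u v w

variable {G : Type u} [Group G] {E : Type v} [Group E] {F : Type w} [Field F] [Fintype F]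
variable {hF : Fintype.card F = 2 ^ 2} {t : G} {M : Subgroup G} {π : M →* E} {R : Set E}

/-- The pairs of a frame. -/
theorem pairs {M : Type*} [Group M] {m : Fin 10 → M} {π : M →* E} {T : Set E} {z : M} (R : Roots E T)
    (e1 : ∀ r ∈ T, ∀ s ∈ T, (r * s) ^ 4 = 1 ∨ (r * s) ^ 3 = 1) (hz : ZRels m z) (hπz : π z = 1) (hT : ∀ i, π (m i) ∈ T)
    {G : List (List (List (Fin 10)))} {i j : Fin 10} {F : List (List (Fin 10) × Fin 10)} (hij : i ≠ j)
    (hl : lab i j = 2) (hc : allChk G i j F = true) {a b : ℕ} (hab : a < b) (hb : b < 7) :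
    ev m (pal (F.getD a ([], 0))) * ev m (pal (F.getD b ([], 0))) =
      ev m (pal (F.getD b ([], 0))) * ev m (pal (F.getD a ([], 0))) ∧
    π (ev m (pal (F.getD a ([], 0)))) ≠ π (ev m (pal (F.getD b ([], 0)))) := by
  have hs' : M10.IsLiftable (fun i => π (m i)) := by
    intro i j
    show (π (m i) * π (m j)) ^ _ = 1
    rw [← map_mul, ← map_pow, hz.lift i j, map_one]
  have h9' : ev (fun i => π (m i)) W321 ^ 9 = 1 := by
    rw [← ev_map, ← map_pow, hz.e321, hπz]
  rw [allChk, List.all_eq_true] at hc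
  have h1 := hc a (List.mem_range.2 (by omega))
  rw [List.all_eq_true] at h1
  have h2 := h1 b (List.mem_range.2 hb)
  rw [Bool.or_eq_true, Bool.not_eq_true', pairChk, Bool.and_eq_true, Bool.and_eq_true] at h2
  rcases h2 with h2 | h2
  · have : Nat.blt a b = true := by rw [Nat.blt_eq]; exact hab
    rw [this] at h2; exact absurd h2 (by decide)
  · obtain ⟨⟨c1, c2⟩, c3⟩ := h2
    set p := F.getD a ([], 0) with hp
    set q := F.getD b ([], 0) with hq
    set g := (G.getD a []).getD b [] with hg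
    have d1 := ev_eq_ev hz.lift c1
    have d2 := ev_eq_ev hz.lift c2
    have d3 := ev_eq_ev hz.lift c3
    rw [ev_append, ev_append] at d1
    rw [ev_append, ev_append, ev_reverse hz.lift, ev_cons, ev_nil, mul_one] at d2 d3
    refine ⟨d1, ?_⟩
    intro heq
    apply (node_sep R e1 hs' hT h9' hij hl).1
    show π (m i) = π (m j)
    rw [← d2, ← d3, map_mul, map_mul, heq, map_mul, map_mul]

variable (H : Hyp hF t M π R)

include H

/-- Either all nodes are good lifts, or all their products with `t`. -/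
theorem dich {m : Fin 10 → M} (hs : M10.IsLiftable m) (hT : ∀ i, π (m i) ∈ R) :
    (∀ i, ∃ g : G, g * t * g⁻¹ = m i) ∨ ∀ i, ∃ g : G, g * t * g⁻¹ = t * m i := by
  have cj : ∀ i j, adj i j = true → (m i * m j) * m i * (m i * m j)⁻¹ = m j := fun i j h =>
    conj_braid (braid hs h)
  rcases H.W.xor _ (hT 3) with ⟨h, -⟩ | ⟨h, -⟩
  · left
    refine all_nodes _ (fun i j hij hi => ?_) h
    obtain ⟨g, hg⟩ := hi
    refine ⟨(m i * m j : M) * g, ?_⟩
    have h1 : (m j : G) = ((m i * m j : M) : G) * m i * ((m i * m j : M) : G)⁻¹ :=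
      (congrArg Subtype.val (cj i j hij)).symm
    rw [h1, ← hg]; group
  · right
    refine all_nodes _ (fun i j hij hi => ?_) h
    obtain ⟨g, hg⟩ := hi
    refine ⟨(m i * m j : M) * g, ?_⟩
    have ht : ((m i * m j : M) : G) * t = t * ((m i * m j : M) : G) := H.S.comm _ (m i * m j).2
    have h1 : (m j : G) = ((m i * m j : M) : G) * m i * ((m i * m j : M) : G)⁻¹ :=
      (congrArg Subtype.val (cj i j hij)).symm
    rw [h1]
    generalize ((m i * m j : M) : G) = w at ht
    calc w * g * t * (w * g)⁻¹ = w * (g * t * g⁻¹) * w⁻¹ := by group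
      _ = w * t * m i * w⁻¹ := by rw [hg]; group
      _ = t * (w * m i * w⁻¹) := by rw [ht]; group

omit H in
theorem prod_seven {m : Fin 10 → M} (F : List (List (Fin 10) × Fin 10)) (hF : F.length = 7) :
    ev m (pal (F.getD 0 ([], 0))) * ev m (pal (F.getD 1 ([], 0))) * ev m (pal (F.getD 2 ([], 0))) *
      ev m (pal (F.getD 3 ([], 0))) * ev m (pal (F.getD 4 ([], 0))) * ev m (pal (F.getD 5 ([], 0))) *
      ev m (pal (F.getD 6 ([], 0))) = ev m (F.map pal).flatten := by
  match F, hF with
  | [a, b, c, d, e, f, g], _ =>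
    simp only [List.map_cons, List.map_nil, List.flatten_cons, List.flatten_nil, ev_append, ev_nil, mul_one]
    simp only [List.getD_cons_zero, List.getD_cons_succ]
    group

theorem exists_heptad (Rt : Roots E R) {m : Fin 10 → M} (hz : ZRels m H.S.z) (hT : ∀ i, π (m i) ∈ R) :
    FusU1.Heptad t M π R := by
  have hπz : π H.S.z = 1 := H.S.ext.mapz
  have inR : ∀ p, π (ev m (pal p)) ∈ R := by
    intro p
    rw [ev_pal hz.lift, map_mul, map_mul, map_inv]
    exact H.RF.conj _ (hT _) _
  rcases dich H hz.lift hT with hD | hD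
  · -- frame `FB`
    refine ⟨fun k => (ev m (pal (FB.getD k.1 ([], 0))) : M), fun k => ?_, fun a b hab => ?_, ?_⟩
    · refine H.rel_base.2 ⟨⟨(ev m (pal (FB.getD k.1 ([], 0))) : M).2, ?_⟩, ?_⟩
      · rw [Subtype.coe_eta]; exact inR _
      · show ∃ h : G, h * t * h⁻¹ = ((ev m (pal (FB.getD k.1 ([], 0))) : M) : G)
        rw [ev_pal hz.lift]
        obtain ⟨g, hg⟩ := hD (FB.getD k.1 ([], 0)).2
        refine ⟨(ev m (FB.getD k.1 ([], 0)).1 : M) * g, ?_⟩
        show _ = ((ev m (FB.getD k.1 ([], 0)).1 : M) : G) * m (FB.getD k.1 ([], 0)).2 *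
          ((ev m (FB.getD k.1 ([], 0)).1 : M) : G)⁻¹
        rw [← hg]; group
    · rcases Nat.lt_or_gt_of_ne (fun h : a.1 = b.1 => hab (Fin.ext h)) with h | h
      · obtain ⟨h1, h2⟩ := pairs Rt H.RF.ord hz hπz hT (by decide) (by decide) all_FB h b.2
        exact ⟨fun e => h2 (by rw [Subtype.ext e]), congrArg Subtype.val h1⟩
      · obtain ⟨h1, h2⟩ := pairs Rt H.RF.ord hz hπz hT (by decide) (by decide) all_FB h a.2
        exact ⟨fun e => h2 (by rw [Subtype.ext e]), congrArg Subtype.val h1.symm⟩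
    · have h1 := prod_seven (m := m) FB rfl
      have h2 := ev_eq_ev hz.lift chk_FB
      rw [ev_rep, hz.e231] at h2
      rw [h2] at h1
      exact congrArg Subtype.val h1
  · -- frame `FA`
    have ht : ∀ x : M, (x : G) * t = t * x := fun x => H.S.comm x x.2
    refine ⟨fun k => t * (ev m (pal (FA.getD k.1 ([], 0))) : M), fun k => ?_, fun a b hab => ?_, ?_⟩
    · refine H.rel_base.2 ⟨⟨M.mul_mem H.S.mem (ev m (pal (FA.getD k.1 ([], 0))) : M).2, ?_⟩, ?_⟩
      · have : (⟨t * (ev m (pal (FA.getD k.1 ([], 0))) : M),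
          M.mul_mem H.S.mem (ev m (pal (FA.getD k.1 ([], 0))) : M).2⟩ : M) =
            H.S.z * ev m (pal (FA.getD k.1 ([], 0))) := rfl
        rw [this, map_mul, hπz, one_mul]; exact inR _
      · show ∃ h : G, h * t * h⁻¹ = t * ((ev m (pal (FA.getD k.1 ([], 0))) : M) : G)
        rw [ev_pal hz.lift]
        obtain ⟨g, hg⟩ := hD (FA.getD k.1 ([], 0)).2
        refine ⟨(ev m (FA.getD k.1 ([], 0)).1 : M) * g, ?_⟩
        show _ = t * (((ev m (FA.getD k.1 ([], 0)).1 : M) : G) * m (FA.getD k.1 ([], 0)).2 *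
          ((ev m (FA.getD k.1 ([], 0)).1 : M) : G)⁻¹)
        calc ((ev m (FA.getD k.1 ([], 0)).1 : M) : G) * g * t * (((ev m (FA.getD k.1 ([], 0)).1 : M) : G) * g)⁻¹
            = ((ev m (FA.getD k.1 ([], 0)).1 : M) : G) * (g * t * g⁻¹) *
              ((ev m (FA.getD k.1 ([], 0)).1 : M) : G)⁻¹ := by group
          _ = (((ev m (FA.getD k.1 ([], 0)).1 : M) : G) * t) * m (FA.getD k.1 ([], 0)).2 *
              ((ev m (FA.getD k.1 ([], 0)).1 : M) : G)⁻¹ := by rw [hg]; group
          _ = _ := by rw [ht]; group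
    · have cm : ∀ x y : M, x * y = y * x → (t * (x : G)) * (t * y) = (t * y) * (t * x) := by
        intro x y h
        have h' : (x : G) * y = y * x := congrArg Subtype.val h
        calc (t * (x : G)) * (t * y) = t * (x * t) * y := by group
          _ = t * (t * x) * y := by rw [ht]
          _ = t * t * (x * y) := by group
          _ = t * t * (y * x) := by rw [h']
          _ = t * (t * y) * x := by group
          _ = t * (y * t) * x := by rw [ht]
          _ = _ := by group
      rcases Nat.lt_or_gt_of_ne (fun h : a.1 = b.1 => hab (Fin.ext h)) with h | h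
      · obtain ⟨h1, h2⟩ := pairs Rt H.RF.ord hz hπz hT (by decide) (by decide) all_FA h b.2
        exact ⟨fun e => h2 (by rw [Subtype.ext (mul_left_cancel e)]), cm _ _ h1⟩
      · obtain ⟨h1, h2⟩ := pairs Rt H.RF.ord hz hπz hT (by decide) (by decide) all_FA h a.2
        exact ⟨fun e => h2 (by rw [Subtype.ext (mul_left_cancel e)]), cm _ _ h1.symm⟩
    · have h1 := prod_seven (m := m) FA rfl
      have h2 := ev_eq_ev hz.lift chk_FA
      rw [ev_rep, hz.e321] at h2
      rw [h2] at h1
      have h3 : (((ev m (pal (FA.getD 0 ([], 0))) * ev m (pal (FA.getD 1 ([], 0))) *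
        ev m (pal (FA.getD 2 ([], 0))) * ev m (pal (FA.getD 3 ([], 0))) * ev m (pal (FA.getD 4 ([], 0))) *
        ev m (pal (FA.getD 5 ([], 0))) * ev m (pal (FA.getD 6 ([], 0))) : M)) : G) = t := by rw [h1]; rfl
      have seven : ∀ a b c d e f g : M, t * (a : G) * (t * b) * (t * c) * (t * d) * (t * e) * (t * f) * (t * g) =
          t * ((a * b * c * d * e * f * g : M) : G) := by
        intro a b c d e f g
        have hc : ∀ x : M, Commute (x : G) t := ht
        have two : ∀ x y : M, (x : G) * (t * y) = t * ((x * y : M) : G) := by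
          intro x y
          show (x : G) * (t * y) = t * ((x : G) * y)
          rw [← mul_assoc, ht, mul_assoc]
        have step : ∀ x y : M, t * (x : G) * (t * y) = ((x * y : M) : G) := by
          intro x y
          rw [mul_assoc, two, ← mul_assoc, H.S.sq, one_mul]
        rw [step, two, step, two, step, two]
      show t * (ev m (pal (FA.getD 0 ([], 0))) : M) * (t * (ev m (pal (FA.getD 1 ([], 0))) : M)) *
        (t * (ev m (pal (FA.getD 2 ([], 0))) : M)) * (t * (ev m (pal (FA.getD 3 ([], 0))) : M)) *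
        (t * (ev m (pal (FA.getD 4 ([], 0))) : M)) * (t * (ev m (pal (FA.getD 5 ([], 0))) : M)) *
        (t * (ev m (pal (FA.getD 6 ([], 0))) : M)) = 1
      rw [seven, h3, H.S.sq]

end Cfsg.Agent.BabyU.Heptad
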