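import Cfsg.Agent.R01.PSUSix
import Cfsg.Agent.S0283

/-!
# U-B: five and six transvections of `PSU 6 F 2` with product one

`five_line`: five different commuting transvections with product one are the five points of a totally isotropic
line.  `oval_prod`, `oval_prod'`: two hyperovals of a totally isotropic plane.
-/

set_option autoImplicit false
set_option linter.unusedSectionVars false

namespace Cfsg.Agent.BabyU.PerfTwo

open Cfsg Cfsg.Agent.LieClassical.HermBasic Cfsg.Agent.R01.PSUSix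
open Cfsg.Agent.ClassicalGeometry.UnitAutBasic (tau pr pr_surjective hL hL_apply exists_scalar_of_pr_eq)
open Cfsg.Agent.ClassicalGeometry.UnitTransv (act act_mul act_one ext_act)
open Cfsg.Agent.SporadicStructure.UnitTwo (T act_T two_eq_zero add_self exists_omega vadd_self pow_four)
open scoped commutatorElement

variable {F : Type*} [Field F] [Fintype F] {n : ℕ} (hF : Fintype.card F = 2 ^ 2)
include hF

theorem commutator_PSU : commutator (PSU 6 F 2) = ⊤ := by
  have hs : IsSimpleGroup (PSU 6 F 2) := Cfsg.Agent.S0283.result (q := 2) hF 6 (by norm_num) (by norm_num)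
  rcases hs.eq_bot_or_eq_top_of_normal (commutator (PSU 6 F 2)) inferInstance with h1 | h1
  · exfalso
    obtain ⟨t, ht⟩ : ∃ t : PSU 6 F 2, t ∈ TT hF 6 := by
      obtain ⟨d, hd, -⟩ := (isThreeTranspositionClass_TT (F := F) hF (n := 6) (by norm_num)).2.1
      exact ⟨d, hd⟩
    obtain ⟨v, v0, vv, rfl⟩ := ht
    obtain ⟨b, hb⟩ := exists_herm_ne_zero hF v0
    have hcomm : ∀ x y : PSU 6 F 2, x * y = y * x := by
      intro x y
      have h2 : ⁅x, y⁆ ∈ commutator (PSU 6 F 2) :=
        Subgroup.commutator_mem_commutator (Subgroup.mem_top _) (Subgroup.mem_top _)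
      rw [h1, Subgroup.mem_bot, commutatorElement_eq_one_iff_mul_comm] at h2
      exact h2
    -- all centres of transvections are orthogonal
    have hall : ∀ w : Fin 6 → F, hermForm 6 F 2 w w = 0 → hermForm 6 F 2 v w = 0 := by
      intro w hw
      exact (tau_commute_iff hF (by norm_num) vv hw v0).1 (hcomm _ _)
    obtain ⟨ω, hω⟩ := exists_omega hF
    -- the vectors `e i + c e j` span
    have key : ∀ i j : Fin 6, i ≠ j → ∀ c : F, c ≠ 0 → v i + v j * c ^ 2 = 0 := by
      intro i j hij c hc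
      have h3 := hall (Pi.single i 1 + Pi.single j c) (by
        rw [herm_add_left, herm_add_right hF, herm_add_right hF, herm_single_right hF, herm_single_right hF,
          herm_single_right hF, herm_single_right hF, Pi.single_eq_same, Pi.single_eq_same,
          Pi.single_eq_of_ne hij, Pi.single_eq_of_ne hij.symm]
        linear_combination Cfsg.Agent.SporadicStructure.UnitTwo.pow_three hF hc + two_eq_zero hF)
      rw [herm_add_right hF, herm_single_right hF, herm_single_right hF, one_pow, mul_one] at h3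
      exact h3
    apply v0
    funext j
    obtain ⟨i, hij⟩ : ∃ i : Fin 6, i ≠ j := exists_ne j
    have k1 := key i j hij 1 one_ne_zero
    have hω0 : ω ≠ 0 := by
      rintro rfl
      norm_num at hω
    have k2 := key i j hij ω hω0
    have h4 : v j * ω = 0 := by linear_combination v j * hω - k2 + k1 - v j * two_eq_zero hF
    rcases mul_eq_zero.1 h4 with h5 | h5
    · exact h5
    · exact absurd h5 hω0
  · exact h1

/-- Separation of a vector outside the span of two vectors. -/
theorem exists_sep {u w x : Fin n → F} (h : ¬ ∃ α β : F, x = α • u + β • w) :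
    ∃ y, hermForm n F 2 y u = 0 ∧ hermForm n F 2 y w = 0 ∧ hermForm n F 2 y x ≠ 0 := by
  by_contra hcon
  push Not at hcon
  apply h
  have h1 : ⨅ i, LinearMap.ker ((![hL n 2 u, hL n 2 w] : Fin 2 → ((Fin n → F) →ₗ[F] F)) i) ≤
      LinearMap.ker (hL n 2 x) := by
    intro y hy
    rw [Submodule.mem_iInf] at hy
    have y0 := hy 0
    have y1 := hy 1
    rw [LinearMap.mem_ker] at y0 y1 ⊢
    exact hcon y y0 y1
  have h2 := mem_span_of_iInf_ker_le_ker h1
  rw [Submodule.mem_span_range_iff_exists_fun] at h2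
  obtain ⟨c, hc⟩ := h2
  refine ⟨c 0 ^ 2, c 1 ^ 2, ?_⟩
  rw [← sub_eq_zero]
  apply herm_nondeg hF
  intro y
  apply herm_eq_zero_swap hF
  have h3 : hermForm n F 2 y x = c 0 * hermForm n F 2 y u + c 1 * hermForm n F 2 y w := by
    have := congrArg (fun L => L y) hc
    simp only [Fin.sum_univ_two, LinearMap.add_apply, LinearMap.smul_apply, smul_eq_mul] at this
    exact this.symm
  rw [herm_sub_right hF, herm_add_right hF, herm_smul_right, herm_smul_right, h3]
  have e0 := pow_four hF (c 0)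
  have e1 := pow_four hF (c 1)
  linear_combination (-hermForm n F 2 y u) * e0 - hermForm n F 2 y w * e1

omit [Fintype F] hF in
/-- Three vectors in a plane. -/
theorem span_two {p q v1 v2 v3 : Fin n → F} {a b c d e f : F} (h1 : v1 = a • p + b • q)
    (h2 : v2 = c • p + d • q) (h3 : v3 = e • p + f • q) (h0 : v1 ≠ 0) (hnp : ∀ k : F, v2 ≠ k • v1) :
    ∃ α β : F, v3 = α • v1 + β • v2 := by
  by_cases hd : a * d - b * c = 0
  · exfalso
    by_cases ha : a = 0
    · by_cases hb : b = 0
      · apply h0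
        rw [h1, ha, hb, zero_smul, zero_smul, add_zero]
      · apply hnp (d / b)
        rw [h1, h2]
        funext i
        simp only [Pi.add_apply, Pi.smul_apply, smul_eq_mul]
        field_simp
        linear_combination (-p i) * hd
    · apply hnp (c / a)
      rw [h1, h2]
      funext i
      simp only [Pi.add_apply, Pi.smul_apply, smul_eq_mul]
      field_simp
      linear_combination (q i) * hd
  · obtain ⟨k, hk⟩ : ∃ k, (a * d - b * c) * k = 1 := ⟨_, mul_inv_cancel₀ hd⟩
    refine ⟨(e * d - f * c) * k, (a * f - b * e) * k, ?_⟩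
    rw [h1, h2, h3]
    funext i
    simp only [Pi.add_apply, Pi.smul_apply, smul_eq_mul]
    linear_combination (-(e * p i + f * q i)) * hk

omit hF in
/-- Five different points with `∑ h(x, v i) v i = 0`. -/
structure Five (v : Fin 5 → Fin n → F) : Prop where
  o : ∀ i j, hermForm n F 2 (v i) (v j) = 0
  ne : ∀ i, v i ≠ 0
  np : ∀ i j, i ≠ j → ∀ c : F, v j ≠ c • v i
  sum : ∀ x, ∑ i, hermForm n F 2 x (v i) • v i = 0

omit hF in
theorem Five.perm {v : Fin 5 → Fin n → F} (h : Five v) (σ : Equiv.Perm (Fin 5)) : Five (fun i => v (σ i)) where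
  o i j := h.o _ _
  ne i := h.ne _
  np i j hij := h.np _ _ (fun e => hij (σ.injective e))
  sum x := by
    rw [← h.sum x]
    exact Equiv.sum_comp σ (fun i => hermForm n F 2 x (v i) • v i)

theorem Five.step {v : Fin 5 → Fin n → F} (h : Five v) (hn : ¬ ∃ α β : F, v 2 = α • v 0 + β • v 1) :
    ∃ α β : F, v 2 = α • v 3 + β • v 4 := by
  obtain ⟨y, y0, y1, y2⟩ := exists_sep hF hn
  have h1 := h.sum y
  simp only [Fin.sum_univ_five, y0, y1, zero_smul, zero_add] at h1
  have h2 := two_eq_zero hF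
  refine ⟨hermForm n F 2 y (v 3) / hermForm n F 2 y (v 2), hermForm n F 2 y (v 4) / hermForm n F 2 y (v 2), ?_⟩
  funext i
  have h3 := congrFun h1 i
  simp only [Pi.add_apply, Pi.smul_apply, smul_eq_mul, Pi.zero_apply] at h3 ⊢
  field_simp
  linear_combination h3 - (hermForm n F 2 y (v 3) * v 3 i + hermForm n F 2 y (v 4) * v 4 i) * h2

theorem Five.span {v : Fin 5 → Fin n → F} (h : Five v) : ∃ α β : F, v 2 = α • v 0 + β • v 1 := by
  by_contra hn
  obtain ⟨a2, b2, e2⟩ := h.step hF hn
  -- the permutations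
  have hA : ¬ ∃ α β : F, v 1 = α • v 0 + β • v 2 := by
    rintro ⟨α, β, e⟩
    have hβ : β ≠ 0 := by
      rintro rfl
      rw [zero_smul, add_zero] at e
      exact h.np 0 1 (by decide) α e
    apply hn
    refine ⟨-α / β, 1 / β, ?_⟩
    funext i
    have h3 := congrFun e i
    simp only [Pi.add_apply, Pi.smul_apply, smul_eq_mul] at h3 ⊢
    rw [h3]
    field_simp
    ring
  have hB : ¬ ∃ α β : F, v 0 = α • v 1 + β • v 2 := by
    rintro ⟨α, β, e⟩
    have hβ : β ≠ 0 := by
      rintro rfl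
      rw [zero_smul, add_zero] at e
      exact h.np 1 0 (by decide) α e
    apply hn
    refine ⟨1 / β, -α / β, ?_⟩
    funext i
    have h3 := congrFun e i
    simp only [Pi.add_apply, Pi.smul_apply, smul_eq_mul] at h3 ⊢
    rw [h3]
    field_simp
    ring
  obtain ⟨a1, b1, e1⟩ := (h.perm (Equiv.swap 1 2)).step hF (by
    rintro ⟨α, β, e⟩
    have e' : v 1 = α • v 0 + β • v 2 := e
    exact hA ⟨α, β, e'⟩)
  obtain ⟨a0, b0, e0⟩ := (h.perm (Equiv.swap 0 2)).step hF (by
    rintro ⟨α, β, e⟩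
    apply hB
    refine ⟨β, α, ?_⟩
    have e' : v 0 = α • v 2 + β • v 1 := e
    rw [e', add_comm])
  have e1' : v 1 = a1 • v 3 + b1 • v 4 := e1
  have e0' : v 0 = a0 • v 3 + b0 • v 4 := e0
  exact hn (span_two e0' e1' e2 (h.ne 0) (h.np 0 1 (by decide)))

theorem Five.exists_slope {v : Fin 5 → Fin n → F} (h : Five v) {i : Fin 5} (h0 : i ≠ 0) (h1 : i ≠ 1) :
    ∃ γ c : F, γ ≠ 0 ∧ c ≠ 0 ∧ v i = c • (v 0 + γ • v 1) := by
  have key : ∃ α β : F, v i = α • v 0 + β • v 1 := by
    obtain ⟨α, β, e⟩ := (h.perm (Equiv.swap 2 i)).span hF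
    refine ⟨α, β, ?_⟩
    simp only [Equiv.swap_apply_left] at e
    rw [Equiv.swap_apply_of_ne_of_ne (by decide) (Ne.symm h0),
      Equiv.swap_apply_of_ne_of_ne (by decide) (Ne.symm h1)] at e
    exact e
  obtain ⟨α, β, e⟩ := key
  have hα : α ≠ 0 := by
    rintro rfl
    rw [zero_smul, zero_add] at e
    exact h.np 1 i (Ne.symm h1) β e
  have hβ : β ≠ 0 := by
    rintro rfl
    rw [zero_smul, add_zero] at e
    exact h.np 0 i (Ne.symm h0) α e
  refine ⟨β / α, α, div_ne_zero hβ hα, hα, ?_⟩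
  rw [e]
  funext k
  simp only [Pi.add_apply, Pi.smul_apply, smul_eq_mul]
  field_simp

theorem Five.exists_eq {v w : Fin 5 → Fin n → F} (h : Five v) (h' : Five w) (e0 : w 0 = v 0)
    (e1 : w 1 = v 1) : ∃ i : Fin 5, ∃ c : F, c ≠ 0 ∧ v 2 = c • w i := by
  classical
  obtain ⟨γ, c, hγ, hc, e⟩ := h.exists_slope hF (i := 2) (by decide) (by decide)
  obtain ⟨γ2, c2, hγ2, hc2, e2⟩ := h'.exists_slope hF (i := 2) (by decide) (by decide)
  obtain ⟨γ3, c3, hγ3, hc3, e3⟩ := h'.exists_slope hF (i := 3) (by decide) (by decide)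
  obtain ⟨γ4, c4, hγ4, hc4, e4⟩ := h'.exists_slope hF (i := 4) (by decide) (by decide)
  rw [e0, e1] at e2 e3 e4
  have hne : ∀ (i j : Fin 5) (hij : i ≠ j) (γ γ' c c' : F), c ≠ 0 → w i = c • (v 0 + γ • v 1) →
      w j = c' • (v 0 + γ' • v 1) → γ ≠ γ' := by
    rintro i j hij γ γ' c c' hc hi hj rfl
    apply h'.np i j hij (c' / c)
    rw [hi, hj, smul_smul, div_mul_cancel₀ _ hc]
  have n23 := hne 2 3 (by decide) _ _ _ _ hc2 e2 e3
  have n24 := hne 2 4 (by decide) _ _ _ _ hc2 e2 e4
  have n34 := hne 3 4 (by decide) _ _ _ _ hc3 e3 e4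
  have hin : γ = γ2 ∨ γ = γ3 ∨ γ = γ4 := by
    by_contra hcon
    push Not at hcon
    obtain ⟨m2, m3, m4⟩ := hcon
    have hcard : ({0, γ, γ2, γ3, γ4} : Finset F).card = 5 := by
      rw [Finset.card_insert_of_notMem, Finset.card_insert_of_notMem, Finset.card_insert_of_notMem,
        Finset.card_insert_of_notMem, Finset.card_singleton]
      · simpa using n34
      · simp [n23, n24]
      · simp [m2, m3, m4]
      · simp [hγ.symm, hγ2.symm, hγ3.symm, hγ4.symm]
    have := Finset.card_le_univ ({0, γ, γ2, γ3, γ4} : Finset F)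
    rw [hcard, hF] at this
    norm_num at this
  rcases hin with rfl | rfl | rfl
  · exact ⟨2, c / c2, div_ne_zero hc hc2, by rw [e, e2, smul_smul, div_mul_cancel₀ _ hc2]⟩
  · exact ⟨3, c / c3, div_ne_zero hc hc3, by rw [e, e3, smul_smul, div_mul_cancel₀ _ hc3]⟩
  · exact ⟨4, c / c4, div_ne_zero hc hc4, by rw [e, e4, smul_smul, div_mul_cancel₀ _ hc4]⟩

/-- Five commuting transvections with product one. -/
theorem sum_zero (hn : 3 ≤ n) {v : Fin 5 → Fin n → F} (h0 : v 0 ≠ 0)
    (o : ∀ i j, hermForm n F 2 (v i) (v j) = 0)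
    (hp : tau hF (v 0) * tau hF (v 1) * tau hF (v 2) * tau hF (v 3) * tau hF (v 4) = 1) (x : Fin n → F) :
    ∑ i, hermForm n F 2 x (v i) • v i = 0 := by
  rw [tau_eq_pr hF (o 0 0), tau_eq_pr hF (o 1 1), tau_eq_pr hF (o 2 2), tau_eq_pr hF (o 3 3),
    tau_eq_pr hF (o 4 4), ← map_mul, ← map_mul, ← map_mul, ← map_mul, ← map_one (pr n F 2)] at hp
  obtain ⟨c, -, hc0⟩ := exists_scalar_of_pr_eq hF hn hp
  have hc : ∀ x, act (1 : SU n F 2) x = c • act (T hF (v 0) (o 0 0) * T hF (v 1) (o 1 1) * T hF (v 2) (o 2 2) *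
      T hF (v 3) (o 3 3) * T hF (v 4) (o 4 4)) x := hc0
  have hact : ∀ x, act (T hF (v 0) (o 0 0) * T hF (v 1) (o 1 1) * T hF (v 2) (o 2 2) *
      T hF (v 3) (o 3 3) * T hF (v 4) (o 4 4)) x = x + ∑ i, hermForm n F 2 x (v i) • v i := by
    intro x
    simp only [act_mul, act_T, herm_add_left, herm_smul_left, o, mul_zero, add_zero, Fin.sum_univ_five]
    funext i
    simp only [Pi.add_apply, Pi.smul_apply, smul_eq_mul]
    ring
  have h1 := hc (v 0)
  rw [hact, act_one] at h1
  simp only [o, zero_smul, Finset.sum_const_zero, add_zero] at h1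
  have hc1 : c = 1 := by
    have h2 : (1 - c) • v 0 = 0 := by rw [sub_smul, one_smul, ← h1, sub_self]
    rcases smul_eq_zero.1 h2 with h3 | h3
    · exact (sub_eq_zero.1 h3).symm
    · exact absurd h3 h0
  have h2 := hc x
  rw [hact, act_one, hc1, one_smul] at h2
  have h3 : x + 0 = x + ∑ i, hermForm n F 2 x (v i) • v i := by rw [add_zero]; exact h2
  exact (add_left_cancel h3).symm

theorem five_of (hn : 3 ≤ n) {v : Fin 5 → Fin n → F} (h0 : ∀ i, v i ≠ 0)
    (hv : ∀ i, hermForm n F 2 (v i) (v i) = 0)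
    (hc : ∀ i j, tau hF (v i) * tau hF (v j) = tau hF (v j) * tau hF (v i))
    (hi : Function.Injective fun i => tau hF (v i))
    (hp : tau hF (v 0) * tau hF (v 1) * tau hF (v 2) * tau hF (v 3) * tau hF (v 4) = 1) : Five v := by
  have o : ∀ i j, hermForm n F 2 (v i) (v j) = 0 := fun i j =>
    (tau_commute_iff hF hn (hv i) (hv j) (h0 i)).1 (hc i j)
  refine ⟨o, h0, ?_, sum_zero hF hn (h0 0) o hp⟩
  intro i j hij c e
  apply hij
  apply hi
  show tau hF (v i) = tau hF (v j)
  rw [tau_eq_iff hF hn (hv i) (hv j) (h0 i)]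
  refine ⟨c, ?_, e⟩
  rintro rfl
  rw [zero_smul] at e
  exact h0 j e

/-- Five different commuting transvections with product one form a line. -/
theorem five_line (hn : 3 ≤ n) {σ σ' : Fin 5 → PSU n F 2} (h : ∀ i, σ i ∈ TT hF n) (h' : ∀ i, σ' i ∈ TT hF n)
    (hc : ∀ i j, σ i * σ j = σ j * σ i) (hc' : ∀ i j, σ' i * σ' j = σ' j * σ' i)
    (hi : Function.Injective σ) (hi' : Function.Injective σ')
    (hp : σ 0 * σ 1 * σ 2 * σ 3 * σ 4 = 1) (hp' : σ' 0 * σ' 1 * σ' 2 * σ' 3 * σ' 4 = 1)
    (e0 : σ' 0 = σ 0) (e1 : σ' 1 = σ 1) : ∃ i, σ 2 = σ' i := by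
  choose v v0 vv ev using h
  choose w w0 ww ew using h'
  -- the same vectors for the first two
  set w' : Fin 5 → Fin n → F := fun i => if i = 0 then v 0 else if i = 1 then v 1 else w i with hw'
  have w'0 : ∀ i, w' i ≠ 0 := by
    intro i
    simp only [hw']
    split_ifs with h1 h2
    · exact v0 0
    · exact v0 1
    · exact w0 i
  have w'w : ∀ i, hermForm n F 2 (w' i) (w' i) = 0 := by
    intro i
    simp only [hw']
    split_ifs with h1 h2
    · exact vv 0
    · exact vv 1
    · exact ww i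
  have ew' : ∀ i, tau hF (w' i) = σ' i := by
    intro i
    simp only [hw']
    split_ifs with h1 h2
    · rw [h1, ← ev 0, e0]
    · rw [h2, ← ev 1, e1]
    · rw [ew i]
  have ev' : ∀ i, tau hF (v i) = σ i := fun i => (ev i).symm
  have hfv : Five v := by
    apply five_of hF hn v0 vv
    · intro i j; rw [ev', ev']; exact hc i j
    · intro i j hij
      apply hi
      have : tau hF (v i) = tau hF (v j) := hij
      rwa [ev', ev'] at this
    · simp only [ev']; exact hp
  have hfw : Five w' := by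
    apply five_of hF hn w'0 w'w
    · intro i j; rw [ew', ew']; exact hc' i j
    · intro i j hij
      apply hi'
      have : tau hF (w' i) = tau hF (w' j) := hij
      rwa [ew', ew'] at this
    · simp only [ew']; exact hp'
  obtain ⟨i, c, hc0, e⟩ := hfv.exists_eq hF hfw (by simp [hw']) (by simp [hw'])
  refine ⟨i, ?_⟩
  rw [← ev', e, tau_smul hF (w'w i) hc0, ew']

/-- Six pairwise commuting transvections with product one. -/
theorem six_prod {w : Fin 6 → Fin n → F} (o : ∀ i j, hermForm n F 2 (w i) (w j) = 0)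
    (hs : ∀ x, ∑ i, hermForm n F 2 x (w i) • w i = 0) :
    tau hF (w 0) * tau hF (w 1) * tau hF (w 2) * tau hF (w 3) * tau hF (w 4) * tau hF (w 5) = 1 := by
  rw [tau_eq_pr hF (o 0 0), tau_eq_pr hF (o 1 1), tau_eq_pr hF (o 2 2), tau_eq_pr hF (o 3 3),
    tau_eq_pr hF (o 4 4), tau_eq_pr hF (o 5 5), ← map_mul, ← map_mul, ← map_mul, ← map_mul, ← map_mul]
  suffices h : T hF (w 0) (o 0 0) * T hF (w 1) (o 1 1) * T hF (w 2) (o 2 2) * T hF (w 3) (o 3 3) *
      T hF (w 4) (o 4 4) * T hF (w 5) (o 5 5) = 1 by rw [h, map_one]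
  apply ext_act
  intro x
  have h1 : act (T hF (w 0) (o 0 0) * T hF (w 1) (o 1 1) * T hF (w 2) (o 2 2) * T hF (w 3) (o 3 3) *
      T hF (w 4) (o 4 4) * T hF (w 5) (o 5 5)) x = x + ∑ i, hermForm n F 2 x (w i) • w i := by
    simp only [act_mul, act_T, herm_add_left, herm_smul_left, o, mul_zero, add_zero, Fin.sum_univ_six]
    funext i
    simp only [Pi.add_apply, Pi.smul_apply, smul_eq_mul]
    ring
  rw [h1, hs, add_zero, act_one]

section Oval

variable {a b c : Fin n → F} (ha : hermForm n F 2 a a = 0) (hb : hermForm n F 2 b b = 0)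
  (hc : hermForm n F 2 c c = 0) (hab : hermForm n F 2 a b = 0) (hac : hermForm n F 2 a c = 0)
  (hbc : hermForm n F 2 b c = 0)
include ha hb hc hab hac hbc

theorem herm_comb (x y z x' y' z' : F) :
    hermForm n F 2 (x • a + y • b + z • c) (x' • a + y' • b + z' • c) = 0 := by
  have hba := herm_eq_zero_swap hF hab
  have hca := herm_eq_zero_swap hF hac
  have hcb := herm_eq_zero_swap hF hbc
  simp only [herm_add_left, herm_smul_left, herm_add_right hF, herm_smul_right, ha, hb, hc, hab, hac, hbc, hba,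
    hca, hcb, mul_zero, add_zero]

omit hF ha hb hc hab hac hbc in
/-- the points of the first hyperoval -/
def ovA (ω : F) : Fin 6 → Fin 3 → F :=
  ![![1, 0, 0], ![0, 1, 0], ![0, 0, 1], ![1, 1, 1], ![1, ω, ω ^ 2], ![1, ω ^ 2, ω]]

omit hF ha hb hc hab hac hbc in
/-- the points of the second hyperoval -/
def ovB (ω : F) : Fin 6 → Fin 3 → F :=
  ![![1, 0, 0], ![0, 1, 0], ![0, 0, 1], ![1, 1, ω], ![1, ω, 1], ![1, ω ^ 2, ω ^ 2]]

omit hF ha hb hc hab hac hbc in
/-- a vector of the plane -/
def vec (a b c : Fin n → F) (k : Fin 3 → F) : Fin n → F := k 0 • a + k 1 • b + k 2 • c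

theorem ovA_prod {ω : F} (hω : ω ^ 2 + ω + 1 = 0) :
    tau hF (vec a b c (ovA ω 0)) * tau hF (vec a b c (ovA ω 1)) * tau hF (vec a b c (ovA ω 2)) *
      tau hF (vec a b c (ovA ω 3)) * tau hF (vec a b c (ovA ω 4)) * tau hF (vec a b c (ovA ω 5)) = 1 := by
  apply six_prod hF (w := fun i => vec a b c (ovA ω i))
  · intro i j
    exact herm_comb hF ha hb hc hab hac hbc _ _ _ _ _ _
  · intro x
    have h3 : ω ^ 3 = 1 := omega_cubed hω
    have h2 := two_eq_zero hF
    have h4 : ω ^ 4 = ω := by linear_combination ω * h3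
    have h5 : ω ^ 5 = ω ^ 2 := by linear_combination ω ^ 2 * h3
    have h6 : ω ^ 6 = 1 := by linear_combination (ω ^ 3 + 1) * h3
    simp only [vec, herm_add_right hF, herm_smul_right, Fin.sum_univ_six]
    funext i
    simp only [ovA, Pi.add_apply, Pi.smul_apply, smul_eq_mul, Matrix.cons_val_zero, Matrix.cons_val_one,
      Matrix.cons_val, Pi.zero_apply]
    generalize hermForm n F 2 x a = p
    generalize hermForm n F 2 x b = q
    generalize hermForm n F 2 x c = r
    linear_combination (p * a i) * 2 * h2 + (q * b i + r * c i) * (h3 + h6 + 2 * h2) +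
      (p * b i + p * c i) * hω + (q * a i + r * a i) * (hω + h4) + (q * c i + r * b i) * (hω + h4 + h5)

theorem ovB_prod {ω : F} (hω : ω ^ 2 + ω + 1 = 0) :
    tau hF (vec a b c (ovB ω 0)) * tau hF (vec a b c (ovB ω 1)) * tau hF (vec a b c (ovB ω 2)) *
      tau hF (vec a b c (ovB ω 3)) * tau hF (vec a b c (ovB ω 4)) * tau hF (vec a b c (ovB ω 5)) = 1 := by
  apply six_prod hF (w := fun i => vec a b c (ovB ω i))
  · intro i j
    exact herm_comb hF ha hb hc hab hac hbc _ _ _ _ _ _
  · intro x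
    have h3 : ω ^ 3 = 1 := omega_cubed hω
    have h2 := two_eq_zero hF
    have h4 : ω ^ 4 = ω := by linear_combination ω * h3
    have h6 : ω ^ 6 = 1 := by linear_combination (ω ^ 3 + 1) * h3
    simp only [vec, herm_add_right hF, herm_smul_right, Fin.sum_univ_six]
    funext i
    simp only [ovB, Pi.add_apply, Pi.smul_apply, smul_eq_mul, Matrix.cons_val_zero, Matrix.cons_val_one,
      Matrix.cons_val, Pi.zero_apply]
    generalize hermForm n F 2 x a = p
    generalize hermForm n F 2 x b = q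
    generalize hermForm n F 2 x c = r
    linear_combination (p * a i) * 2 * h2 + (q * b i + r * c i) * (h3 + h6 + 2 * h2) +
      (p * b i + p * c i) * hω + (q * a i + r * a i) * (hω + h4) + (q * c i + r * b i) * (hω + h6)

end Oval

end Cfsg.Agent.BabyU.PerfTwo
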