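import Cfsg.Agent.BabyU.OutHerm
import Cfsg.Agent.TwoESix.Cover

/-!
# Configurations of ten root involutions: at most six classes

`R` is a conjugation invariant set of involutions of `E`; opposite pairs are conjugate and the centraliser of an opposite
pair is `PSU 6 F 2` with the elements of `R` going to transvections.  Among seven configurations of type `Y₃₃₃` which
are not fixed by the exchange of the first and the last arm (realised by conjugation in `E`) two are conjugate.
-/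

set_option autoImplicit false

namespace Cfsg.Agent.BabyU.OutCount

open Cfsg Cfsg.Agent.TwoESix Cfsg.Agent.TwoESix.Cox10 Cfsg.Agent.R01.PSUSix Cfsg.Agent.BabyU.OutHerm
open Cfsg.Agent.ClassicalGeometry.UnitAutBasic (tau)

variable {F : Type*} [Field F] [Fintype F] (hF : Fintype.card F = 2 ^ 2)
variable {E : Type*} [Group E]

/-- Opposite elements. -/
def Opp (R : Set E) (r s : E) : Prop := r ∈ R ∧ s ∈ R ∧ ¬ Commute r s ∧ (r * s) ^ 3 = 1

/-- The facts on the root involutions which are used. -/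
structure Hyp (R : Set E) : Prop where
  conj : ∀ x r, r ∈ R → x * r * x⁻¹ ∈ R
  opp : ∀ r s r' s', Opp R r s → Opp R r' s' → ∃ x, x * r * x⁻¹ = r' ∧ x * s * x⁻¹ = s'
  chart : ∀ r s, Opp R r s → ∃ ψ : ↥(Subgroup.centralizer ({r, s} : Set E)) ≃* PSU 6 F 2,
    ∀ x : ↥(Subgroup.centralizer ({r, s} : Set E)), (x : E) ∈ R → ψ x ∈ TT hF 6

/-- Configurations of type `Y₃₃₃`. -/
structure Cfg (R : Set E) (f : Fin 10 → E) : Prop where
  mem : ∀ i, f i ∈ R
  nadj : ∀ i j, Cox10.adj i j = true → ¬ Commute (f i) (f j)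
  three : ∀ i j, Cox10.adj i j = true → (f i * f j) ^ 3 = 1
  non : ∀ i j, Cox10.adj i j = false → Commute (f i) (f j)

/-- Conjugate configuration. -/
def cj (x : E) (f : Fin 10 → E) : Fin 10 → E := fun i => x * f i * x⁻¹

theorem cj_cj (x y : E) (f : Fin 10 → E) : cj x (cj y f) = cj (x * y) f := by
  funext i; simp only [cj]; group

theorem commute_conj {a b : E} (x : E) : Commute (x * a * x⁻¹) (x * b * x⁻¹) ↔ Commute a b := by
  constructor
  · intro h
    have := h.map (MulAut.conj x⁻¹)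
    simp only [MulAut.conj_apply] at this
    have e : ∀ c : E, x⁻¹ * (x * c * x⁻¹) * x⁻¹⁻¹ = c := fun c => by group
    rwa [e, e] at this
  · intro h
    exact h.map (MulAut.conj x)

theorem Cfg.opp {R : Set E} {f : Fin 10 → E} (h : Cfg R f) {i j : Fin 10} (hij : Cox10.adj i j = true) :
    Opp R (f i) (f j) := ⟨h.mem i, h.mem j, h.nadj i j hij, h.three i j hij⟩

theorem mem_cent {r s x : E} : x ∈ Subgroup.centralizer ({r, s} : Set E) ↔ Commute x r ∧ Commute x s := by
  rw [Subgroup.mem_centralizer_iff]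
  constructor
  · intro h
    exact ⟨(h r (Or.inl rfl)).symm, (h s (Or.inr rfl)).symm⟩
  · rintro ⟨h1, h2⟩ y (rfl | rfl)
    · exact h1.symm.eq
    · exact h2.symm.eq

/-- The chain in the centraliser of the nodes `5`, `6`. -/
def ch : Fin 7 → Fin 10 := ![0, 1, 2, 3, 7, 8, 9]

theorem adj_ch : ∀ i j, Cox10.adj (ch i) (ch j) = pth i j := by decide
theorem ch5 : ∀ i, Cox10.adj (ch i) 5 = false := by decide
theorem ch6 : ∀ i, Cox10.adj (ch i) 6 = false := by decide

/-- The six nodes in the centraliser of the nodes `8`, `9`. -/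
def nd : Fin 6 → Fin 10 := ![0, 1, 2, 3, 5, 6]

theorem adj_nd : ∀ i j, Cox10.adj (nd i) (nd j) = pq i j := by decide
theorem nd8 : ∀ i, Cox10.adj (nd i) 8 = false := by decide
theorem nd9 : ∀ i, Cox10.adj (nd i) 9 = false := by decide

section

variable {hF} {R : Set E} (H : Hyp hF R)
include H

/-- The fourth node is one of three. -/
theorem four {f : Fin 10 → E} (hf : Cfg R f) {y : Fin 4 → E} (hR : ∀ k, y k ∈ R)
    (h0 : ∀ k, Commute (y k) (f 0)) (h1 : ∀ k, Commute (y k) (f 1)) (h2 : ∀ k, Commute (y k) (f 2))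
    (h3 : ∀ k, ¬ Commute (y k) (f 3)) (h5 : ∀ k, ¬ Commute (y k) (f 5)) (h6 : ∀ k, Commute (y k) (f 6))
    (h8 : ∀ k, Commute (y k) (f 8)) (h9 : ∀ k, Commute (y k) (f 9)) : ∃ k l, k ≠ l ∧ y k = y l := by
  obtain ⟨ψ, hψ⟩ := H.chart _ _ (hf.opp (show Cox10.adj 8 9 = true by decide))
  have hm : ∀ i, f (nd i) ∈ Subgroup.centralizer ({f 8, f 9} : Set E) := fun i =>
    mem_cent.2 ⟨hf.non _ _ (nd8 i), hf.non _ _ (nd9 i)⟩
  have hy : ∀ k, y k ∈ Subgroup.centralizer ({f 8, f 9} : Set E) := fun k => mem_cent.2 ⟨h8 k, h9 k⟩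
  have hc : ∀ {a b : E} (ha : a ∈ Subgroup.centralizer ({f 8, f 9} : Set E))
      (hb : b ∈ Subgroup.centralizer ({f 8, f 9} : Set E)), Commute (ψ ⟨a, ha⟩) (ψ ⟨b, hb⟩) ↔ Commute a b := by
    intro a b ha hb
    constructor
    · intro h
      have h' : ψ (⟨a, ha⟩ * ⟨b, hb⟩) = ψ (⟨b, hb⟩ * ⟨a, ha⟩) := by rw [map_mul, map_mul]; exact h
      exact congrArg Subtype.val (ψ.injective h')
    · intro h
      show ψ ⟨a, ha⟩ * ψ ⟨b, hb⟩ = ψ ⟨b, hb⟩ * ψ ⟨a, ha⟩
      rw [← map_mul, ← map_mul]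
      congr 1
      exact Subtype.ext h
  obtain ⟨k, l, hkl, he⟩ := exists_eq hF (c := fun i => ψ ⟨f (nd i), hm i⟩)
    (fun i => hψ _ (hf.mem _))
    (fun i j h => by rw [hc]; exact hf.nadj _ _ (by rw [adj_nd, h]))
    (fun i j h => by rw [hc]; exact hf.non _ _ (by rw [adj_nd, h]))
    (x := fun k => ψ ⟨y k, hy k⟩) (fun k => hψ _ (hR k))
    (fun k => by rw [hc]; exact h0 k) (fun k => by rw [hc]; exact h1 k) (fun k => by rw [hc]; exact h2 k)
    (fun k => by rw [hc]; exact h3 k) (fun k => by rw [hc]; exact h5 k) (fun k => by rw [hc]; exact h6 k)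
  exact ⟨k, l, hkl, congrArg Subtype.val (ψ.injective he)⟩

/-- The reversal of the chain. -/
theorem exists_x {f : Fin 10 → E} (hf : Cfg R f) : ∃ x : E, x * x = 1 ∧ Commute x (f 5) ∧ Commute x (f 6) ∧
    ∀ i, x * f (ch i) * x⁻¹ = f (ch (rv i)) := by
  obtain ⟨ψ, hψ⟩ := H.chart _ _ (hf.opp (show Cox10.adj 5 6 = true by decide))
  have hm : ∀ i, f (ch i) ∈ Subgroup.centralizer ({f 5, f 6} : Set E) := fun i =>
    mem_cent.2 ⟨hf.non _ _ (ch5 i), hf.non _ _ (ch6 i)⟩
  have hc : ∀ i j, Commute (ψ ⟨f (ch i), hm i⟩) (ψ ⟨f (ch j), hm j⟩) ↔ Commute (f (ch i)) (f (ch j)) := by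
    intro i j
    constructor
    · intro h
      have h' : ψ (⟨f (ch i), hm i⟩ * ⟨f (ch j), hm j⟩) = ψ (⟨f (ch j), hm j⟩ * ⟨f (ch i), hm i⟩) := by
        rw [map_mul, map_mul]; exact h
      exact congrArg Subtype.val (ψ.injective h')
    · intro h
      show ψ ⟨f (ch i), hm i⟩ * ψ ⟨f (ch j), hm j⟩ = ψ ⟨f (ch j), hm j⟩ * ψ ⟨f (ch i), hm i⟩
      rw [← map_mul, ← map_mul]
      congr 1
      exact Subtype.ext h
  obtain ⟨g, hg, hgi⟩ := exists_rev hF (c := fun i => ψ ⟨f (ch i), hm i⟩) (fun i => hψ _ (hf.mem _))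
    (fun i j h => by rw [hc]; exact hf.nadj _ _ (by rw [adj_ch, h]))
    (fun i j h => by rw [hc]; exact hf.non _ _ (by rw [adj_ch, h]))
  obtain ⟨x, rfl⟩ := ψ.surjective g
  have hx := mem_cent.1 x.2
  refine ⟨x, ?_, hx.1, hx.2, fun i => ?_⟩
  · have : ψ (x * x) = ψ 1 := by rw [map_mul, hg, map_one]
    exact congrArg Subtype.val (ψ.injective this)
  · have h1 := hgi i
    have h2 : ψ (x * ⟨f (ch i), hm i⟩ * x⁻¹) = ψ ⟨f (ch (rv i)), hm (rv i)⟩ := by
      rw [map_mul, map_mul, map_inv]; exact h1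
    exact congrArg Subtype.val (ψ.injective h2)

omit [Field F] [Fintype F] H in
theorem conj_inv_eq {x a b : E} (hx : x * x = 1) (h : x * a * x⁻¹ = b) : x * b * x⁻¹ = a := by
  have e : x⁻¹ = x := inv_eq_of_mul_eq_one_left hx
  rw [← h, e]
  calc x * (x * a * x) * x = (x * x) * a * (x * x) := by group
    _ = a := by rw [hx]; group

omit H in
theorem ne_conj {x a b : E} (h : a ≠ b) : x * a * x⁻¹ ≠ x * b * x⁻¹ := fun h' => h (by
  have := congrArg (fun c => x⁻¹ * c * x) h'
  simpa [mul_assoc] using this)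

/-- Three configurations which differ exactly in the fourth node: one of them is reversed by an element. -/
theorem exists_reversed {g : Fin 3 → Fin 10 → E} (hg : ∀ a, Cfg R (g a)) (he : ∀ a b i, i ≠ 4 → g a i = g b i)
    (h01 : g 0 4 ≠ g 1 4) (h02 : g 0 4 ≠ g 2 4) (h12 : g 1 4 ≠ g 2 4) :
    ∃ a x, ∀ i, x * g a i * x⁻¹ = g a (pAC i) := by
  obtain ⟨x, hxx, hx5, hx6, hxi⟩ := exists_x H (hg 0)
  have hxi' : ∀ a i, x * g a (ch i) * x⁻¹ = g a (ch (rv i)) := by
    intro a i
    rw [he a 0 (ch i) (by revert i; decide), he a 0 (ch (rv i)) (by revert i; decide)]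
    exact hxi i
  have fix : ∀ {c : E}, Commute x c → x * c * x⁻¹ = c := fun {c} h => by
    rw [h.eq, mul_assoc, mul_inv_cancel, mul_one]
  have hx5' : ∀ a, x * g a 5 * x⁻¹ = g a 5 := fun a => by
    rw [he a 0 5 (by decide)]; exact fix hx5
  have hx6' : ∀ a, x * g a 6 * x⁻¹ = g a 6 := fun a => by
    rw [he a 0 6 (by decide)]; exact fix hx6
  have e0 : ∀ a, x * g a 0 * x⁻¹ = g a 9 := fun a => hxi' a 0
  have e1 : ∀ a, x * g a 1 * x⁻¹ = g a 8 := fun a => hxi' a 1
  have e2 : ∀ a, x * g a 2 * x⁻¹ = g a 7 := fun a => hxi' a 2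
  have e3 : ∀ a, x * g a 3 * x⁻¹ = g a 3 := fun a => hxi' a 3
  have e7 : ∀ a, x * g a 7 * x⁻¹ = g a 2 := fun a => hxi' a 4
  have e8 : ∀ a, x * g a 8 * x⁻¹ = g a 1 := fun a => hxi' a 5
  have e9 : ∀ a, x * g a 9 * x⁻¹ = g a 0 := fun a => hxi' a 6
  -- it is enough to find a fixed fourth node
  have done : ∀ a, x * g a 4 * x⁻¹ = g a 4 → ∃ a x, ∀ i, x * g a i * x⁻¹ = g a (pAC i) := by
    intro a h4
    refine ⟨a, x, fun i => ?_⟩
    fin_cases i
    · exact e0 a
    · exact e1 a
    · exact e2 a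
    · exact e3 a
    · exact h4
    · exact hx5' a
    · exact hx6' a
    · exact e7 a
    · exact e8 a
    · exact e9 a
  -- the image of a fourth node is a fourth node
  have key : ∀ a, x * g a 4 * x⁻¹ = g 0 4 ∨ x * g a 4 * x⁻¹ = g 1 4 ∨ x * g a 4 * x⁻¹ = g 2 4 := by
    intro a
    have hga := hg a
    have k2 : ∀ {i j : Fin 10}, Commute (g a i) (g a j) → Commute (x * g a i * x⁻¹) (x * g a j * x⁻¹) :=
      fun h => (commute_conj x).2 h
    have k3 : ∀ {i j : Fin 10}, ¬ Commute (g a i) (g a j) → ¬ Commute (x * g a i * x⁻¹) (x * g a j * x⁻¹) :=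
      fun h h' => h ((commute_conj x).1 h')
    have y0 : Commute (x * g a 4 * x⁻¹) (g 0 0) := by
      have := k2 (hga.non 4 9 (by decide)); rw [e9, he a 0 0 (by decide)] at this; exact this
    have y1 : Commute (x * g a 4 * x⁻¹) (g 0 1) := by
      have := k2 (hga.non 4 8 (by decide)); rw [e8, he a 0 1 (by decide)] at this; exact this
    have y2 : Commute (x * g a 4 * x⁻¹) (g 0 2) := by
      have := k2 (hga.non 4 7 (by decide)); rw [e7, he a 0 2 (by decide)] at this; exact this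
    have y3 : ¬ Commute (x * g a 4 * x⁻¹) (g 0 3) := by
      have := k3 (hga.nadj 4 3 (by decide)); rw [e3, he a 0 3 (by decide)] at this; exact this
    have y5 : ¬ Commute (x * g a 4 * x⁻¹) (g 0 5) := by
      have := k3 (hga.nadj 4 5 (by decide)); rw [hx5', he a 0 5 (by decide)] at this; exact this
    have y6 : Commute (x * g a 4 * x⁻¹) (g 0 6) := by
      have := k2 (hga.non 4 6 (by decide)); rw [hx6', he a 0 6 (by decide)] at this; exact this
    have y8 : Commute (x * g a 4 * x⁻¹) (g 0 8) := by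
      have := k2 (hga.non 4 1 (by decide)); rw [e1, he a 0 8 (by decide)] at this; exact this
    have y9 : Commute (x * g a 4 * x⁻¹) (g 0 9) := by
      have := k2 (hga.non 4 0 (by decide)); rw [e0, he a 0 9 (by decide)] at this; exact this
    have z : ∀ b i, Cox10.adj 4 i = false → i ≠ 4 → Commute (g b 4) (g 0 i) := by
      intro b i h hi
      rw [he 0 b i hi]; exact (hg b).non 4 i h
    have z' : ∀ b i, Cox10.adj 4 i = true → i ≠ 4 → ¬ Commute (g b 4) (g 0 i) := by
      intro b i h hi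
      rw [he 0 b i hi]; exact (hg b).nadj 4 i h
    have four' : ∀ P : E → Prop, P (g 0 4) → P (g 1 4) → P (g 2 4) → P (x * g a 4 * x⁻¹) →
        ∀ k : Fin 4, P ((![g 0 4, g 1 4, g 2 4, x * g a 4 * x⁻¹] : Fin 4 → E) k) := by
      intro P p0 p1 p2 p3 k
      fin_cases k
      · exact p0
      · exact p1
      · exact p2
      · exact p3
    obtain ⟨k, l, hkl, hkl'⟩ := four H (hg 0) (y := ![g 0 4, g 1 4, g 2 4, x * g a 4 * x⁻¹])
      (four' (· ∈ R) ((hg 0).mem 4) ((hg 1).mem 4) ((hg 2).mem 4) (H.conj _ _ (hga.mem 4)))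
      (four' (Commute · (g 0 0)) (z _ _ (by decide) (by decide)) (z _ _ (by decide) (by decide))
        (z _ _ (by decide) (by decide)) y0)
      (four' (Commute · (g 0 1)) (z _ _ (by decide) (by decide)) (z _ _ (by decide) (by decide))
        (z _ _ (by decide) (by decide)) y1)
      (four' (Commute · (g 0 2)) (z _ _ (by decide) (by decide)) (z _ _ (by decide) (by decide))
        (z _ _ (by decide) (by decide)) y2)
      (four' (¬ Commute · (g 0 3)) (z' _ _ (by decide) (by decide)) (z' _ _ (by decide) (by decide))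
        (z' _ _ (by decide) (by decide)) y3)
      (four' (¬ Commute · (g 0 5)) (z' _ _ (by decide) (by decide)) (z' _ _ (by decide) (by decide))
        (z' _ _ (by decide) (by decide)) y5)
      (four' (Commute · (g 0 6)) (z _ _ (by decide) (by decide)) (z _ _ (by decide) (by decide))
        (z _ _ (by decide) (by decide)) y6)
      (four' (Commute · (g 0 8)) (z _ _ (by decide) (by decide)) (z _ _ (by decide) (by decide))
        (z _ _ (by decide) (by decide)) y8)
      (four' (Commute · (g 0 9)) (z _ _ (by decide) (by decide)) (z _ _ (by decide) (by decide))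
        (z _ _ (by decide) (by decide)) y9)
    fin_cases k <;> fin_cases l <;> first
      | exact absurd rfl hkl
      | exact absurd hkl' h01
      | exact absurd hkl' h02
      | exact absurd hkl' h12
      | exact absurd hkl'.symm h01
      | exact absurd hkl'.symm h02
      | exact absurd hkl'.symm h12
      | exact Or.inl hkl'
      | exact Or.inl hkl'.symm
      | exact Or.inr (Or.inl hkl')
      | exact Or.inr (Or.inl hkl'.symm)
      | exact Or.inr (Or.inr hkl')
      | exact Or.inr (Or.inr hkl'.symm)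
  rcases key 0 with h | h | h
  · exact done 0 h
  · have h1 := conj_inv_eq hxx h
    rcases key 2 with h2 | h2 | h2
    · exact absurd (h1.trans h2.symm) (ne_conj h12)
    · exact absurd (h.trans h2.symm) (ne_conj h02)
    · exact done 2 h2
  · have h1 := conj_inv_eq hxx h
    rcases key 1 with h2 | h2 | h2
    · exact absurd (h1.trans h2.symm) (ne_conj h12.symm)
    · exact done 1 h2
    · exact absurd (h.trans h2.symm) (ne_conj h01)

theorem Cfg.cj {f : Fin 10 → E} (hf : Cfg R f) (x : E) : Cfg R (cj x f) where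
  mem i := H.conj x _ (hf.mem i)
  nadj i j h h' := hf.nadj i j h ((commute_conj x).1 h')
  three i j h := by
    have e : OutCount.cj x f i * OutCount.cj x f j = x * (f i * f j) * x⁻¹ := by simp only [OutCount.cj]; group
    rw [e, conj_pow, hf.three i j h, mul_one, mul_inv_cancel]
  non i j h := (commute_conj x).2 (hf.non i j h)

omit [Field F] [Fintype F] H in
/-- Conjugacy of configurations. -/
def Cj (f f' : Fin 10 → E) : Prop := ∃ x : E, cj x f = f'

omit [Field F] [Fintype F] H in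
theorem Cj.trans {f g h : Fin 10 → E} (h1 : Cj f g) (h2 : Cj g h) : Cj f h := by
  obtain ⟨x, rfl⟩ := h1
  obtain ⟨y, rfl⟩ := h2
  exact ⟨y * x, (cj_cj _ _ _).symm⟩

omit [Field F] [Fintype F] H in
theorem Cj.symm {f g : Fin 10 → E} (h1 : Cj f g) : Cj g f := by
  obtain ⟨x, rfl⟩ := h1
  refine ⟨x⁻¹, ?_⟩
  rw [cj_cj, inv_mul_cancel]
  funext i
  simp [OutCount.cj]

/-- **Among seven configurations which are not reversed by an inner automorphism two are conjugate.** -/
theorem seven {f : Fin 7 → Fin 10 → E} (hf : ∀ k, Cfg R (f k))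
    (hfree : ∀ k g, Cj (f k) g → ∀ x : E, ¬ ∀ i, x * g i * x⁻¹ = g (pAC i)) :
    ∃ k l, k ≠ l ∧ Cj (f k) (f l) := by
  classical
  have hopp : ∀ k, Opp R (f k 5) (f k 6) := fun k => (hf k).opp (by decide)
  choose x hx5 hx6 using fun k => H.opp _ _ _ _ (hopp k) (hopp 0)
  obtain ⟨ψ, hψ⟩ := H.chart _ _ (hopp 0)
  obtain ⟨f', hf'⟩ : ∃ f' : Fin 7 → Fin 10 → E, ∀ k, f' k = cj (x k) (f k) := ⟨_, fun _ => rfl⟩
  have hc' : ∀ k, Cfg R (f' k) := fun k => by rw [hf']; exact (hf k).cj H (x k)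
  have h5 : ∀ k, f' k 5 = f 0 5 := fun k => by rw [hf']; exact hx5 k
  have h6 : ∀ k, f' k 6 = f 0 6 := fun k => by rw [hf']; exact hx6 k
  have hm : ∀ k i, f' k (ch i) ∈ Subgroup.centralizer ({f 0 5, f 0 6} : Set E) := fun k i =>
    mem_cent.2 ⟨by rw [← h5 k]; exact (hc' k).non _ _ (ch5 i), by rw [← h6 k]; exact (hc' k).non _ _ (ch6 i)⟩
  have hcom : ∀ k i j, Commute (ψ ⟨f' k (ch i), hm k i⟩) (ψ ⟨f' k (ch j), hm k j⟩) ↔
      Commute (f' k (ch i)) (f' k (ch j)) := by
    intro k i j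
    constructor
    · intro h
      have h' : ψ (⟨f' k (ch i), hm k i⟩ * ⟨f' k (ch j), hm k j⟩) =
          ψ (⟨f' k (ch j), hm k j⟩ * ⟨f' k (ch i), hm k i⟩) := by
        rw [map_mul, map_mul]; exact h
      exact congrArg Subtype.val (ψ.injective h')
    · intro h
      show ψ ⟨f' k (ch i), hm k i⟩ * ψ ⟨f' k (ch j), hm k j⟩ = ψ ⟨f' k (ch j), hm k j⟩ * ψ ⟨f' k (ch i), hm k i⟩
      rw [← map_mul, ← map_mul]
      congr 1
      exact Subtype.ext h
  choose v hv hvt using fun k => exists_path hF (c := fun i => ψ ⟨f' k (ch i), hm k i⟩)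
    (fun i => hψ _ ((hc' k).mem _))
    (fun i j h => by rw [hcom]; exact (hc' k).nadj _ _ (by rw [adj_ch, h]))
    (fun i j h => by rw [hcom]; exact (hc' k).non _ _ (by rw [adj_ch, h]))
  choose A hA hAv using fun k => exists_path_map hF (hv 0) (hv k)
  have hdet : ∀ k, (A k).det ≠ 0 := fun k => det_ne_zero hF (hA k)
  -- three configurations with the same determinant
  have hcard : Fintype.card Fˣ * 2 < Fintype.card (Fin 7) := by
    rw [Fintype.card_units, hF, Fintype.card_fin]; norm_num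
  obtain ⟨d, hd⟩ := Fintype.exists_lt_card_fiber_of_mul_lt_card (fun k => Units.mk0 _ (hdet k)) hcard
  obtain ⟨a, ha, b, hb, c, hc, hab, hac, hbc⟩ := Finset.two_lt_card.1 hd
  simp only [Finset.mem_filter, Finset.mem_univ, true_and] at ha hb hc
  have hdab : (A b).det = (A a).det := by
    have := congrArg Units.val (hb.trans ha.symm); simpa using this
  have hdac : (A c).det = (A a).det := by
    have := congrArg Units.val (hc.trans ha.symm); simpa using this
  -- the same chain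
  have hsame : ∀ k, (A k).det = (A a).det → ∃ y : E, (∀ i, y * f' k (ch i) * y⁻¹ = f' a (ch i)) ∧
      Commute y (f 0 5) ∧ Commute y (f 0 6) := by
    intro k hk
    obtain ⟨g, hg⟩ := conj_of_det hF (hv k) (hvt k) (hvt a) (hA k) (hA a) (hAv k) (hAv a) hk
    obtain ⟨y, rfl⟩ := ψ.surjective g
    have hy := mem_cent.1 y.2
    refine ⟨y, fun i => ?_, hy.1, hy.2⟩
    have h2 : ψ (y * ⟨f' k (ch i), hm k i⟩ * y⁻¹) = ψ ⟨f' a (ch i), hm a i⟩ := by
      rw [map_mul, map_mul, map_inv]; exact hg i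
    exact congrArg Subtype.val (ψ.injective h2)
  obtain ⟨yb, hyb, hyb5, hyb6⟩ := hsame b hdab
  obtain ⟨yc, hyc, hyc5, hyc6⟩ := hsame c hdac
  have fix : ∀ {y c : E}, Commute y c → y * c * y⁻¹ = c := fun {y c} h => by
    rw [h.eq, mul_assoc, mul_inv_cancel, mul_one]
  have hall : ∀ (k : Fin 7) (y : E), (∀ i, y * f' k (ch i) * y⁻¹ = f' a (ch i)) → Commute y (f 0 5) →
      Commute y (f 0 6) → ∀ i, i ≠ 4 → cj y (f' k) i = f' a i := by
    intro k y h1 h2 h3 i hi
    have e5 : cj y (f' k) 5 = f' a 5 := by show y * f' k 5 * y⁻¹ = _; rw [h5, h5, fix h2]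
    have e6 : cj y (f' k) 6 = f' a 6 := by show y * f' k 6 * y⁻¹ = _; rw [h6, h6, fix h3]
    have e0 := h1 0
    have e1 := h1 1
    have e2 := h1 2
    have e3 := h1 3
    have e7 := h1 4
    have e8 := h1 5
    have e9 := h1 6
    fin_cases i
    · exact e0
    · exact e1
    · exact e2
    · exact e3
    · exact absurd rfl hi
    · exact e5
    · exact e6
    · exact e7
    · exact e8
    · exact e9
  have hall_b := hall b yb hyb hyb5 hyb6
  have hall_c := hall c yc hyc hyc5 hyc6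
  have cja : Cj (f a) (f' a) := ⟨x a, (hf' a).symm⟩
  have cjb : Cj (f b) (cj yb (f' b)) := Cj.trans ⟨x b, (hf' b).symm⟩ ⟨yb, rfl⟩
  have cjc : Cj (f c) (cj yc (f' c)) := Cj.trans ⟨x c, (hf' c).symm⟩ ⟨yc, rfl⟩
  have ext4 : ∀ {g h : Fin 10 → E}, (∀ i, i ≠ 4 → g i = h i) → g 4 = h 4 → g = h := by
    intro g h h1 h2
    funext i
    by_cases hi : i = 4
    · rw [hi, h2]
    · exact h1 i hi
  by_cases n01 : f' a 4 = cj yb (f' b) 4
  · refine ⟨a, b, hab, cja.trans ?_⟩
    rw [ext4 (fun i hi => (hall_b i hi).symm) n01]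
    exact cjb.symm
  by_cases n02 : f' a 4 = cj yc (f' c) 4
  · refine ⟨a, c, hac, cja.trans ?_⟩
    rw [ext4 (fun i hi => (hall_c i hi).symm) n02]
    exact cjc.symm
  by_cases n12 : cj yb (f' b) 4 = cj yc (f' c) 4
  · refine ⟨b, c, hbc, cjb.trans ?_⟩
    rw [ext4 (fun i hi => (hall_b i hi).trans (hall_c i hi).symm) n12]
    exact cjc.symm
  exfalso
  obtain ⟨k, y, hy⟩ := exists_reversed H (g := ![f' a, cj yb (f' b), cj yc (f' c)])
    (by
      intro k
      fin_cases k
      · exact hc' a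
      · exact (hc' b).cj H yb
      · exact (hc' c).cj H yc)
    (by
      intro k l i hi
      have e1 : ∀ k : Fin 3, (![f' a, cj yb (f' b), cj yc (f' c)] : Fin 3 → Fin 10 → E) k i = f' a i := by
        intro k
        fin_cases k
        · rfl
        · exact hall_b i hi
        · exact hall_c i hi
      rw [e1, e1])
    n01 n02 n12
  fin_cases k
  · exact hfree a _ cja y hy
  · exact hfree b _ cjb y hy
  · exact hfree c _ cjc y hy

end

end Cfsg.Agent.BabyU.OutCount
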