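import Cfsg.Agent.BabyU.Chain
import Cfsg.Agent.BabyU.PerfTwoA
import Cfsg.Agent.TwoESix.LeviHyp

/-!
# The hexad: six commuting roots whose canonical lifts have product `z`

The frames `FA`, `FB` of `Chain.lean` have four roots in common.  The other six roots commute with the opposite pair of
the nodes `2`, `3`, and the relations `W321 ^ 9 = z`, `W231 ^ 9 = 1` say that the product of their canonical lifts
is `z`.  Hence the preimage of the centraliser of an opposite pair is perfect.
-/

set_option autoImplicit false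

namespace Cfsg.Agent.BabyU.Hexad

open Cfsg Cfsg.Agent.TwoESix.Cox10 Cfsg.Agent.TwoESix.Lift Cfsg.Agent.BabyU.Lab Cfsg.Agent.BabyU.Chain
open Cfsg.Agent.R01.PSUSix
open scoped commutatorElement

/-- the six words: the first three are roots of `FA`, the last three are roots of `FB` -/
def P1 : List (Fin 10) × Fin 10 := ([5, 4, 3, 7, 2, 3, 4, 1, 2, 3, 7, 5, 4, 3, 2, 1], 0)
/-- second root -/
def P2 : List (Fin 10) × Fin 10 := ([], 0)
/-- third root -/
def P3 : List (Fin 10) × Fin 10 := ([1, 2, 3, 7, 4, 3, 2, 1], 0)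
/-- fourth root -/
def P4 : List (Fin 10) × Fin 10 := ([1, 2, 3, 7, 4, 5, 3, 4, 2, 3, 7, 6, 5, 4, 3, 2], 1)
/-- fifth root -/
def P5 : List (Fin 10) × Fin 10 := ([], 6)
/-- sixth root -/
def P6 : List (Fin 10) × Fin 10 := ([5, 4, 3, 7, 6, 5, 4, 3], 2)
/-- the hexad -/
def PP : List (List (Fin 10) × Fin 10) := [P1, P2, P3, P4, P5, P6]

/-- the product of the four common roots of the frames -/
def c4 : List (Fin 10) := [7, 4, 2] ++ pal ([3, 7, 4, 3], 2)

theorem chkA : chk (c4 ++ (pal P1 ++ pal P2 ++ pal P3)) (rep 9 W321) = true := by decide +kernel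
theorem chkB : chk (c4 ++ (pal P4 ++ pal P5 ++ pal P6)) (rep 9 W231) = true := by decide +kernel

/-- all six roots commute with the nodes `2` and `3` -/
theorem chk23 : (PP.all fun p => chk (pal p ++ [2]) ([2] ++ pal p) && chk (pal p ++ [3]) ([3] ++ pal p)) = true := by
  decide +kernel


section

variable {M E : Type*} [Group M] [Group E] {π : M →* E} {z : M} {T : Set E} {m : Fin 10 → M}

theorem root_pal (R : Roots E T) (hs : M10.IsLiftable m) (hT : ∀ i, π (m i) ∈ T) (p : List (Fin 10) × Fin 10) :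
    π (ev m (pal p)) ∈ T := by
  rw [ev_pal hs, map_mul, map_mul, map_inv]
  exact R.conj _ (hT _) _

/-- The dichotomy for the conjugates of the nodes. -/
theorem dich_pal (C : Cover π z) (R : Roots E T) (hs : M10.IsLiftable m) (hT : ∀ i, π (m i) ∈ T) :
    (∀ p, w π T (π (ev m (pal p))) = ev m (pal p)) ∨ (∀ p, Lab.lab π z T (π (ev m (pal p))) = ev m (pal p)) := by
  rcases dich C R hs hT with hw | hw
  · refine Or.inl fun p => ?_
    have h3 := w_conj C R (ev m p.1) (hT p.2)
    rw [← hw p.2] at h3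
    rw [ev_pal hs, map_mul, map_mul, map_inv, ← h3]
  · refine Or.inr fun p => ?_
    have h3 := lab_conj C R (ev m p.1) (hT p.2)
    rw [← hw p.2] at h3
    rw [ev_pal hs, map_mul, map_mul, map_inv, ← h3]

/-- The relation between the six palindromes, general form. -/
theorem six' (hs : M10.IsLiftable m) : ev m (pal P1) * ev m (pal P2) * ev m (pal P3) =
    ev m (pal P4) * ev m (pal P5) * ev m (pal P6) * ((ev m W231 ^ 9)⁻¹ * ev m W321 ^ 9) := by
  have h1 := ev_eq_ev hs chkA
  have h2 := ev_eq_ev hs chkB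
  rw [ev_rep, ev_append, ev_append, ev_append] at h1
  rw [ev_rep, ev_append, ev_append, ev_append] at h2
  rw [← h1, ← h2]
  group

/-- The relation between the six palindromes. -/
theorem six (hz : ZRels m z) : ev m (pal P1) * ev m (pal P2) * ev m (pal P3) =
    ev m (pal P4) * ev m (pal P5) * ev m (pal P6) * z := by
  have h := six' hz.lift
  rwa [hz.e321, hz.e231, inv_one, one_mul] at h

theorem sq_pal (hs : M10.IsLiftable m) (p : List (Fin 10) × Fin 10) : ev m (pal p) * ev m (pal p) = 1 := by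
  have h := Cfsg.Agent.TwoESix.Cox10.sq hs p.2
  rw [ev_pal hs]
  calc ev m p.1 * m p.2 * (ev m p.1)⁻¹ * (ev m p.1 * m p.2 * (ev m p.1)⁻¹)
      = ev m p.1 * (m p.2 * m p.2) * (ev m p.1)⁻¹ := by group
    _ = 1 := by rw [h]; group

/-- All pairs of the hexad commute. -/
theorem comm_all (hs : M10.IsLiftable m)
    (hx : ∀ y : M, y * ((ev m W231 ^ 9)⁻¹ * ev m W321 ^ 9) = (ev m W231 ^ 9)⁻¹ * ev m W321 ^ 9 * y) :
    ∀ p ∈ PP, ∀ q ∈ PP, Commute (ev m (pal p)) (ev m (pal q)) := by
  have hc : ∀ p q, chk (pal p ++ pal q) (pal q ++ pal p) = true → Commute (ev m (pal p)) (ev m (pal q)) := by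
    intro p q hpq
    have := ev_eq_ev hs hpq
    rwa [ev_append, ev_append] at this
  have h := six' hs
  have c12 := hc P1 P2 (by decide +kernel)
  have c13 := hc P1 P3 (by decide +kernel)
  have c23 := hc P2 P3 (by decide +kernel)
  have c45 := hc P4 P5 (by decide +kernel)
  have c46 := hc P4 P6 (by decide +kernel)
  have c56 := hc P5 P6 (by decide +kernel)
  have c14 := hc P1 P4 (by decide +kernel)
  have c16 := hc P1 P6 (by decide +kernel)
  have c25 := hc P2 P5 (by decide +kernel)
  have c26 := hc P2 P6 (by decide +kernel)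
  have c34 := hc P3 P4 (by decide +kernel)
  have c35 := hc P3 P5 (by decide +kernel)
  set x := (ev m W231 ^ 9)⁻¹ * ev m W321 ^ 9 with hxd
  have cx : ∀ y : M, Commute y x := hx
  have key5 : Commute (ev m (pal P5)) (ev m (pal P1) * ev m (pal P2) * ev m (pal P3)) := by
    rw [h]
    exact ((c45.symm.mul_right (Commute.refl _)).mul_right c56).mul_right (cx _)
  have key4 : Commute (ev m (pal P4)) (ev m (pal P1) * ev m (pal P2) * ev m (pal P3)) := by
    rw [h]
    exact (((Commute.refl _).mul_right c45).mul_right c46).mul_right (cx _)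
  have key6 : Commute (ev m (pal P6)) (ev m (pal P1) * ev m (pal P2) * ev m (pal P3)) := by
    rw [h]
    exact ((c46.symm.mul_right c56.symm).mul_right (Commute.refl _)).mul_right (cx _)
  have c51 : Commute (ev m (pal P5)) (ev m (pal P1)) := by
    have := (key5.mul_right c35.symm.inv_right).mul_right c25.symm.inv_right
    have e : ev m (pal P1) * ev m (pal P2) * ev m (pal P3) * (ev m (pal P3))⁻¹ * (ev m (pal P2))⁻¹ = ev m (pal P1) := by
      group
    rwa [e] at this
  have c63 : Commute (ev m (pal P6)) (ev m (pal P3)) := by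
    have := (c26.symm.inv_right.mul_right (c16.symm.inv_right.mul_right key6))
    have e : (ev m (pal P2))⁻¹ * ((ev m (pal P1))⁻¹ * (ev m (pal P1) * ev m (pal P2) * ev m (pal P3))) =
        ev m (pal P3) := by group
    rwa [e] at this
  have c42 : Commute (ev m (pal P4)) (ev m (pal P2)) := by
    have := (c14.symm.inv_right.mul_right (key4.mul_right c34.symm.inv_right))
    have e : (ev m (pal P1))⁻¹ * (ev m (pal P1) * ev m (pal P2) * ev m (pal P3) * (ev m (pal P3))⁻¹) =
        ev m (pal P2) := by group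
    rwa [e] at this
  intro p hp q hq
  simp only [PP, List.mem_cons, List.not_mem_nil, or_false] at hp hq
  rcases hp with rfl | rfl | rfl | rfl | rfl | rfl <;> rcases hq with rfl | rfl | rfl | rfl | rfl | rfl <;>
    first
    | exact Commute.refl _
    | assumption
    | (apply Commute.symm; assumption)

/-- **The hexad**, general form. -/
theorem hexad' (C : Cover π z) (R : Roots E T) (hs : M10.IsLiftable m) (hT : ∀ i, π (m i) ∈ T) :
    w π T (π (ev m (pal P1))) * w π T (π (ev m (pal P2))) * w π T (π (ev m (pal P3))) =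
      w π T (π (ev m (pal P4))) * w π T (π (ev m (pal P5))) * w π T (π (ev m (pal P6))) *
        ((ev m W231 ^ 9)⁻¹ * ev m W321 ^ 9) := by
  have h := six' hs
  rcases dich_pal C R hs hT with hw | hw
  · rw [hw, hw, hw, hw, hw, hw, h]
  · have key : ∀ a b c : E, Lab.lab π z T a * Lab.lab π z T b * Lab.lab π z T c =
        z * (w π T a * w π T b * w π T c) := by
      intro a b c
      rw [lab_mul_lab C, Lab.lab, ← mul_assoc, C.central, mul_assoc]
    rw [← hw P1, ← hw P2, ← hw P3, ← hw P4, ← hw P5, ← hw P6, key, key, mul_assoc z] at h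
    exact mul_left_cancel h

/-- **The hexad**: the relation between the canonical lifts. -/
theorem hexad (C : Cover π z) (R : Roots E T) (hz : ZRels m z) (hT : ∀ i, π (m i) ∈ T) :
    w π T (π (ev m (pal P1))) * w π T (π (ev m (pal P2))) * w π T (π (ev m (pal P3))) =
      z * (w π T (π (ev m (pal P4))) * w π T (π (ev m (pal P5))) * w π T (π (ev m (pal P6)))) := by
  have h := hexad' C R hz.lift hT
  rwa [hz.e321, hz.e231, inv_one, one_mul, C.central] at h

/-- The product of the canonical lifts of the hexad, general form. -/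
theorem hexad_prod' (C : Cover π z) (R : Roots E T) (hs : M10.IsLiftable m) (hT : ∀ i, π (m i) ∈ T)
    (hx : ∀ y : M, y * ((ev m W231 ^ 9)⁻¹ * ev m W321 ^ 9) = (ev m W231 ^ 9)⁻¹ * ev m W321 ^ 9 * y) :
    ((PP.map fun p => π (ev m (pal p))).map (w π T)).prod = (ev m W231 ^ 9)⁻¹ * ev m W321 ^ 9 := by
  have h := hexad' C R hs hT
  have hr := root_pal R hs hT
  have hcm := comm_all hs hx
  set x := (ev m W231 ^ 9)⁻¹ * ev m W321 ^ 9 with hxd
  have hc : ∀ p ∈ PP, ∀ q ∈ PP,
      w π T (π (ev m (pal p))) * w π T (π (ev m (pal q))) = w π T (π (ev m (pal q))) * w π T (π (ev m (pal p))) := by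
    intro p hp q hq
    apply w_comm C R (hr p) (hr q)
    rw [← map_mul, (hcm p hp q hq).eq, map_mul]
  have c45 := hc P4 (by simp [PP]) P5 (by simp [PP])
  have c46 := hc P4 (by simp [PP]) P6 (by simp [PP])
  have c56 := hc P5 (by simp [PP]) P6 (by simp [PP])
  have q4 := w_sq C R (hr P4)
  have q5 := w_sq C R (hr P5)
  have q6 := w_sq C R (hr P6)
  show w π T (π (ev m (pal P1))) * (w π T (π (ev m (pal P2))) * (w π T (π (ev m (pal P3))) *
    (w π T (π (ev m (pal P4))) * (w π T (π (ev m (pal P5))) * (w π T (π (ev m (pal P6))) * 1))))) = x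
  generalize w π T (π (ev m (pal P1))) = a1 at *
  generalize w π T (π (ev m (pal P2))) = a2 at *
  generalize w π T (π (ev m (pal P3))) = a3 at *
  generalize w π T (π (ev m (pal P4))) = a4 at *
  generalize w π T (π (ev m (pal P5))) = a5 at *
  generalize w π T (π (ev m (pal P6))) = a6 at *
  calc a1 * (a2 * (a3 * (a4 * (a5 * (a6 * 1))))) = (a1 * a2 * a3) * (a4 * (a5 * a6)) := by group
    _ = x * (a4 * a5 * a6 * (a4 * (a5 * a6))) := by rw [h, hx]; group
    _ = x * (a4 * a5 * (a6 * a4) * (a5 * a6)) := by group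
    _ = x * (a4 * (a5 * a4) * a6 * (a5 * a6)) := by rw [← c46]; group
    _ = x * ((a4 * a4) * a5 * (a6 * a5) * a6) := by rw [← c45]; group
    _ = x * (a4 * a4 * (a5 * a5) * (a6 * a6)) := by rw [← c56]; group
    _ = x := by rw [q4, q5, q6]; group

/-- The product of the canonical lifts of the hexad. -/
theorem hexad_prod (C : Cover π z) (R : Roots E T) (hz : ZRels m z) (hT : ∀ i, π (m i) ∈ T) :
    ((PP.map fun p => π (ev m (pal p))).map (w π T)).prod = z := by
  have h := hexad_prod' C R hz.lift hT (by rw [hz.e321, hz.e231, inv_one, one_mul]; exact C.central)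
  rwa [hz.e321, hz.e231, inv_one, one_mul] at h

/-! ### Perfect preimages -/

/-- A perfect subgroup with one class of roots and an even relation of value `z` has a perfect preimage. -/
theorem perf_of (C : Cover π z) (R : Roots E T) {L : Subgroup E} (hperf : ⁅L, L⁆ = L)
    (h1 : ∀ a ∈ T, a ∈ L → ∀ b ∈ T, b ∈ L → ∃ g ∈ L, g * a * g⁻¹ = b) {l : List E}
    (hl : ∀ a ∈ l, a ∈ T ∧ a ∈ L) (heven : Even l.length) (hprod : (l.map (w π T)).prod = z) :
    ⁅L.comap π, L.comap π⁆ = L.comap π := by
  set P := L.comap π with hP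
  set D := ⁅P, P⁆ with hD
  have hDP : D ≤ P := Subgroup.commutator_le_self P
  have hmap : D.map π = L := by
    rw [hD, Subgroup.map_commutator, hP, Subgroup.map_comap_eq_self_of_surjective C.surj, hperf]
  have hnorm : ∀ p ∈ P, ∀ d ∈ D, p * d * p⁻¹ ∈ D := by
    intro p hp d hd
    have : p * d * p⁻¹ = ⁅p, d⁆ * d := by rw [commutatorElement_def]; group
    rw [this]
    exact D.mul_mem (Subgroup.commutator_mem_commutator hp (hDP hd)) hd
  have hlift : ∀ x ∈ P, x ∈ D ∨ z * x ∈ D := by
    intro x hx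
    have h2 : π x ∈ D.map π := by rw [hmap]; exact hx
    obtain ⟨d, hd, e⟩ := Subgroup.mem_map.1 h2
    rcases C.eq_or e with rfl | rfl
    · exact Or.inl hd
    · exact Or.inr hd
  have hzD : z ∈ D := by
    have hne : l ≠ [] := by
      rintro rfl
      exact C.ne (by rw [← hprod]; rfl)
    obtain ⟨a₀, ha₀⟩ := List.exists_mem_of_ne_nil l hne
    obtain ⟨ha, haL⟩ := hl a₀ ha₀
    have hwP : ∀ a ∈ T, a ∈ L → w π T a ∈ P := fun a ha haL => by
      rw [hP, Subgroup.mem_comap, map_w C R ha]; exact haL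
    rcases hlift _ (hwP _ ha haL) with h2 | h2
    · rw [← hprod]
      apply Subgroup.list_prod_mem
      intro x hx
      obtain ⟨a, hal, rfl⟩ := List.mem_map.1 hx
      obtain ⟨g, hg, e⟩ := h1 _ ha haL _ (hl a hal).1 (hl a hal).2
      obtain ⟨p, rfl⟩ := C.surj g
      rw [← e, ← w_conj C R p ha]
      exact hnorm p hg _ h2
    · have h3 : (l.map (Lab.lab π z T)).prod ∈ D := by
        apply Subgroup.list_prod_mem
        intro x hx
        obtain ⟨a, hal, rfl⟩ := List.mem_map.1 hx
        obtain ⟨g, hg, e⟩ := h1 _ ha haL _ (hl a hal).1 (hl a hal).2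
        obtain ⟨p, rfl⟩ := C.surj g
        rw [← e, ← lab_conj C R p ha]
        exact hnorm p hg _ h2
      obtain ⟨k, hk⟩ := heven
      rwa [prod_lab C, hprod, hk, ← two_mul, pow_mul, pow_two z, C.t_mul_t, one_pow, one_mul] at h3
  refine le_antisymm hDP fun x hx => ?_
  rcases hlift x hx with h | h
  · exact h
  · have := D.mul_mem hzD h
    rwa [← mul_assoc, C.t_mul_t, one_mul] at this

variable {F : Type*} [Field F] [Fintype F] {hF : Fintype.card F = 2 ^ 2}

/-- The centraliser of an opposite pair is perfect. -/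
theorem perf_cent (RF : RootCfg.RootFacts hF T) {r s : E} (hr : r ∈ T) (hs : s ∈ T) (h : RootCfg.Opp r s) :
    ⁅Subgroup.centralizer ({r, s} : Set E), Subgroup.centralizer ({r, s} : Set E)⁆ =
      Subgroup.centralizer ({r, s} : Set E) := by
  obtain ⟨ψ, -⟩ := TwoESix.LeviHyp.chart_equiv RF hr hs h
  have h1 : commutator (PSU 6 F 2) = ⊤ := Cfsg.Agent.BabyU.PerfTwo.commutator_PSU hF
  have h2 : commutator ↥(Subgroup.centralizer ({r, s} : Set E)) = ⊤ := by
    rw [eq_top_iff]
    intro x _
    have h3 : ψ x ∈ commutator (PSU 6 F 2) := by rw [h1]; trivial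
    have h4 : (commutator (PSU 6 F 2)).map ψ.symm.toMonoidHom ≤ commutator _ := by
      rw [commutator_def, commutator_def, Subgroup.map_commutator]
      exact Subgroup.commutator_mono le_top le_top
    have h5 := h4 (Subgroup.mem_map_of_mem _ h3)
    have h6 : ψ.symm.toMonoidHom (ψ x) = x := ψ.symm_apply_apply x
    rwa [h6] at h5
  have h7 := congrArg (Subgroup.map (Subgroup.centralizer ({r, s} : Set E)).subtype) h2
  rw [commutator_def, Subgroup.map_commutator, ← MonoidHom.range_eq_map, Subgroup.range_subtype] at h7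
  exact h7

/-- The roots of the centraliser of an opposite pair are one class of it. -/
theorem one_cent (RF : RootCfg.RootFacts hF T) {r s : E} (hr : r ∈ T) (hs : s ∈ T) (h : RootCfg.Opp r s) :
    ∀ a ∈ T, a ∈ Subgroup.centralizer ({r, s} : Set E) → ∀ b ∈ T, b ∈ Subgroup.centralizer ({r, s} : Set E) →
      ∃ g ∈ Subgroup.centralizer ({r, s} : Set E), g * a * g⁻¹ = b := by
  obtain ⟨ψ, hψ⟩ := TwoESix.LeviHyp.chart_equiv RF hr hs h
  intro a ha haL b hb hbL
  obtain ⟨-, ⟨d, hd, hD⟩, -⟩ := isThreeTranspositionClass_TT (F := F) hF (n := 6) (by norm_num)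
  have h1 : ψ ⟨a, haL⟩ ∈ TT hF 6 := (hψ ⟨a, haL⟩).1 ha
  have h2 : ψ ⟨b, hbL⟩ ∈ TT hF 6 := (hψ ⟨b, hbL⟩).1 hb
  rw [hD] at h1 h2
  obtain ⟨u, hu⟩ := isConj_iff.1 ((show IsConj d (ψ ⟨a, haL⟩) from h1).symm.trans h2)
  refine ⟨(ψ.symm u : ↥(Subgroup.centralizer ({r, s} : Set E))), (ψ.symm u).2, ?_⟩
  have h3 : ψ.symm u * ⟨a, haL⟩ * (ψ.symm u)⁻¹ = ⟨b, hbL⟩ := by
    apply ψ.injective
    rw [map_mul, map_mul, map_inv, ψ.apply_symm_apply, hu]
  exact congrArg Subtype.val h3

/-- The images of the nodes `2`, `3` are opposite. -/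
theorem opp23 (C : Cover π z) (R : Roots E T) (hz : ZRels m z) (hT : ∀ i, π (m i) ∈ T) :
    RootCfg.Opp (π (m 2)) (π (m 3)) := by
  have hs' : M10.IsLiftable (fun i => π (m i)) := by
    intro i j
    show (π (m i) * π (m j)) ^ _ = 1
    rw [← map_mul, ← map_pow, hz.lift i j, map_one]
  have h9' : ev (fun i => π (m i)) W321 ^ 9 = 1 := by
    rw [← ev_map, ← map_pow, hz.e321, C.map_t]
  have h23 : Cfsg.Agent.TwoESix.Cox10.lab (2 : Fin 10) 3 = 3 := by decide
  refine ⟨adj_ne hs' (fun i => R.ne_one _ (hT i)) h9' h23, ?_⟩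
  have := hs' 2 3
  rwa [M10_apply, h23] at this

/-- **`perf2`**: the preimage of the centraliser of an opposite pair is perfect. -/
theorem perf2 (C : Cover π z) (R : Roots E T) (RF : RootCfg.RootFacts hF T)
    (htr : ∀ r ∈ T, ∀ s ∈ T, ∀ r' ∈ T, ∀ s' ∈ T, r ≠ s → (r * s) ^ 3 = 1 → r' ≠ s' → (r' * s') ^ 3 = 1 →
      ∃ g : E, g * r * g⁻¹ = r' ∧ g * s * g⁻¹ = s')
    (hz : ZRels m z) (hT : ∀ i, π (m i) ∈ T) : ∀ r ∈ T, ∀ s ∈ T, RootCfg.Opp r s →
    ⁅(Subgroup.centralizer ({r, s} : Set E)).comap π, (Subgroup.centralizer ({r, s} : Set E)).comap π⁆ =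
    (Subgroup.centralizer ({r, s} : Set E)).comap π := by
  intro r hr s hs h
  have ho := opp23 C R hz hT
  obtain ⟨g, g2, g3⟩ := htr _ (hT 2) _ (hT 3) _ hr _ hs ho.1 ho.2 h.1 h.2
  obtain ⟨n, rfl⟩ := C.surj g
  have hprod := hexad_prod C R hz hT
  have hroot := root_pal R hz.lift hT
  have hall := List.all_eq_true.1 chk23
  refine perf_of C R (perf_cent RF hr hs h) (one_cent RF hr hs h)
    (l := PP.map fun p => π n * π (ev m (pal p)) * (π n)⁻¹) ?_ ?_ ?_
  · intro a ha
    obtain ⟨p, hp, rfl⟩ := List.mem_map.1 ha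
    refine ⟨R.conj _ (hroot p) _, ?_⟩
    have hc := hall p hp
    rw [Bool.and_eq_true] at hc
    have c2 := ev_eq_ev hz.lift hc.1
    have c3 := ev_eq_ev hz.lift hc.2
    rw [ev_append, ev_append, ev_cons, ev_nil, mul_one] at c2 c3
    have d2 : Commute (π (ev m (pal p))) (π (m 2)) := by
      show _ * _ = _ * _
      rw [← map_mul, c2, map_mul]
    have d3 : Commute (π (ev m (pal p))) (π (m 3)) := by
      show _ * _ = _ * _
      rw [← map_mul, c3, map_mul]
    have e2 := d2.conj (π n)
    have e3 := d3.conj (π n)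
    rw [g2] at e2
    rw [g3] at e3
    rw [Subgroup.mem_centralizer_iff]
    intro y hy
    rcases hy with rfl | hy
    · exact e2.symm
    · rw [Set.mem_singleton_iff] at hy
      rw [hy]; exact e3.symm
  · rw [List.length_map]; decide
  · have key : ∀ Q : List (List (Fin 10) × Fin 10),
        ((Q.map fun p => π n * π (ev m (pal p)) * (π n)⁻¹).map (w π T)).prod =
          n * ((Q.map fun p => π (ev m (pal p))).map (w π T)).prod * n⁻¹ := by
      intro Q
      induction Q with
      | nil => simp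
      | cons p Q ih =>
        rw [List.map_cons, List.map_cons, List.prod_cons, ih, List.map_cons, List.map_cons, List.prod_cons,
          ← w_conj C R n (hroot p)]
        group
    rw [key, hprod, C.central]
    group

end

end Cfsg.Agent.BabyU.Hexad
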