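import Cfsg.Agent.BabyU.RootCfg
import Cfsg.Agent.R01.InvForm

/-!
# U-B: the involutions of `²E₆(2)`   (KEY)

Every involution of `E` is a root involution, or the product of a symplectic pair, or the product of a triangle of root
involutions (`key`); the triangles form one orbit (`tri_conj`).
-/

set_option autoImplicit false
set_option linter.unusedSectionVars false

namespace Cfsg.Agent.BabyU.Key

open Cfsg Cfsg.Agent.LieClassical.HermBasic Cfsg.Agent.R01.PSUSix Cfsg.Agent.BabyU.RootCfg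
open Cfsg.Agent.ClassicalGeometry.UnitTransv
open Cfsg.Agent.ClassicalGeometry.UnitAutBasic (tau pr pr_surjective)
open Cfsg.Agent.SporadicStructure.UnitTwo
open Cfsg.Agent.R01.InvForm

variable {E : Type*} [Group E] {F : Type*} [Field F] [Fintype F]

/-- symplectic pairs -/
def Sym (R : Set E) (a b : E) : Prop := a ∈ R ∧ b ∈ R ∧ a ≠ b ∧ a * b = b * a ∧ a * b ∉ R

/-- triangles -/
structure Tri (R : Set E) (p q r : E) : Prop where
  pR : p ∈ R
  qR : q ∈ R
  rR : r ∈ R
  pq : p * q = q * p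
  pr : p * r = r * p
  qr : q * r = r * q
  qne : q ≠ r
  ex : ∃ a ∈ R, Opp a p ∧ a * q = q * a ∧ a * r = r * a

/-- independent quadruples -/
structure Quad (R : Set E) (p q r s : E) : Prop where
  pR : p ∈ R
  qR : q ∈ R
  rR : r ∈ R
  sR : s ∈ R
  pq : p * q = q * p
  pr : p * r = r * p
  ps : p * s = s * p
  qr : q * r = r * q
  qs : q * s = s * q
  rs : r * s = s * r
  qne : q ≠ r
  ex : ∃ a ∈ R, Opp a p ∧ a * q = q * a ∧ a * r = r * a ∧ a * s = s * a ∧
    ∃ b ∈ R, b * a = a * b ∧ b * p = p * b ∧ b * q = q * b ∧ b * r = r * b ∧ b * s ≠ s * b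

/-- The facts on `E = ²E₆(2)` beyond `RootFacts`. -/
structure Extra (hF : Fintype.card F = 2 ^ 2) (R : Set E) : Prop where
  /-- opposite pairs form one orbit -/
  opp_trans : ∀ r ∈ R, ∀ s ∈ R, ∀ r' ∈ R, ∀ s' ∈ R, Opp r s → Opp r' s' →
    ∃ g : E, g * r * g⁻¹ = r' ∧ g * s * g⁻¹ = s'
  /-- special pairs -/
  spe : ∀ a ∈ R, ∀ b ∈ R, a * b ≠ b * a → (a * b) ^ 4 = 1 → (a * b) ^ 2 ∈ R
  /-- an involution commutes with a root involution -/
  odd : ∀ f : E, f * f = 1 → ∃ r ∈ R, f * r = r * f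
  /-- involutions of the kernel of a chart -/
  ker : ∀ r ∈ R, ∀ ψ : Subgroup.centralizer ({r} : Set E) →* PSU 6 F 2, ChartAt hF R r ψ →
    ∀ x : Subgroup.centralizer ({r} : Set E), x * x = 1 → ψ x = 1 → (x : E) ≠ 1 → (x : E) ≠ r →
      ∃ g : E, g * x * g⁻¹ = x * r
  /-- a product of four is a product of a triangle -/
  quad : ∃ p q r s p' q' r', Quad R p q r s ∧ Tri R p' q' r' ∧ p * q * r * s = p' * q' * r'

/-! ### Unitary preliminaries -/

section Unitary

variable (hF : Fintype.card F = 2 ^ 2)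
include hF

/-- An involution of `SU 6 F 2` moves some isotropic vector to a vector not orthogonal to it. -/
theorem exists_iso {g : SU 6 F 2} (hg : g * g = 1) (hne : g ≠ 1) :
    ∃ p : Fin 6 → F, p ≠ 0 ∧ hermForm 6 F 2 p p = 0 ∧ hermForm 6 F 2 p (act g p) ≠ 0 := by
  obtain ⟨x, hx⟩ := exists_x hF hg hne
  have h2 := two_eq_zero hF
  set v := act g x + x with hv
  have hvIm : v ∈ Im g := ⟨x, rfl⟩
  have hvv : hermForm 6 F 2 v v = 0 := Im_orth hF hg hvIm hvIm
  have hxv : hermForm 6 F 2 x v = 1 := by rw [herm_swap hF v x, hx, one_pow]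
  have hgv : act g v = v := by rw [hv, act_add, ← act_mul, hg, act_one, add_comm]
  obtain ⟨c, hc⟩ := exists_trace_eq hF (c := hermForm 6 F 2 x x) (herm_self_pow hF x)
  have hiso : hermForm 6 F 2 (x + c • v) (x + c • v) = 0 := by
    rw [herm_add_left, herm_add_right hF, herm_add_right hF, herm_smul_left, herm_smul_right, herm_smul_left,
      herm_smul_right, hvv, hx, hxv]
    linear_combination hc + (hermForm 6 F 2 x x) * h2
  have hN : hermForm 6 F 2 (x + c • v) (act g (x + c • v)) = 1 := by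
    have e : act g (x + c • v) = (x + c • v) + v := by
      have e1 : act g x = x + v := by rw [hv, add_comm (act g x) x, ← add_assoc, vadd_self hF, zero_add]
      rw [act_add, act_smul, hgv, e1]; abel
    rw [e, herm_add_right hF, hiso, zero_add, herm_add_left, herm_smul_left, hxv, hvv, mul_zero, add_zero]
  refine ⟨x + c • v, ?_, hiso, by rw [hN]; exact one_ne_zero⟩
  intro h0
  rw [h0, herm_zero_left] at hN
  exact zero_ne_one hN

/-- A nonzero isotropic vector is not orthogonal to some isotropic vector. -/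
theorem exists_nonorth {v : Fin 6 → F} (h0 : v ≠ 0) (hv : hermForm 6 F 2 v v = 0) :
    ∃ p : Fin 6 → F, p ≠ 0 ∧ hermForm 6 F 2 p p = 0 ∧ hermForm 6 F 2 p v ≠ 0 := by
  have hne : T hF v hv ≠ 1 := by
    intro h
    apply tau_ne_one hF (n := 6) (by norm_num) hv h0
    rw [tau_eq_pr hF hv, h, map_one]
  obtain ⟨p, hp0, hp, h⟩ := exists_iso hF (T_mul_self hF v hv) hne
  refine ⟨p, hp0, hp, fun h1 => h ?_⟩
  rw [act_T, h1, zero_smul, add_zero, hp]

end Unitary

/-! ### Charts -/

section Chart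

variable {hF : Fintype.card F = 2 ^ 2} {R : Set E}

theorem _root_.Cfsg.Agent.BabyU.RootCfg.RootFacts.inv_eq (hR : RootFacts hF R) {r : E} (hr : r ∈ R) : r⁻¹ = r :=
  inv_eq_of_mul_eq_one_left (hR.sq r hr)

theorem _root_.Cfsg.Agent.BabyU.RootCfg.RootFacts.exists_opp' (hR : RootFacts hF R) {r : E} (hr : r ∈ R) :
    ∃ s ∈ R, Opp r s := by
  obtain ⟨a, ha, b, hb, h⟩ := hR.opp
  obtain ⟨g, rfl⟩ := hR.one a ha r hr
  exact ⟨g * b * g⁻¹, hR.conj b hb g, h.conj g⟩

/-- Two root involutions in the centraliser of `r` whose images do not commute are opposite. -/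
theorem opp_of_not_comm (hR : RootFacts hF R) {r a b : E} {ψ : Subgroup.centralizer ({r} : Set E) →* PSU 6 F 2}
    {u v : Fin 6 → F} (ha : a ∈ R) (hb : b ∈ R) (hu : IsVec hF ψ a u) (hv : IsVec hF ψ b v)
    (h : hermForm 6 F 2 u v ≠ 0) : Opp a b := by
  obtain ⟨u0, uu, ma, ea⟩ := hu
  obtain ⟨v0, vv, mb, eb⟩ := hv
  have h3 := (isThreeTranspositionClass_TT (F := F) hF (n := 6) (by norm_num)).1.2 _ (tau_mem hF u0 uu) _
    (tau_mem hF v0 vv)
  have hnc : ¬ tau hF u * tau hF v = tau hF v * tau hF u := fun hc =>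
    h ((tau_commute_iff hF (by norm_num) uu vv u0).1 hc)
  have h4 : (tau hF u * tau hF v) ^ 3 = 1 := by
    rcases h3 with h4 | h4
    · exfalso
      apply hnc
      rw [pow_two] at h4
      have := eq_inv_of_mul_eq_one_left h4
      rwa [mul_inv_rev, tau_inv hF uu, tau_inv hF vv] at this
    · exact h4
  have hne : a ≠ b := by
    rintro rfl
    apply hnc
    rw [← ea, ← eb]
  refine ⟨hne, ?_⟩
  rcases hR.ord a ha b hb with h5 | h5
  · exfalso
    have h6 : (tau hF u * tau hF v) ^ 4 = 1 := by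
      rw [← ea, ← eb, ← map_mul, ← map_pow]
      have : ((⟨a, ma⟩ : Subgroup.centralizer ({r} : Set E)) * ⟨b, mb⟩) ^ 4 = 1 := Subtype.ext h5
      rw [this, map_one]
    rw [pow_succ, h4, one_mul] at h6
    apply hnc
    have h7 := eq_inv_of_mul_eq_one_left h6
    rw [h6, h7, tau_inv hF vv, ← pow_two, pow_two, tau_mul_self hF vv]
  · exact h5

/-- A root involution collinear with `r` is in the kernel of the chart. -/
theorem map_eq_one (hR : RootFacts hF R) {r : E} (hr : r ∈ R) {ψ : Subgroup.centralizer ({r} : Set E) →* PSU 6 F 2}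
    (C : ChartAt hF R r ψ) (x : Subgroup.centralizer ({r} : Set E)) (hx : (x : E) ∈ R) (hxr : (x : E) * r ∈ R) :
    ψ x = 1 := by
  rcases C.root x hx with h | ⟨v, v0, vv, hv⟩
  · exact h
  · exfalso
    obtain ⟨p, p0, pp, hpv⟩ := exists_nonorth hF v0 vv
    obtain ⟨s, hs, hrs⟩ := hR.exists_opp' hr
    obtain ⟨y, hy, -, hyp⟩ := C.exists_root hs hrs p0 pp
    have hxv : IsVec hF ψ (x : E) v := ⟨v0, vv, x.2, hv⟩
    have h1 := opp_of_not_comm hR hy hx hyp hxv hpv
    have hxr' : (x : E) * r = r * x := mem_cent.1 x.2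
    have hyr : y * r = r * y := mem_cent.1 hyp.2.2.1
    have hc : Commute (y * (x : E)) r :=
      Commute.mul_left (show Commute y r from hyr) (show Commute (x : E) r from hxr')
    have hpow : ∀ n : ℕ, (y * ((x : E) * r)) ^ n = (y * (x : E)) ^ n * r ^ n := fun n => by
      rw [← mul_assoc, hc.mul_pow]
    have hr2 : r ^ 2 = 1 := by rw [pow_two, hR.sq r hr]
    rcases hR.ord y hy _ hxr with h2 | h2
    · rw [hpow, show (4 : ℕ) = 2 * 2 from rfl, pow_mul r, hr2, one_pow, mul_one] at h2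
      have h3 : y * (x : E) = 1 := by
        have : (y * (x : E)) ^ (2 * 2) = (y * (x : E)) ^ 3 * (y * (x : E)) := by rw [← pow_succ]
        rw [this, h1.2, one_mul] at h2
        exact h2
      apply h1.1
      rw [eq_inv_of_mul_eq_one_left h3, hR.inv_eq hx]
    · rw [hpow, h1.2, one_mul, pow_succ, hr2, one_mul] at h2
      exact hR.ne r hr h2

end Chart

/-! ### A root involution opposite to its image -/

section Step

variable {hF : Fintype.card F = 2 ^ 2} {R : Set E}

theorem act_ne_zero' (_hF : Fintype.card F = 2 ^ 2) {g : SU 6 F 2} {v : Fin 6 → F} (h0 : v ≠ 0) : act g v ≠ 0 := by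
  intro h
  apply h0
  apply act_injective g
  rw [h, act_zero]

/-- The case in which the involution acts nontrivially in the chart. -/
theorem opp_of_map_ne (hR : RootFacts hF R) {r : E} (hr : r ∈ R) {ψ : Subgroup.centralizer ({r} : Set E) →* PSU 6 F 2}
    (C : ChartAt hF R r ψ) {f : E} (hfr : f * r = r * f) (ff : f * f = 1) (hne : ψ ⟨f, mem_cent.2 hfr⟩ ≠ 1) :
    ∃ a ∈ R, Opp a (f * a * f) := by
  set fc : Subgroup.centralizer ({r} : Set E) := ⟨f, mem_cent.2 hfr⟩ with hfc
  obtain ⟨g, hg, hgf⟩ := exists_lift_sq hF (x := ψ fc) (by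
    rw [← map_mul]
    have : fc * fc = 1 := Subtype.ext ff
    rw [this, map_one])
  have hg1 : g ≠ 1 := by
    rintro rfl
    exact hne (by rw [← hgf, map_one])
  obtain ⟨p, p0, pp, hp⟩ := exists_iso hF hg hg1
  obtain ⟨s, hs, hrs⟩ := hR.exists_opp' hr
  obtain ⟨a, ha, -, hav⟩ := C.exists_root hs hrs p0 pp
  have finv : f⁻¹ = f := inv_eq_of_mul_eq_one_left ff
  have hbR : f * a * f ∈ R := by
    have := hR.conj a ha f
    rwa [finv] at this
  have hbv : IsVec hF ψ (f * a * f) (act g p) := by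
    obtain ⟨-, -, ma, ea⟩ := hav
    refine ⟨act_ne_zero' hF p0, by rw [herm_act, pp], mul_mem (mul_mem fc.2 ma) fc.2, ?_⟩
    have h1 := conj_tau hF g pp
    rw [← h1, hgf, ← ea, ← map_inv, ← map_mul, ← map_mul]
    congr 1
    apply Subtype.ext
    show f * a * f = f * a * f⁻¹
    rw [finv]
  exact ⟨a, ha, opp_of_not_comm hR ha hbR hav hbv hp⟩

/-- The case in which the involution is in the kernel of the chart: the special pair. -/
theorem opp_aba (hR : RootFacts hF R) (X : Extra hF R) {r : E} (hr : r ∈ R)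
    {ψ : Subgroup.centralizer ({r} : Set E) →* PSU 6 F 2}
    (C : ChartAt hF R r ψ) {f a b : E} (hfr : f * r = r * f) (ff : f * f = 1) (hf1 : f ≠ 1)
    (hψ : ψ ⟨f, mem_cent.2 hfr⟩ = 1) (ha : a ∈ R) (hb : b ∈ R) (hab : f * a * f = b) (hbr : Opp b r)
    (h4 : (a * b) ^ 4 = 1) : Opp (a * b * a) r := by
  have aa := hR.sq a ha
  have bb := hR.sq b hb
  have rr := hR.sq r hr
  have hba : f * b * f = a := by
    rw [← hab]
    calc f * (f * a * f) * f = (f * f) * a * (f * f) := by group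
      _ = a := by rw [ff, one_mul, mul_one]
  by_cases hc : a * b = b * a
  · have : a * b * a = b := by rw [hc, mul_assoc, aa, mul_one]
    rw [this]; exact hbr
  have heR := X.spe a ha b hb hc h4
  set e := (a * b) ^ 2 with he
  have e1 : e = a * b * a * b := by rw [he, pow_two]; group
  have ee := hR.sq e heR
  have e2 : e = b * a * b * a := by
    have h1 : e⁻¹ = e := inv_eq_of_mul_eq_one_left ee
    rw [← h1, e1, mul_inv_rev, mul_inv_rev, mul_inv_rev, hR.inv_eq ha, hR.inv_eq hb]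
    group
  have eb : e * b = a * b * a := by
    rw [e1, mul_assoc _ b b, bb, mul_one]
  have be : b * e = e * b := by
    rw [eb, e2]
    calc b * (b * a * b * a) = (b * b) * (a * b * a) := by group
      _ = a * b * a := by rw [bb, one_mul]
  have fe : f * e = e * f := by
    have h1 : f * e * f = e := by
      calc f * e * f = f * (a * b * a * b) * f := by rw [e1]
        _ = (f * a * 1) * (b * 1) * (a * 1) * (b * f) := by group
        _ = (f * a * (f * f)) * (b * (f * f)) * (a * (f * f)) * (b * f) := by rw [ff]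
        _ = (f * a * f) * (f * b * f) * (f * a * f) * (f * b * f) := by group
        _ = b * a * b * a := by rw [hab, hba]
        _ = e := e2.symm
    calc f * e = f * e * 1 := by rw [mul_one]
      _ = f * e * (f * f) := by rw [ff]
      _ = f * e * f * f := by group
      _ = e * f := by rw [h1]
  -- `e` is not opposite to `r`
  have n1 : ¬ Opp r e := by
    intro h
    have h1 := C.inj e heR h ⟨f, mem_cent.2 hfr⟩ fe hψ
    exact hf1 (congrArg Subtype.val h1)
  -- `e` does not commute with `r`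
  have n2 : e * r ≠ r * e := by
    intro h
    obtain ⟨ψb, Cb⟩ := hR.chart b hb
    have h1 : ψb ⟨e, mem_cent.2 be.symm⟩ = 1 := map_eq_one hR hb Cb _ heR (by
      show e * b ∈ R
      rw [eb]
      have := hR.conj b hb a
      rwa [hR.inv_eq ha] at this)
    have h2 := Cb.inj r hr hbr ⟨e, mem_cent.2 be.symm⟩ h h1
    exact hR.ne e heR (congrArg Subtype.val h2)
  have n3 : e ≠ r := by rintro h; exact n2 (by rw [h])
  have h5 : (e * r) ^ 4 = 1 := by
    rcases hR.ord e heR r hr with h | h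
    · exact h
    · exact absurd (Opp.symm ⟨n3, h⟩ ee rr) n1
  have hgR := X.spe e heR r hr n2 h5
  set g := (e * r) ^ 2 with hg
  have gg := hR.sq g hgR
  have g1 : g = e * r * e * r := by rw [hg, pow_two]; group
  have gr' : g * r = e * r * e := by
    rw [g1, mul_assoc _ r r, rr, mul_one]
  have eg : e * g = r * e * r := by
    rw [g1]
    calc e * (e * r * e * r) = (e * e) * (r * e * r) := by group
      _ = _ := by rw [ee, one_mul]
  have g2 : g = r * e * r * e := by
    have h1 : g⁻¹ = g := inv_eq_of_mul_eq_one_left gg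
    rw [← h1, g1, mul_inv_rev, mul_inv_rev, mul_inv_rev, hR.inv_eq heR, hR.inv_eq hr]
    group
  have gr : g * r = r * g := by
    rw [gr', g2]
    calc e * r * e = 1 * (e * r * e) := by rw [one_mul]
      _ = (r * r) * (e * r * e) := by rw [rr]
      _ = _ := by group
  have grR : g * r ∈ R := by
    rw [gr']
    have := hR.conj r hr e
    rwa [hR.inv_eq heR] at this
  have habaR : a * b * a ∈ R := by
    have := hR.conj b hb a
    rwa [hR.inv_eq ha] at this
  rcases hR.ord _ habaR r hr with h6 | h6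
  · exfalso
    -- `g * r` commutes with `b`
    have hre : r * e = e * g * r := by
      rw [eg, mul_assoc _ r r, rr, mul_one]
    have hh : (a * b * a * r) ^ 2 = b * g * (r * b * r) := by
      rw [← eb, pow_two]
      calc e * b * r * (e * b * r) = e * b * (r * e) * b * r := by group
        _ = e * b * (e * g * r) * b * r := by rw [hre]
        _ = (e * b) * e * g * (r * b * r) := by group
        _ = (b * e) * e * g * (r * b * r) := by rw [be]
        _ = b * (e * e) * g * (r * b * r) := by group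
        _ = b * g * (r * b * r) := by rw [ee, mul_one]
    have hh2 : (b * g * (r * b * r)) * (b * g * (r * b * r)) = 1 := by
      rw [← hh, ← pow_two, ← pow_mul]; exact h6
    have hbraid : r * b * r = b * r * b := by
      have h7 := hbr.2
      have h8 : b * r * b * (r * b * r) = 1 := by
        rw [← h7, pow_succ, pow_two]; group
      have h9 := eq_inv_of_mul_eq_one_right h8
      rw [h9, mul_inv_rev, mul_inv_rev, hR.inv_eq hr, hR.inv_eq hb]
      group
    have h3 : b * g * (r * b * r) = (r * b * r) * g * b := by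
      have h7 := eq_inv_of_mul_eq_one_left hh2
      rw [h7, mul_inv_rev, mul_inv_rev, mul_inv_rev, mul_inv_rev, hR.inv_eq hr, hR.inv_eq hb, hR.inv_eq hgR]
      group
    rw [hbraid] at h3
    have h7 : g * b * r = r * b * g := by
      calc g * b * r = (1 * g) * (b * r * 1) := by group
        _ = ((b * b) * g) * (b * r * (b * b)) := by rw [bb]
        _ = b * (b * g * (b * r * b)) * b := by group
        _ = b * (b * r * b * g * b) * b := by rw [h3]
        _ = (b * b) * (r * b * g) * (b * b) := by group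
        _ = r * b * g := by rw [bb, one_mul, mul_one]
    have h8 : (g * r) * b = b * (g * r) := by
      calc (g * r) * b = r * g * b := by rw [gr]
        _ = r * (g * b * 1) := by group
        _ = r * (g * b * (r * r)) := by rw [rr]
        _ = r * (g * b * r) * r := by group
        _ = r * (r * b * g) * r := by rw [h7]
        _ = (r * r) * b * (g * r) := by group
        _ = b * (g * r) := by rw [rr, one_mul]
    have hgrr : (g * r) * r = r * (g * r) := by
      rw [gr, mul_assoc, gr]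
    have h9 : ψ ⟨g * r, mem_cent.2 hgrr⟩ = 1 := map_eq_one hR hr C _ grR (by
      show g * r * r ∈ R
      rw [mul_assoc, rr, mul_one]; exact hgR)
    have h10 := C.inj b hb (hbr.symm bb rr) ⟨g * r, mem_cent.2 hgrr⟩ h8 h9
    exact hR.ne _ grR (congrArg Subtype.val h10)
  · refine ⟨?_, h6⟩
    intro h7
    apply hbr.not_comm bb rr
    rw [← h7, ← eb, ← be, ← mul_assoc, bb, one_mul]
    rw [be, mul_assoc, bb, mul_one]

/-- The case in which the involution is in the kernel of the chart. -/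
theorem opp_of_map_eq (hR : RootFacts hF R) (X : Extra hF R) {r : E} (hr : r ∈ R)
    {ψ : Subgroup.centralizer ({r} : Set E) →* PSU 6 F 2}
    (C : ChartAt hF R r ψ) {f : E} (hfr : f * r = r * f) (ff : f * f = 1) (hf1 : f ≠ 1)
    (hψ : ψ ⟨f, mem_cent.2 hfr⟩ = 1) :
    ∃ a ∈ R, Opp a (f * a * f) ∨ Opp a ((f * r) * a * (f * r)) := by
  obtain ⟨a, ha, hra⟩ := hR.exists_opp' hr
  have aa := hR.sq a ha
  have rr := hR.sq r hr
  have finv : f⁻¹ = f := inv_eq_of_mul_eq_one_left ff
  refine ⟨a, ha, ?_⟩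
  obtain ⟨b, hb'⟩ : ∃ b, f * a * f = b := ⟨_, rfl⟩
  have hb : b ∈ R := by
    rw [← hb']
    have := hR.conj a ha f
    rwa [finv] at this
  have bb := hR.sq b hb
  have hbr : Opp b r := by
    have h1 := (hra.symm rr aa).conj f
    have h2 : f * r * f⁻¹ = r := by rw [hfr, mul_assoc, mul_inv_cancel, mul_one]
    rw [h2, finv, hb'] at h1
    exact h1
  have hne : a ≠ b := by
    rintro rfl
    have h1 : f * a = a * f := by
      calc f * a = f * a * (f * f) := by rw [ff, mul_one]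
        _ = f * a * f * f := by group
        _ = a * f := by rw [hb']
    exact hf1 (congrArg Subtype.val (C.inj a ha hra ⟨f, mem_cent.2 hfr⟩ h1 hψ))
  rw [hb']
  rcases hR.ord a ha b hb with h4 | h3
  · right
    have h1 := opp_aba hR X hr C hfr ff hf1 hψ ha hb hb' hbr h4
    -- conjugate by `a`, then by `r`
    have h2 := (h1.conj a).conj r
    have e1 : r * (a * (a * b * a) * a⁻¹) * r⁻¹ = (f * r) * a * (f * r) := by
      rw [hR.inv_eq ha, hR.inv_eq hr]
      calc r * (a * (a * b * a) * a) * r = r * ((a * a) * b * (a * a)) * r := by group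
        _ = r * b * r := by rw [aa, one_mul, mul_one]
        _ = r * (f * a * f) * r := by rw [hb']
        _ = (r * f) * a * (f * r) := by group
        _ = (f * r) * a * (f * r) := by rw [hfr]
    have e2 : r * (a * r * a⁻¹) * r⁻¹ = a := by
      rw [hR.inv_eq ha, hR.inv_eq hr]
      have h5 := hra.2
      have h6 : r * (a * r * a) * r * a = 1 := by
        rw [← h5, pow_succ, pow_two]; group
      rw [eq_inv_of_mul_eq_one_left h6, hR.inv_eq ha]
    rw [e1, e2] at h2
    have hxR : (f * r) * a * (f * r) ∈ R := by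
      have := hR.conj a ha (f * r)
      rwa [mul_inv_rev, hR.inv_eq hr, finv, ← hfr] at this
    exact h2.symm (hR.sq _ hxR) aa
  · left
    exact ⟨hne, h3⟩

end Step

/-! ### Conjugation -/

section Conj

variable {hF : Fintype.card F = 2 ^ 2} {R : Set E}

theorem conj_comm {x y : E} (h : x * y = y * x) (g : E) :
    (g * x * g⁻¹) * (g * y * g⁻¹) = (g * y * g⁻¹) * (g * x * g⁻¹) := by
  calc (g * x * g⁻¹) * (g * y * g⁻¹) = g * (x * y) * g⁻¹ := by group
    _ = g * (y * x) * g⁻¹ := by rw [h]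
    _ = _ := by group

theorem conj_comm_iff {x y : E} (g : E) :
    (g * x * g⁻¹) * (g * y * g⁻¹) = (g * y * g⁻¹) * (g * x * g⁻¹) ↔ x * y = y * x := by
  refine ⟨fun h => ?_, fun h => conj_comm h g⟩
  have h1 := conj_comm h g⁻¹
  have e : ∀ z : E, g⁻¹ * (g * z * g⁻¹) * g⁻¹⁻¹ = z := fun z => by group
  rwa [e, e] at h1

theorem conj_inj {x y : E} (g : E) (h : g * x * g⁻¹ = g * y * g⁻¹) : x = y := by
  have h1 := congrArg (fun z => g⁻¹ * z * g) h
  simpa [mul_assoc] using h1

theorem Sym.conj (hR : RootFacts hF R) {a b : E} (h : Sym R a b) (g : E) : Sym R (g * a * g⁻¹) (g * b * g⁻¹) := by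
  obtain ⟨h1, h2, h3, h4, h5⟩ := h
  refine ⟨hR.conj a h1 g, hR.conj b h2 g, fun e => h3 (conj_inj g e), conj_comm h4 g, fun h6 => h5 ?_⟩
  have h7 := hR.conj _ h6 g⁻¹
  have e : g⁻¹ * (g * a * g⁻¹ * (g * b * g⁻¹)) * g⁻¹⁻¹ = a * b := by group
  rwa [e] at h7

theorem Tri.conj (hR : RootFacts hF R) {p q r : E} (h : Tri R p q r) (g : E) :
    Tri R (g * p * g⁻¹) (g * q * g⁻¹) (g * r * g⁻¹) where
  pR := hR.conj p h.pR g
  qR := hR.conj q h.qR g
  rR := hR.conj r h.rR g
  pq := conj_comm h.pq g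
  pr := conj_comm h.pr g
  qr := conj_comm h.qr g
  qne := fun e => h.qne (conj_inj g e)
  ex := by
    obtain ⟨a, ha, hp, hq, hr⟩ := h.ex
    exact ⟨g * a * g⁻¹, hR.conj a ha g, hp.conj g, conj_comm hq g, conj_comm hr g⟩

theorem Quad.conj (hR : RootFacts hF R) {p q r s : E} (h : Quad R p q r s) (g : E) :
    Quad R (g * p * g⁻¹) (g * q * g⁻¹) (g * r * g⁻¹) (g * s * g⁻¹) where
  pR := hR.conj p h.pR g
  qR := hR.conj q h.qR g
  rR := hR.conj r h.rR g
  sR := hR.conj s h.sR g
  pq := conj_comm h.pq g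
  pr := conj_comm h.pr g
  ps := conj_comm h.ps g
  qr := conj_comm h.qr g
  qs := conj_comm h.qs g
  rs := conj_comm h.rs g
  qne := fun e => h.qne (conj_inj g e)
  ex := by
    obtain ⟨a, ha, hp, hq, hr, hs, b, hb, ba, bp, bq, br, bs⟩ := h.ex
    exact ⟨g * a * g⁻¹, hR.conj a ha g, hp.conj g, conj_comm hq g, conj_comm hr g, conj_comm hs g,
      g * b * g⁻¹, hR.conj b hb g, conj_comm ba g, conj_comm bp g, conj_comm bq g, conj_comm br g,
      fun h => bs ((conj_comm_iff g).1 h)⟩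

/-- the possible types of an involution -/
def Types (R : Set E) (f : E) : Prop :=
  f ∈ R ∨ (∃ a b, Sym R a b ∧ f = a * b) ∨ (∃ p q r, Tri R p q r ∧ f = p * q * r)

theorem Types.conj (hR : RootFacts hF R) {f : E} (h : Types R f) (g : E) : Types R (g * f * g⁻¹) := by
  rcases h with h | ⟨a, b, h, rfl⟩ | ⟨p, q, r, h, rfl⟩
  · exact Or.inl (hR.conj f h g)
  · exact Or.inr (Or.inl ⟨_, _, h.conj hR g, by group⟩)
  · exact Or.inr (Or.inr ⟨_, _, _, h.conj hR g, by group⟩)

/-- The members of a triangle are pairwise symplectic. -/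
theorem Tri.not_mem (hR : RootFacts hF R) {r s a : E} (hr : r ∈ R) (hs : s ∈ R) (ha : a ∈ R) (h : Opp a r)
    (hc : r * s = s * r) (hca : a * s = s * a) : r ≠ s ∧ r * s ∉ R := by
  have rr := hR.sq r hr
  have aa := hR.sq a ha
  have ss := hR.sq s hs
  refine ⟨?_, ?_⟩
  · rintro rfl
    exact h.not_comm aa rr hca
  · intro hm
    have hpow : ∀ n : ℕ, (a * (r * s)) ^ n = (a * r) ^ n * s ^ n := fun n => by
      have h1 : Commute (a * r) s := Commute.mul_left (show Commute a s from hca) (show Commute r s from hc)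
      rw [← mul_assoc, h1.mul_pow]
    have hs2 : s ^ 2 = 1 := by rw [pow_two, ss]
    rcases hR.ord a ha _ hm with h2 | h2
    · rw [hpow, show (4 : ℕ) = 2 * 2 from rfl, pow_mul s, hs2, one_pow, mul_one] at h2
      have h3 : a * r = 1 := by
        have : (a * r) ^ (2 * 2) = (a * r) ^ 3 * (a * r) := by rw [← pow_succ]
        rw [this, h.2, one_mul] at h2
        exact h2
      apply h.1
      rw [eq_inv_of_mul_eq_one_left h3, hR.inv_eq hr]
    · rw [hpow, h.2, one_mul, pow_succ, hs2, one_mul] at h2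
      exact hR.ne s hs h2

theorem sym_of_opp (hR : RootFacts hF R) {r s a : E} (hr : r ∈ R) (hs : s ∈ R) (ha : a ∈ R) (h : Opp a r)
    (hc : r * s = s * r) (hca : a * s = s * a) : Sym R r s :=
  ⟨hr, hs, (Tri.not_mem hR hr hs ha h hc hca).1, hc, (Tri.not_mem hR hr hs ha h hc hca).2⟩

theorem Tri.sym12 (hR : RootFacts hF R) {p q r : E} (h : Tri R p q r) : Sym R p q := by
  obtain ⟨a, ha, hp, hq, -⟩ := h.ex
  exact sym_of_opp hR h.pR h.qR ha hp h.pq hq

theorem Tri.sym13 (hR : RootFacts hF R) {p q r : E} (h : Tri R p q r) : Sym R p r := by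
  obtain ⟨a, ha, hp, -, hr⟩ := h.ex
  exact sym_of_opp hR h.pR h.rR ha hp h.pr hr

end Conj

/-! ### The decomposition -/

section Dec

variable {hF : Fintype.card F = 2 ^ 2} {R : Set E}

theorem fr3_of_quad (hR : RootFacts hF R) {p q r s a b : E} {ψ : Subgroup.centralizer ({p} : Set E) →* PSU 6 F 2}
    (C : ChartAt hF R p ψ) (ha : a ∈ R) (hap : Opp a p) (hp : p ∈ R) (hqr : q * r = r * q) (hqs : q * s = s * q)
    (hrs : r * s = s * r) (hne : q ≠ r) (qa : q * a = a * q) (ra : r * a = a * r) (sa : s * a = a * s)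
    (ba : b * a = a * b) (bq : b * q = q * b) (br : b * r = r * b) (bs : b * s ≠ s * b)
    {u v w x : Fin 6 → F} (hu : IsVec hF ψ q u) (hv : IsVec hF ψ r v) (hw : IsVec hF ψ s w) (hx : IsVec hF ψ b x) :
    Fr3 u v w := by
  have hpa : Opp p a := hap.symm (hR.sq a ha) (hR.sq p hp)
  have huv := (C.comm_iff ha hpa hu hv qa ra).1 hqr
  have huw := (C.comm_iff ha hpa hu hw qa sa).1 hqs
  have hvw := (C.comm_iff ha hpa hv hw ra sa).1 hrs
  have hxu := (C.comm_iff ha hpa hx hu ba qa).1 bq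
  have hxv := (C.comm_iff ha hpa hx hv ba ra).1 br
  have hxw : hermForm 6 F 2 x w ≠ 0 := fun h => bs ((C.comm_iff ha hpa hx hw ba sa).2 h)
  have hux := herm_eq_zero_swap hF hxu
  have hvx := herm_eq_zero_swap hF hxv
  have hwx : hermForm 6 F 2 w x ≠ 0 := fun h => hxw (herm_eq_zero_swap hF h)
  refine ⟨hu.2.1, hv.2.1, hw.2.1, huv, huw, hvw, fun α β γ h => ?_⟩
  have h1 := congrArg (fun y => hermForm 6 F 2 y x) h
  simp only [herm_add_left, herm_smul_left, hux, hvx, mul_zero, zero_add, herm_zero_left] at h1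
  have hγ := (mul_eq_zero.1 h1).resolve_right hwx
  rw [hγ, zero_smul, add_zero] at h
  by_cases hα : α = 0
  · rw [hα, zero_smul, zero_add] at h
    exact ⟨hα, (smul_eq_zero.1 h).resolve_right hv.1, hγ⟩
  · exfalso
    apply hne
    have hβ : β ≠ 0 := by
      rintro rfl
      rw [zero_smul, add_zero] at h
      exact hu.1 ((smul_eq_zero.1 h).resolve_left hα)
    refine C.eq_of_smul ha hpa hu hv qa ra (c := β⁻¹ * α) (mul_ne_zero (inv_ne_zero hβ) hα) ?_
    have h3 : α • u = β • v := by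
      have h4 : α • u + β • v + β • v = β • v := by rw [h, zero_add]
      rwa [add_assoc, vadd_self hF, add_zero] at h4
    rw [mul_smul, h3, smul_smul, inv_mul_cancel₀ hβ, one_smul]

/-- Two quadruples are conjugate. -/
theorem quad_conj (hR : RootFacts hF R) (X : Extra hF R) {p q r s p' q' r' s' : E}
    {a : E} {ψ : Subgroup.centralizer ({p} : Set E) →* PSU 6 F 2}
    (C : ChartAt hF R p ψ) (hp : p ∈ R) (ha : a ∈ R) (hap : Opp a p) (qa : q * a = a * q) (ra : r * a = a * r)
    (sa : s * a = a * s) {u v w : Fin 6 → F} (hu : IsVec hF ψ q u) (hv : IsVec hF ψ r v) (hw : IsVec hF ψ s w)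
    (hfr : Fr3 u v w) (h' : Quad R p' q' r' s') :
    ∃ g : E, g * p * g⁻¹ = p' ∧ g * q * g⁻¹ = q' ∧ g * r * g⁻¹ = r' ∧ g * s * g⁻¹ = s' := by
  obtain ⟨a', ha', hap', qa', ra', sa', b', hb', ba', bp', bq', br', bs'⟩ := h'.ex
  obtain ⟨g, hg1, hg2⟩ := X.opp_trans a' ha' p' h'.pR a ha p hp hap' hap
  have h2 := h'.conj hR g
  have c1 := conj_comm qa' g
  have c2 := conj_comm ra' g
  have c3 := conj_comm sa' g
  have c4 := conj_comm ba' g
  have c5 := conj_comm bp' g
  have c6 := conj_comm bq' g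
  have c7 := conj_comm br' g
  have c8 : ¬ (g * b' * g⁻¹) * (g * s' * g⁻¹) = (g * s' * g⁻¹) * (g * b' * g⁻¹) := fun h =>
    bs' ((conj_comm_iff g).1 h)
  have hb2 := hR.conj b' hb' g
  rw [hg1] at c1 c2 c3 c4
  rw [hg2] at c5
  have hq2 := h2.qR
  have hr2 := h2.rR
  have hs2 := h2.sR
  have e1 := h2.pq
  have e2 := h2.pr
  have e3 := h2.ps
  have e4 := h2.qr
  have e5 := h2.qs
  have e6 := h2.rs
  have e7 := h2.qne
  rw [hg2] at e1 e2 e3
  have hpa : Opp p a := hap.symm (hR.sq a ha) (hR.sq p hp)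
  obtain ⟨u', hu'⟩ := C.exists_vec hR ha hpa hq2 e1.symm c1.symm
  obtain ⟨v', hv'⟩ := C.exists_vec hR ha hpa hr2 e2.symm c2.symm
  obtain ⟨w', hw'⟩ := C.exists_vec hR ha hpa hs2 e3.symm c3.symm
  obtain ⟨x', hx'⟩ := C.exists_vec hR ha hpa hb2 c5 c4
  have hfr' := fr3_of_quad hR C ha hap hp e4 e5 e6 e7 c1.symm c2.symm c3.symm c4 c6 c7 c8 hu' hv' hw' hx'
  obtain ⟨k, α, β, γ, hα, hβ, hγ, hku, hkv, hkw⟩ := trans_frames_SU hF hfr hfr'
  obtain ⟨y, hy, hyk⟩ := C.surj a ha hpa (pr 6 F 2 k)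
  have step : ∀ {z z' : E} {m m' : Fin 6 → F} {δ : F}, IsVec hF ψ z m → IsVec hF ψ z' m' → z * a = a * z →
      z' * a = a * z' → δ ≠ 0 → act k m = δ • m' → (y : E) * z * (y : E)⁻¹ = z' := by
    intro z z' m m' δ hz hz' za za' hδ hm
    obtain ⟨m0, mm, mz, ez⟩ := hz
    obtain ⟨m0', mm', mz', ez'⟩ := hz'
    refine C.inj' ha hpa (mul_mem (mul_mem y.2 mz) (inv_mem y.2)) mz' ?_ za' ?_
    · have h1 : Commute (y : E) a := hy
      exact (Commute.mul_left (Commute.mul_left h1 (show Commute z a from za)) h1.inv_left).eq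
    · rw [ez']
      have h1 := conj_tau hF k mm
      rw [hm, tau_smul hF mm' hδ] at h1
      rw [← h1, ← hyk, ← ez, ← map_inv, ← map_mul, ← map_mul]
      rfl
  refine ⟨g⁻¹ * y, ?_, ?_, ?_, ?_⟩
  · have h1 : (y : E) * p * (y : E)⁻¹ = p := by
      rw [mem_cent.1 y.2, mul_assoc, mul_inv_cancel, mul_one]
    calc g⁻¹ * y * p * (g⁻¹ * y)⁻¹ = g⁻¹ * (y * p * (y : E)⁻¹) * g := by group
      _ = g⁻¹ * (g * p' * g⁻¹) * g := by rw [h1, hg2]
      _ = p' := by group
  · have h1 := step hu hu' qa c1.symm hα hku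
    calc g⁻¹ * y * q * (g⁻¹ * y)⁻¹ = g⁻¹ * (y * q * (y : E)⁻¹) * g := by group
      _ = g⁻¹ * (g * q' * g⁻¹) * g := by rw [h1]
      _ = q' := by group
  · have h1 := step hv hv' ra c2.symm hβ hkv
    calc g⁻¹ * y * r * (g⁻¹ * y)⁻¹ = g⁻¹ * (y * r * (y : E)⁻¹) * g := by group
      _ = g⁻¹ * (g * r' * g⁻¹) * g := by rw [h1]
      _ = r' := by group
  · have h1 := step hw hw' sa c3.symm hγ hkw
    calc g⁻¹ * y * s * (g⁻¹ * y)⁻¹ = g⁻¹ * (y * s * (y : E)⁻¹) * g := by group
      _ = g⁻¹ * (g * s' * g⁻¹) * g := by rw [h1]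
      _ = s' := by group

/-- Triangles form one orbit. -/
theorem tri_conj (hR : RootFacts hF R) (X : Extra hF R) {p q r p' q' r' : E} (h : Tri R p q r) (h' : Tri R p' q' r') :
    ∃ g : E, g * p * g⁻¹ = p' ∧ g * q * g⁻¹ = q' ∧ g * r * g⁻¹ = r' := by
  obtain ⟨a, ha, hap, qa, ra⟩ := h.ex
  obtain ⟨a', ha', hap', qa', ra'⟩ := h'.ex
  obtain ⟨g, hg1, hg2⟩ := X.opp_trans a' ha' p' h'.pR a ha p h.pR hap' hap
  have h2 := h'.conj hR g
  have c1 := conj_comm qa' g
  have c2 := conj_comm ra' g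
  rw [hg1] at c1 c2
  have hq2 := h2.qR
  have hr2 := h2.rR
  have e1 := h2.pq
  have e2 := h2.pr
  have e4 := h2.qr
  have e7 := h2.qne
  rw [hg2] at e1 e2
  obtain ⟨ψ, C⟩ := hR.chart p h.pR
  have hpa : Opp p a := hap.symm (hR.sq a ha) (hR.sq p h.pR)
  obtain ⟨u, hu⟩ := C.exists_vec hR ha hpa h.qR h.pq.symm qa.symm
  obtain ⟨v, hv⟩ := C.exists_vec hR ha hpa h.rR h.pr.symm ra.symm
  obtain ⟨u', hu'⟩ := C.exists_vec hR ha hpa hq2 e1.symm c1.symm
  obtain ⟨v', hv'⟩ := C.exists_vec hR ha hpa hr2 e2.symm c2.symm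
  have k1 := (C.comm_iff ha hpa hu hv qa.symm ra.symm).1 h.qr
  have k2 := (C.comm_iff ha hpa hu' hv' c1.symm c2.symm).1 e4
  have ne : ∀ {z z' : E} {m m' : Fin 6 → F}, IsVec hF ψ z m → IsVec hF ψ z' m' → z * a = a * z →
      z' * a = a * z' → z ≠ z' → tau hF m ≠ tau hF m' := by
    intro z z' m m' hz hz' za za' hzz hm
    obtain ⟨-, -, mz, ez⟩ := hz
    obtain ⟨-, -, mz', ez'⟩ := hz'
    exact hzz (C.inj' ha hpa mz mz' za za' (by rw [ez, ez', hm]))
  obtain ⟨k, hk1, hk2⟩ := trans_commuting hF (n := 6) (by norm_num) _ (tau_mem hF hu.1 hu.2.1) _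
    (tau_mem hF hv.1 hv.2.1) _ (tau_mem hF hu'.1 hu'.2.1) _ (tau_mem hF hv'.1 hv'.2.1)
    (ne hu hv qa.symm ra.symm h.qne) (ne hu' hv' c1.symm c2.symm e7)
    ((tau_commute_iff hF (by norm_num) hu.2.1 hv.2.1 hu.1).2 k1)
    ((tau_commute_iff hF (by norm_num) hu'.2.1 hv'.2.1 hu'.1).2 k2)
  obtain ⟨y, hy, hyk⟩ := C.surj a ha hpa k
  have step : ∀ {z z' : E} {m m' : Fin 6 → F}, IsVec hF ψ z m → IsVec hF ψ z' m' → z * a = a * z →
      z' * a = a * z' → k * tau hF m * k⁻¹ = tau hF m' → (y : E) * z * (y : E)⁻¹ = z' := by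
    intro z z' m m' hz hz' za za' hm
    obtain ⟨m0, mm, mz, ez⟩ := hz
    obtain ⟨m0', mm', mz', ez'⟩ := hz'
    refine C.inj' ha hpa (mul_mem (mul_mem y.2 mz) (inv_mem y.2)) mz' ?_ za' ?_
    · have h1 : Commute (y : E) a := hy
      exact (Commute.mul_left (Commute.mul_left h1 (show Commute z a from za)) h1.inv_left).eq
    · rw [ez', ← hm, ← hyk, ← ez, ← map_inv, ← map_mul, ← map_mul]
      rfl
  refine ⟨g⁻¹ * y, ?_, ?_, ?_⟩
  · have h1 : (y : E) * p * (y : E)⁻¹ = p := by
      rw [mem_cent.1 y.2, mul_assoc, mul_inv_cancel, mul_one]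
    calc g⁻¹ * y * p * (g⁻¹ * y)⁻¹ = g⁻¹ * (y * p * (y : E)⁻¹) * g := by group
      _ = g⁻¹ * (g * p' * g⁻¹) * g := by rw [h1, hg2]
      _ = p' := by group
  · have h1 := step hu hu' qa.symm c1.symm hk1
    calc g⁻¹ * y * q * (g⁻¹ * y)⁻¹ = g⁻¹ * (y * q * (y : E)⁻¹) * g := by group
      _ = g⁻¹ * (g * q' * g⁻¹) * g := by rw [h1]
      _ = q' := by group
  · have h1 := step hv hv' ra.symm c2.symm hk2
    calc g⁻¹ * y * r * (g⁻¹ * y)⁻¹ = g⁻¹ * (y * r * (y : E)⁻¹) * g := by group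
      _ = g⁻¹ * (g * r' * g⁻¹) * g := by rw [h1]
      _ = r' := by group

/-- The type of an involution with a root involution opposite to its image. -/
theorem types_of_opp (hR : RootFacts hF R) (X : Extra hF R) {f a : E} (ff : f * f = 1) (ha : a ∈ R)
    (h : Opp a (f * a * f)) : Types R f := by
  have aa := hR.sq a ha
  have finv : f⁻¹ = f := inv_eq_of_mul_eq_one_left ff
  obtain ⟨a', ha'⟩ : ∃ a', f * a * f = a' := ⟨_, rfl⟩
  have haR : a' ∈ R := by
    rw [← ha']
    have := hR.conj a ha f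
    rwa [finv] at this
  have aa' := hR.sq a' haR
  rw [ha'] at h
  have hbraid : a * a' * a = a' * a * a' := by
    have h8 : a * a' * a * (a' * a * a') = 1 := by
      rw [← h.2, pow_succ, pow_two]; group
    rw [eq_inv_of_mul_eq_one_left h8, mul_inv_rev, mul_inv_rev, hR.inv_eq ha, hR.inv_eq haR]
    group
  obtain ⟨r0, hr0⟩ : ∃ r0, a * a' * a = r0 := ⟨_, rfl⟩
  have hrR : r0 ∈ R := by
    rw [← hr0]
    have := hR.conj a' haR a
    rwa [hR.inv_eq ha] at this
  have rr := hR.sq r0 hrR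
  have fa : f * a' = a * f := by
    rw [← ha']
    calc f * (f * a * f) = (f * f) * a * f := by group
      _ = a * f := by rw [ff, one_mul]
  have fa' : f * a = a' * f := by
    rw [← ha', mul_assoc (f * a) f f, ff, mul_one]
  have fr : f * r0 = r0 * f := by
    calc f * r0 = f * (a' * a * a') := by rw [← hr0, hbraid]
      _ = (f * a') * a * a' := by group
      _ = a * (f * a) * a' := by rw [fa]; group
      _ = a * a' * (f * a') := by rw [fa']; group
      _ = a * a' * a * f := by rw [fa]; group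
      _ = r0 * f := by rw [hr0]
  obtain ⟨y, hy⟩ : ∃ y, f * r0 = y := ⟨_, rfl⟩
  have yr : y * r0 = r0 * y := by
    rw [← hy]
    calc f * r0 * r0 = r0 * f * r0 := by rw [fr]
      _ = r0 * (f * r0) := by group
  have ya : y * a = a * y := by
    rw [← hy]
    calc f * r0 * a = f * (a * a' * a) * a := by rw [hr0]
      _ = f * (a * a') * (a * a) := by group
      _ = f * (1 * (a * a')) := by rw [aa, mul_one, one_mul]
      _ = f * ((a' * a') * (a * a')) := by rw [aa']
      _ = f * a' * (a' * a * a') := by group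
      _ = a * f * (a * a' * a) := by rw [fa, hbraid]
      _ = a * (f * r0) := by rw [hr0]; group
  have yy : y * y = 1 := by
    rw [← hy]
    calc f * r0 * (f * r0) = f * (r0 * f) * r0 := by group
      _ = f * (f * r0) * r0 := by rw [fr]
      _ = (f * f) * (r0 * r0) := by group
      _ = 1 := by rw [ff, rr, mul_one]
  have fy : f = r0 * y := by
    rw [← yr, ← hy, mul_assoc, rr, mul_one]
  have hor : Opp a r0 := by
    have h1 : r0 * a = a * a' := by rw [← hr0, mul_assoc, aa, mul_one]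
    have h2 : Opp r0 a := by
      refine ⟨?_, by rw [h1, h.2]⟩
      intro h3
      rw [h3, aa] at h1
      apply h.1
      rw [eq_inv_of_mul_eq_one_left h1.symm, hR.inv_eq haR]
    exact h2.symm rr aa
  have hra : Opp r0 a := hor.symm aa rr
  obtain ⟨ψ, C⟩ := hR.chart r0 hrR
  set Y : Subgroup.centralizer ({r0} : Set E) := ⟨y, mem_cent.2 yr⟩ with hY
  have hYY : Y * Y = 1 := Subtype.ext yy
  obtain ⟨g, hg, hgY⟩ := exists_lift_sq hF (x := ψ Y) (by rw [← map_mul, hYY, map_one])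
  rcases inv_form_SU hF hg with h1 | ⟨u, uu, u0, h1⟩ | ⟨u, v, hfr, h1⟩ | ⟨u, v, w, hfr, h1⟩
  · left
    have h2 := C.inj a ha hra Y ya (by rw [← hgY, h1, map_one])
    have h3 : y = 1 := congrArg Subtype.val h2
    rw [fy, h3, mul_one]
    exact hrR
  · right; left
    obtain ⟨s, hs, sa, hsu⟩ := C.exists_root ha hra u0 uu
    obtain ⟨-, -, ms, es⟩ := hsu
    have h2 : y = s := C.inj' ha hra (mem_cent.2 yr) ms ya sa (by
      rw [es, tau_eq_pr hF uu, ← h1, ← hgY])
    have hsr : r0 * s = s * r0 := (mem_cent.1 ms).symm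
    exact ⟨r0, s, sym_of_opp hR hrR hs ha hor hsr sa.symm, by rw [fy, h2]⟩
  · right; right
    obtain ⟨s, hs, sa, hsu⟩ := C.exists_root ha hra hfr.u_ne hfr.uu
    obtain ⟨s', hs', sa', hsv⟩ := C.exists_root ha hra hfr.v_ne hfr.vv
    have hss := (C.comm_iff ha hra hsu hsv sa sa').2 hfr.uv
    have hne : s ≠ s' := by
      rintro rfl
      obtain ⟨-, -, m, e⟩ := hsu
      obtain ⟨-, -, m', e'⟩ := hsv
      obtain ⟨c, -, hc⟩ := (tau_eq_iff hF (by norm_num) hfr.uu hfr.vv hfr.u_ne).1 (e.symm.trans e')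
      exact hfr.not_mul ⟨c, hc⟩
    obtain ⟨-, -, ms, es⟩ := hsu
    obtain ⟨-, -, ms', es'⟩ := hsv
    have hcs : (s * s') * a = a * (s * s') :=
      (Commute.mul_left (show Commute s a from sa) (show Commute s' a from sa')).eq
    have h2 : y = s * s' := C.inj' ha hra (mem_cent.2 yr) (mul_mem ms ms') ya hcs (by
      have h3 : (⟨s * s', mul_mem ms ms'⟩ : Subgroup.centralizer ({r0} : Set E)) = ⟨s, ms⟩ * ⟨s', ms'⟩ := rfl
      rw [h3, map_mul, es, es', tau_eq_pr hF hfr.uu, tau_eq_pr hF hfr.vv, ← map_mul, ← h1, ← hgY])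
    exact ⟨r0, s, s', ⟨hrR, hs, hs', (mem_cent.1 ms).symm, (mem_cent.1 ms').symm, hss, hne,
      a, ha, hor, sa.symm, sa'.symm⟩, by rw [fy, h2, mul_assoc]⟩
  · obtain ⟨s, hs, sa, hsu⟩ := C.exists_root ha hra hfr.u_ne hfr.uu
    obtain ⟨s', hs', sa', hsv⟩ := C.exists_root ha hra hfr.v_ne hfr.vv
    obtain ⟨s'', hs'', sa'', hsw⟩ := C.exists_root ha hra hfr.w_ne hfr.ww
    obtain ⟨p1, q1, r1, t1, p2, q2, r2, hq, ht, heq⟩ := X.quad
    obtain ⟨k, k1, k2, k3, k4⟩ := quad_conj hR X C hrR ha hor sa sa' sa'' hsu hsv hsw hfr hq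
    obtain ⟨-, -, ms, es⟩ := hsu
    obtain ⟨-, -, ms', es'⟩ := hsv
    obtain ⟨-, -, ms'', es''⟩ := hsw
    have hcs : (s * s' * s'') * a = a * (s * s' * s'') :=
      (Commute.mul_left (Commute.mul_left (show Commute s a from sa) (show Commute s' a from sa'))
        (show Commute s'' a from sa'')).eq
    have h2 : y = s * s' * s'' := C.inj' ha hra (mem_cent.2 yr) (mul_mem (mul_mem ms ms') ms'') ya hcs (by
      have h3 : (⟨s * s' * s'', mul_mem (mul_mem ms ms') ms''⟩ : Subgroup.centralizer ({r0} : Set E)) =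
        ⟨s, ms⟩ * ⟨s', ms'⟩ * ⟨s'', ms''⟩ := rfl
      rw [h3, map_mul, map_mul, es, es', es'', tau_eq_pr hF hfr.uu, tau_eq_pr hF hfr.vv, tau_eq_pr hF hfr.ww,
        ← map_mul, ← map_mul, ← h1, ← hgY])
    have h3 : k * f * k⁻¹ = p2 * q2 * r2 := by
      rw [← heq, ← k1, ← k2, ← k3, ← k4, fy, h2]
      group
    have h4 : Types R (k * f * k⁻¹) := Or.inr (Or.inr ⟨p2, q2, r2, ht, h3⟩)
    have h5 := h4.conj hR k⁻¹
    have h6 : k⁻¹ * (k * f * k⁻¹) * k⁻¹⁻¹ = f := by group
    rwa [h6] at h5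

/-- **KEY.** The involutions of `E`. -/
theorem key (hR : RootFacts hF R) (X : Extra hF R) (f : E) (ff : f * f = 1) (hf1 : f ≠ 1) : Types R f := by
  obtain ⟨r, hr, hfr⟩ := X.odd f ff
  obtain ⟨ψ, C⟩ := hR.chart r hr
  have rr := hR.sq r hr
  by_cases hψ : ψ ⟨f, mem_cent.2 hfr⟩ = 1
  · by_cases hfr1 : f = r
    · left; rw [hfr1]; exact hr
    obtain ⟨a, ha, h | h⟩ := opp_of_map_eq hR X hr C hfr ff hf1 hψ
    · exact types_of_opp hR X ff ha h
    · have h1 : (f * r) * (f * r) = 1 := by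
        calc (f * r) * (f * r) = f * (r * f) * r := by group
          _ = f * (f * r) * r := by rw [hfr]
          _ = (f * f) * (r * r) := by group
          _ = 1 := by rw [ff, rr, mul_one]
      have h2 := types_of_opp hR X h1 ha h
      obtain ⟨g, hg⟩ := X.ker r hr ψ C ⟨f, mem_cent.2 hfr⟩ (Subtype.ext ff) hψ hf1 hfr1
      have h3 := h2.conj hR g⁻¹
      have h4 : g⁻¹ * (f * r) * g⁻¹⁻¹ = f := by
        have hg' : g * f * g⁻¹ = f * r := hg
        rw [← hg']; group
      rwa [h4] at h3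
  · obtain ⟨a, ha, h⟩ := opp_of_map_ne hR hr C hfr ff hψ
    exact types_of_opp hR X ff ha h

end Dec

end Cfsg.Agent.BabyU.Key
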