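import Cfsg.Agent.BabyU.KeyM
import Cfsg.Agent.BabyU.Key

/-!
# U-B, S1736 (a): fusion when `C_G(t)` is the double cover itself

`fuse_one` : if `C_G(t) = M`, where `M` is a double cover of `E` with the list of involutions `KeyE`, and if `t` has a
conjugate different from `t` which commutes with `t`, then `t` is conjugate to a lift of a root involution.

The involutions of `M` different from `t` are lifts of root involutions, `v = w a * w b` or `t * v` for a symplectic
pair, and `c = w p * w q * w r ~ t * c` for a triangle. If no lift of a root involution is conjugate to `t`, the set of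
the types which occur in the class of `t` is empty: `{v}`: `v₁₂ v₁₃ = v₂₃`; `{t v}`: `t v₁₂ * t v₃₄ = t v₅₆` in a hexad
with product `t`; `{c}`: `c₁₂₃ c₁₂₄ = v₃₄`; `v` and `t v`: `w a * w b * (w (a s) * w b) = w s`; `v` and `c`, or `t v`
and `c`: two root types relative to `v₁₂`, or `t v₁₂`, whose products are both conjugate to `t`.
-/

set_option autoImplicit false

namespace Cfsg.Agent.BabyU.IsoOne

open Cfsg Cfsg.Agent.BabyU Cfsg.Agent.BabyU.Lab

universe u v

variable {G : Type u} [Group G] {E : Type v} [Group E]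

/-- `t` is not conjugate to a lift of a root involution. -/
structure Hy (t : G) (M : Subgroup G) (π : M →* E) (R : Set E) (Tri : E → E → E → Prop) : Prop where
  S : Setup t M π
  one : ∀ g, g * t = t * g → g ∈ M
  Rt : Roots E R
  K : KeyM.KeyE t M π R Tri
  tc : ∀ p q r p' q' r', Tri p q r → Tri p' q' r' →
    ∃ g : E, g * p * g⁻¹ = p' ∧ g * q * g⁻¹ = q' ∧ g * r * g⁻¹ = r'
  no : ∀ m : M, π m ∈ R → ¬ ∃ g : G, g * t * g⁻¹ = m

/-- six pairwise symplectic root involutions -/
structure Hex (R : Set E) (Tri : E → E → E → Prop) (r : Fin 6 → E) : Prop where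
  sym : ∀ i j, i < j → Key.Sym R (r i) (r j)
  tri : ∀ i j k, i < j → j < k → Tri (r i) (r j) (r k)

/-- the conjugates of `t` -/
def D (t : G) (x : G) : Prop := ∃ g : G, g * t * g⁻¹ = x

section basic

variable {t : G}

theorem D_self : D t t := ⟨1, by group⟩

theorem D.conj {x : G} (h : D t x) (g : G) : D t (g * x * g⁻¹) := by
  obtain ⟨k, rfl⟩ := h
  exact ⟨g * k, by group⟩

theorem D_conj_iff {x g : G} : D t (g * x * g⁻¹) ↔ D t x := by
  constructor
  · intro h
    have := h.conj g⁻¹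
    have e : g⁻¹ * (g * x * g⁻¹) * g⁻¹⁻¹ = x := by group
    rwa [e] at this
  · exact fun h => h.conj g

theorem D.sq (ht : t * t = 1) {x : G} (h : D t x) : x * x = 1 := by
  obtain ⟨k, rfl⟩ := h
  calc k * t * k⁻¹ * (k * t * k⁻¹) = k * (t * t) * k⁻¹ := by group
    _ = 1 := by rw [ht]; group

theorem D.ne_one (ht : t ≠ 1) {x : G} (h : D t x) : x ≠ 1 := by
  obtain ⟨k, rfl⟩ := h
  intro h1
  apply ht
  calc t = k⁻¹ * (k * t * k⁻¹) * k := by group
    _ = 1 := by rw [h1]; group

end basic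

variable {t : G} {M : Subgroup G} {π : M →* E} {R : Set E} {Tri : E → E → E → Prop}

/-- the canonical lift, in `G` -/
noncomputable def W (π : M →* E) (R : Set E) (r : E) : G := ((Lab.w π R r : M) : G)

/-- `v` -/
def PB (t : G) (π : M →* E) (R : Set E) : Prop := ∃ a b, Key.Sym R a b ∧ D t (W π R a * W π R b)

/-- `t * v` -/
def PB' (t : G) (π : M →* E) (R : Set E) : Prop := ∃ a b, Key.Sym R a b ∧ D t (t * (W π R a * W π R b))

/-- `c` -/
def PC (t : G) (π : M →* E) (R : Set E) (Tri : E → E → E → Prop) : Prop :=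
  ∃ p q r, Tri p q r ∧ D t (W π R p * W π R q * W π R r)

section main

variable (H : Hy t M π R Tri)

include H

theorem Hy.cover : Cover π H.S.z where
  surj := H.S.surj
  ker := H.S.ext.ker
  ne := H.S.ext.zne

theorem Hy.eq_or {x y : M} (h : π x = π y) : (x : G) = y ∨ (x : G) = t * y := by
  rcases H.cover.eq_or h with h1 | h1
  · exact Or.inl (congrArg Subtype.val h1)
  · exact Or.inr (congrArg Subtype.val h1)

theorem Hy.tt (x : G) : t * (t * x) = x := by rw [← mul_assoc, H.S.sq, one_mul]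

theorem Hy.W_conj (m : M) {r : E} (hr : r ∈ R) :
    (m : G) * W π R r * (m : G)⁻¹ = W π R (π m * r * (π m)⁻¹) :=
  congrArg Subtype.val (w_conj H.cover H.Rt m hr)

theorem Hy.W_t (r : E) : W π R r * t = t * W π R r := H.S.comm _ (Lab.w π R r).2

theorem Hy.W_sq {r : E} (hr : r ∈ R) : W π R r * W π R r = 1 := congrArg Subtype.val (w_sq H.cover H.Rt hr)

theorem Hy.W_comm {a b : E} (ha : a ∈ R) (hb : b ∈ R) (h : a * b = b * a) :
    W π R a * W π R b = W π R b * W π R a := congrArg Subtype.val (w_comm H.cover H.Rt ha hb h)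

theorem Hy.W_line {a b : E} (ha : a ∈ R) (hb : b ∈ R) (h : a * b ∈ R) : W π R a * W π R b = W π R (a * b) :=
  congrArg Subtype.val (w_line H.cover H.Rt ha hb h)

/-- symplectic pairs are conjugate in `M` -/
theorem Hy.sym_conj {a b a' b' : E} (h : Key.Sym R a b) (h' : Key.Sym R a' b') :
    ∃ m : M, (m : G) * W π R a * (m : G)⁻¹ = W π R a' ∧ (m : G) * W π R b * (m : G)⁻¹ = W π R b' := by
  obtain ⟨ha, hb, hne, hc, hn⟩ := h
  obtain ⟨ha', hb', hne', hc', hn'⟩ := h'
  obtain ⟨g, hg1, hg2⟩ := H.Rt.sym a ha b hb a' ha' b' hb' hne hc hn hne' hc' hn'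
  obtain ⟨m, rfl⟩ := H.S.surj g
  exact ⟨m, by rw [H.W_conj m ha, hg1], by rw [H.W_conj m hb, hg2]⟩

theorem Hy.pb {a b : E} (h : Key.Sym R a b) : D t (W π R a * W π R b) ↔ PB t π R := by
  constructor
  · exact fun h1 => ⟨a, b, h, h1⟩
  · rintro ⟨a', b', h', h1⟩
    obtain ⟨m, e1, e2⟩ := H.sym_conj h' h
    have h2 := h1.conj (m : G)
    have e : (m : G) * (W π R a' * W π R b') * (m : G)⁻¹ = W π R a * W π R b := by
      rw [← e1, ← e2]; group
    rwa [e] at h2

theorem Hy.pb' {a b : E} (h : Key.Sym R a b) : D t (t * (W π R a * W π R b)) ↔ PB' t π R := by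
  constructor
  · exact fun h1 => ⟨a, b, h, h1⟩
  · rintro ⟨a', b', h', h1⟩
    obtain ⟨m, e1, e2⟩ := H.sym_conj h' h
    have h2 := h1.conj (m : G)
    have e : (m : G) * (t * (W π R a' * W π R b')) * (m : G)⁻¹ = t * (W π R a * W π R b) := by
      calc (m : G) * (t * (W π R a' * W π R b')) * (m : G)⁻¹
          = ((m : G) * t) * (W π R a' * W π R b') * (m : G)⁻¹ := by group
        _ = t * ((m : G) * W π R a' * (m : G)⁻¹ * (m * W π R b' * (m : G)⁻¹)) := by rw [H.S.comm m m.2]; group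
        _ = _ := by rw [e1, e2]
    rwa [e] at h2

theorem Hy.pc {p q r : E} (h : Tri p q r) : D t (W π R p * W π R q * W π R r) ↔ PC t π R Tri := by
  constructor
  · exact fun h1 => ⟨p, q, r, h, h1⟩
  · rintro ⟨p', q', r', h', h1⟩
    obtain ⟨g, e1, e2, e3⟩ := H.tc p' q' r' p q r h' h
    obtain ⟨m, rfl⟩ := H.S.surj g
    obtain ⟨hp, hq, hr, -⟩ := H.K.tri p' q' r' h'
    have h2 := h1.conj (m : G)
    have e : (m : G) * (W π R p' * W π R q' * W π R r') * (m : G)⁻¹ = W π R p * W π R q * W π R r := by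
      rw [← e1, ← e2, ← e3, ← H.W_conj m hp, ← H.W_conj m hq, ← H.W_conj m hr]; group
    rwa [e] at h2

theorem Hy.pc' {p q r : E} (h : Tri p q r) : D t (t * (W π R p * W π R q * W π R r)) ↔ PC t π R Tri := by
  rw [← H.pc h]
  obtain ⟨hp, hq, hr, -⟩ := H.K.tri p q r h
  obtain ⟨x, hx, m, hm⟩ := H.K.lifts p q r h
  set c : M := Lab.w π R p * Lab.w π R q * Lab.w π R r with hc
  have e0 : W π R p * W π R q * W π R r = c := rfl
  have hπ : π c = π x := by
    rw [hc, map_mul, map_mul, map_w H.cover H.Rt hp, map_w H.cover H.Rt hq, map_w H.cover H.Rt hr, hx]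
  have key : (m : G) * c * (m : G)⁻¹ = t * c := by
    rcases H.eq_or hπ with h1 | h1
    · rw [h1, hm]
    · rw [h1]
      calc (m : G) * (t * x) * (m : G)⁻¹ = (m * t) * x * (m : G)⁻¹ := by group
        _ = t * ((m : G) * x * (m : G)⁻¹) := by rw [H.S.comm m m.2]; group
        _ = _ := by rw [hm]
  rw [e0, ← key]
  exact D_conj_iff

/-- The types of the elements of the class of `t` in `M`. -/
theorem Hy.typ {y : G} (hyM : y ∈ M) (hy : D t y) (hne : y ≠ t) :
    (PB t π R ∧ (D t (t * y) ↔ PB' t π R)) ∨ (PB' t π R ∧ (D t (t * y) ↔ PB t π R)) ∨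
      (PC t π R Tri ∧ D t (t * y)) := by
  obtain ⟨y', hy'⟩ : ∃ y' : M, y' = ⟨y, hyM⟩ := ⟨_, rfl⟩
  have e0 : (y' : G) = y := by rw [hy']
  have hsq : π y' * π y' = 1 := by
    rw [← map_mul]
    have h1 : y' * y' = 1 := Subtype.ext (by
      show (y' : G) * y' = 1
      rw [e0]; exact hy.sq H.S.sq)
    rw [h1, map_one]
  have hn1 : π y' ≠ 1 := by
    intro h
    rcases (H.S.ker y').1 h with h2 | h2
    · exact hy.ne_one H.S.ne (e0 ▸ h2)
    · exact hne (e0 ▸ h2)
  rcases H.K.key (π y') hsq hn1 with h | ⟨a, b, hs, h⟩ | ⟨p, q, r, hT, h⟩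
  · exact absurd (e0 ▸ hy) (H.no y' h)
  · have hs' : Key.Sym R a b := hs
    have hπ : π y' = π (Lab.w π R a * Lab.w π R b) := by
      rw [h, map_mul, map_w H.cover H.Rt hs.1, map_w H.cover H.Rt hs.2.1]
    rcases H.eq_or hπ with h1 | h1
    · left
      have e : y = W π R a * W π R b := e0 ▸ h1
      rw [e] at hy ⊢
      exact ⟨(H.pb hs').1 hy, H.pb' hs'⟩
    · right; left
      have e : y = t * (W π R a * W π R b) := e0 ▸ h1
      rw [e] at hy ⊢
      rw [H.tt]
      exact ⟨(H.pb' hs').1 hy, H.pb hs'⟩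
  · have hp := (H.K.tri p q r hT).1
    have hq := (H.K.tri p q r hT).2.1
    have hr := (H.K.tri p q r hT).2.2.1
    have hπ : π y' = π (Lab.w π R p * Lab.w π R q * Lab.w π R r) := by
      rw [h, map_mul, map_mul, map_w H.cover H.Rt hp, map_w H.cover H.Rt hq, map_w H.cover H.Rt hr]
    right; right
    rcases H.eq_or hπ with h1 | h1
    · have e : y = W π R p * W π R q * W π R r := e0 ▸ h1
      rw [e] at hy ⊢
      exact ⟨(H.pc hT).1 hy, (H.pc' hT).2 ((H.pc hT).1 hy)⟩
    · have e : y = t * (W π R p * W π R q * W π R r) := e0 ▸ h1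
      rw [e] at hy ⊢
      rw [H.tt]
      exact ⟨(H.pc' hT).1 hy, (H.pc hT).2 ((H.pc' hT).1 hy)⟩

/-- The product of two commuting conjugates of `t`. -/
theorem Hy.dd {d y : G} (hd : D t d) (hy : D t y) (hc : d * y = y * d) (hne : y ≠ d) :
    (PB t π R ∧ (D t (d * y) ↔ PB' t π R)) ∨ (PB' t π R ∧ (D t (d * y) ↔ PB t π R)) ∨
      (PC t π R Tri ∧ D t (d * y)) := by
  obtain ⟨g, rfl⟩ := hd
  have e1 : g * (g⁻¹ * y * g) * g⁻¹ = y := by group
  have hcomm : (g⁻¹ * y * g) * t = t * (g⁻¹ * y * g) := by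
    calc (g⁻¹ * y * g) * t = g⁻¹ * (y * (g * t * g⁻¹)) * g := by group
      _ = g⁻¹ * ((g * t * g⁻¹) * y) * g := by rw [hc]
      _ = _ := by group
  have hD : D t (g⁻¹ * y * g) := by
    rw [← D_conj_iff (g := g), e1]; exact hy
  have hne' : g⁻¹ * y * g ≠ t := by
    intro h
    apply hne
    rw [← h]; group
  have e2 : D t (g * t * g⁻¹ * y) ↔ D t (t * (g⁻¹ * y * g)) := by
    have e3 : g * t * g⁻¹ * y = g * (t * (g⁻¹ * y * g)) * g⁻¹ := by group
    rw [e3]
    exact D_conj_iff
  rw [e2]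
  exact H.typ (H.one _ hcomm) hD hne'

/-- An involution of `M` such that neither `x` nor `t * x` is conjugate to `t` has root type. -/
theorem Hy.root_of {x : M} (xx : x * x = 1) (hx : ¬ D t (x : G)) (htx : ¬ D t (t * x)) (hB : PB t π R ∨ PB' t π R)
    (hC : PC t π R Tri) : π x ∈ R := by
  have hn1 : π x ≠ 1 := by
    intro h
    rcases (H.S.ker x).1 h with h2 | h2
    · exact htx (by rw [h2, mul_one]; exact D_self)
    · exact hx (by rw [h2]; exact D_self)
  rcases H.K.key (π x) (by rw [← map_mul, xx, map_one]) hn1 with h | ⟨a, b, hs, h⟩ | ⟨p, q, r, hT, h⟩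
  · exact h
  · exfalso
    have hs' : Key.Sym R a b := hs
    have hπ : π x = π (Lab.w π R a * Lab.w π R b) := by
      rw [h, map_mul, map_w H.cover H.Rt hs.1, map_w H.cover H.Rt hs.2.1]
    rcases H.eq_or hπ with h1 | h1
    · have e : (x : G) = W π R a * W π R b := h1
      rw [e] at hx htx
      rcases hB with hB | hB
      · exact hx ((H.pb hs').2 hB)
      · exact htx ((H.pb' hs').2 hB)
    · have e : (x : G) = t * (W π R a * W π R b) := h1
      rw [e] at hx htx
      rw [H.tt] at htx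
      rcases hB with hB | hB
      · exact htx ((H.pb hs').2 hB)
      · exact hx ((H.pb' hs').2 hB)
  · exfalso
    have hp := (H.K.tri p q r hT).1
    have hq := (H.K.tri p q r hT).2.1
    have hr := (H.K.tri p q r hT).2.2.1
    have hπ : π x = π (Lab.w π R p * Lab.w π R q * Lab.w π R r) := by
      rw [h, map_mul, map_mul, map_w H.cover H.Rt hp, map_w H.cover H.Rt hq, map_w H.cover H.Rt hr]
    rcases H.eq_or hπ with h1 | h1
    · have e : (x : G) = W π R p * W π R q * W π R r := h1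
      rw [e] at hx
      exact hx ((H.pc hT).2 hC)
    · have e : (x : G) = t * (W π R p * W π R q * W π R r) := h1
      rw [e] at hx
      exact hx ((H.pc' hT).2 hC)

/-- If both lifts of the product of two commuting root involutions are conjugate to `t`, both symplectic types are in
the class. -/
theorem Hy.prod {x y : M} (hx : π x ∈ R) (hy : π y ∈ R) (hc : x * y = y * x) (h1 : D t ((x : G) * y))
    (h2 : D t (t * ((x : G) * y))) : PB t π R ∧ PB' t π R := by
  have hne : π x ≠ π y := by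
    intro h
    have h3 : π (x * y) = 1 := by rw [map_mul, h, H.Rt.sq _ hy]
    rcases (H.S.ker _).1 h3 with h4 | h4
    · exact h1.ne_one H.S.ne h4
    · apply h2.ne_one H.S.ne
      have h5 : (x : G) * y = t := h4
      rw [h5, H.S.sq]
  have hc' : π x * π y = π y * π x := by rw [← map_mul, hc, map_mul]
  by_cases hR : π x * π y ∈ R
  · exact absurd h1 (H.no (x * y) (by rw [map_mul]; exact hR))
  · have hs : Key.Sym R (π x) (π y) := ⟨hx, hy, hne, hc', hR⟩
    have hπ : π (x * y) = π (Lab.w π R (π x) * Lab.w π R (π y)) := by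
      rw [map_mul, map_mul, map_w H.cover H.Rt hx, map_w H.cover H.Rt hy]
    rcases H.eq_or hπ with h3 | h3
    · have e : (x : G) * y = W π R (π x) * W π R (π y) := h3
      rw [e] at h1 h2
      exact ⟨(H.pb hs).1 h1, (H.pb' hs).1 h2⟩
    · have e : (x : G) * y = t * (W π R (π x) * W π R (π y)) := h3
      rw [e] at h1 h2
      rw [H.tt] at h2
      exact ⟨(H.pb hs).1 h2, (H.pb' hs).1 h1⟩

/-- The same relative to a conjugate `d` of `t`. -/
theorem Hy.two {d x y : G} (hd : D t d) (hdx : d * x = x * d) (hdy : d * y = y * d) (xx : x * x = 1)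
    (yy : y * y = 1) (hc : x * y = y * x) (nx : ¬ D t x) (ndx : ¬ D t (d * x)) (ny : ¬ D t y)
    (ndy : ¬ D t (d * y)) (h1 : D t (x * y)) (h2 : D t (d * (x * y))) (hB : PB t π R ∨ PB' t π R)
    (hC : PC t π R Tri) : PB t π R ∧ PB' t π R := by
  obtain ⟨g, rfl⟩ := hd
  have cm : ∀ {z : G}, g * t * g⁻¹ * z = z * (g * t * g⁻¹) → (g⁻¹ * z * g) * t = t * (g⁻¹ * z * g) := by
    intro z hz
    calc (g⁻¹ * z * g) * t = g⁻¹ * (z * (g * t * g⁻¹)) * g := by group
      _ = g⁻¹ * ((g * t * g⁻¹) * z) * g := by rw [hz]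
      _ = _ := by group
  have sq : ∀ {z : G}, z * z = 1 → (g⁻¹ * z * g) * (g⁻¹ * z * g) = 1 := by
    intro z hz
    calc (g⁻¹ * z * g) * (g⁻¹ * z * g) = g⁻¹ * (z * z) * g := by group
      _ = 1 := by rw [hz]; group
  have cj : ∀ {z : G}, D t (g⁻¹ * z * g) ↔ D t z := by
    intro z
    have e : g * (g⁻¹ * z * g) * g⁻¹ = z := by group
    rw [← D_conj_iff (g := g), e]
  have cj' : ∀ {z : G}, D t (t * (g⁻¹ * z * g)) ↔ D t (g * t * g⁻¹ * z) := by
    intro z
    have e : g * (t * (g⁻¹ * z * g)) * g⁻¹ = g * t * g⁻¹ * z := by group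
    rw [← D_conj_iff (g := g), e]
  have emul : ∀ z z' : G, g⁻¹ * z * g * (g⁻¹ * z' * g) = g⁻¹ * (z * z') * g := fun z z' => by group
  obtain ⟨X, hX⟩ : ∃ X : M, (X : G) = g⁻¹ * x * g := ⟨⟨_, H.one _ (cm hdx)⟩, rfl⟩
  obtain ⟨Y, hY⟩ : ∃ Y : M, (Y : G) = g⁻¹ * y * g := ⟨⟨_, H.one _ (cm hdy)⟩, rfl⟩
  refine H.prod (x := X) (y := Y) (H.root_of ?_ ?_ ?_ hB hC) (H.root_of ?_ ?_ ?_ hB hC) ?_ ?_ ?_
  · exact Subtype.ext (by show (X : G) * X = 1; rw [hX]; exact sq xx)
  · rw [hX, cj]; exact nx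
  · rw [hX, cj']; exact ndx
  · exact Subtype.ext (by show (Y : G) * Y = 1; rw [hY]; exact sq yy)
  · rw [hY, cj]; exact ny
  · rw [hY, cj']; exact ndy
  · exact Subtype.ext (by show (X : G) * Y = Y * X; rw [hX, hY, emul, emul, hc])
  · rw [hX, hY, emul, cj]; exact h1
  · rw [hX, hY, emul, cj']; exact h2

theorem Hy.W_ne {a b : E} (ha : a ∈ R) (hb : b ∈ R) (h : a ≠ b) : (W π R a : G) ≠ W π R b := by
  intro h1
  apply h
  rw [← map_w H.cover H.Rt ha, ← map_w H.cover H.Rt hb]
  exact congrArg π (Subtype.ext h1)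

theorem Hy.noW {a : E} (ha : a ∈ R) : ¬ D t (W π R a) :=
  H.no (Lab.w π R a) (by rw [map_w H.cover H.Rt ha]; exact ha)

theorem Hy.notW {a : E} (ha : a ∈ R) : ¬ D t (t * W π R a) :=
  H.no (Lab.lab π H.S.z R a) (by rw [map_lab H.cover H.Rt ha]; exact ha)

/-- `v` and `t * v` are not both in the class. -/
theorem Hy.not_both {a s b : E} (ha : a ∈ R) (hs : s ∈ R) (hl : a * s ∈ R) (hab : Key.Sym R a b)
    (hasb : Key.Sym R (a * s) b) (h1 : PB t π R) (h2 : PB' t π R) : False := by
  have aa := H.Rt.sq a ha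
  have ss := H.Rt.sq s hs
  have comm : a * s = s * a := by
    have h3 := H.Rt.sq _ hl
    calc a * s = a * (s * 1) := by group
      _ = a * (s * ((a * s) * (a * s))) := by rw [h3]
      _ = (a * s) * (a * s) * (a * s) := by group
      _ = ((a * s) * (a * s))⁻¹ * (a * s)⁻¹⁻¹ := by rw [h3]; group
      _ = (a * s)⁻¹ := by rw [inv_inv, h3, inv_one, one_mul]; exact (inv_eq_of_mul_eq_one_left h3).symm
      _ = s⁻¹ * a⁻¹ := mul_inv_rev _ _
      _ = s * a := by rw [inv_eq_of_mul_eq_one_left aa, inv_eq_of_mul_eq_one_left ss]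
  have hb : b ∈ R := hab.2.1
  have e1 : a * (a * s) = s := by rw [← mul_assoc, aa, one_mul]
  have c1 := H.W_comm hl hb hasb.2.2.2.1
  have c2 : (W π R a : G) * W π R (a * s) = W π R (a * s) * W π R a :=
    H.W_comm ha hl (by rw [e1, comm, mul_assoc, aa, mul_one])
  have c3 := H.W_comm ha hb hab.2.2.2.1
  have hv := (H.pb hab).2 h1
  have hv' := (H.pb hasb).2 h1
  have hline := H.W_line ha hl (by rw [e1]; exact hs)
  rw [e1] at hline
  have bb : (W π R b : G) * W π R b = 1 := H.W_sq hb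
  have e2 : (W π R a : G) * W π R b * (W π R (a * s) * W π R b) = W π R s := by
    calc (W π R a : G) * W π R b * (W π R (a * s) * W π R b)
        = W π R a * (W π R b * W π R (a * s)) * W π R b := by group
      _ = W π R a * (W π R (a * s) * W π R b) * W π R b := by rw [c1]
      _ = (W π R a * W π R (a * s)) * (W π R b * W π R b) := by group
      _ = _ := by rw [bb, mul_one, hline]
  have e3 : (W π R (a * s) : G) * W π R b * (W π R a * W π R b) = W π R s := by
    calc (W π R (a * s) : G) * W π R b * (W π R a * W π R b)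
        = W π R (a * s) * (W π R b * W π R a) * W π R b := by group
      _ = W π R (a * s) * (W π R a * W π R b) * W π R b := by rw [c3]
      _ = (W π R (a * s) * W π R a) * (W π R b * W π R b) := by group
      _ = _ := by rw [bb, mul_one, ← c2, hline]
  have hne : (W π R (a * s) : G) * W π R b ≠ W π R a * W π R b := by
    intro h
    apply H.W_ne hl ha _ (mul_right_cancel h)
    intro h4
    exact H.Rt.ne_one s hs (mul_eq_left.1 h4)
  have h5 : D t ((W π R a : G) * W π R b * (W π R (a * s) * W π R b)) := by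
    rcases H.dd hv hv' (by rw [e2, e3]) hne with ⟨-, h⟩ | ⟨-, h⟩ | ⟨-, h⟩
    · exact h.2 h2
    · exact h.2 h1
    · exact h
  rw [e2] at h5
  exact H.noW hs h5

/-- **No type occurs.** -/
theorem Hy.false {r r' : Fin 6 → E} (hx : Hex R Tri r) (hx' : Hex R Tri r')
    (hp : (W π R (r 0) : G) * W π R (r 1) * (W π R (r 2) * W π R (r 3)) * (W π R (r 4) * W π R (r 5)) = t)
    (hp' : (W π R (r' 0) : G) * W π R (r' 1) * (W π R (r' 2) * W π R (r' 3)) * (W π R (r' 4) * W π R (r' 5)) = 1)
    {a s b : E} (ha : a ∈ R) (hs : s ∈ R) (hl : a * s ∈ R) (hab : Key.Sym R a b) (hasb : Key.Sym R (a * s) b)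
    (hex : ∃ x, D t x ∧ x ≠ t ∧ x * t = t * x) : False := by
  have hL : ¬ (PB t π R ∧ PB' t π R) := fun h => H.not_both ha hs hl hab hasb h.1 h.2
  -- identities
  have i1 : ∀ {a b c : G}, a * a = 1 → a * b = b * a → a * b * (a * c) = b * c := by
    intro a b c aa ab
    calc a * b * (a * c) = (a * b) * a * c := by group
      _ = b * (a * a) * c := by rw [ab]; group
      _ = b * c := by rw [aa, mul_one]
  have hR : ∀ {r : Fin 6 → E}, Hex R Tri r → ∀ i, r i ∈ R := by
    intro r h i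
    by_cases hi : i = 0
    · rw [hi]; exact (h.sym 0 1 (by decide)).1
    · exact (h.sym 0 i (Fin.pos_of_ne_zero hi)).2.1
  have hcm : ∀ {r : Fin 6 → E}, Hex R Tri r → ∀ i j, i < j →
      (W π R (r i) : G) * W π R (r j) = W π R (r j) * W π R (r i) := by
    intro r h i j hij
    exact H.W_comm (hR h i) (hR h j) (h.sym i j hij).2.2.2.1
  have hne : ∀ {r : Fin 6 → E}, Hex R Tri r → ∀ i j, i < j → (W π R (r i) : G) ≠ W π R (r j) := by
    intro r h i j hij
    exact H.W_ne (hR h i) (hR h j) (h.sym i j hij).2.2.1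
  -- some type occurs
  obtain ⟨x, hx1, hx2, hx3⟩ := hex
  have htyp := H.typ (H.one x hx3) hx1 hx2
  by_cases h1 : PB t π R
  · have h2 : ¬ PB' t π R := fun h => hL ⟨h1, h⟩
    by_cases h3 : PC t π R Tri
    · -- `v` and `c`
      obtain ⟨c0, e0⟩ : ∃ c, c = (W π R (r' 0) : G) := ⟨_, rfl⟩
      obtain ⟨c1, e1⟩ : ∃ c, c = (W π R (r' 1) : G) := ⟨_, rfl⟩
      obtain ⟨c2, e2⟩ : ∃ c, c = (W π R (r' 2) : G) := ⟨_, rfl⟩
      obtain ⟨c3, e3⟩ : ∃ c, c = (W π R (r' 3) : G) := ⟨_, rfl⟩
      obtain ⟨c4, e4⟩ : ∃ c, c = (W π R (r' 4) : G) := ⟨_, rfl⟩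
      obtain ⟨c5, e5⟩ : ∃ c, c = (W π R (r' 5) : G) := ⟨_, rfl⟩
      have s0 : c0 * c0 = 1 := by rw [e0]; exact H.W_sq (hR hx' 0)
      have s1 : c1 * c1 = 1 := by rw [e1]; exact H.W_sq (hR hx' 1)
      have s2 : c2 * c2 = 1 := by rw [e2]; exact H.W_sq (hR hx' 2)
      have s3 : c3 * c3 = 1 := by rw [e3]; exact H.W_sq (hR hx' 3)
      have s4 : c4 * c4 = 1 := by rw [e4]; exact H.W_sq (hR hx' 4)
      have s5 : c5 * c5 = 1 := by rw [e5]; exact H.W_sq (hR hx' 5)
      have m01 : c0 * c1 = c1 * c0 := by rw [e0, e1]; exact hcm hx' 0 1 (by decide)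
      have m02 : c0 * c2 = c2 * c0 := by rw [e0, e2]; exact hcm hx' 0 2 (by decide)
      have m03 : c0 * c3 = c3 * c0 := by rw [e0, e3]; exact hcm hx' 0 3 (by decide)
      have m12 : c1 * c2 = c2 * c1 := by rw [e1, e2]; exact hcm hx' 1 2 (by decide)
      have m13 : c1 * c3 = c3 * c1 := by rw [e1, e3]; exact hcm hx' 1 3 (by decide)
      have m23 : c2 * c3 = c3 * c2 := by rw [e2, e3]; exact hcm hx' 2 3 (by decide)
      have m45 : c4 * c5 = c5 * c4 := by rw [e4, e5]; exact hcm hx' 4 5 (by decide)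
      have t0 : c0 * t = t * c0 := by rw [e0]; exact H.W_t _
      have t1 : c1 * t = t * c1 := by rw [e1]; exact H.W_t _
      have t2 : c2 * t = t * c2 := by rw [e2]; exact H.W_t _
      have t3 : c3 * t = t * c3 := by rw [e3]; exact H.W_t _
      have hprod : c0 * c1 * (c2 * c3) * (c4 * c5) = 1 := by rw [e0, e1, e2, e3, e4, e5]; exact hp'
      have h0123 : c0 * c1 * (c2 * c3) = c4 * c5 := by
        calc c0 * c1 * (c2 * c3) = c0 * c1 * (c2 * c3) * (c4 * c5) * (c4 * c5)⁻¹ := by group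
          _ = c5⁻¹ * c4⁻¹ := by rw [hprod, one_mul, mul_inv_rev]
          _ = c4 * c5 := by rw [inv_eq_of_mul_eq_one_left s5, inv_eq_of_mul_eq_one_left s4, m45]
      have w01 : D t (c0 * c1) := by rw [e0, e1]; exact (H.pb (hx'.sym 0 1 (by decide))).2 h1
      have w23 : ¬ D t (t * (c2 * c3)) := by
        rw [e2, e3]; exact fun h => h2 ((H.pb' (hx'.sym 2 3 (by decide))).1 h)
      have w45 : ¬ D t (t * (c4 * c5)) := by
        rw [e4, e5]; exact fun h => h2 ((H.pb' (hx'.sym 4 5 (by decide))).1 h)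
      have w023 : D t (t * (c0 * c2 * c3)) := by
        rw [e0, e2, e3]; exact (H.pc' (hx'.tri 0 2 3 (by decide) (by decide))).2 h3
      have w123 : D t (t * (c1 * c2 * c3)) := by
        rw [e1, e2, e3]; exact (H.pc' (hx'.tri 1 2 3 (by decide) (by decide))).2 h3
      have w0 : ¬ D t c0 := by rw [e0]; exact H.noW (hR hx' 0)
      have w1 : ¬ D t c1 := by rw [e1]; exact H.noW (hR hx' 1)
      have C01 : Commute c0 c1 := m01
      have C02 : Commute c0 c2 := m02
      have C03 : Commute c0 c3 := m03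
      have C12 : Commute c1 c2 := m12
      have C13 : Commute c1 c3 := m13
      have C23 : Commute c2 c3 := m23
      have T0 : Commute c0 t := t0
      have T1 : Commute c1 t := t1
      have T2 : Commute c2 t := t2
      have T3 : Commute c3 t := t3
      have q1 : c0 * c1 * c0 = c1 := by rw [m01, mul_assoc, s0, mul_one]
      have q2 : c0 * c1 * (t * (c2 * c3)) = t * (c4 * c5) := by
        calc c0 * c1 * (t * (c2 * c3)) = (c0 * c1 * t) * (c2 * c3) := by group
          _ = t * (c0 * c1 * (c2 * c3)) := by rw [(T0.mul_left T1).eq]; group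
          _ = _ := by rw [h0123]
      have q3 : c0 * (t * (c2 * c3)) = t * (c0 * c2 * c3) := by
        calc c0 * (t * (c2 * c3)) = (c0 * t) * (c2 * c3) := by group
          _ = _ := by rw [t0]; group
      have q4 : c0 * c1 * (c0 * (t * (c2 * c3))) = t * (c1 * c2 * c3) := by
        calc c0 * c1 * (c0 * (t * (c2 * c3))) = (c0 * c1 * c0) * t * (c2 * c3) := by group
          _ = (c1 * t) * (c2 * c3) := by rw [q1]
          _ = _ := by rw [t1]; group
      have q5 : (t * (c2 * c3)) * (t * (c2 * c3)) = 1 := by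
        calc (t * (c2 * c3)) * (t * (c2 * c3)) = t * ((c2 * c3) * t) * (c2 * c3) := by group
          _ = (t * t) * ((c2 * c3) * (c2 * c3)) := by rw [(T2.mul_left T3).eq]; group
          _ = (c2 * c3) * (c2 * c3) := by rw [H.S.sq, one_mul]
          _ = (c2 * c3) * (c3 * c2) := by rw [← m23]
          _ = c2 * (c3 * c3) * c2 := by group
          _ = 1 := by rw [s3, mul_one, s2]
      have := H.two (d := c0 * c1) (x := c0) (y := t * (c2 * c3)) w01
        ((Commute.mul_left (Commute.refl c0) C01.symm).eq)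
        ((Commute.mul_right (T0.mul_left T1) ((C02.mul_left C12).mul_right (C03.mul_left C13))).eq) s0 q5
        ((T0.mul_right (C02.mul_right C03)).eq) w0 (by rw [q1]; exact w1) w23 (by rw [q2]; exact w45)
        (by rw [q3]; exact w023) (by rw [q4]; exact w123) (Or.inl h1) h3
      exact hL this
    · -- `v` only
      have m01 := hcm hx 0 1 (by decide)
      have m02 := hcm hx 0 2 (by decide)
      have m12 := hcm hx 1 2 (by decide)
      have s0 := H.W_sq (hR hx 0)
      have e1 : (W π R (r 0) : G) * W π R (r 1) * (W π R (r 0) * W π R (r 2)) = W π R (r 1) * W π R (r 2) :=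
        i1 s0 m01
      have e2 : (W π R (r 0) : G) * W π R (r 2) * (W π R (r 0) * W π R (r 1)) = W π R (r 1) * W π R (r 2) := by
        rw [i1 s0 m02, m12]
      have h12 := (H.pb (hx.sym 1 2 (by decide))).2 h1
      rcases H.dd ((H.pb (hx.sym 0 1 (by decide))).2 h1) ((H.pb (hx.sym 0 2 (by decide))).2 h1)
        (by rw [e1, e2]) (fun h => hne hx 1 2 (by decide) (mul_left_cancel h).symm) with ⟨-, h⟩ | ⟨h, -⟩ | ⟨h, -⟩
      · rw [e1] at h
        exact h2 (h.1 h12)
      · exact h2 h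
      · exact h3 h
  · by_cases h2 : PB' t π R
    · obtain ⟨c0, e0⟩ : ∃ c, c = (W π R (r 0) : G) := ⟨_, rfl⟩
      obtain ⟨c1, e1⟩ : ∃ c, c = (W π R (r 1) : G) := ⟨_, rfl⟩
      obtain ⟨c2, e2⟩ : ∃ c, c = (W π R (r 2) : G) := ⟨_, rfl⟩
      obtain ⟨c3, e3⟩ : ∃ c, c = (W π R (r 3) : G) := ⟨_, rfl⟩
      obtain ⟨c4, e4⟩ : ∃ c, c = (W π R (r 4) : G) := ⟨_, rfl⟩
      obtain ⟨c5, e5⟩ : ∃ c, c = (W π R (r 5) : G) := ⟨_, rfl⟩
      have s0 : c0 * c0 = 1 := by rw [e0]; exact H.W_sq (hR hx 0)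
      have s1 : c1 * c1 = 1 := by rw [e1]; exact H.W_sq (hR hx 1)
      have s2 : c2 * c2 = 1 := by rw [e2]; exact H.W_sq (hR hx 2)
      have s3 : c3 * c3 = 1 := by rw [e3]; exact H.W_sq (hR hx 3)
      have s4 : c4 * c4 = 1 := by rw [e4]; exact H.W_sq (hR hx 4)
      have s5 : c5 * c5 = 1 := by rw [e5]; exact H.W_sq (hR hx 5)
      have C01 : Commute c0 c1 := by rw [e0, e1]; exact hcm hx 0 1 (by decide)
      have C02 : Commute c0 c2 := by rw [e0, e2]; exact hcm hx 0 2 (by decide)
      have C03 : Commute c0 c3 := by rw [e0, e3]; exact hcm hx 0 3 (by decide)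
      have C12 : Commute c1 c2 := by rw [e1, e2]; exact hcm hx 1 2 (by decide)
      have C13 : Commute c1 c3 := by rw [e1, e3]; exact hcm hx 1 3 (by decide)
      have C23 : Commute c2 c3 := by rw [e2, e3]; exact hcm hx 2 3 (by decide)
      have m45 : c4 * c5 = c5 * c4 := by rw [e4, e5]; exact hcm hx 4 5 (by decide)
      have T0 : Commute c0 t := by rw [e0]; exact H.W_t _
      have T1 : Commute c1 t := by rw [e1]; exact H.W_t _
      have T2 : Commute c2 t := by rw [e2]; exact H.W_t _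
      have T3 : Commute c3 t := by rw [e3]; exact H.W_t _
      have hprod : c0 * c1 * (c2 * c3) * (c4 * c5) = t := by rw [e0, e1, e2, e3, e4, e5]; exact hp
      have h0123 : c0 * c1 * (c2 * c3) = t * (c4 * c5) := by
        calc c0 * c1 * (c2 * c3) = c0 * c1 * (c2 * c3) * (c4 * c5) * (c4 * c5)⁻¹ := by group
          _ = t * (c5⁻¹ * c4⁻¹) := by rw [hprod, mul_inv_rev]
          _ = t * (c4 * c5) := by rw [inv_eq_of_mul_eq_one_left s5, inv_eq_of_mul_eq_one_left s4, m45]
      have w01 : D t (t * (c0 * c1)) := by rw [e0, e1]; exact (H.pb' (hx.sym 0 1 (by decide))).2 h2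
      have q0 : (c2 * c3) * (c2 * c3) = 1 := by
        calc (c2 * c3) * (c2 * c3) = (c2 * c3) * (c3 * c2) := by rw [C23.eq]
          _ = c2 * (c3 * c3) * c2 := by group
          _ = 1 := by rw [s3, mul_one, s2]
      by_cases h3 : PC t π R Tri
      · -- `t * v` and `c`
        have w23 : ¬ D t (c2 * c3) := by
          rw [e2, e3]; exact fun h => h1 ((H.pb (hx.sym 2 3 (by decide))).1 h)
        have w45 : ¬ D t (c4 * c5) := by
          rw [e4, e5]; exact fun h => h1 ((H.pb (hx.sym 4 5 (by decide))).1 h)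
        have w023 : D t (c0 * c2 * c3) := by
          rw [e0, e2, e3]; exact (H.pc (hx.tri 0 2 3 (by decide) (by decide))).2 h3
        have w123 : D t (t * (c1 * c2 * c3)) := by
          rw [e1, e2, e3]; exact (H.pc' (hx.tri 1 2 3 (by decide) (by decide))).2 h3
        have w0 : ¬ D t c0 := by rw [e0]; exact H.noW (hR hx 0)
        have w1 : ¬ D t (t * c1) := by rw [e1]; exact H.notW (hR hx 1)
        have q1 : t * (c0 * c1) * c0 = t * c1 := by
          rw [C01.eq, mul_assoc, mul_assoc c1, s0, mul_one]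
        have q2 : t * (c0 * c1) * (c2 * c3) = c4 * c5 := by
          rw [mul_assoc, h0123, H.tt]
        have q3 : c0 * (c2 * c3) = c0 * c2 * c3 := by group
        have q4 : t * (c0 * c1) * (c0 * (c2 * c3)) = t * (c1 * c2 * c3) := by
          rw [← mul_assoc (t * (c0 * c1)), q1]; group
        have := H.two (d := t * (c0 * c1)) (x := c0) (y := c2 * c3) w01
          ((T0.symm.mul_left (Commute.mul_left (Commute.refl c0) C01.symm)).eq)
          ((Commute.mul_left (T2.symm.mul_right T3.symm) ((C02.mul_left C12).mul_right (C03.mul_left C13))).eq) s0 q0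
          ((C02.mul_right C03).eq) w0 (by rw [q1]; exact w1) w23 (by rw [q2]; exact w45)
          (by rw [q3]; exact w023) (by rw [q4]; exact w123) (Or.inr h2) h3
        exact hL this
      · -- `t * v` only
        have w23 : D t (t * (c2 * c3)) := by rw [e2, e3]; exact (H.pb' (hx.sym 2 3 (by decide))).2 h2
        have w45 : D t (t * (c4 * c5)) := by rw [e4, e5]; exact (H.pb' (hx.sym 4 5 (by decide))).2 h2
        have q1 : t * (c0 * c1) * (t * (c2 * c3)) = t * (c4 * c5) := by
          calc t * (c0 * c1) * (t * (c2 * c3)) = t * ((c0 * c1) * t) * (c2 * c3) := by group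
            _ = (t * t) * (c0 * c1 * (c2 * c3)) := by rw [(T0.mul_left T1).eq]; group
            _ = _ := by rw [H.S.sq, one_mul, h0123]
        have hc : Commute (t * (c0 * c1)) (t * (c2 * c3)) :=
          (Commute.mul_left ((Commute.refl t).mul_right (T2.symm.mul_right T3.symm))
            ((T0.mul_left T1).mul_right ((C02.mul_left C12).mul_right (C03.mul_left C13))))
        have hn : t * (c2 * c3) ≠ t * (c0 * c1) := by
          intro h
          apply w45.ne_one H.S.ne
          rw [← q1, h]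
          exact w01.sq H.S.sq
        rcases H.dd w01 w23 hc.eq hn with ⟨h, -⟩ | ⟨-, h⟩ | ⟨h, -⟩
        · exact h1 h
        · rw [q1] at h
          exact h1 (h.1 w45)
        · exact h3 h
    · -- `c` only
      have h3 : PC t π R Tri := by
        rcases htyp with ⟨h, -⟩ | ⟨h, -⟩ | ⟨h, -⟩
        · exact absurd h h1
        · exact absurd h h2
        · exact h
      have s0 := H.W_sq (hR hx 0)
      have s1 := H.W_sq (hR hx 1)
      have C01 : Commute (W π R (r 0) : G) (W π R (r 1)) := hcm hx 0 1 (by decide)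
      have C02 : Commute (W π R (r 0) : G) (W π R (r 2)) := hcm hx 0 2 (by decide)
      have C03 : Commute (W π R (r 0) : G) (W π R (r 3)) := hcm hx 0 3 (by decide)
      have C12 : Commute (W π R (r 1) : G) (W π R (r 2)) := hcm hx 1 2 (by decide)
      have C13 : Commute (W π R (r 1) : G) (W π R (r 3)) := hcm hx 1 3 (by decide)
      have C23 : Commute (W π R (r 2) : G) (W π R (r 3)) := hcm hx 2 3 (by decide)
      have w012 := (H.pc (hx.tri 0 1 2 (by decide) (by decide))).2 h3
      have w013 := (H.pc (hx.tri 0 1 3 (by decide) (by decide))).2 h3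
      have hc : Commute ((W π R (r 0) : G) * W π R (r 1) * W π R (r 2)) (W π R (r 0) * W π R (r 1) * W π R (r 3)) := by
        apply Commute.mul_left
        · apply Commute.mul_left
          · exact ((Commute.refl _).mul_right C01).mul_right C03
          · exact (C01.symm.mul_right (Commute.refl _)).mul_right C13
        · exact (C02.symm.mul_right C12.symm).mul_right C23
      have q1 : (W π R (r 0) : G) * W π R (r 1) * W π R (r 2) * (W π R (r 0) * W π R (r 1) * W π R (r 3)) =
          W π R (r 2) * W π R (r 3) := by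
        have e1 : (W π R (r 0) : G) * W π R (r 1) * (W π R (r 0) * W π R (r 1)) = 1 := by
          rw [i1 s0 C01.eq, s1]
        have e2 : Commute (W π R (r 2) : G) (W π R (r 0) * W π R (r 1)) := C02.symm.mul_right C12.symm
        calc (W π R (r 0) : G) * W π R (r 1) * W π R (r 2) * (W π R (r 0) * W π R (r 1) * W π R (r 3))
            = W π R (r 0) * W π R (r 1) * (W π R (r 2) * (W π R (r 0) * W π R (r 1))) * W π R (r 3) := by group
          _ = W π R (r 0) * W π R (r 1) * (W π R (r 0) * W π R (r 1)) * (W π R (r 2) * W π R (r 3)) := by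
              rw [e2.eq]; group
          _ = _ := by rw [e1, one_mul]
      rcases H.dd w012 w013 hc.eq (fun h => hne hx 2 3 (by decide) (mul_left_cancel h).symm) with
        ⟨h, -⟩ | ⟨h, -⟩ | ⟨-, h⟩
      · exact h1 h
      · exact h2 h
      · rw [q1] at h
        exact h1 ((H.pb (hx.sym 2 3 (by decide))).1 h)

end main

/-- **Fusion when `C_G(t)` is the double cover `M` of `E`**: if `t` has a conjugate different from `t` commuting with
`t`, then `t` is conjugate to a lift of a root involution. -/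
theorem fuse_one (S : Setup t M π) (hone : ∀ g, g * t = t * g → g ∈ M) (Rt : Roots E R)
    (K : KeyM.KeyE t M π R Tri)
    (tc : ∀ p q r p' q' r', Tri p q r → Tri p' q' r' →
      ∃ g : E, g * p * g⁻¹ = p' ∧ g * q * g⁻¹ = q' ∧ g * r * g⁻¹ = r')
    {r r' : Fin 6 → E} (hx : Hex R Tri r) (hx' : Hex R Tri r')
    (hp : (W π R (r 0) : G) * W π R (r 1) * (W π R (r 2) * W π R (r 3)) * (W π R (r 4) * W π R (r 5)) = t)
    (hp' : (W π R (r' 0) : G) * W π R (r' 1) * (W π R (r' 2) * W π R (r' 3)) * (W π R (r' 4) * W π R (r' 5)) = 1)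
    {a s b : E} (ha : a ∈ R) (hs : s ∈ R) (hl : a * s ∈ R) (hab : Key.Sym R a b) (hasb : Key.Sym R (a * s) b)
    (hex : ∃ g : G, g * t * g⁻¹ ≠ t ∧ (g * t * g⁻¹) * t = t * (g * t * g⁻¹)) :
    ∃ m : M, π m ∈ R ∧ ∃ g : G, g * t * g⁻¹ = m := by
  by_contra hcon
  push Not at hcon
  have H : Hy t M π R Tri := ⟨S, hone, Rt, K, tc, fun m hm ⟨g, hg⟩ => hcon m hm g hg⟩
  obtain ⟨g, h1, h2⟩ := hex
  exact H.false hx hx' hp hp' ha hs hl hab hasb ⟨_, ⟨g, rfl⟩, h1, h2⟩

end Cfsg.Agent.BabyU.IsoOne
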