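import Cfsg.Agent.BabyU.Hexad
import Cfsg.Agent.BabyU.IsoOne

/-!
# U-B: two hexads, with product `z` and with product `1`

`hex_of`: for all nodes `s` with the Coxeter relations of `Y₃₃₃` and the spider relation the six roots `P1, …, P6` are
pairwise symplectic and all triples are triangles.  The nodes `m` of a double cover give the product `z` of the
canonical lifts, the nodes after the rotation of the arms give the product `1` (`exists_hexads`).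
-/

set_option autoImplicit false
set_option linter.unusedSectionVars false

namespace Cfsg.Agent.BabyU.HexadOne

open Cfsg Cfsg.Agent.TwoESix.Cox10 Cfsg.Agent.TwoESix.Lift Cfsg.Agent.BabyU.Lab Cfsg.Agent.BabyU.Chain
open Cfsg.Agent.BabyU.Hexad Cfsg.Agent.BabyU.Key Cfsg.Agent.BabyU.IsoOne

/-- the six palindromes -/
def PF : Fin 6 → List (Fin 10) × Fin 10 := ![P1, P2, P3, P4, P5, P6]

/-- rows: a triple `i`, `j`, `k`, a root `a` commuting with `P j`, `P k` and opposite to `P i`: `g` conjugates `a`,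
`P i` to the adjacent nodes `u`, `v`. -/
def tab : List ((Fin 6 × Fin 6 × Fin 6) × (List (Fin 10) × Fin 10) × List (Fin 10) × Fin 10 × Fin 10) := [
  ((0, 1, 2), ([8, 1, 2, 3, 7, 5, 4, 3, 2, 1], 0), [3, 4, 5, 2, 3, 4, 1, 2, 3, 0, 1, 2, 7, 3, 2, 4, 3, 1, 2, 0, 1, 5], 8, 7),
  ((0, 1, 3), ([], 5), [2, 3, 7, 4, 3, 2, 1, 0, 5, 4, 3, 2, 1, 7, 3, 2, 4, 3, 5, 4, 5], 0, 1),
  ((1, 0, 4), ([], 1), [], 1, 0),
  ((0, 1, 5), ([8, 7, 5, 4], 3), [3, 4, 5, 2, 3, 4, 1, 2, 3, 0, 1, 2, 7, 3, 4, 5], 8, 7),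
  ((0, 2, 3), ([1, 2, 3, 7, 8, 4, 3, 7, 5, 4, 3], 2), [3, 4, 2, 3, 7, 5, 1, 2, 3, 0, 1, 2, 4, 3, 2, 7, 3, 4, 5, 4, 3, 2, 1], 8, 7),
  ((2, 0, 4), ([], 1), [2, 3, 7, 4, 3, 2, 1, 0, 1], 0, 1),
  ((0, 2, 5), ([5, 4, 3, 2], 1), [2, 3, 7, 4, 3, 2, 1, 0, 5, 4, 3, 7, 1, 2, 3, 4, 5], 0, 1),
  ((3, 0, 4), ([], 1), [3, 7, 4, 3, 2, 1, 5, 4, 3, 2, 6, 5, 4, 3, 7, 3, 4, 2, 3, 1, 2, 1], 1, 2),
  ((3, 0, 5), ([5, 4, 3, 7, 8, 2, 3, 7, 4, 3, 2], 1), [3, 4, 2, 3, 7, 5, 6, 4, 5, 3, 4, 1, 2, 1, 3, 2, 7, 3, 4, 3, 2, 1, 5], 8, 7),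
  ((5, 0, 4), ([], 1), [3, 7, 4, 5, 6, 3, 4, 5], 1, 2),
  ((2, 1, 3), ([], 5), [3, 7, 2, 3, 1, 2, 0, 1], 5, 4),
  ((2, 1, 4), ([], 8), [3, 4, 2, 3, 1, 2, 0, 1], 8, 7),
  ((1, 2, 5), ([5, 4, 3, 2], 1), [2, 3, 4, 5], 1, 0),
  ((4, 1, 3), ([], 5), [], 5, 6),
  ((5, 1, 3), ([], 5), [7, 4, 3, 2, 5, 4, 3, 6, 5, 4, 5], 2, 3),
  ((5, 1, 4), ([], 8), [3, 4, 5, 6, 2, 3, 4, 5], 8, 7),
  ((3, 2, 4), ([8, 7, 3, 2], 1), [3, 4, 5, 6, 2, 3, 4, 5, 1, 2, 3, 4, 7, 3, 2, 1], 8, 7),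
  ((3, 2, 5), ([5, 4, 3, 2], 1), [7, 4, 3, 2, 5, 4, 3, 6, 5, 4, 1, 2, 3, 7, 5, 4, 3, 2, 1], 2, 3),
  ((4, 2, 5), ([5, 4, 3, 2], 1), [4, 3, 2, 1], 5, 6),
  ((3, 4, 5), ([8, 5, 4, 3, 7, 6, 5, 4, 3, 2], 1), [3, 4, 5, 2, 3, 4, 1, 2, 3, 7, 3, 4, 5, 2, 3, 4, 6, 5, 4, 3, 2, 1], 8, 7),
  ((1, 0, 2), ([5, 4, 1, 2, 3, 7, 8, 4, 2, 3, 7, 5, 4, 3, 2, 1], 0), [7, 4, 3, 2, 5, 4, 3, 8, 7, 3, 4, 2, 3, 1, 2, 3, 4, 5, 0, 1], 3, 2),
  ((2, 0, 1), ([5, 4, 3, 7, 8, 1, 2, 3, 7, 4, 3, 2, 1], 0), [3, 7, 8, 2, 3, 4, 1, 2, 3, 7, 3, 4, 5, 2, 3, 1, 2, 0, 1], 4, 5)]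

/-- the check of a row -/
def rowChk (x : (Fin 6 × Fin 6 × Fin 6) × (List (Fin 10) × Fin 10) × List (Fin 10) × Fin 10 × Fin 10) : Bool :=
  chk (pal x.2.1 ++ pal (PF x.1.2.1)) (pal (PF x.1.2.1) ++ pal x.2.1) &&
  chk (pal x.2.1 ++ pal (PF x.1.2.2)) (pal (PF x.1.2.2) ++ pal x.2.1) &&
  chk (x.2.2.1 ++ pal x.2.1 ++ x.2.2.1.reverse) [x.2.2.2.1] &&
  chk (x.2.2.1 ++ pal (PF x.1.1) ++ x.2.2.1.reverse) [x.2.2.2.2] &&
  Nat.beq (Cfsg.Agent.TwoESix.Cox10.lab x.2.2.2.1 x.2.2.2.2) 3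

theorem tab_chk : tab.all rowChk = true := by decide +kernel

/-- every triple occurs in some order -/
theorem tab_cover : ∀ i j k : Fin 6, i ≠ j → i ≠ k → j ≠ k → ∃ x ∈ tab, x.1 = (i, j, k) ∨ x.1 = (i, k, j) ∨
    x.1 = (j, i, k) ∨ x.1 = (j, k, i) ∨ x.1 = (k, i, j) ∨ x.1 = (k, j, i) := by decide +kernel

/-- every pair which is not antipodal is separated by a row -/
theorem tab_pair : ∀ i j : Fin 6, i ≠ j → (∃ x ∈ tab, (x.1.1 = i ∧ (x.1.2.1 = j ∨ x.1.2.2 = j)) ∨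
    (x.1.1 = j ∧ (x.1.2.1 = i ∨ x.1.2.2 = i))) ∨ (i = 0 ∧ j = 4) ∨ (i = 4 ∧ j = 0) ∨ (i = 1 ∧ j = 3) ∨
    (i = 3 ∧ j = 1) ∨ (i = 2 ∧ j = 5) ∨ (i = 5 ∧ j = 2) := by decide +kernel

/-- three orders of one triangle -/
theorem tab_base : ∃ x ∈ tab, ∃ y ∈ tab, ∃ w ∈ tab, x.1 = (0, 1, 2) ∧ y.1 = (1, 0, 2) ∧ w.1 = (2, 0, 1) := by
  decide +kernel

/-- the tenth power of the spider -/
def S10 : List (Fin 10) := rep 10 spider

theorem chk_spider8 : chk (rep 3 (pal P1 ++ [8])) ([5, 4, 3, 2, 1, 0] ++ S10 ++ [8] ++ S10.reverse ++ [8] ++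
    [0, 1, 2, 3, 4, 5]) = true := by decide +kernel

theorem chk24 : chk (P1.1 ++ pal P2 ++ P1.1.reverse) (pal P1) = true ∧
    chk (P1.1 ++ pal P4 ++ P1.1.reverse) (pal P5) = true := by decide +kernel

theorem chk36 : chk ((P1.1 ++ P3.1.reverse) ++ pal P3 ++ (P1.1 ++ P3.1.reverse).reverse) (pal P1) = true ∧
    chk ((P1.1 ++ P3.1.reverse) ++ pal P6 ++ (P1.1 ++ P3.1.reverse).reverse) (pal P5) = true := by decide +kernel

section

variable {M E : Type*} [Group M] [Group E] {π : M →* E} {z : M} {T : Set E} {s : Fin 10 → M}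
variable {F : Type*} [Field F] [Fintype F] {hF : Fintype.card F = 2 ^ 2}

/-- the root of a palindrome -/
def rt (π : M →* E) (s : Fin 10 → M) (p : List (Fin 10) × Fin 10) : E := π (ev s (pal p))

theorem lift_map (hs : M10.IsLiftable s) : M10.IsLiftable (fun i => π (s i)) := by
  intro i j
  show (π (s i) * π (s j)) ^ _ = 1
  rw [← map_mul, ← map_pow, hs i j, map_one]

theorem comm_of_chk (hs : M10.IsLiftable s) {p q : List (Fin 10) × Fin 10}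
    (h : chk (pal p ++ pal q) (pal q ++ pal p) = true) : rt π s p * rt π s q = rt π s q * rt π s p := by
  have := ev_eq_ev hs h
  rw [ev_append, ev_append] at this
  rw [rt, rt, ← map_mul, this, map_mul]

theorem opp_of_chk (R : Roots E T) (hs : M10.IsLiftable s) (hT : ∀ i, π (s i) ∈ T)
    (h9 : ev (fun i => π (s i)) W321 ^ 9 = 1) {g : List (Fin 10)} {p q : List (Fin 10) × Fin 10} {i j : Fin 10}
    (h1 : chk (g ++ pal p ++ g.reverse) [i] = true) (h2 : chk (g ++ pal q ++ g.reverse) [j] = true)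
    (hij : Cfsg.Agent.TwoESix.Cox10.lab i j = 3) : RootCfg.Opp (rt π s p) (rt π s q) := by
  have hs' := lift_map (π := π) hs
  have hne : π (s i) ≠ π (s j) := adj_ne hs' (fun i => R.ne_one _ (hT i)) h9 hij
  have h3 : (π (s i) * π (s j)) ^ 3 = 1 := by
    have := hs' i j
    rwa [M10_apply, hij] at this
  have d1 := congrArg π (ev_eq_ev hs h1)
  have d2 := congrArg π (ev_eq_ev hs h2)
  rw [ev_append, ev_append, ev_reverse hs, ev_cons, ev_nil, mul_one, map_mul, map_mul, map_inv] at d1 d2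
  rw [← d1, ← d2] at hne h3
  rw [rt, rt]
  generalize π (ev s g) = γ at hne h3
  generalize π (ev s (pal p)) = x at hne h3 ⊢
  generalize π (ev s (pal q)) = y at hne h3 ⊢
  refine ⟨fun h => hne (by rw [h]), ?_⟩
  have h4 : γ * (x * y) ^ 3 * γ⁻¹ = 1 := by
    rw [← conj_pow, ← h3]
    congr 1
    group
  have h5 : (x * y) ^ 3 = γ⁻¹ * (γ * (x * y) ^ 3 * γ⁻¹) * γ := by group
  rw [h5, h4]
  group

/-- A row of the table. -/
theorem row (R : Roots E T) (hs : M10.IsLiftable s) (hT : ∀ i, π (s i) ∈ T)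
    (h9 : ev (fun i => π (s i)) W321 ^ 9 = 1) {x} (hx : x ∈ tab) : ∃ a ∈ T, RootCfg.Opp a (rt π s (PF x.1.1)) ∧
      a * rt π s (PF x.1.2.1) = rt π s (PF x.1.2.1) * a ∧ a * rt π s (PF x.1.2.2) = rt π s (PF x.1.2.2) * a := by
  have h := List.all_eq_true.1 tab_chk x hx
  rw [rowChk, Bool.and_eq_true, Bool.and_eq_true, Bool.and_eq_true, Bool.and_eq_true] at h
  obtain ⟨⟨⟨⟨h1, h2⟩, h3⟩, h4⟩, h5⟩ := h
  exact ⟨rt π s x.2.1, root_pal R hs hT _, opp_of_chk R hs hT h9 h3 h4 (Nat.eq_of_beq_eq_true h5),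
    comm_of_chk hs h1, comm_of_chk hs h2⟩

theorem Tri.swap23 {p q r : E} (h : Tri T p q r) : Tri T p r q := by
  obtain ⟨a, ha, h1, h2, h3⟩ := h.ex
  exact ⟨h.pR, h.rR, h.qR, h.pr, h.pq, h.qr.symm, h.qne.symm, a, ha, h1, h3, h2⟩

variable (R : Roots E T) (RF : RootCfg.RootFacts hF T) (hs : M10.IsLiftable s) (hsp : ev s spider ^ 10 = 1)
  (hT : ∀ i, π (s i) ∈ T) (h9 : ev (fun i => π (s i)) W321 ^ 9 = 1)
  (hc : ∀ i j : Fin 6, rt π s (PF i) * rt π s (PF j) = rt π s (PF j) * rt π s (PF i))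
include R RF hs hsp hT h9 hc

theorem ne15 : rt π s P1 ≠ rt π s P5 := by
  intro h
  have hs' := lift_map (π := π) hs
  have e5 : rt π s P5 = π (s 6) := by
    show π (ev s [6]) = _
    rw [ev_cons, ev_nil, mul_one]
  have q8 : π (s 8) * π (s 8) = 1 := Cfsg.Agent.TwoESix.Cox10.sq hs' 8
  have q6 : π (s 6) * π (s 6) = 1 := Cfsg.Agent.TwoESix.Cox10.sq hs' 6
  have hS : ev s S10 = 1 := by rw [S10, ev_rep, hsp]
  have h1 := ev_eq_ev hs chk_spider8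
  rw [ev_rep] at h1
  simp only [ev_append] at h1
  rw [hS, ev_reverse hs, hS] at h1
  have h2 : (π (s 6) * π (s 8)) ^ 3 = 1 := by
    have h3 := congrArg π h1
    rw [map_pow, map_mul] at h3
    have e8 : π (ev s [8]) = π (s 8) := by rw [ev_cons, ev_nil, mul_one]
    have e1 : π (ev s (pal P1)) = π (s 6) := h.trans e5
    rw [e1, e8] at h3
    rw [h3]
    simp only [map_mul, map_inv, map_one, mul_one, inv_one]
    rw [e8]
    have hrev : ev s [5, 4, 3, 2, 1, 0] = (ev s [0, 1, 2, 3, 4, 5])⁻¹ := by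
      rw [← ev_reverse hs]; rfl
    rw [hrev, map_inv]
    calc (π (ev s [0, 1, 2, 3, 4, 5]))⁻¹ * π (s 8) * π (s 8) * π (ev s [0, 1, 2, 3, 4, 5])
        = (π (ev s [0, 1, 2, 3, 4, 5]))⁻¹ * (π (s 8) * π (s 8)) * π (ev s [0, 1, 2, 3, 4, 5]) := by group
      _ = 1 := by rw [q8]; group
  have h3 : Commute (π (s 6)) (π (s 8)) := comm_of hs' (by decide)
  have h4 : π (s 6) * π (s 8) = 1 := by
    rw [h3.mul_pow, pow_succ, pow_succ (π (s 8)), pow_two, pow_two, q6, q8, one_mul, one_mul] at h2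
    exact h2
  have h5 : π (s 6) = π (s 8) := by
    rw [← mul_one (π (s 6)), ← q8, ← mul_assoc, h4, one_mul]
  -- node 5 is adjacent to 6 and commutes with 8
  have h6 : (π (s 5) * π (s 6)) ^ 3 = 1 := by
    have := hs' 5 6
    rwa [M10_apply, show Cfsg.Agent.TwoESix.Cox10.lab 5 6 = 3 by decide] at this
  have h7 : Commute (π (s 5)) (π (s 6)) := by rw [h5]; exact comm_of hs' (by decide)
  have q5 : π (s 5) * π (s 5) = 1 := Cfsg.Agent.TwoESix.Cox10.sq hs' 5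
  rw [h7.mul_pow, pow_succ, pow_succ (π (s 6)), pow_two, pow_two, q5, q6, one_mul, one_mul] at h6
  apply adj_ne hs' (fun i => R.ne_one _ (hT i)) h9 (i := 5) (j := 6) (by decide)
  show π (s 5) = π (s 6)
  rw [← mul_one (π (s 5)), ← q6, ← mul_assoc, h6, one_mul]

omit R RF hsp hT h9 hc in
theorem conj_chk {g : List (Fin 10)} {p q : List (Fin 10) × Fin 10}
    (h : chk (g ++ pal p ++ g.reverse) (pal q) = true) : π (ev s g) * rt π s p * (π (ev s g))⁻¹ = rt π s q := by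
  have := congrArg π (ev_eq_ev hs h)
  rw [ev_append, ev_append, ev_reverse hs, map_mul, map_mul, map_inv] at this
  exact this

theorem ne24 : rt π s P2 ≠ rt π s P4 := by
  intro h
  apply ne15 R RF hs hsp hT h9 hc
  rw [← conj_chk (π := π) hs chk24.1, ← conj_chk (π := π) hs chk24.2, h]

theorem ne36 : rt π s P3 ≠ rt π s P6 := by
  intro h
  apply ne15 R RF hs hsp hT h9 hc
  rw [← conj_chk (π := π) hs chk36.1, ← conj_chk (π := π) hs chk36.2, h]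

theorem pf_ne (i j : Fin 6) (hij : i ≠ j) : rt π s (PF i) ≠ rt π s (PF j) := by
  have hr : ∀ i, rt π s (PF i) ∈ T := fun i => root_pal R hs hT _
  rcases tab_pair i j hij with ⟨x, hx, h⟩ | h
  · obtain ⟨a, ha, h1, h2, h3⟩ := row R hs hT h9 hx
    have key : ∀ u : Fin 6, (x.1.2.1 = u ∨ x.1.2.2 = u) → rt π s (PF x.1.1) ≠ rt π s (PF u) := by
      rintro u (rfl | rfl)
      · exact (Tri.not_mem RF (hr _) (hr _) ha h1 (hc _ _) h2).1
      · exact (Tri.not_mem RF (hr _) (hr _) ha h1 (hc _ _) h3).1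
    rcases h with ⟨rfl, h⟩ | ⟨rfl, h⟩
    · exact key _ h
    · exact (key _ h).symm
  · rcases h with ⟨rfl, rfl⟩ | ⟨rfl, rfl⟩ | ⟨rfl, rfl⟩ | ⟨rfl, rfl⟩ | ⟨rfl, rfl⟩ | ⟨rfl, rfl⟩
    · exact ne15 R RF hs hsp hT h9 hc
    · exact (ne15 R RF hs hsp hT h9 hc).symm
    · exact ne24 R RF hs hsp hT h9 hc
    · exact (ne24 R RF hs hsp hT h9 hc).symm
    · exact ne36 R RF hs hsp hT h9 hc
    · exact (ne36 R RF hs hsp hT h9 hc).symm

theorem tri_row {x} (hx : x ∈ tab) (hne : x.1.2.1 ≠ x.1.2.2) :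
    Tri T (rt π s (PF x.1.1)) (rt π s (PF x.1.2.1)) (rt π s (PF x.1.2.2)) := by
  obtain ⟨a, ha, h1, h2, h3⟩ := row R hs hT h9 hx
  exact ⟨root_pal R hs hT _, root_pal R hs hT _, root_pal R hs hT _, hc _ _, hc _ _, hc _ _,
    pf_ne R RF hs hsp hT h9 hc _ _ hne, a, ha, h1, h2, h3⟩

variable (tc : ∀ p q r p' q' r' : E, Tri T p q r → Tri T p' q' r' →
  ∃ g : E, g * p * g⁻¹ = p' ∧ g * q * g⁻¹ = q' ∧ g * r * g⁻¹ = r')
include tc

/-- triangles are symmetric -/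
theorem swap12 {p q r : E} (h : Tri T p q r) : Tri T q p r := by
  obtain ⟨x, hx, y, hy, w, hw, ex, ey, ew⟩ := tab_base
  have t1 := tri_row R RF hs hsp hT h9 hc hx (by rw [ex]; decide)
  have t2 := tri_row R RF hs hsp hT h9 hc hy (by rw [ey]; decide)
  rw [ex] at t1
  rw [ey] at t2
  obtain ⟨g, h1, h2, h3⟩ := tc _ _ _ _ _ _ t1 h
  have h4 := Tri.conj RF t2 g
  rwa [h2, h1, h3] at h4

theorem tri_all (i j k : Fin 6) (hij : i ≠ j) (hik : i ≠ k) (hjk : j ≠ k) :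
    Tri T (rt π s (PF i)) (rt π s (PF j)) (rt π s (PF k)) := by
  have sw : ∀ {p q r : E}, Tri T p q r → Tri T q p r := fun h => swap12 R RF hs hsp hT h9 hc tc h
  obtain ⟨x, hx, h⟩ := tab_cover i j k hij hik hjk
  have key := fun hne => tri_row R RF hs hsp hT h9 hc hx hne
  rcases h with h | h | h | h | h | h <;> rw [h] at key
  · exact key hjk
  · exact Tri.swap23 (key hjk.symm)
  · exact sw (key hik)
  · exact sw (Tri.swap23 (key hik.symm))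
  · exact Tri.swap23 (sw (key hij))
  · exact sw (Tri.swap23 (sw (key hij.symm)))

theorem hex_of : Hex T (Tri T) (fun i => rt π s (PF i)) where
  sym := fun i j hij => by
    obtain ⟨k, hk1, hk2⟩ : ∃ k : Fin 6, i ≠ k ∧ j ≠ k := by
      revert i j; decide
    exact Tri.sym12 RF (tri_all R RF hs hsp hT h9 hc tc i j k hij.ne hk1 hk2)
  tri := fun i j k hij hjk =>
    tri_all R RF hs hsp hT h9 hc tc i j k hij.ne (hij.trans hjk).ne hjk.ne

end

/-! ### The rotation of the arms -/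

/-- the rotation of the arms -/
def rot : Fin 10 → Fin 10 := ![6, 5, 4, 3, 7, 8, 9, 2, 1, 0]

theorem lab_rot : ∀ i j : Fin 10, Cfsg.Agent.TwoESix.Cox10.lab (rot i) (rot j) = Cfsg.Agent.TwoESix.Cox10.lab i j := by
  decide

theorem chk_rot1 : chk (rep 9 (W321.map rot)) (rep 9 W132) = true := by decide +kernel
theorem chk_rot2 : chk (rep 9 (W231.map rot)) (rep 9 W123) = true := by decide +kernel
theorem chk_rot3 : chk (rep 10 (spider.map rot)) ([1, 2, 3] ++ rep 10 spider ++ [3, 2, 1]) = true := by decide +kernel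

section

variable {G : Type*} [Group G] {t : G} {M : Subgroup G} {E : Type*} [Group E] {π : M →* E} {T : Set E}
variable {F : Type*} [Field F] [Fintype F] {hF : Fintype.card F = 2 ^ 2}

/-- the product of the canonical lifts in `G` -/
theorem prod_six {s : Fin 10 → M} {x : M} (h : ((PP.map fun p => π (ev s (pal p))).map (w π T)).prod = x) :
    (W π T (rt π s (PF 0)) : G) * W π T (rt π s (PF 1)) * (W π T (rt π s (PF 2)) * W π T (rt π s (PF 3))) *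
      (W π T (rt π s (PF 4)) * W π T (rt π s (PF 5))) = x := by
  have h1 : w π T (rt π s P1) * (w π T (rt π s P2) * (w π T (rt π s P3) * (w π T (rt π s P4) *
    (w π T (rt π s P5) * (w π T (rt π s P6) * 1))))) = x := h
  have h2 := congrArg (Subtype.val : M → G) h1
  rw [← h2]
  show (W π T (rt π s P1) : G) * W π T (rt π s P2) * (W π T (rt π s P3) * W π T (rt π s P4)) *
    (W π T (rt π s P5) * W π T (rt π s P6)) = W π T (rt π s P1) * (W π T (rt π s P2) * (W π T (rt π s P3) *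
    (W π T (rt π s P4) * (W π T (rt π s P5) * (W π T (rt π s P6) * 1)))))
  group

/-- **The two hexads** of the double cover `M`. -/
theorem exists_hexads (S : Setup t M π) (R : Roots E T) (RF : RootCfg.RootFacts hF T)
    (tc : ∀ p q r p' q' r' : E, Tri T p q r → Tri T p' q' r' →
      ∃ g : E, g * p * g⁻¹ = p' ∧ g * q * g⁻¹ = q' ∧ g * r * g⁻¹ = r')
    {m : Fin 10 → M} (hz : ZRels m S.z) (hT : ∀ i, π (m i) ∈ T) : ∃ r r' : Fin 6 → E,
      Hex T (Tri T) r ∧ Hex T (Tri T) r' ∧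
      (W π T (r 0) : G) * W π T (r 1) * (W π T (r 2) * W π T (r 3)) * (W π T (r 4) * W π T (r 5)) = t ∧
      (W π T (r' 0) : G) * W π T (r' 1) * (W π T (r' 2) * W π T (r' 3)) * (W π T (r' 4) * W π T (r' 5)) = 1 := by
  have C : Cover π S.z := S.cover
  -- commutation of the six roots
  have cm : ∀ {s : Fin 10 → M}, (∀ p ∈ PP, ∀ q ∈ PP, Commute (ev s (pal p)) (ev s (pal q))) →
      ∀ i j : Fin 6, rt π s (PF i) * rt π s (PF j) = rt π s (PF j) * rt π s (PF i) := by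
    intro s h i j
    have hm : ∀ i : Fin 6, PF i ∈ PP := by
      intro i
      fin_cases i <;> simp [PF, PP]
    rw [rt, rt, ← map_mul, (h _ (hm i) _ (hm j)).eq, map_mul]
  -- the nodes
  have x1 : (ev m W231 ^ 9)⁻¹ * ev m W321 ^ 9 = S.z := by rw [hz.e231, hz.e321, inv_one, one_mul]
  have c1 : ∀ y : M, y * ((ev m W231 ^ 9)⁻¹ * ev m W321 ^ 9) = (ev m W231 ^ 9)⁻¹ * ev m W321 ^ 9 * y := by
    rw [x1]; exact C.central
  have h91 : ev (fun i => π (m i)) W321 ^ 9 = 1 := by rw [← ev_map, ← map_pow, hz.e321, C.map_t]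
  have hex1 := hex_of R RF hz.lift hz.spider hT h91 (cm (comm_all hz.lift c1)) tc
  have p1 := hexad_prod' C R hz.lift hT c1
  rw [x1] at p1
  -- the rotated nodes
  set s : Fin 10 → M := fun i => m (rot i) with hsd
  have ls : M10.IsLiftable s := lift_perm hz.lift lab_rot
  have e1 : ev s W321 ^ 9 = 1 := by
    have h := ev_eq_ev hz.lift chk_rot1
    rw [ev_rep, ev_rep, hz.e132] at h
    rw [hsd, ev_comp]; exact h
  have e2 : ev s W231 ^ 9 = 1 := by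
    have h := ev_eq_ev hz.lift chk_rot2
    rw [ev_rep, ev_rep, hz.e123] at h
    rw [hsd, ev_comp]; exact h
  have e3 : ev s spider ^ 10 = 1 := by
    have h := ev_eq_ev hz.lift chk_rot3
    rw [ev_append, ev_append, ev_rep, ev_rep, hz.spider, mul_one, ← ev_append] at h
    rw [hsd, ev_comp, h]
    have h2 : ev m ([1, 2, 3] ++ [3, 2, 1]) = ev m ([1, 2, 3] ++ ([1, 2, 3] : List (Fin 10)).reverse) := rfl
    rw [h2, ev_append, ev_reverse hz.lift, mul_inv_cancel]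
  have x2 : (ev s W231 ^ 9)⁻¹ * ev s W321 ^ 9 = 1 := by rw [e1, e2, inv_one, one_mul]
  have c2 : ∀ y : M, y * ((ev s W231 ^ 9)⁻¹ * ev s W321 ^ 9) = (ev s W231 ^ 9)⁻¹ * ev s W321 ^ 9 * y := by
    rw [x2]; intro y; rw [mul_one, one_mul]
  have h92 : ev (fun i => π (s i)) W321 ^ 9 = 1 := by rw [← ev_map, ← map_pow, e1, map_one]
  have hT' : ∀ i, π (s i) ∈ T := fun i => hT _
  have hex2 := hex_of R RF ls e3 hT' h92 (cm (comm_all ls c2)) tc
  have p2 := hexad_prod' C R ls hT' c2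
  rw [x2] at p2
  exact ⟨_, _, hex1, hex2, prod_six p1, by rw [prod_six p2]; rfl⟩

end

end Cfsg.Agent.BabyU.HexadOne
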