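import Cfsg.Agent.TwoESix.Cover

/-!
# Generation from stage A

Every family of ten elements of `E = ²E₆(2)` satisfying the relators of the Baby Monster on `t2, …, t11` and `e 0 ≠ 1`
generates `E` (`closure_eq_top`); the lifts generate the double cover (`closure_lift`).
-/

set_option autoImplicit false

namespace Cfsg.Agent.BabyU.IdentGen

open Cfsg Cfsg.Agent.TwoESix.Cox10 Cfsg.Agent.TwoESix.Lift Cfsg.Agent.TwoESix.Cover Cfsg.Agent.R01.Lifts

/-- The presented group `HB` is simple if `E` is. -/
theorem isSimple_HB [Finite HB] {E : Type*} [Group E] [IsSimpleGroup E] {e0 : Fin 10 → E} (he0 : Good e0)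
    (hgen : Subgroup.closure (Set.range e0) = ⊤) (hcard : Nat.card HB ≤ Nat.card E) : IsSimpleGroup HB := by
  have hb := toHom_bijective he0 hgen hcard
  exact (MulEquiv.ofBijective _ hb).isSimpleGroup_congr.2 inferInstance

theorem card_HB [Finite HB] {E : Type*} [Group E] {e0 : Fin 10 → E} (he0 : Good e0)
    (hgen : Subgroup.closure (Set.range e0) = ⊤) (hcard : Nat.card HB ≤ Nat.card E) : Nat.card HB = Nat.card E :=
  Nat.card_congr (Equiv.ofBijective _ (toHom_bijective he0 hgen hcard))

/-- All nodes are conjugate: if one is trivial, all are. -/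
theorem node_ne_one {G : Type*} [Group G] {s : Fin 10 → G} (hs : M10.IsLiftable s) (h0 : s 0 ≠ 1) : ∀ i, s i ≠ 1 := by
  refine all_nodes (fun i => s i ≠ 1) ?_ ?_
  · intro i j hij hi hj
    have h := braid hs hij
    rw [hj, mul_one, one_mul, mul_one, sq hs i] at h
    exact hi (h.symm ▸ rfl)
  · -- node `3` from node `0`
    intro h3
    have e2 : s 2 = 1 := by
      have h := braid hs (i := 2) (j := 3) (by decide)
      rw [h3, mul_one, one_mul, mul_one, sq hs 2] at h
      exact h.symm
    have e1 : s 1 = 1 := by
      have h := braid hs (i := 1) (j := 2) (by decide)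
      rw [e2, mul_one, one_mul, mul_one, sq hs 1] at h
      exact h.symm
    have e0 : s 0 = 1 := by
      have h := braid hs (i := 0) (j := 1) (by decide)
      rw [e1, mul_one, one_mul, mul_one, sq hs 0] at h
      exact h.symm
    exact h0 e0

section

variable {E : Type*} [Group E] [Finite E]

/-- **Generation.** -/
theorem closure_eq_top [Finite HB] [IsSimpleGroup E] {e0 : Fin 10 → E} (he0 : Good e0)
    (hgen : Subgroup.closure (Set.range e0) = ⊤) (hcard : Nat.card HB ≤ Nat.card E)
    {e : Fin 10 → E} (hs : M10.IsLiftable e) (hsp : ev e spider ^ 10 = 1)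
    (h231 : ev e W231 ^ 9 = 1) (h213 : ev e W213 ^ 9 = 1) (hne : e 0 ≠ 1) :
    Subgroup.closure (Set.range e) = ⊤ := by
  classical
  have hsimp := isSimple_HB he0 hgen hcard
  have hc := card_HB he0 hgen hcard
  set z : E := ev e W321 ^ 9 with hz
  have hZ : ZRels e z := ⟨hs, hsp, rfl, h231, h213⟩
  set N : Subgroup E := Subgroup.closure (Set.range e) with hN
  -- a nontrivial homomorphism from `HB` is injective
  have hinj : ∀ {H : Type _} [Group H] (f : HB →* H), (∃ x, f x ≠ 1) → Function.Injective f := by
    intro H _ f ⟨x, hx⟩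
    rw [← MonoidHom.ker_eq_bot_iff]
    rcases hsimp.eq_bot_or_eq_top_of_normal f.ker inferInstance with h | h
    · exact h
    · exact absurd ((h ▸ Subgroup.mem_top x : x ∈ f.ker)) hx
  have hmem : ∀ i, e i ∈ N := fun i => Subgroup.subset_closure ⟨i, rfl⟩
  have hevN : ∀ w, ev e w ∈ N := by
    intro w
    induction w with
    | nil => exact N.one_mem
    | cons i w ih => rw [ev_cons]; exact N.mul_mem (hmem i) ih
  have hzN : z ∈ N := N.pow_mem (hevN _) 9
  by_cases hz1 : z = 1
  · have hG : Good e := by rw [hz1] at hZ; exact hZ.good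
    have h1 : Function.Injective (toHom hG) := hinj _ ⟨s0 0, by rw [toHom_s0]; exact hne⟩
    have h2 : Function.Surjective (toHom hG) := by
      have := (Nat.bijective_iff_injective_and_card (toHom hG)).2 ⟨h1, hc⟩
      exact this.2
    rw [eq_top_iff]
    rintro x -
    obtain ⟨y, rfl⟩ := h2 x
    have : y ∈ Subgroup.closure (Set.range s0) := by rw [closure_s0]; trivial
    refine Subgroup.closure_induction (p := fun y _ => toHom hG y ∈ N) ?_ ?_ ?_ ?_ this
    · rintro _ ⟨i, rfl⟩
      rw [toHom_s0]; exact hmem i
    · rw [map_one]; exact N.one_mem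
    · intro a b _ _ ha hb; rw [map_mul]; exact N.mul_mem ha hb
    · intro a _ ha; rw [map_inv]; exact N.inv_mem ha
  · exfalso
    -- the family in `N`
    let e' : Fin 10 → N := fun i => ⟨e i, hmem i⟩
    let z' : N := ⟨z, hzN⟩
    have hcoe : ∀ w, ((ev e' w : N) : E) = ev e w := fun w => by
      have := ev_map N.subtype e' w
      exact this
    have hZ' : ZRels e' z' := by
      refine ⟨fun i j => ?_, ?_, ?_, ?_, ?_⟩
      · apply Subtype.ext
        have := hs i j
        exact this
      · apply Subtype.ext
        rw [Subgroup.coe_pow, hcoe]; exact hsp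
      · apply Subtype.ext
        rw [Subgroup.coe_pow, hcoe]
      · apply Subtype.ext
        rw [Subgroup.coe_pow, hcoe]; exact h231
      · apply Subtype.ext
        rw [Subgroup.coe_pow, hcoe]; exact h213
    have htop : Subgroup.closure (Set.range e') = ⊤ := by
      have h0 : (N.subtype '' Set.range e') = Set.range e := by
        ext x
        constructor
        · rintro ⟨_, ⟨i, rfl⟩, rfl⟩; exact ⟨i, rfl⟩
        · rintro ⟨i, rfl⟩; exact ⟨e' i, ⟨i, rfl⟩, rfl⟩
      have h1 : (Subgroup.closure (Set.range e')).map N.subtype = N := by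
        rw [MonoidHom.map_closure, h0]
      rw [eq_top_iff]
      rintro ⟨x, hx⟩ -
      rw [← h1] at hx
      obtain ⟨y, hy, hyx⟩ := hx
      have : y = ⟨x, by rw [← hyx]; exact y.2⟩ := Subtype.ext hyx
      rw [this] at hy
      exact hy
    have hz'1 : z' ≠ 1 := fun h => hz1 (congrArg Subtype.val h)
    have hcen : ∀ g : N, Commute g z' := fun g => hZ'.z_central htop g
    let Z : Subgroup N := Subgroup.zpowers z'
    have hZn : Z.Normal := by
      constructor
      intro a ha g
      have h1 : Commute g a := by
        obtain ⟨k, rfl⟩ := Subgroup.mem_zpowers_iff.1 ha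
        exact (hcen g).zpow_right k
      rw [h1.eq, mul_inv_cancel_right]
      exact ha
    have hcardZ : Nat.card Z = 2 := by
      rw [Nat.card_zpowers]
      exact orderOf_eq_prime (by rw [pow_two]; exact hZ'.zz) hz'1
    have hGood : Good (fun i => (QuotientGroup.mk' Z) (e' i)) := by
      have h1 := hZ'.map (QuotientGroup.mk' Z)
      have h2 : QuotientGroup.mk' Z z' = 1 :=
        (QuotientGroup.eq_one_iff z').2 (Subgroup.mem_zpowers z')
      rw [h2] at h1
      exact h1.good
    have hnt : ∃ x, toHom hGood x ≠ 1 := by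
      by_contra hcon
      push Not at hcon
      have hall : ∀ i, e' i ∈ Z := by
        intro i
        have := hcon (s0 i)
        rw [toHom_s0] at this
        exact (QuotientGroup.eq_one_iff (e' i)).1 this
      -- every node is `z'`
      have hall2 : ∀ i, e' i = z' := by
        intro i
        have h1 : e' i ∈ Subgroup.zpowers z' := hall i
        have h2 : e' i ≠ 1 := fun h => node_ne_one hs hne i (congrArg Subtype.val h)
        obtain ⟨k, hk⟩ := Subgroup.mem_zpowers_iff.1 h1
        rcases Int.even_or_odd' k with ⟨l, rfl | rfl⟩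
        · exfalso; apply h2
          rw [← hk, zpow_mul, zpow_ofNat, pow_two, hZ'.zz, one_zpow]
        · rw [← hk, zpow_add, zpow_mul, zpow_ofNat, pow_two, hZ'.zz, one_zpow, one_mul, zpow_one]
      have h3 := hZ'.e231
      simp only [W231, ev, List.map_cons, List.map_nil, List.prod_cons, List.prod_nil, mul_one, hall2] at h3
      have h4 : z' * (z' * (z' * (z' * (z' * (z' * z'))))) = z' := by
        have := hZ'.zz
        calc z' * (z' * (z' * (z' * (z' * (z' * z'))))) = (z' * z') * ((z' * z') * ((z' * z') * z')) := by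
              simp only [mul_assoc]
          _ = z' := by rw [this, one_mul, one_mul, one_mul]
      rw [h4] at h3
      apply hz'1
      have h5 : z' ^ 9 = z' := by
        have h6 : z' ^ 2 = 1 := by rw [pow_two]; exact hZ'.zz
        calc z' ^ 9 = (z' ^ 2) ^ 4 * z' := by rw [← pow_mul, ← pow_succ]
          _ = z' := by rw [h6, one_pow, one_mul]
      rw [← h5, h3]
    have hi := hinj (toHom hGood) hnt
    have h1 : Nat.card HB ≤ Nat.card (N ⧸ Z) := Nat.card_le_card_of_injective _ hi
    have h2 : Nat.card N = Nat.card (N ⧸ Z) * Nat.card Z := Subgroup.card_eq_card_quotient_mul_card_subgroup Z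
    have h3 : Nat.card N ≤ Nat.card E := Subgroup.card_le_card_group N
    have h4 : 0 < Nat.card E := Nat.card_pos
    rw [hcardZ] at h2
    omega

end

/-- Lifts of generators generate a nonsplit double cover. -/
theorem closure_lift {E M : Type*} [Group E] [Group M] {π : M →* E} {z : M} (h : Ext π z)
    (hno : ∀ σ : E →* M, ¬ ∀ x, π (σ x) = x) {ι : Type*} {m : ι → M}
    (hgen : Subgroup.closure (Set.range fun i => π (m i)) = ⊤) : Subgroup.closure (Set.range m) = ⊤ := by
  classical
  set N : Subgroup M := Subgroup.closure (Set.range m) with hN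
  have hmap : N.map π = ⊤ := by
    rw [hN, MonoidHom.map_closure, ← hgen]
    congr 1
    ext x
    constructor
    · rintro ⟨_, ⟨i, rfl⟩, rfl⟩; exact ⟨i, rfl⟩
    · rintro ⟨i, rfl⟩; exact ⟨m i, ⟨i, rfl⟩, rfl⟩
  by_cases hz : z ∈ N
  · rw [eq_top_iff]
    rintro x -
    have : π x ∈ N.map π := by rw [hmap]; trivial
    obtain ⟨y, hy, hyx⟩ := this
    rcases h.map_eq.1 hyx with h1 | h1
    · rw [← h1]; exact hy
    · have : x = y * z := by rw [h1, h.mul_z_mul_z]
      rw [this]; exact N.mul_mem hy hz
  · exfalso
    have hinj : Function.Injective (π.comp N.subtype) := by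
      rw [injective_iff_map_eq_one]
      intro x hx
      rcases (h.ker _).1 hx with h1 | h1
      · exact Subtype.ext h1
      · exact absurd (h1 ▸ x.2 : z ∈ N) hz
    have hsurj : Function.Surjective (π.comp N.subtype) := by
      intro x
      have : x ∈ N.map π := by rw [hmap]; trivial
      obtain ⟨y, hy, hyx⟩ := this
      exact ⟨⟨y, hy⟩, hyx⟩
    let f : N ≃* E := MulEquiv.ofBijective _ ⟨hinj, hsurj⟩
    refine hno (N.subtype.comp f.symm.toMonoidHom) fun x => ?_
    show π ((f.symm x : N) : M) = x
    exact f.apply_symm_apply x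

end Cfsg.Agent.BabyU.IdentGen
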