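import Cfsg.Agent.TwoESix.Cover
import Cfsg.Agent.R01.IdentPres
import Cfsg.Prelude.Def_Spor_B

/-!
# From eleven elements to a homomorphism from the presented Baby Monster

`nodes x a`: the ten elements `t2, …, t11` obtained from nine elements `x 0, …, x 8` with the graph `Y332` in the
numbering of `R01` (`x 3 = t5`; arms `x 2, x 1, x 0 = t6, t7, t8`; `x 4, x 5, x 6 = t9, t10, t11`; `x 7, x 8 = t4, t3`)
and `a = t2`.
`zrels_nodes`: they satisfy `Lift.ZRels` (the relators of the Baby Monster on `t2, …, t11`).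
`exists_hom`: together with `b = t1` they give a homomorphism.
-/

set_option autoImplicit false

namespace Cfsg.Agent.BabyU.IdentHom

open Cfsg Cfsg.Agent.TwoESix.Cox10 Cfsg.Agent.TwoESix.Lift Cfsg.Agent.R01 Cfsg.Agent.R01.IdentPres

variable {G : Type*} [Group G]

/-- Nine elements with the relations of `Fi22` (numbering of `R01`). -/
structure Nine (x : ℕ → G) : Prop where
  sq : ∀ i < 9, x i * x i = 1
  adj : ∀ i < 9, ∀ j < 9, i ≠ j → IdentWord.adj E i j = true → (x i * x j) ^ 3 = 1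
  comm : ∀ i < 9, ∀ j < 9, i ≠ j → IdentWord.adj E i j = false → x i * x j = x j * x i
  spider : (x 3 * x 2 * x 1 * x 3 * x 4 * x 5 * x 3 * x 7 * x 8) ^ 10 = 1
  e7' : (x 0 * x 1 * x 2 * x 3 * x 4 * x 5 * x 7) ^ 9 = 1
  e7 : (x 1 * x 2 * x 3 * x 4 * x 5 * x 6 * x 7) ^ 9 = 1

/-- The index in the numbering of `R01` of the node `t(k+2)`, `k = 1, …, 9`. -/
def num : Fin 10 → ℕ := ![9, 8, 7, 3, 2, 1, 0, 4, 5, 6]

theorem num_lt : ∀ i : Fin 10, i ≠ 0 → num i < 9 := by decide

theorem num_ne : ∀ i j : Fin 10, i ≠ j → num i ≠ num j := by decide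

theorem num_adj : ∀ i j : Fin 10, i ≠ 0 → j ≠ 0 → i ≠ j →
    (lab i j = 3 ∧ IdentWord.adj E (num i) (num j) = true) ∨
    (lab i j = 2 ∧ IdentWord.adj E (num i) (num j) = false) := by decide

theorem lab_zero : ∀ j : Fin 10, j ≠ 0 → (j = 1 ∧ lab 0 j = 3) ∨ (j ≠ 1 ∧ lab 0 j = 2 ∧ num j < 8) := by decide

/-- The ten elements `t2, …, t11`. -/
def nodes (x : ℕ → G) (a : G) (i : Fin 10) : G := if i = 0 then a else x (num i)

omit [Group G] in
theorem nodes_zero (x : ℕ → G) (a : G) : nodes x a 0 = a := rfl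
omit [Group G] in
theorem nodes_ne (x : ℕ → G) (a : G) {i : Fin 10} (h : i ≠ 0) : nodes x a i = x (num i) := if_neg h

theorem liftable {x : ℕ → G} (h : Nine x) {a : G} (ha : a * a = 1) (h8 : (a * x 8) ^ 3 = 1)
    (hc : ∀ k < 8, a * x k = x k * a) : M10.IsLiftable (nodes x a) := by
  have hsq : ∀ i, nodes x a i * nodes x a i = 1 := by
    intro i
    by_cases hi : i = 0
    · rw [hi, nodes_zero, ha]
    · rw [nodes_ne x a hi, h.sq _ (num_lt i hi)]
  have sq_of_comm : ∀ p q : G, p * p = 1 → q * q = 1 → p * q = q * p → (p * q) ^ 2 = 1 := by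
    intro p q hp hq hpq
    rw [pow_two]
    calc p * q * (p * q) = p * (q * p) * q := by group
      _ = p * (p * q) * q := by rw [hpq]
      _ = (p * p) * (q * q) := by group
      _ = 1 := by rw [hp, hq, one_mul]
  have inv3 : ∀ p q : G, p * p = 1 → q * q = 1 → (p * q) ^ 3 = 1 → (q * p) ^ 3 = 1 := by
    intro p q hp hq hpq
    have : q * p = (p * q)⁻¹ := by
      rw [mul_inv_rev, inv_eq_of_mul_eq_one_left hp, inv_eq_of_mul_eq_one_left hq]
    rw [this, inv_pow, hpq, inv_one]
  have key : ∀ i j : Fin 10, i ≠ j → i ≠ 0 → (nodes x a i * nodes x a j) ^ lab i j = 1 := by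
    intro i j hij hi
    by_cases hj : j = 0
    · subst hj
      rw [lab_symm]
      rcases lab_zero i hi with ⟨h1, h2⟩ | ⟨h1, h2, h3⟩
      · subst h1
        rw [h2, nodes_zero, nodes_ne x a hi]
        exact inv3 a (x 8) ha (h.sq 8 (by norm_num)) h8
      · rw [h2, nodes_zero, nodes_ne x a hi]
        exact sq_of_comm _ _ (h.sq _ (num_lt i hi)) ha (hc _ h3).symm
    · rw [nodes_ne x a hi, nodes_ne x a hj]
      rcases num_adj i j hi hj hij with ⟨h1, h2⟩ | ⟨h1, h2⟩
      · rw [h1]
        exact h.adj _ (num_lt i hi) _ (num_lt j hj) (num_ne i j hij) h2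
      · rw [h1]
        exact sq_of_comm _ _ (h.sq _ (num_lt i hi)) (h.sq _ (num_lt j hj))
          (h.comm _ (num_lt i hi) _ (num_lt j hj) (num_ne i j hij) h2)
  intro i j
  rw [M10_apply]
  by_cases hij : i = j
  · subst hij
    rw [lab_diag, pow_one, hsq]
  · by_cases hi : i = 0
    · subst hi
      have hj : j ≠ 0 := fun h => hij h.symm
      have h1 := key j 0 hj hj
      rw [lab_symm] at h1
      have h2 : nodes x a 0 * nodes x a j = (nodes x a j * nodes x a 0)⁻¹ := by
        rw [mul_inv_rev, inv_eq_of_mul_eq_one_left (hsq 0), inv_eq_of_mul_eq_one_left (hsq j)]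
      rw [h2, inv_pow, h1, inv_one]
    · exact key i j hij hi

/-- Cyclic rotation of a product with trivial power. -/
theorem rot_pow {p q : G} {n : ℕ} (h : (p * q) ^ n = 1) : (q * p) ^ n = 1 := by
  have : q * p = q * (p * q) * q⁻¹ := by group
  rw [this, conj_pow, h, mul_one, mul_inv_cancel]

theorem zrels_nodes {x : ℕ → G} (h : Nine x) {a : G} (ha : a * a = 1) (h8 : (a * x 8) ^ 3 = 1)
    (hc : ∀ k < 8, a * x k = x k * a) : ZRels (nodes x a) (ev (nodes x a) W321 ^ 9) := by
  have hl := liftable h ha h8 hc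
  have hsp : ev (nodes x a) spider ^ 10 = 1 := by
    have h1 : ev (nodes x a) spider = (x 3 * x 7 * x 8) * (x 3 * x 2 * x 1 * x 3 * x 4 * x 5) := by
      simp only [spider, ev, List.map_cons, List.map_nil, List.prod_cons, List.prod_nil, mul_one]
      simp only [nodes, num, mul_assoc]
      rfl
    rw [h1]
    apply rot_pow
    have h2 := h.spider
    simp only [mul_assoc] at h2 ⊢
    exact h2
  refine ⟨hl, hsp, rfl, ?_, ?_⟩
  · rw [← W231_eq hl hsp]
    have h1 := pow9_eq hl (w := W132) (w' := [6, 5, 4, 3, 7, 8, 2]) (by decide +kernel)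
    rw [h1]
    have h2 : ev (nodes x a) [6, 5, 4, 3, 7, 8, 2] = x 0 * x 1 * x 2 * x 3 * x 4 * x 5 * x 7 := by
      simp only [ev, List.map_cons, List.map_nil, List.prod_cons, List.prod_nil, mul_one]
      simp only [nodes, num, mul_assoc]
      rfl
    rw [h2, h.e7']
  · rw [← W213_eq hl hsp]
    have h1 := pow9_eq hl (w := W123) (w' := [5, 4, 3, 7, 8, 9, 2]) (by decide +kernel)
    rw [h1]
    have h2 : ev (nodes x a) [5, 4, 3, 7, 8, 9, 2] = x 1 * x 2 * x 3 * x 4 * x 5 * x 6 * x 7 := by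
      simp only [ev, List.map_cons, List.map_nil, List.prod_cons, List.prod_nil, mul_one]
      simp only [nodes, num, mul_assoc]
      rfl
    rw [h2, h.e7]

/-! ### The homomorphism -/

open Cfsg.Spor Cfsg.Spor.BabyMonster

/-- the index of a generator among `t2, …, t11` (`t1 ↦ 0`, not used) -/
def idx : Gen → Fin 10
  | .t1 => 0
  | .t2 => 0
  | .t3 => 1
  | .t4 => 2
  | .t5 => 3
  | .t6 => 4
  | .t7 => 5
  | .t8 => 6
  | .t9 => 7
  | .t10 => 8
  | .t11 => 9

theorem idx_label : ∀ g g' : Gen, g ≠ .t1 → g' ≠ .t1 → coxLabel edges g g' = lab (idx g) (idx g') := by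
  intro g g'
  cases g <;> cases g' <;> decide

theorem label_t1 : ∀ g : Gen, g ≠ .t1 → g ≠ .t2 → coxLabel edges .t1 g = 2 ∧ coxLabel edges g .t1 = 2 ∧ idx g ≠ 0 := by
  intro g
  cases g <;> decide

/-- the images of the eleven generators -/
def gens (b : G) (s : Fin 10 → G) (g : Gen) : G := if g = .t1 then b else s (idx g)

omit [Group G] in
theorem gens_of_ne (b : G) (s : Fin 10 → G) {g : Gen} (h : g ≠ .t1) : gens b s g = s (idx g) := if_neg h

/-- **The homomorphism** (from `Lift.ZRels`). -/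
theorem exists_hom_zrels {s : Fin 10 → G} {z : G} (h : ZRels s z) {b : G} (hb : b * b = 1) (h3 : (b * s 0) ^ 3 = 1)
    (hc : ∀ i, i ≠ 0 → b * s i = s i * b) :
    ∃ φ : Spor.BabyMonster →* G, φ (PresentedGroup.of .t1) = b ∧
      ∀ g : Gen, g ≠ .t1 → φ (PresentedGroup.of g) = s (idx g) := by
  have hsq : ∀ i, s i * s i = 1 := fun i => sq h.lift i
  have hrel : ∀ r ∈ coxRelators edges ∪ {r | r ∈ extra}, FreeGroup.lift (gens b s) r = 1 := by
    rintro r (⟨x, _, y, _, rfl⟩ | hr)
    · rw [map_pow, map_mul, FreeGroup.lift_apply_of, FreeGroup.lift_apply_of]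
      by_cases hx : x = .t1
      · subst hx
        by_cases hy : y = .t1
        · subst hy
          show (b * b) ^ 1 = 1
          rw [pow_one, hb]
        · by_cases hy2 : y = .t2
          · subst hy2
            exact h3
          · obtain ⟨h4, _, h6⟩ := label_t1 y hy hy2
            rw [h4, gens_of_ne b s hy]
            show (b * s (idx y)) ^ 2 = 1
            rw [pow_two]
            calc b * s (idx y) * (b * s (idx y)) = b * (s (idx y) * b) * s (idx y) := by group
              _ = b * (b * s (idx y)) * s (idx y) := by rw [hc _ h6]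
              _ = (b * b) * (s (idx y) * s (idx y)) := by group
              _ = 1 := by rw [hb, hsq, one_mul]
      · by_cases hy : y = .t1
        · subst hy
          by_cases hx2 : x = .t2
          · subst hx2
            show (s 0 * b) ^ 3 = 1
            have : s 0 * b = (b * s 0)⁻¹ := by
              rw [mul_inv_rev, inv_eq_of_mul_eq_one_left hb, inv_eq_of_mul_eq_one_left (hsq 0)]
            rw [this, inv_pow, h3, inv_one]
          · obtain ⟨_, h5, h6⟩ := label_t1 x hx hx2
            rw [h5, gens_of_ne b s hx]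
            show (s (idx x) * b) ^ 2 = 1
            rw [pow_two]
            calc s (idx x) * b * (s (idx x) * b) = s (idx x) * (b * s (idx x)) * b := by group
              _ = s (idx x) * (s (idx x) * b) * b := by rw [hc _ h6]
              _ = (s (idx x) * s (idx x)) * (b * b) := by group
              _ = 1 := by rw [hb, hsq, one_mul]
        · rw [gens_of_ne b s hx, gens_of_ne b s hy, idx_label x y hx hy]
          exact h.lift _ _
    · have hr' : r ∈ extra := hr
      simp only [extra, List.mem_cons, List.not_mem_nil, or_false] at hr'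
      rcases hr' with rfl | rfl | rfl
      · have h4 := h.spider
        simp only [spider, ev, List.map_cons, List.map_nil, List.prod_cons, List.prod_nil, mul_one] at h4
        simp only [map_pow, map_mul, FreeGroup.lift_apply_of, mul_assoc]
        exact h4
      · have h4 := h.e231
        simp only [W231, ev, List.map_cons, List.map_nil, List.prod_cons, List.prod_nil, mul_one] at h4
        simp only [map_pow, map_mul, FreeGroup.lift_apply_of, mul_assoc]
        exact h4
      · have h4 := h.e213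
        simp only [W213, ev, List.map_cons, List.map_nil, List.prod_cons, List.prod_nil, mul_one] at h4
        simp only [map_pow, map_mul, FreeGroup.lift_apply_of, mul_assoc]
        exact h4
  refine ⟨PresentedGroup.toGroup hrel, ?_, ?_⟩
  · rw [PresentedGroup.toGroup.of]; rfl
  · intro g hg
    rw [PresentedGroup.toGroup.of]
    exact gens_of_ne b s hg

theorem exists_idx (i : Fin 10) : ∃ g : Gen, g ≠ .t1 ∧ idx g = i := by
  fin_cases i
  · exact ⟨.t2, by decide, rfl⟩
  · exact ⟨.t3, by decide, rfl⟩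
  · exact ⟨.t4, by decide, rfl⟩
  · exact ⟨.t5, by decide, rfl⟩
  · exact ⟨.t6, by decide, rfl⟩
  · exact ⟨.t7, by decide, rfl⟩
  · exact ⟨.t8, by decide, rfl⟩
  · exact ⟨.t9, by decide, rfl⟩
  · exact ⟨.t10, by decide, rfl⟩
  · exact ⟨.t11, by decide, rfl⟩

/-- **The homomorphism.** -/
theorem exists_hom (s : Fin 10 → G) (x : G) (hs : M10.IsLiftable s) (hsp : ev s spider ^ 10 = 1)
    (h231 : ev s W231 ^ 9 = 1) (h213 : ev s W213 ^ 9 = 1) (hx : x * x = 1) (h0 : (x * s 0) ^ 3 = 1)
    (hc : ∀ i, i ≠ 0 → x * s i = s i * x) :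
    ∃ φ : Spor.BabyMonster →* G, φ (PresentedGroup.of .t1) = x ∧ ∀ i, s i ∈ φ.range := by
  obtain ⟨φ, h1, h2⟩ := exists_hom_zrels (z := ev s W321 ^ 9) ⟨hs, hsp, rfl, h231, h213⟩ hx h0 hc
  refine ⟨φ, h1, fun i => ?_⟩
  obtain ⟨g, hg, rfl⟩ := exists_idx i
  exact ⟨_, h2 g hg⟩

/-- The relators from those of `Fi22` in the numbering of `R01`. -/
theorem rels_of_fi {s : Fin 10 → G} (y : ℕ → G) (hs : M10.IsLiftable s)
    (hsp : (y 3 * y 2 * y 1 * y 3 * y 4 * y 5 * y 3 * y 7 * y 8) ^ 10 = 1)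
    (h9 : (y 0 * y 1 * y 2 * y 3 * y 4 * y 5 * y 7) ^ 9 = 1)
    (h9' : (y 1 * y 2 * y 3 * y 4 * y 5 * y 6 * y 7) ^ 9 = 1)
    (h1 : s 1 = y 8) (h2 : s 2 = y 7) (h3 : s 3 = y 3) (h4 : s 4 = y 2) (h5 : s 5 = y 1) (h6 : s 6 = y 0)
    (h7 : s 7 = y 4) (h8 : s 8 = y 5) (h10 : s 9 = y 6) :
    ev s spider ^ 10 = 1 ∧ ev s W231 ^ 9 = 1 ∧ ev s W213 ^ 9 = 1 := by
  have hsp' : ev s spider ^ 10 = 1 := by
    have h1' : ev s spider = (y 3 * y 7 * y 8) * (y 3 * y 2 * y 1 * y 3 * y 4 * y 5) := by
      simp only [spider, ev, List.map_cons, List.map_nil, List.prod_cons, List.prod_nil, mul_one, h1, h2, h3, h4,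
        h5, h7, h8, mul_assoc]
    rw [h1']
    apply rot_pow
    simp only [mul_assoc] at hsp ⊢
    exact hsp
  refine ⟨hsp', ?_, ?_⟩
  · rw [← W231_eq hs hsp', pow9_eq hs (w := W132) (w' := [6, 5, 4, 3, 7, 8, 2]) (by decide +kernel)]
    simp only [ev, List.map_cons, List.map_nil, List.prod_cons, List.prod_nil, mul_one, h2, h3, h4, h5, h6, h7, h8]
    simp only [mul_assoc] at h9 ⊢
    exact h9
  · rw [← W213_eq hs hsp', pow9_eq hs (w := W123) (w' := [5, 4, 3, 7, 8, 9, 2]) (by decide +kernel)]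
    simp only [ev, List.map_cons, List.map_nil, List.prod_cons, List.prod_nil, mul_one, h2, h3, h4, h5, h10, h7, h8]
    simp only [mul_assoc] at h9' ⊢
    exact h9'

/-- **The homomorphism from eleven elements in the numbering of `R01`.** -/
theorem exists_hom_nine {x : ℕ → G} (h : Nine x) {a b : G} (ha : a * a = 1) (h8 : (a * x 8) ^ 3 = 1)
    (hc : ∀ k < 8, a * x k = x k * a) (hb : b * b = 1) (h3 : (b * a) ^ 3 = 1) (hbc : ∀ k < 9, b * x k = x k * b) :
    ∃ φ : Spor.BabyMonster →* G, φ (PresentedGroup.of .t1) = b ∧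
      Subgroup.closure (Set.range (nodes x a)) ≤ φ.range := by
  obtain ⟨φ, h1, h2⟩ := exists_hom_zrels (zrels_nodes h ha h8 hc) hb h3 (fun i hi => by
    rw [nodes_ne x a hi]; exact hbc _ (num_lt i hi))
  refine ⟨φ, h1, ?_⟩
  rw [Subgroup.closure_le]
  rintro _ ⟨i, rfl⟩
  obtain ⟨g, hg, rfl⟩ := exists_idx i
  exact ⟨_, h2 g hg⟩

end Cfsg.Agent.BabyU.IdentHom
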