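import Mathlib

/-!
# U-B (recognition of the Baby Monster, S1662): the last relation

`t0, t2, x` involutions, `[t0,t2] = 1`, `(t0 x)^3 = 1`, the centraliser of `t0` in a subgroup `Z` containing all of them is
`{1, t0, t2, t0 t2}`, `x` commutes neither with `t2` nor with `t0 t2`, and `t0` is not conjugate to `t0 t2`.
If `x t2` has order at most `4` then it has order `3`.
-/

set_option autoImplicit false

namespace Cfsg.Agent.BabyU.LemmaS

variable {G : Type*} [Group G]

theorem inv_of {x : G} (h : x * x = 1) : x⁻¹ = x := inv_eq_of_mul_eq_one_right h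

theorem main {Z : Subgroup G} {t0 t2 x : G} (m0 : t0 ∈ Z) (m2 : t2 ∈ Z) (mx : x ∈ Z)
    (h0 : t0 * t0 = 1) (h2 : t2 * t2 = 1) (hx : x * x = 1) (hc : t0 * t2 = t2 * t0)
    (h3 : (t0 * x) ^ 3 = 1)
    (hC : ∀ g ∈ Z, g * t0 = t0 * g → g = 1 ∨ g = t0 ∨ g = t2 ∨ g = t0 * t2)
    (hN1 : x * t2 ≠ t2 * x) (hN2 : x * (t0 * t2) ≠ t0 * t2 * x)
    (hz : ∀ g ∈ Z, g * t0 * g⁻¹ ≠ t0 * t2)
    (ho : (x * t2) ^ 4 = 1 ∨ (x * t2) ^ 3 = 1) : (x * t2) ^ 3 = 1 := by
  rcases ho with ho | ho
  swap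
  · exact ho
  exfalso
  have i0 := inv_of h0
  have i2 := inv_of h2
  have ix := inv_of hx
  -- notation: `a = t0 x`, `a * t0 * a⁻¹ = x`
  obtain ⟨a, ha⟩ : ∃ a, a = t0 * x := ⟨_, rfl⟩
  have ma : a ∈ Z := by rw [ha]; exact Z.mul_mem m0 mx
  have a3 : a * a * a = 1 := by
    rw [ha]; simpa only [pow_succ, pow_zero, one_mul] using h3
  have ai : a⁻¹ = a * a := by
    rw [inv_eq_iff_mul_eq_one, ← mul_assoc, a3]
  have ai' : a⁻¹ = x * t0 := by rw [ha, mul_inv_rev, i0, ix]
  have xa : x = t0 * a := by rw [ha, ← mul_assoc, h0, one_mul]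
  have at0 : t0 * a * t0 = a⁻¹ := by rw [ai', xa]
  have conj0 : a * t0 * a⁻¹ = x := by
    have : a * t0 * a⁻¹ = a * (t0 * a⁻¹) := by rw [mul_assoc]
    have h4 : t0 * a⁻¹ = a * t0 := by
      rw [← at0]; simp only [← mul_assoc]; rw [h0, one_mul]
    rw [this, h4, ← mul_assoc, ← ai, ai', mul_assoc, h0, mul_one]
  -- elements commuting with `a` and `t0` are trivial
  have key : ∀ p ∈ Z, p * a = a * p → p * t0 = t0 * p → p = 1 := by
    intro p hp h4 h5
    have h6 : p * x = x * p := by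
      rw [xa, ← mul_assoc, h5, mul_assoc, h4, mul_assoc]
    rcases hC p hp h5 with h | h | h | h
    · exact h
    · exfalso
      rw [h] at h4
      -- `t0` commutes with `a`, so `a = a⁻¹`
      have h7 : a⁻¹ = a := by rw [← at0, h4, mul_assoc, h0, mul_one]
      have h8 : a = 1 := by
        have : a * a = 1 := by
          calc a * a = a * a⁻¹ := by rw [h7]
            _ = 1 := mul_inv_cancel a
        have h9 := a3
        rw [this, one_mul] at h9
        exact h9
      apply hN1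
      rw [xa, h8, mul_one, hc]
    · exfalso; rw [h] at h6; exact hN1 h6.symm
    · exfalso; rw [h] at h6; exact hN2 h6.symm
  -- the conjugates of `t2`
  obtain ⟨u1, hu1⟩ : ∃ u, u = a * t2 * a⁻¹ := ⟨_, rfl⟩
  obtain ⟨u2, hu2⟩ : ∃ u, u = a⁻¹ * t2 * a := ⟨_, rfl⟩
  have m1 : u1 ∈ Z := by rw [hu1]; exact Z.mul_mem (Z.mul_mem ma m2) (Z.inv_mem ma)
  have m2' : u2 ∈ Z := by rw [hu2]; exact Z.mul_mem (Z.mul_mem (Z.inv_mem ma) m2) ma
  have s1 : u1 * u1 = 1 := by
    rw [hu1]
    calc a * t2 * a⁻¹ * (a * t2 * a⁻¹) = a * (t2 * t2) * a⁻¹ := by group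
      _ = 1 := by rw [h2, mul_one, mul_inv_cancel]
  have s2 : u2 * u2 = 1 := by
    rw [hu2]
    calc a⁻¹ * t2 * a * (a⁻¹ * t2 * a) = a⁻¹ * (t2 * t2) * a := by group
      _ = 1 := by rw [h2, mul_one, inv_mul_cancel]
  have j1 := inv_of s1
  have j2 := inv_of s2
  have c21 : a * u2 * a⁻¹ = t2 := by rw [hu2]; group
  have c12 : a * u1 * a⁻¹ = u2 := by
    have e1 : a⁻¹ * a⁻¹ = a := by
      rw [ai]; calc a * a * (a * a) = a * a * a * a := by group
        _ = a := by rw [a3, one_mul]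
    calc a * u1 * a⁻¹ = (a * a) * t2 * (a⁻¹ * a⁻¹) := by rw [hu1]; group
      _ = u2 := by rw [e1, ← ai, hu2]
  have t01 : t0 * u1 * t0 = u2 := by
    rw [hu1, hu2]
    have e1 : a⁻¹ * t0 = t0 * a := by rw [← at0]; simp only [mul_assoc]; rw [h0, mul_one]
    have e2 : t0 * a = a⁻¹ * t0 := e1.symm
    calc t0 * (a * t2 * a⁻¹) * t0 = (t0 * a) * t2 * (a⁻¹ * t0) := by group
      _ = a⁻¹ * t0 * t2 * (t0 * a) := by rw [e2]
      _ = a⁻¹ * (t0 * t2) * t0 * a := by group
      _ = a⁻¹ * (t2 * t0) * t0 * a := by rw [hc]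
      _ = a⁻¹ * t2 * (t0 * t0) * a := by group
      _ = a⁻¹ * t2 * a := by rw [h0, mul_one]
  have t02 : t0 * u2 * t0 = u1 := by
    rw [← t01]
    calc t0 * (t0 * u1 * t0) * t0 = (t0 * t0) * u1 * (t0 * t0) := by group
      _ = u1 := by rw [h0, one_mul, mul_one]
  -- `r = (x t2)^2`
  obtain ⟨r, hr⟩ : ∃ r, r = x * t2 * x * t2 := ⟨_, rfl⟩
  have mr : r ∈ Z := by rw [hr]; exact Z.mul_mem (Z.mul_mem (Z.mul_mem mx m2) mx) m2
  have rr : r * r = 1 := by
    rw [hr]
    have : x * t2 * x * t2 * (x * t2 * x * t2) = (x * t2) ^ 4 := by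
      simp only [pow_succ, pow_zero, one_mul, mul_assoc]
    rw [this, ho]
  have ir := inv_of rr
  have rne : r ≠ 1 := by
    intro h
    apply hN1
    have h4 : x * t2 * (t2 * x)⁻¹ = 1 := by
      rw [mul_inv_rev, ix, i2]
      calc x * t2 * (x * t2) = x * t2 * x * t2 := by group
        _ = 1 := by rw [← hr, h]
    exact mul_inv_eq_one.1 h4
  have rinv : t2 * x * t2 * x = r := by
    rw [← ir, hr]; simp only [mul_inv_rev, i2, ix, mul_assoc]
  have rx : r * x = x * r := by
    have : x * r * x = r := by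
      rw [hr]
      calc x * (x * t2 * x * t2) * x = (x * x) * (t2 * x * t2 * x) := by group
        _ = x * t2 * x * t2 := by rw [hx, one_mul, rinv, hr]
    calc r * x = x * r * x * x := by rw [this]
      _ = x * r := by rw [mul_assoc, hx, mul_one]
  have rt2 : r * t2 = t2 * r := by
    have : t2 * r * t2 = r := by
      rw [hr]
      calc t2 * (x * t2 * x * t2) * t2 = (t2 * x * t2 * x) * (t2 * t2) := by group
        _ = x * t2 * x * t2 := by rw [h2, mul_one, rinv, hr]
    calc r * t2 = t2 * r * t2 * t2 := by rw [this]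
      _ = t2 * r := by rw [mul_assoc, h2, mul_one]
  -- `a⁻¹ r a` commutes with `t0`
  have hq : a⁻¹ * r * a * t0 = t0 * (a⁻¹ * r * a) := by
    have e1 : t0 = a⁻¹ * x * a := by rw [← conj0]; group
    calc a⁻¹ * r * a * t0 = a⁻¹ * r * a * (a⁻¹ * x * a) := by rw [← e1]
      _ = a⁻¹ * (r * x) * a := by group
      _ = a⁻¹ * x * a * (a⁻¹ * r * a) := by rw [rx]; group
      _ = t0 * (a⁻¹ * r * a) := by rw [← e1]
  have hmem : a⁻¹ * r * a ∈ Z := Z.mul_mem (Z.mul_mem (Z.inv_mem ma) mr) ma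
  have hback : ∀ y, a⁻¹ * r * a = y → r = a * y * a⁻¹ := by
    intro y h; rw [← h]; group
  rcases hC _ hmem hq with h | h | h | h
  · -- r = 1
    have := hback _ h
    rw [mul_one, mul_inv_cancel] at this
    exact rne this
  · -- r = x
    have h4 := hback _ h
    rw [conj0] at h4
    -- x t2 x t2 = x, so t2 x t2 = 1, x = 1
    have h5 : x = 1 := by
      have h6 : x * (t2 * x * t2) = x * 1 := by
        rw [mul_one]
        calc x * (t2 * x * t2) = x * t2 * x * t2 := by group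
          _ = x := by rw [← hr, h4]
      have h7 : t2 * x * t2 = 1 := mul_left_cancel h6
      calc x = (t2 * t2) * x * (t2 * t2) := by rw [h2, one_mul, mul_one]
        _ = t2 * (t2 * x * t2) * t2 := by group
        _ = 1 := by rw [h7, mul_one, h2]
    apply hN1
    rw [h5, one_mul, mul_one]
  · -- case (a): r = u1
    have h4 := hback _ h
    rw [← hu1] at h4
    rw [h4] at rt2
    -- u1 commutes with t2; conjugate by t0: u2 commutes with t2; conjugate by a: u1, u2 commute
    have k2 : u2 * t2 = t2 * u2 := by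
      have e : t0 * (u1 * t2) * t0 = t0 * (t2 * u1) * t0 := by rw [rt2]
      have e1 : t0 * (u1 * t2) * t0 = u2 * t2 := by
        calc t0 * (u1 * t2) * t0 = t0 * u1 * (t2 * t0) := by group
          _ = t0 * u1 * (t0 * t2) := by rw [hc]
          _ = t0 * u1 * t0 * t2 := by group
          _ = u2 * t2 := by rw [t01]
      have e2 : t0 * (t2 * u1) * t0 = t2 * u2 := by
        calc t0 * (t2 * u1) * t0 = (t0 * t2) * u1 * t0 := by group
          _ = t2 * (t0 * u1 * t0) := by rw [hc]; group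
          _ = t2 * u2 := by rw [t01]
      rw [e1, e2] at e; exact e
    have k12 : u1 * u2 = u2 * u1 := by
      have e : a * (t2 * u1) * a⁻¹ = a * (u1 * t2) * a⁻¹ := by rw [rt2]
      have e1 : a * (t2 * u1) * a⁻¹ = u1 * u2 := by
        calc a * (t2 * u1) * a⁻¹ = (a * t2 * a⁻¹) * (a * u1 * a⁻¹) := by group
          _ = u1 * u2 := by rw [c12, ← hu1]
      have e2 : a * (u1 * t2) * a⁻¹ = u2 * u1 := by
        calc a * (u1 * t2) * a⁻¹ = (a * u1 * a⁻¹) * (a * t2 * a⁻¹) := by group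
          _ = u2 * u1 := by rw [c12, ← hu1]
      rw [e1, e2] at e; exact e
    have hp : t2 * u1 * u2 = 1 := by
      apply key
      · exact Z.mul_mem (Z.mul_mem m2 m1) m2'
      · have : a * (t2 * u1 * u2) * a⁻¹ = t2 * u1 * u2 := by
          calc a * (t2 * u1 * u2) * a⁻¹ = (a * t2 * a⁻¹) * (a * u1 * a⁻¹) * (a * u2 * a⁻¹) := by group
            _ = u1 * u2 * t2 := by rw [c12, c21, ← hu1]
            _ = u1 * (t2 * u2) := by rw [mul_assoc, k2]
            _ = t2 * u1 * u2 := by rw [← mul_assoc, rt2]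
        calc t2 * u1 * u2 * a = a * (t2 * u1 * u2) * a⁻¹ * a := by rw [this]
          _ = a * (t2 * u1 * u2) := by group
      · have : t0 * (t2 * u1 * u2) * t0 = t2 * u1 * u2 := by
          calc t0 * (t2 * u1 * u2) * t0 = (t0 * t2) * u1 * u2 * t0 := by group
            _ = t2 * t0 * u1 * (t0 * t0) * u2 * t0 := by rw [hc, h0, mul_one]
            _ = t2 * (t0 * u1 * t0) * (t0 * u2 * t0) := by group
            _ = t2 * (u1 * u2) := by rw [t01, t02, k12]; group
            _ = t2 * u1 * u2 := by group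
        calc t2 * u1 * u2 * t0 = t0 * (t2 * u1 * u2) * t0 * t0 := by rw [this]
          _ = t0 * (t2 * u1 * u2) := by rw [mul_assoc, h0, mul_one]
    -- then `u1 t0 u1 = t0 t2`
    apply hz u1 m1
    have e1 : u2 * u1 = t2 := by
      rw [← k12]
      calc u1 * u2 = t2 * (t2 * u1 * u2) := by
            rw [mul_assoc t2 u1 u2, ← mul_assoc t2 t2, h2, one_mul]
        _ = t2 := by rw [hp, mul_one]
    calc u1 * t0 * u1⁻¹ = (t0 * t0) * u1 * t0 * u1 := by rw [j1, h0, one_mul]
      _ = t0 * (t0 * u1 * t0) * u1 := by group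
      _ = t0 * t2 := by rw [t01, mul_assoc, e1]
  · -- case (b): r = x u1
    have h4 := hback _ h
    have h5 : r = x * u1 := by
      rw [h4, hu1]
      calc a * (t0 * t2) * a⁻¹ = (a * t0 * a⁻¹) * (a * t2 * a⁻¹) := by group
        _ = x * (a * t2 * a⁻¹) := by rw [conj0]
    have h6 : t2 * x * t2 = u1 := by
      have : x * (t2 * x * t2) = x * u1 := by
        rw [← h5, hr]; group
      exact mul_left_cancel this
    -- conjugate by a⁻¹
    have h7 : u2 * t0 * u2 = t2 := by
      have e1 : t0 = a⁻¹ * x * a := by rw [← conj0]; group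
      calc u2 * t0 * u2 = (a⁻¹ * t2 * a) * (a⁻¹ * x * a) * (a⁻¹ * t2 * a) := by rw [← e1, ← hu2]
        _ = a⁻¹ * (t2 * x * t2) * a := by group
        _ = a⁻¹ * u1 * a := by rw [h6]
        _ = t2 := by rw [hu1]; group
    have h8 : u1 * t0 * u1 = t2 := by
      calc u1 * t0 * u1 = (t0 * u2 * t0) * t0 * (t0 * u2 * t0) := by rw [t02]
        _ = t0 * u2 * (t0 * t0) * t0 * u2 * t0 := by group
        _ = t0 * (u2 * t0 * u2) * t0 := by rw [h0, mul_one]; group
        _ = t0 * t2 * t0 := by rw [h7]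
        _ = t2 := by rw [hc, mul_assoc, h0, mul_one]
    have h9 : u1 * t2 * u1 = t0 := by
      rw [← h8]
      calc u1 * (u1 * t0 * u1) * u1 = (u1 * u1) * t0 * (u1 * u1) := by group
        _ = t0 := by rw [s1, one_mul, mul_one]
    have hcm : u1 * u2 * t0 = t0 * (u1 * u2) := by
      have : u1 * u2 * t0 * (u2 * u1) = t0 := by
        calc u1 * u2 * t0 * (u2 * u1) = u1 * (u2 * t0 * u2) * u1 := by group
          _ = t0 := by rw [h7, h9]
      calc u1 * u2 * t0 = u1 * u2 * t0 * (u2 * (u1 * u1) * u2) := by rw [s1, mul_one, s2, mul_one]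
        _ = (u1 * u2 * t0 * (u2 * u1)) * (u1 * u2) := by group
        _ = t0 * (u1 * u2) := by rw [this]
    -- if t2 and u1 commute then t0 = t2
    have fin1 : t2 * u1 = u1 * t2 → False := by
      intro e
      have e1 : t0 = t2 := by
        rw [← h9, ← e, mul_assoc, s1, mul_one]
      apply hN2
      rw [e1, h2, one_mul, mul_one]
    have comm_of : ∀ y z w : G, y * y = 1 → z * z = 1 → w * w = 1 → y * z = w → y * z = z * y := by
      intro y z w hy hz' hw e
      have e1 : (y * z) * (y * z) = 1 := by rw [e, hw]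
      have e2 : (y * z)⁻¹ = y * z := inv_of e1
      rw [← e2, mul_inv_rev, inv_of hy, inv_of hz']
    have down : u1 * u2 = u2 * u1 → t2 * u1 = u1 * t2 := by
      intro e
      have e1 : a⁻¹ * (u1 * u2) * a = a⁻¹ * (u2 * u1) * a := by rw [e]
      have e2 : a⁻¹ * u1 * a = t2 := by rw [hu1]; group
      have e3 : a⁻¹ * u2 * a = u1 := by rw [← c12]; group
      have e4 : a⁻¹ * (u1 * u2) * a = t2 * u1 := by
        calc a⁻¹ * (u1 * u2) * a = (a⁻¹ * u1 * a) * (a⁻¹ * u2 * a) := by group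
          _ = t2 * u1 := by rw [e2, e3]
      have e5 : a⁻¹ * (u2 * u1) * a = u1 * t2 := by
        calc a⁻¹ * (u2 * u1) * a = (a⁻¹ * u2 * a) * (a⁻¹ * u1 * a) := by group
          _ = u1 * t2 := by rw [e2, e3]
      rw [e4, e5] at e1; exact e1
    rcases hC _ (Z.mul_mem m1 m2') hcm with e | e | e | e
    · -- u1 = u2
      have e1 : u1 = u2 := by
        calc u1 = u1 * (u2 * u2) := by rw [s2, mul_one]
          _ = u2 := by rw [← mul_assoc, e, one_mul]
      exact fin1 (down (by rw [e1]))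
    · exact fin1 (down (comm_of _ _ _ s1 s2 h0 e))
    · exact fin1 (down (comm_of _ _ _ s1 s2 h2 e))
    · refine fin1 (down (comm_of _ _ (t0 * t2) s1 s2 ?_ e))
      calc t0 * t2 * (t0 * t2) = t0 * t2 * (t2 * t0) := by rw [hc]
        _ = t0 * (t2 * t2) * t0 := by group
        _ = 1 := by rw [h2, mul_one, h0]

end Cfsg.Agent.BabyU.LemmaS
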