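import Cfsg.Agent.BabyU.Unitary
import Cfsg.Agent.BabyU.IdentHom
import Cfsg.Agent.BabyU.IdentGen
import Cfsg.Agent.BabyU.LemmaS

/-!
# U-B: the identification of the Baby Monster

From the local hypotheses `Hyp` at an involution `t` (and the generation of `E` by any ten elements satisfying the
relators on `t2, …, t11`) there is a homomorphism from the presented Baby Monster whose range contains `M`.
-/

set_option autoImplicit false
set_option linter.unusedSectionVars false

namespace Cfsg.Agent.BabyU.Ident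

open Cfsg Cfsg.Agent.R01.Lifts Cfsg.Agent.BabyU.RootCfg Cfsg.Agent.R01.PSUSix
open Cfsg.Agent.BabyU.FiNodes Cfsg.Agent.BabyU.IdentHom Cfsg.Agent.BabyU.IdentGen
open Cfsg.Agent.TwoESix.Cox10 Cfsg.Agent.TwoESix.Lift
open Cfsg.Agent.R01 (IdentWord.adj)
open Cfsg.Agent.R01.IdentPres (E)

universe u v w

variable {G : Type u} [Group G] {E₀ : Type v} [Group E₀] {F : Type w} [Field F] [Fintype F]
variable {hF : Fintype.card F = 2 ^ 2} {t : G} {M : Subgroup G} {π : M →* E₀} {R : Set E₀}

namespace Hyp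

theorem map_comm_iff (H : Hyp hF t M π R) {u w : G} (hu : u ∈ M) (hw : Rel t M π R t w) (mw : w ∈ M) :
    π ⟨u, hu⟩ * π ⟨w, mw⟩ = π ⟨w, mw⟩ * π ⟨u, hu⟩ ↔ u * w = w * u := by
  obtain ⟨⟨_, rw'⟩, cw⟩ := H.rel_base.1 hw
  constructor
  · intro h
    exact H.comm_of (x := ⟨w, mw⟩) (m := ⟨u, hu⟩) rw' cw h
  · intro h
    rw [← map_mul, ← map_mul]
    congr 1
    exact Subtype.ext h

theorem eq_of_rel (H : Hyp hF t M π R) {u w : G} (hu : Rel t M π R t u) (hw : Rel t M π R t w) (mu : u ∈ M)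
    (mw : w ∈ M) (h : π ⟨u, mu⟩ = π ⟨w, mw⟩) : u = w := by
  obtain ⟨⟨_, ru⟩, cu⟩ := H.rel_base.1 hu
  obtain ⟨-, cw⟩ := H.rel_base.1 hw
  exact H.eq_of_map (x := ⟨u, mu⟩) (y := ⟨w, mw⟩) ru cu cw h

end Hyp

theorem conj_comm {h u w : G} (hw : h * w = w * h) : h * u * h⁻¹ * w = w * (h * u * h⁻¹) ↔ u * w = w * u := by
  have e1 : h * u * h⁻¹ * w = h * (u * w) * h⁻¹ := by
    have : h⁻¹ * w = w * h⁻¹ := by
      calc h⁻¹ * w = h⁻¹ * (w * h) * h⁻¹ := by group
        _ = h⁻¹ * (h * w) * h⁻¹ := by rw [hw]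
        _ = w * h⁻¹ := by group
    calc h * u * h⁻¹ * w = h * u * (h⁻¹ * w) := by group
      _ = h * (u * w) * h⁻¹ := by rw [this]; group
  have e2 : w * (h * u * h⁻¹) = h * (w * u) * h⁻¹ := by
    calc w * (h * u * h⁻¹) = (w * h) * u * h⁻¹ := by group
      _ = h * (w * u) * h⁻¹ := by rw [← hw]; group
  rw [e1, e2]
  constructor
  · intro e
    have := congrArg (fun z => h⁻¹ * z * h) e
    simpa [mul_assoc] using this
  · intro e
    rw [e]

/-- **The identification.** -/
theorem ident [Finite G] (H : Hyp hF t M π R)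
    (gen : ∀ e : Fin 10 → E₀, M10.IsLiftable e → ev e spider ^ 10 = 1 → ev e W231 ^ 9 = 1 →
      ev e W213 ^ 9 = 1 → e 0 ≠ 1 → Subgroup.closure (Set.range e) = ⊤) :
    ∃ φ : Spor.BabyMonster →* G, M ≤ φ.range ∧ ∃ g : G, φ (PresentedGroup.of .t1) = g * t * g⁻¹ := by
  -- the opposite pair
  obtain ⟨r0, hr0, s0, hs0, ho0⟩ := H.RF.opp
  obtain ⟨ma, ea, ca⟩ := H.exists_good hr0
  obtain ⟨mb, eb, cb⟩ := H.exists_good hs0
  obtain ⟨a, ha'⟩ : ∃ a : G, a = ma := ⟨_, rfl⟩
  obtain ⟨b, hb'⟩ : ∃ b : G, b = mb := ⟨_, rfl⟩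
  have hab : Opp a b := by
    rw [ha', hb']
    exact (H.opp_iff (by rw [ea]; exact hr0) (by rw [eb]; exact hs0) ca cb).1 (by rw [ea, eb]; exact ho0)
  have ha : Rel t M π R t a := by
    rw [ha']; exact H.rel_base.2 ⟨⟨ma.2, by rw [Subtype.coe_eta, ea]; exact hr0⟩, ca⟩
  have hb : Rel t M π R t b := by
    rw [hb']; exact H.rel_base.2 ⟨⟨mb.2, by rw [Subtype.coe_eta, eb]; exact hs0⟩, cb⟩
  rw [← ha'] at ca
  rw [← hb'] at cb
  have aa : a * a = 1 := H.rel_sq ha
  have bb : b * b = 1 := H.rel_sq hb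
  have nab : a * b ≠ b * a := hab.not_comm aa bb
  -- the base point `a`
  obtain ⟨N, ρ, Ha, e1, e2, e3⟩ := H.at ca
  have hN : ∀ g, g ∈ N ↔ NN t M a g := fun g => by rw [← e2, Ha.nn_base]
  obtain ⟨ht, y, Y⟩ := H.exists_Y ha hb hab N hN
  have sa := H.symm ha
  have sb := H.symm hb
  -- the nine elements
  obtain ⟨x, hx⟩ : ∃ x : ℕ → G, x = fun k => (y k : G) := ⟨_, rfl⟩
  have xN : ∀ k, x k ∈ N := fun k => by rw [hx]; exact (Subgroup.mem_inf.1 (y k).2).1
  have xb : ∀ k, x k * b = b * x k := fun k => by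
    rw [hx]; exact Subgroup.mem_centralizer_singleton_iff.1 (Subgroup.mem_inf.1 (y k).2).2
  have hconj : ∀ k < 9, ∃ g : G, g ∈ N ∧ g * b = b * g ∧ g * t * g⁻¹ = x k := by
    intro k hk
    obtain ⟨g, hg⟩ := isConj_iff.1 (show IsConj _ _ from Y.conf.mem k hk)
    refine ⟨g, (Subgroup.mem_inf.1 g.2).1,
      Subgroup.mem_centralizer_singleton_iff.1 (Subgroup.mem_inf.1 g.2).2, ?_⟩
    rw [hx]
    exact congrArg Subtype.val hg
  have relA' : ∀ k < 9, Rel t M π R a (x k) := by
    intro k hk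
    obtain ⟨g, gN, gb, hg⟩ := hconj k hk
    have h1 := sa.equiv g
    have h2 : g * a * g⁻¹ = a := by rw [Ha.S.comm g gN]; group
    rwa [hg, h2] at h1
  have relB : ∀ k < 9, Rel t M π R b (x k) := by
    intro k hk
    obtain ⟨g, gN, gb, hg⟩ := hconj k hk
    have h1 := sb.equiv g
    have h2 : g * b * g⁻¹ = b := by rw [gb]; group
    rwa [hg, h2] at h1
  have relA : ∀ k < 9, Rel a N ρ R a (x k) := fun k hk => (e1 _ _).2 (relA' k hk)
  have xsq : ∀ k < 9, x k * x k = 1 := fun k hk => H.rel_sq (relA' k hk)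
  have xcomm : ∀ i < 9, ∀ j < 9, i ≠ j → IdentWord.adj E i j = false → x i * x j = x j * x i := by
    intro i hi j hj hij h
    rw [hx]; exact congrArg Subtype.val (Y.conf.comm i hi j hj hij h)
  have xnadj : ∀ i < 9, ∀ j < 9, i ≠ j → IdentWord.adj E i j = true → x i * x j ≠ x j * x i := by
    intro i hi j hj hij h h1
    rw [hx] at h1
    exact Y.conf.nadj i hi j hj hij h (Subtype.ext h1)
  have xadj : ∀ i < 9, ∀ j < 9, i ≠ j → IdentWord.adj E i j = true → (x i * x j) ^ 3 = 1 := by
    intro i hi j hj hij h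
    rcases Y.three _ (Y.conf.mem i hi) _ (Y.conf.mem j hj) with h1 | h1
    · exact absurd h1 (Y.conf.nadj i hi j hj hij h)
    · rw [hx]; exact congrArg Subtype.val h1
  have xspider : (x 3 * x 2 * x 1 * x 3 * x 4 * x 5 * x 3 * x 7 * x 8) ^ 10 = 1 := by
    rw [hx]; exact congrArg Subtype.val Y.spider
  have xr1 : (x 0 * x 1 * x 2 * x 3 * x 4 * x 5 * x 7) ^ 9 = 1 := by
    rw [hx]; exact congrArg Subtype.val Y.r1
  have xr2 : (x 1 * x 2 * x 3 * x 4 * x 5 * x 6 * x 7) ^ 9 = 1 := by
    rw [hx]; exact congrArg Subtype.val Y.r2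
  clear hx
  have nine : Nine x := ⟨xsq, xadj, xcomm, xspider, xr1, xr2⟩
  have xopp : ∀ i < 9, ∀ j < 9, i ≠ j → IdentWord.adj E i j = true → Opp (x i) (x j) := by
    intro i hi j hj hij h
    refine ⟨fun e => xnadj i hi j hj hij h (by rw [e]), xadj i hi j hj hij h⟩
  -- in `N` and in `E₀`
  let z : ℕ → N := fun k => ⟨x k, xN k⟩
  have zR : ∀ k < 9, ρ (z k) ∈ R := fun k hk => by
    obtain ⟨⟨_, h⟩, -⟩ := Ha.rel_base.1 (relA k hk); exact h
  have zc : ∀ k < 9, ∃ g : G, g * a * g⁻¹ = (z k : G) := fun k hk => by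
    obtain ⟨-, h⟩ := Ha.rel_base.1 (relA k hk); exact h
  let e : Fin 10 → E₀ := fun i => ρ (z (num i))
  have cfg : Cfg R e := by
    refine ⟨fun i hi => zR _ (num_lt i hi), ?_, ?_⟩
    · intro i j hi hj hij
      have hne : i ≠ j := by rintro rfl; rw [lab_diag] at hij; omega
      rcases num_adj i j hi hj hne with ⟨-, h⟩ | ⟨h, -⟩
      · exact (Ha.opp_iff (zR _ (num_lt i hi)) (zR _ (num_lt j hj)) (zc _ (num_lt i hi)) (zc _ (num_lt j hj))).2
          (xopp _ (num_lt i hi) _ (num_lt j hj) (num_ne i j hne) h)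
      · rw [h] at hij; omega
    · intro i j hi hj hij
      have hne : i ≠ j := by rintro rfl; rw [lab_diag] at hij; omega
      rcases num_adj i j hi hj hne with ⟨h, -⟩ | ⟨-, h⟩
      · rw [h] at hij; omega
      · show ρ _ * ρ _ = ρ _ * ρ _
        rw [← map_mul, ← map_mul]
        congr 1
        exact Subtype.ext (xcomm _ (num_lt i hi) _ (num_lt j hj) (num_ne i j hne) h)
  -- `t2`
  obtain ⟨r, hr, hr1, hrc⟩ := cfg.exists_t2 Ha.RF
  obtain ⟨m, em, cm⟩ := Ha.exists_good hr
  obtain ⟨a2, ha2⟩ : ∃ a2 : G, a2 = m := ⟨_, rfl⟩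
  have rel2 : Rel a N ρ R a a2 := by
    rw [ha2]; exact Ha.rel_base.2 ⟨⟨m.2, by rw [Subtype.coe_eta, em]; exact hr⟩, cm⟩
  have a2N : a2 ∈ N := by rw [ha2]; exact m.2
  have sq2 : a2 * a2 = 1 := Ha.rel_sq rel2
  have opp2 : Opp a2 (x 8) := by
    rw [ha2]
    exact (Ha.opp_iff (y := z 8) (by rw [em]; exact hr) (zR 8 (by norm_num)) cm (zc 8 (by norm_num))).1
      (by rw [em]; exact hr1)
  have comm2 : ∀ k < 8, a2 * x k = x k * a2 := by
    have key : ∀ j : Fin 10, j ≠ 0 → j ≠ 1 → a2 * x (num j) = x (num j) * a2 := by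
      intro j h0 h1
      rw [ha2]
      exact Ha.comm_of (x := z (num j)) (zR _ (num_lt j h0)) (zc _ (num_lt j h0))
        (by rw [em]; exact hrc j h0 h1)
    intro k hk
    interval_cases k
    · exact key 6 (by decide) (by decide)
    · exact key 5 (by decide) (by decide)
    · exact key 4 (by decide) (by decide)
    · exact key 3 (by decide) (by decide)
    · exact key 7 (by decide) (by decide)
    · exact key 8 (by decide) (by decide)
    · exact key 9 (by decide) (by decide)
    · exact key 2 (by decide) (by decide)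
  have n28 : a2 * x 8 ≠ x 8 * a2 := opp2.not_comm sq2 (xsq 8 (by norm_num))
  -- generation of `N`
  have nineN : Nine z := by
    refine ⟨fun k hk => Subtype.ext (xsq k hk), fun i hi j hj hij h => Subtype.ext (xadj i hi j hj hij h),
      fun i hi j hj hij h => Subtype.ext (xcomm i hi j hj hij h), Subtype.ext xspider, Subtype.ext xr1,
      Subtype.ext xr2⟩
  have mm : m * m = 1 := Subtype.ext (by
    show (m : G) * m = 1
    rw [← ha2]; exact sq2)
  have m8 : (m * z 8) ^ 3 = 1 := Subtype.ext (by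
    show ((m : G) * x 8) ^ 3 = 1
    rw [← ha2]; exact opp2.2)
  have mc : ∀ k < 8, m * z k = z k * m := fun k hk => Subtype.ext (by
    show (m : G) * x k = x k * m
    rw [← ha2]; exact comm2 k hk)
  have hz := zrels_nodes nineN mm m8 mc
  have genE : Subgroup.closure (Set.range fun i => ρ (nodes z m i)) = ⊤ := by
    refine gen _ ?_ ?_ ?_ ?_ ?_
    · intro i j
      have h1 := hz.lift i j
      rw [← map_mul, ← map_pow, h1, map_one]
    · rw [← ev_map ρ, ← map_pow, hz.spider, map_one]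
    · rw [← ev_map ρ, ← map_pow, hz.e231, map_one]
    · rw [← ev_map ρ, ← map_pow, hz.e213, map_one]
    · rw [nodes_zero, em]
      exact Ha.RF.ne r hr
  have genN : ∀ m' : N, ρ m' = r → Subgroup.closure (Set.range (nodes z m')) = ⊤ := by
    intro m' hm'
    refine closure_lift Ha.S.ext Ha.S.nosec ?_
    have h1 : (fun i => ρ (nodes z m' i)) = fun i => ρ (nodes z m i) := by
      funext i
      by_cases hi : i = 0
      · rw [hi, nodes_zero, nodes_zero, hm', em]
      · rw [nodes_ne z m' hi, nodes_ne z m hi]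
    rw [h1, genE]
  -- an element commuting with all nodes
  have hall : ∀ m' : N, ρ m' = r → ∀ h : G, h * m' = m' * h → (∀ k < 9, h * x k = x k * h) →
      ∀ n ∈ N, h * n = n * h := by
    intro m' hm' h hh hk n hn
    have h1 : (⟨n, hn⟩ : N) ∈ Subgroup.closure (Set.range (nodes z m')) := by
      rw [genN m' hm']; trivial
    have h2 : Subgroup.closure (Set.range (nodes z m')) ≤ (Subgroup.centralizer ({h} : Set G)).comap N.subtype := by
      rw [Subgroup.closure_le]
      rintro _ ⟨i, rfl⟩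
      show ((nodes z m' i : N) : G) ∈ Subgroup.centralizer ({h} : Set G)
      rw [Subgroup.mem_centralizer_singleton_iff]
      by_cases hi : i = 0
      · rw [hi, nodes_zero]; exact hh.symm
      · rw [nodes_ne z m' hi]; exact (hk _ (num_lt i hi)).symm
    have h3 : n ∈ Subgroup.centralizer ({h} : Set G) := h2 h1
    exact (Subgroup.mem_centralizer_singleton_iff.1 h3).symm
  have hcentN : ∀ h : G, h * a2 = a2 * h → (∀ k < 9, h * x k = x k * h) → h = 1 ∨ h = a := by
    intro h hh hk
    exact Ha.S.cent h (hall m em h (by rw [← ha2]; exact hh) hk)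
  -- first part of (e6)
  have hE1 : ∀ h : G, h * a = a * h → (∀ k < 9, h * x k = x k * h) → h = 1 ∨ h = a := by
    intro h hh hk
    apply hcentN h ?_ hk
    have r2 : Rel a N ρ R a (h * a2 * h⁻¹) := by
      have := rel2.equiv h
      have h2 : h * a * h⁻¹ = a := by rw [hh]; group
      rwa [h2] at this
    obtain ⟨⟨mu, ru⟩, -⟩ := Ha.rel_base.1 r2
    have h3 := cfg.unique_t2 Ha.RF (r := ρ m) (r' := ρ ⟨h * a2 * h⁻¹, mu⟩) (by rw [em]; exact hr) ru
      (by
        rw [em]
        exact hr1.not_comm (Ha.RF.sq r hr) (Ha.RF.sq _ (zR 8 (by norm_num))))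
      (by
        intro hcon
        have h4 := (Ha.map_comm_iff mu (relA 8 (by norm_num)) (xN 8)).1 hcon
        rw [conj_comm (hk 8 (by norm_num))] at h4
        exact n28 h4)
      (by intro j h0 h1 _; rw [em]; exact hrc j h0 h1)
      (by
        intro j h0 h1 _
        refine (Ha.map_comm_iff mu (relA _ (num_lt j h0)) (xN _)).2 ?_
        rw [conj_comm (hk _ (num_lt j h0))]
        have h5 := Ha.comm_of (x := z (num j)) (zR _ (num_lt j h0)) (zc _ (num_lt j h0)) (m := m)
          (by rw [em]; exact hrc j h0 h1)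
        rw [ha2]; exact h5)
    have h6 : h * a2 * h⁻¹ = a2 := by
      refine Ha.eq_of_rel r2 rel2 mu a2N ?_
      rw [← h3]; congr 1; exact Subtype.ext ha2.symm
    calc h * a2 = h * a2 * h⁻¹ * h := by group
      _ = a2 * h := by rw [h6]
  -- (e6)
  have hE : ∀ h : G, h * a = a * h → (∀ k < 8, h * x k = x k * h) → h = 1 ∨ h = a ∨ h = a2 ∨ h = a * a2 := by
    intro h hh hk
    have r8 : Rel a N ρ R a (h * x 8 * h⁻¹) := by
      have := (relA 8 (by norm_num)).equiv h
      have h2 : h * a * h⁻¹ = a := by rw [hh]; group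
      rwa [h2] at this
    obtain ⟨⟨mu, ru⟩, -⟩ := Ha.rel_base.1 r8
    have numk : ∀ j : Fin 10, j ≠ 0 → j ≠ 1 → num j < 8 := by decide
    have h3 := cfg.unique_t3 Ha.RF (t := ρ m) (r := ρ ⟨h * x 8 * h⁻¹, mu⟩) (by rw [em]; exact hr)
      (by
        rw [em]
        exact hr1.not_comm (Ha.RF.sq r hr) (Ha.RF.sq _ (zR 8 (by norm_num))))
      (by intro j h0 h1 _; rw [em]; exact hrc j h0 h1) ru
      (by
        intro hcon
        have h4 := (Ha.map_comm_iff mu (relA 7 (by norm_num)) (xN 7)).1 hcon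
        rw [conj_comm (hk 7 (by norm_num))] at h4
        exact xnadj 8 (by norm_num) 7 (by norm_num) (by norm_num) (by decide) h4)
      (by
        intro j h0 h1 h2 _
        refine (Ha.map_comm_iff mu (relA _ (num_lt j h0)) (xN _)).2 ?_
        rw [conj_comm (hk _ (numk j h0 h1))]
        refine xcomm 8 (by norm_num) _ (num_lt j h0) ?_ ?_
        · revert h0 h1 h2; revert j; decide
        · revert h0 h1 h2; revert j; decide)
    have r8' : Rel a N ρ R a (a2 * x 8 * a2⁻¹) := by
      have := (relA 8 (by norm_num)).equiv a2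
      have h2 : a2 * a * a2⁻¹ = a := by rw [Ha.S.comm _ a2N]; group
      rwa [h2] at this
    have a2i : a2⁻¹ = a2 := inv_eq_of_mul_eq_one_left sq2
    have a2c : a2 * a = a * a2 := Ha.S.comm _ a2N
    have h4 : h * x 8 * h⁻¹ = x 8 ∨ h * x 8 * h⁻¹ = a2 * x 8 * a2⁻¹ := by
      rcases h3 with h3 | h3
      · left
        exact Ha.eq_of_rel r8 (relA 8 (by norm_num)) mu (xN 8) h3
      · right
        obtain ⟨⟨mw, rw'⟩, -⟩ := Ha.rel_base.1 r8'
        refine Ha.eq_of_rel r8 r8' mu mw ?_
        rw [h3]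
        show ρ m * ρ (z 8) * ρ m = _
        rw [← map_mul, ← map_mul]
        congr 1
        apply Subtype.ext
        show (m : G) * x 8 * m = a2 * x 8 * a2⁻¹
        rw [a2i, ← ha2]
    rcases h4 with h4 | h4
    · have h5 : ∀ k < 9, h * x k = x k * h := by
        intro k hk9
        by_cases h8 : k = 8
        · subst h8
          calc h * x 8 = h * x 8 * h⁻¹ * h := by group
            _ = x 8 * h := by rw [h4]
        · exact hk k (by omega)
      rcases hE1 h hh h5 with h6 | h6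
      · exact Or.inl h6
      · exact Or.inr (Or.inl h6)
    · -- replace `h` by `a2 * h`
      have h5 : ∀ k < 9, a2 * h * x k = x k * (a2 * h) := by
        intro k hk9
        by_cases h8 : k = 8
        · subst h8
          calc a2 * h * x 8 = a2 * (h * x 8 * h⁻¹) * h := by group
            _ = a2 * (a2 * x 8 * a2⁻¹) * h := by rw [h4]
            _ = (a2 * a2) * x 8 * a2⁻¹ * h := by group
            _ = x 8 * (a2 * h) := by rw [sq2, a2i]; group
        · have hk8 := hk k (by omega)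
          have hc8 := comm2 k (by omega)
          calc a2 * h * x k = a2 * (h * x k) := by group
            _ = a2 * x k * h := by rw [hk8]; group
            _ = x k * (a2 * h) := by rw [hc8]; group
      have h6 : a2 * h * a = a * (a2 * h) := by
        calc a2 * h * a = a2 * (h * a) := by group
          _ = a2 * a * h := by rw [hh]; group
          _ = a * (a2 * h) := by rw [a2c]; group
      rcases hE1 _ h6 h5 with h7 | h7
      · right; right; left
        calc h = a2 * (a2 * h) := by rw [← mul_assoc, sq2, one_mul]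
          _ = a2 := by rw [h7, mul_one]
      · right; right; right
        calc h = a2 * (a2 * h) := by rw [← mul_assoc, sq2, one_mul]
          _ = a * a2 := by rw [h7, a2c]
  -- `b` does not commute with `N`
  have bN : ¬ ∀ n ∈ N, b * n = n * b := fun h => nab (h a Ha.S.mem).symm
  have bx : ∀ k < 9, b * x k = x k * b := fun k _ => (xb k).symm
  -- the order of `b * a2`
  have hord : (b * a2) ^ 4 = 1 ∨ (b * a2) ^ 3 = 1 := by
    have key : ∀ k < 8, ((b * a2) ^ 4 = 1 ∨ (b * a2) ^ 4 = x k) ∨ ((b * a2) ^ 3 = 1 ∨ (b * a2) ^ 3 = x k) := by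
      intro k hk
      have hk9 : k < 9 := by omega
      have rkb : Rel t M π R (x k) b := H.symm (relB k hk9)
      have hne : x k ≠ a2 := by
        rintro h1
        -- `x k` commutes with `x 8` or not
        rcases Nat.lt_or_ge k 7 with h7 | h7
        · apply n28
          rw [← h1]
          exact xcomm k hk9 8 (by norm_num) (by omega) (by interval_cases k <;> decide)
        · have h8 : k = 7 := by omega
          subst h8
          -- `x 7` does not commute with `x 3`
          apply xnadj 7 (by norm_num) 3 (by norm_num) (by norm_num) (by decide)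
          rw [h1]; exact comm2 3 (by norm_num)
      have rk2 : Rel t M π R (x k) a2 :=
        H.star (relA' k hk9) ((e1 _ _).1 rel2) hne (comm2 k hk).symm
      obtain ⟨Nk, ρk, Hk, f1, f2, f3⟩ := H.at (H.conjR (relA' k hk9))
      obtain ⟨⟨mb', rb'⟩, -⟩ := Hk.rel_base.1 ((f1 _ _).2 rkb)
      obtain ⟨⟨m2', r2'⟩, -⟩ := Hk.rel_base.1 ((f1 _ _).2 rk2)
      have lift : ∀ n : ℕ, (ρk ⟨b, mb'⟩ * ρk ⟨a2, m2'⟩) ^ n = 1 → (b * a2) ^ n = 1 ∨ (b * a2) ^ n = x k := by
        intro n hn
        rw [← map_mul, ← map_pow] at hn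
        exact (Hk.S.ker _).1 hn
      rcases Hk.RF.ord _ rb' _ r2' with h | h
      · left; exact lift 4 h
      · right; exact lift 3 h
    -- use `x 0` and `x 6`
    have h06 : x 0 ≠ x 6 := by
      intro h
      apply xnadj 0 (by norm_num) 1 (by norm_num) (by norm_num) (by decide)
      rw [h]
      exact xcomm 6 (by norm_num) 1 (by norm_num) (by norm_num) (by decide)
    have c06 : x 0 * x 6 = x 6 * x 0 := xcomm 0 (by norm_num) 6 (by norm_num) (by norm_num) (by decide)
    have four_of : ∀ p q : G, p * p = 1 → q * q = 1 → p * q = q * p → (b * a2) ^ 3 = p → (b * a2) ^ 4 = q →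
        (b * a2) ^ 4 = 1 := by
      intro p q pp qq pq h3 h4
      have h5 : b * a2 = p * q := by
        have h6 : (b * a2) ^ 4 = (b * a2) ^ 3 * (b * a2) := pow_succ _ _
        rw [h3, h4] at h6
        calc b * a2 = (p * p) * (b * a2) := by rw [pp, one_mul]
          _ = p * (p * (b * a2)) := by rw [mul_assoc]
          _ = p * q := by rw [← h6]
      rw [h5]
      have h7 : (p * q) ^ 2 = 1 := by
        rw [pow_two]
        calc p * q * (p * q) = p * (q * p) * q := by group
          _ = p * (p * q) * q := by rw [pq]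
          _ = (p * p) * (q * q) := by group
          _ = 1 := by rw [pp, qq, one_mul]
      calc (p * q) ^ 4 = ((p * q) ^ 2) ^ 2 := by rw [← pow_mul]
        _ = 1 := by rw [h7, one_pow]
    have q0 := xsq 0 (by norm_num)
    have q6 := xsq 6 (by norm_num)
    rcases key 0 (by norm_num) with (h | h) | (h | h)
    · exact Or.inl h
    · rcases key 6 (by norm_num) with (h' | h') | (h' | h')
      · exact Or.inl h'
      · exact absurd (h.symm.trans h') h06
      · exact Or.inr h'
      · left; exact four_of _ _ q6 q0 c06.symm h' h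
    · exact Or.inr h
    · rcases key 6 (by norm_num) with (h' | h') | (h' | h')
      · exact Or.inl h'
      · left; exact four_of _ _ q0 q6 c06 h h'
      · exact Or.inr h'
      · exact absurd (h.symm.trans h') h06
  -- the last relation
  have h3 : (b * a2) ^ 3 = 1 := by
    let Z : Subgroup G := Subgroup.centralizer (x '' {k | k < 8})
    have memZ : ∀ g : G, g ∈ Z ↔ ∀ k < 8, g * x k = x k * g := by
      intro g
      constructor
      · intro h k hk
        exact ((Subgroup.mem_centralizer_iff.1 h) (x k) ⟨k, hk, rfl⟩).symm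
      · intro h
        refine Subgroup.mem_centralizer_iff.2 ?_
        rintro _ ⟨k, hk, rfl⟩
        exact (h k hk).symm
    refine LemmaS.main (Z := Z) (t0 := a) (t2 := a2) (x := b) ?_ ?_ ?_ aa sq2 bb (Ha.S.comm _ a2N).symm hab.2
      ?_ ?_ ?_ ?_ hord
    · exact (memZ a).2 fun k hk => H.rel_comm (relA' k (by omega))
    · exact (memZ a2).2 comm2
    · exact (memZ b).2 fun k hk => bx k (by omega)
    · intro g hg hga
      exact hE g hga ((memZ g).1 hg)
    · intro hcon
      exact bN (hall m em b (by rw [← ha2]; exact hcon) bx)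
    · intro hcon
      have hzm : ((Ha.S.z * m : N) : G) = a * a2 := by rw [ha2]; rfl
      refine bN (hall (Ha.S.z * m) ?_ b ?_ bx)
      · rw [map_mul, Ha.S.ext.mapz, one_mul, em]
      · rw [hzm]; exact hcon
    · intro g hg hcon
      obtain ⟨⟨_, R2⟩, c2⟩ := Ha.rel_base.1 rel2
      have h5 := Ha.W.xor ⟨a2, a2N⟩ R2
      rcases h5 with ⟨-, h6⟩ | ⟨-, h6⟩
      · exact h6 ⟨g, hcon⟩
      · exact h6 c2
  -- the homomorphism
  obtain ⟨φ, hφ1, hφ2⟩ := exists_hom_nine nine sq2 opp2.2 comm2 bb h3 bx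
  have hNφ : N ≤ φ.range := by
    refine le_trans ?_ hφ2
    have h1 := congrArg (Subgroup.map N.subtype) (genN m em)
    rw [MonoidHom.map_closure, ← MonoidHom.range_eq_map, Subgroup.range_subtype] at h1
    rw [← h1, Subgroup.closure_le]
    rintro _ ⟨_, ⟨i, rfl⟩, rfl⟩
    apply Subgroup.subset_closure
    refine ⟨i, ?_⟩
    by_cases hi : i = 0
    · rw [hi, nodes_zero, nodes_zero]; exact ha2
    · rw [nodes_ne x a2 hi, nodes_ne z m hi]; rfl
  obtain ⟨g, hg⟩ := ca
  refine ⟨(MulAut.conj g⁻¹).toMonoidHom.comp φ, ?_, ?_⟩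
  · intro n hn
    have h1 : g * n * g⁻¹ ∈ N := by
      rw [hN, ← hg]
      exact (H.nn_base.2 hn).equiv g
    obtain ⟨p, hp⟩ := hNφ h1
    refine ⟨p, ?_⟩
    show g⁻¹ * φ p * g⁻¹⁻¹ = n
    rw [hp]; group
  · obtain ⟨k, hk⟩ := cb
    refine ⟨g⁻¹ * k, ?_⟩
    show g⁻¹ * φ (PresentedGroup.of .t1) * g⁻¹⁻¹ = g⁻¹ * k * t * (g⁻¹ * k)⁻¹
    rw [hφ1, ← hk]; group

end Cfsg.Agent.BabyU.Ident
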