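import Cfsg.Agent.BabyU.KEqEMain
import Cfsg.Agent.BabyU.CtxTwo

/-!
# S1736(a): `C_G(L) = {1, t}` in terms of `CtxTwo`
-/

set_option autoImplicit false

namespace Cfsg.Agent.BabyU.KEqE

open scoped commutatorElement

universe u v

variable {G : Type u} [Group G] {E : Type v} [Group E] {L K : Subgroup G} {t : G} {π : L →* E}

/-- `CtxTwo` gives `Cx`. -/
theorem Cx.of_ctxTwo (c : CtxTwo L K t π) : Cx L K t π := by
  refine ⟨c.t1, c.t2, c.tL, c.tK, c.LK, fun l hl k hk => ((c.mem_K k).1 hk l hl).symm, c.surj, c.ker, c.Lnorm, c.Knorm, ?_,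
    c.index, ?_, c.core⟩
  · intro g hg h
    rw [c.mem_K]
    -- `[g, l] ∈ {1, t}` for `l ∈ L`
    have h1 : ∀ l : L, (g * l * g⁻¹ * (l : G)⁻¹) = 1 ∨ (g * l * g⁻¹ * (l : G)⁻¹) = t := by
      intro l
      have h2 := h l ⟨g * l * g⁻¹, c.Lnorm g hg l l.2⟩ rfl
      have h3 : π (⟨g * l * g⁻¹, c.Lnorm g hg l l.2⟩ * l⁻¹) = 1 := by
        rw [map_mul, map_inv, h2, mul_inv_cancel]
      exact (c.ker _).1 h3
    let D : Subgroup L :=
      { carrier := {l | g * (l : G) * g⁻¹ = l}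
        one_mem' := by show g * 1 * g⁻¹ = 1; group
        mul_mem' := by
          intro a b ha hb
          show g * ((a : G) * b) * g⁻¹ = a * b
          calc g * ((a : G) * b) * g⁻¹ = (g * a * g⁻¹) * (g * b * g⁻¹) := by group
            _ = a * b := by rw [show g * (a : G) * g⁻¹ = a from ha, show g * (b : G) * g⁻¹ = b from hb]
        inv_mem' := by
          intro a ha
          show g * (a : G)⁻¹ * g⁻¹ = (a : G)⁻¹
          calc g * (a : G)⁻¹ * g⁻¹ = (g * a * g⁻¹)⁻¹ := by group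
            _ = (a : G)⁻¹ := by rw [show g * (a : G) * g⁻¹ = a from ha] }
    have hD : D = ⊤ := by
      rw [eq_top_iff, ← c.perf, commutator_def, Subgroup.commutator_le]
      intro x _ y _
      show g * ((⁅x, y⁆ : L) : G) * g⁻¹ = ((⁅x, y⁆ : L) : G)
      have hval : ((⁅x, y⁆ : L) : G) = x * y * (x : G)⁻¹ * (y : G)⁻¹ := rfl
      rw [hval]
      have e : g * ((x : G) * y * (x : G)⁻¹ * (y : G)⁻¹) * g⁻¹ =
          (g * x * g⁻¹) * (g * y * g⁻¹) * (g * x * g⁻¹)⁻¹ * (g * y * g⁻¹)⁻¹ := by group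
      have hti : t⁻¹ = t := inv_eq_of_mul_eq_one_left c.t2
      have hx : g * (x : G) * g⁻¹ = x ∨ g * (x : G) * g⁻¹ = t * x := by
        rcases h1 x with h | h
        · left; exact mul_inv_eq_one.1 h
        · right; exact mul_inv_eq_iff_eq_mul.1 h
      have hy : g * (y : G) * g⁻¹ = y ∨ g * (y : G) * g⁻¹ = t * y := by
        rcases h1 y with h | h
        · left; exact mul_inv_eq_one.1 h
        · right; exact mul_inv_eq_iff_eq_mul.1 h
      have hxt : (x : G) * t = t * x := c.LC x x.2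
      have hyt : (y : G) * t = t * y := c.LC y y.2
      have hcen : ∀ z : L, (z : G) * t = t * z := fun z => c.LC z z.2
      have k1 : ∀ a b : G, a * t = t * a → b * t = t * b → (t * a) * b * (t * a)⁻¹ * b⁻¹ = a * b * a⁻¹ * b⁻¹ := by
        intro a b ha hb
        have hai : a⁻¹ * t = t * a⁻¹ := by
          rw [inv_mul_eq_iff_eq_mul, ← mul_assoc, ha, mul_inv_cancel_right]
        calc (t * a) * b * (t * a)⁻¹ * b⁻¹ = t * a * b * (a⁻¹ * t⁻¹) * b⁻¹ := by group
          _ = t * a * b * (t * a⁻¹) * b⁻¹ := by rw [hti, hai]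
          _ = t * a * (b * t) * a⁻¹ * b⁻¹ := by group
          _ = t * (a * t) * b * a⁻¹ * b⁻¹ := by rw [hb]; group
          _ = (t * t) * a * b * a⁻¹ * b⁻¹ := by rw [ha]; group
          _ = _ := by rw [c.t2, one_mul]
      have k2 : ∀ a b : G, a * t = t * a → b * t = t * b → a * (t * b) * a⁻¹ * (t * b)⁻¹ = a * b * a⁻¹ * b⁻¹ := by
        intro a b ha hb
        have hbi : b⁻¹ * t = t * b⁻¹ := by
          rw [inv_mul_eq_iff_eq_mul, ← mul_assoc, hb, mul_inv_cancel_right]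
        calc a * (t * b) * a⁻¹ * (t * b)⁻¹ = (a * t) * b * a⁻¹ * (b⁻¹ * t⁻¹) := by group
          _ = t * a * b * a⁻¹ * (t * b⁻¹) := by rw [ha, hti, hbi]
          _ = t * (a * b * (a⁻¹ * t)) * b⁻¹ := by group
          _ = t * (a * b * (t * a⁻¹)) * b⁻¹ := by
              rw [show a⁻¹ * t = t * a⁻¹ by rw [inv_mul_eq_iff_eq_mul, ← mul_assoc, ha, mul_inv_cancel_right]]
          _ = t * (a * (b * t) * a⁻¹) * b⁻¹ := by group
          _ = t * ((a * t) * b * a⁻¹) * b⁻¹ := by rw [hb]; group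
          _ = (t * t) * (a * b * a⁻¹) * b⁻¹ := by rw [ha]; group
          _ = _ := by rw [c.t2, one_mul]
      have hty : (t * (y : G)) * t = t * (t * y) := by rw [mul_assoc, hyt]
      rw [e]
      rcases hx with hx | hx <;> rcases hy with hy | hy <;> rw [hx, hy]
      · exact k2 _ _ hxt hyt
      · exact k1 _ _ hxt hyt
      · rw [k1 _ _ hxt hty]; exact k2 _ _ hxt hyt
    intro l hl
    have h2 : (⟨l, hl⟩ : L) ∈ D := by rw [hD]; trivial
    have h3 : g * l * g⁻¹ = l := h2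
    exact mul_inv_eq_iff_eq_mul.1 h3
  · intro h hh x hx hx'
    have h1 := c.tight h hh (Subgroup.zpowers x) (by rw [Subgroup.zpowers_le]; exact hx) (by
      intro n hn
      obtain ⟨i, rfl⟩ := Subgroup.mem_zpowers_iff.1 hn
      have h2 : h⁻¹ * x ^ i * h = (h⁻¹ * x * h) ^ i := by
        have := conj_zpow (i := i) (a := h⁻¹) (b := x)
        rw [inv_inv] at this
        exact this.symm
      rw [h2]
      exact K.zpow_mem hx' i)
    rwa [Nat.card_zpowers] at h1

/-- **`C_G(L) = Z(L)`**, in terms of `CtxTwo`. -/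
theorem K_eq' [Finite G] [Finite E] (c : CtxTwo L K t π) {T : Set E} {Q : E → Subgroup E} (F : EF T Q)
    (hfus : ∃ h : G, h * t * h⁻¹ ≠ t ∧ h * t * h⁻¹ * t = t * (h * t * h⁻¹)) : ∀ k ∈ K, k = 1 ∨ k = t :=
  K_eq (Cx.of_ctxTwo c) F hfus

end Cfsg.Agent.BabyU.KEqE
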