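import Cfsg.Agent.BabyU.KEqEMain
import Cfsg.Agent.BabyU.CtxTwo

/-!
# S1736(a), `K = C_G(L)`: from `CtxTwo` to `K = {1, t}`, over the facts `EF`
-/

set_option autoImplicit false

namespace Cfsg.Agent.BabyU.KEqE

open Cfsg
open scoped commutatorElement

universe u v

variable {G : Type u} [Group G] {E : Type v} [Group E] {L K : Subgroup G} {t : G} {π : L →* E}

theorem act_of_ctx (c : CtxTwo L K t π) (g : G) (hg : g * t = t * g)
    (h : ∀ l l' : L, (l' : G) = g * l * g⁻¹ → π l' = π l) : g ∈ K := by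
  rw [c.mem_K]
  -- `l ↦ g l g⁻¹` is the identity modulo `t`
  have h1 : ∀ l : L, g * l * g⁻¹ = l ∨ g * l * g⁻¹ = t * l := by
    intro l
    have h2 := h l ⟨g * l * g⁻¹, c.Lnorm g hg l l.2⟩ rfl
    have h3 : π (⟨g * l * g⁻¹, c.Lnorm g hg l l.2⟩ * l⁻¹) = 1 := by rw [map_mul, h2, map_inv, mul_inv_cancel]
    rcases (c.ker _).1 h3 with h4 | h4
    · left
      have h5 : g * l * g⁻¹ * (l : G)⁻¹ = 1 := h4
      exact mul_inv_eq_one.1 h5
    · right
      have h5 : g * l * g⁻¹ * (l : G)⁻¹ = t := h4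
      exact mul_inv_eq_iff_eq_mul.1 h5
  have ht2 := c.t2
  have hti : t⁻¹ = t := inv_eq_of_mul_eq_one_left ht2
  let C : Subgroup L :=
    { carrier := {l | g * l * g⁻¹ = l}
      one_mem' := by show g * ((1 : L) : G) * g⁻¹ = ((1 : L) : G); simp
      mul_mem' := by
        intro a b ha hb
        show g * (a * b : G) * g⁻¹ = a * b
        calc g * (a * b : G) * g⁻¹ = (g * a * g⁻¹) * (g * b * g⁻¹) := by group
          _ = a * b := by rw [ha, hb]
      inv_mem' := by
        intro a ha
        show g * ((a⁻¹ : L) : G) * g⁻¹ = ((a⁻¹ : L) : G)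
        have e : g * ((a⁻¹ : L) : G) * g⁻¹ = (g * a * g⁻¹)⁻¹ := by
          rw [Subgroup.coe_inv]; group
        rw [e, ha, Subgroup.coe_inv] }
  have hle : commutator L ≤ C := by
    rw [commutator_def, Subgroup.commutator_le]
    rintro a - b -
    show g * ((⁅a, b⁆ : L) : G) * g⁻¹ = ((⁅a, b⁆ : L) : G)
    have e0 : ((⁅a, b⁆ : L) : G) = ⁅(a : G), (b : G)⁆ := rfl
    have e : g * ⁅(a : G), (b : G)⁆ * g⁻¹ = ⁅g * a * g⁻¹, g * b * g⁻¹⁆ := by
      rw [commutatorElement_def, commutatorElement_def]; group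
    have k1 : ∀ u v : L, ⁅t * (u : G), (v : G)⁆ = ⁅(u : G), (v : G)⁆ := by
      intro u v
      rw [commutatorElement_def, commutatorElement_def]
      have h5 := c.LC ((u * v * u⁻¹ : L) : G) (u * v * u⁻¹ : L).2
      have h6 : ((u * v * u⁻¹ : L) : G) = u * v * (u : G)⁻¹ := by simp
      rw [h6] at h5
      calc t * (u : G) * v * (t * (u : G))⁻¹ * (v : G)⁻¹ = t * (u * v * (u : G)⁻¹) * t⁻¹ * (v : G)⁻¹ := by group
        _ = _ := by rw [← h5]; group
    have k2 : ∀ u v : L, ⁅(u : G), t * (v : G)⁆ = ⁅(u : G), (v : G)⁆ := by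
      intro u v
      rw [← commutatorElement_inv, k1, commutatorElement_inv]
    have k3 : ∀ u v : L, ⁅t * (u : G), t * (v : G)⁆ = ⁅(u : G), (v : G)⁆ := by
      intro u v
      have := k1 u (⟨t, c.tL⟩ * v)
      have e : ((⟨t, c.tL⟩ * v : L) : G) = t * v := rfl
      rw [e] at this
      rw [this, k2]
    rw [e0, e]
    rcases h1 a with ha | ha <;> rcases h1 b with hb | hb <;> rw [ha, hb]
    · exact k2 a b
    · exact k1 a b
    · exact k3 a b
  rw [c.perf] at hle
  intro l hl
  have h7 : g * l * g⁻¹ = l := hle (Subgroup.mem_top (⟨l, hl⟩ : L))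
  exact mul_inv_eq_iff_eq_mul.1 h7

theorem cx_of_ctx (c : CtxTwo L K t π) : Cx L K t π where
  t1 := c.t1
  t2 := c.t2
  tL := c.tL
  tK := c.tK
  LK := c.LK
  comm := fun l hl k hk => ((c.mem_K k).1 hk l hl).symm
  surj := c.surj
  ker := c.ker
  Lnorm := c.Lnorm
  Knorm := c.Knorm
  act := fun g hg h => act_of_ctx c g hg h
  idx := fun g h hg hh h1 h2 => c.index g h hg hh h1 h2
  tight := by
    intro h hh x hx hx'
    have h1 := c.tight h hh (Subgroup.zpowers x) (by rw [Subgroup.zpowers_le]; exact hx) (by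
      intro n hn
      obtain ⟨i, rfl⟩ := Subgroup.mem_zpowers_iff.1 hn
      have e : h⁻¹ * x ^ i * h = (h⁻¹ * x * h) ^ i := by
        have := conj_zpow (i := i) (a := h⁻¹) (b := x)
        rw [inv_inv] at this
        exact this.symm
      rw [e]
      exact K.zpow_mem hx' i)
    rwa [Nat.card_zpowers] at h1
  core := c.core

/-- `L` is a nonsplit double cover of `E` -/
theorem cov_of_ctx (c : CtxTwo L K t π) (hcen : ∀ x : E, (∀ y, x * y = y * x) → x = 1) :
    IsNonsplitDoubleCover L E := by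
  have hZ : Subgroup.center L = π.ker := by
    ext z
    rw [Subgroup.mem_center_iff, MonoidHom.mem_ker]
    constructor
    · intro h
      apply hcen
      intro y
      obtain ⟨l, rfl⟩ := c.surj y
      rw [← map_mul, ← map_mul, h l]
    · intro h l
      rcases (c.ker z).1 h with h1 | h1
      · have : z = 1 := Subtype.ext h1
        rw [this, mul_one, one_mul]
      · apply Subtype.ext
        show (l : G) * z = z * l
        rw [h1]
        exact c.LC l l.2
  have hcard : Nat.card (Subgroup.center L) = 2 := by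
    have h1 : (Subgroup.center L : Set L) = {1, ⟨t, c.tL⟩} := by
      ext z
      rw [hZ, SetLike.mem_coe, MonoidHom.mem_ker, c.ker, Set.mem_insert_iff, Set.mem_singleton_iff]
      constructor
      · rintro (h | h)
        · left; exact Subtype.ext h
        · right; exact Subtype.ext h
      · rintro (h | h)
        · left; rw [h]; rfl
        · right; rw [h]
    have h2 : (1 : L) ≠ ⟨t, c.tL⟩ := fun h => c.t1 (congrArg Subtype.val h).symm
    have h3 : Nat.card (Subgroup.center L) = (Subgroup.center L : Set L).ncard := rfl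
    rw [h3, h1, Set.ncard_pair h2]
  have e : L ⧸ Subgroup.center L ≃* E :=
    (QuotientGroup.quotientMulEquivOfEq hZ).trans (QuotientGroup.quotientKerEquivOfSurjective π c.surj)
  exact Cfsg.Agent.StandardComponent.StdCtx.nonsplit ⟨c.perf⟩ hcard e

/-- **`K = {1, t}`.** -/
theorem keq_of {T : Set E} {Q : E → Subgroup E} [Finite G] [IsSimpleGroup G] (hG : ¬ IsMulCommutative G) [Finite E]
    (c : CtxTwo L K t π) (F : EF T Q) : ∀ k ∈ K, k = 1 ∨ k = t := by
  obtain ⟨h, hc, hne⟩ := Cfsg.Agent.StandardComponent.StdCtx.fusion hG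
    (Cfsg.Agent.StandardComponent.StdCtx.orderOf_two c.t1 c.t2)
  exact K_eq (cx_of_ctx c) F ⟨h, hne, hc⟩

end Cfsg.Agent.BabyU.KEqE
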