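import Cfsg.Agent.BabyU.KEqEFacts

/-!
# S1736(a): duality in `Q w` and the end of the case where `b` is a root involution

`EF.exists_inner`: an automorphism fixing every element of `Q w` modulo `w` is the conjugation by an element of `Q w`.
`EF.root_end`: a subgroup `A` of `MulAut E` fixing `b ∈ T`, containing the conjugation by `b`, normalised by the
conjugations by the elements commuting with `b`, and containing the conjugation by no root involution other than `b`,
is of order two.
-/

set_option autoImplicit false
set_option linter.unusedSimpArgs false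

namespace Cfsg.Agent.BabyU.KEqE

open Cfsg.Agent.BabyU.Lab

universe v

variable {E : Type v} [Group E]

namespace EF

variable {T : Set E} {Q : E → Subgroup E} (F : EF T Q)

include F

theorem comm_cases {w q x y : E} (hw : w ∈ T) (hq : q ∈ Q w) (hx : x ∈ Q w) (hy : y ∈ Q w) :
    ((x * y) * q = q * (x * y)) ↔ ((x * q = q * x) ↔ (y * q = q * y)) := by
  by_cases h1 : x * q = q * x <;> by_cases h2 : y * q = q * y
  · have : (x * y) * q = q * (x * y) := by rw [mul_assoc, h2, ← mul_assoc, h1, mul_assoc]
    simp [h1, h2, this]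
  · have : ¬ (x * y) * q = q * (x * y) := by
      intro h
      apply h2
      calc y * q = x⁻¹ * ((x * y) * q) := by group
        _ = x⁻¹ * (q * x) * y := by rw [h]; group
        _ = x⁻¹ * (x * q) * y := by rw [h1]
        _ = q * y := by group
    simp [h1, h2, this]
  · have : ¬ (x * y) * q = q * (x * y) := by
      intro h
      apply h1
      calc x * q = x * (q * y) * y⁻¹ := by group
        _ = (x * y) * q * y⁻¹ := by rw [← h2]; group
        _ = q * x := by rw [h]; group
    simp [h1, h2, this]
  · have := F.mul_nc hw hq hx hy h1 h2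
    simp [h1, h2, this]

open Classical in
/-- the sign of the commutator -/
noncomputable def sg (x y : E) : ℤ := if x * y = y * x then 1 else -1

omit F in
theorem sg_symm (x y : E) : sg x y = sg y x := by
  unfold sg
  by_cases h : x * y = y * x
  · rw [if_pos h, if_pos h.symm]
  · rw [if_neg h, if_neg fun h' => h h'.symm]

theorem sg_mul {w q x y : E} (hw : w ∈ T) (hq : q ∈ Q w) (hx : x ∈ Q w) (hy : y ∈ Q w) :
    sg (x * y) q = sg x q * sg y q := by
  have h := F.comm_cases hw hq hx hy
  unfold sg
  by_cases h1 : x * q = q * x <;> by_cases h2 : y * q = q * y <;>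
    simp [h1, h2] at h <;> simp [h1, h2, h]

omit F in
/-- the sum of a nontrivial sign character is zero -/
theorem sum_zero {P : Type*} [Group P] [Fintype P] (f : P → ℤ) (hf : ∀ x y, f (x * y) = f x * f y) {x0 : P}
    (h0 : f x0 = -1) : ∑ x, f x = 0 := by
  have h1 : ∑ x, f x = ∑ x, f (x0 * x) := (Fintype.sum_equiv (Equiv.mulLeft x0) _ _ fun x => rfl).symm
  have h2 : ∑ x, f (x0 * x) = - ∑ x, f x := by
    rw [← Finset.sum_neg_distrib]
    refine Finset.sum_congr rfl fun x _ => ?_
    rw [hf, h0]; ring
  omega

/-- **Duality.** -/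
theorem exists_inner [Finite E] {w : E} (hw : w ∈ T) (φ : MulAut E) (h : ∀ x ∈ Q w, φ x = x ∨ φ x = x * w) :
    ∃ q ∈ Q w, φ = MulAut.conj q := by
  classical
  have : Fintype (Q w) := Fintype.ofFinite _
  have hwne := F.roots.ne_one w hw
  have hww := F.ww hw
  have hxw : ∀ x : E, x * w ≠ x := fun x hx => hwne (mul_eq_left.1 hx)
  -- the character
  let c : Q w → ℤ := fun x => if φ (x : E) = x then 1 else -1
  have hc : ∀ x y : Q w, c (x * y) = c x * c y := by
    intro x y
    have h1 := h x x.2
    have h2 := h y y.2
    have hyw := F.w_comm hw y.2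
    show (if φ ((x : E) * y) = x * y then (1 : ℤ) else -1) = _
    rw [map_mul]
    by_cases e1 : φ (x : E) = x <;> by_cases e2 : φ (y : E) = y
    · simp [c, e1, e2]
    · have e2' := h2.resolve_left e2
      have : ¬ φ (x : E) * φ (y : E) = x * y := by
        rw [e1, e2']
        intro h'
        exact hxw _ (mul_left_cancel h')
      simp [c, e1, e2, this]
    · have e1' := h1.resolve_left e1
      have : ¬ φ (x : E) * φ (y : E) = x * y := by
        rw [e1', e2]
        intro h'
        exact hxw _ (mul_right_cancel h')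
      simp [c, e1, e2, this]
    · have e1' := h1.resolve_left e1
      have e2' := h2.resolve_left e2
      have : φ (x : E) * φ (y : E) = x * y := by
        rw [e1', e2']
        calc (x : E) * w * (y * w) = x * (w * y) * w := by group
          _ = x * y * (w * w) := by rw [hyw]; group
          _ = _ := by rw [hww, mul_one]
      simp [c, e1, e2, this]
  -- some `q`
  have key : ∃ q : Q w, ∀ x : Q w, c x = sg (x : E) q := by
    by_contra hcon
    push Not at hcon
    have hs : ∀ q x y : Q w, sg ((x * y : Q w) : E) (q : E) = sg (x : E) q * sg (y : E) q := fun q x y =>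
      F.sg_mul hw q.2 x.2 y.2
    have hs' : ∀ x q q' : Q w, sg (x : E) ((q * q' : Q w) : E) = sg (x : E) q * sg (x : E) q' := fun x q q' => by
      rw [sg_symm, hs, sg_symm (q : E), sg_symm (q' : E)]
    have hv : ∀ a b : E, sg a b = 1 ∨ sg a b = -1 := fun a b => by
      unfold sg
      by_cases h : a * b = b * a
      · left; rw [if_pos h]
      · right; rw [if_neg h]
    have hcv : ∀ x, c x = 1 ∨ c x = -1 := fun x => by
      by_cases h : φ (x : E) = x
      · left; simp [c, h]
      · right; simp [c, h]
    have h1 : ∀ q : Q w, ∑ x : Q w, c x * sg (x : E) q = 0 := by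
      intro q
      obtain ⟨x0, hx0⟩ := hcon q
      refine sum_zero (fun x : Q w => c x * sg (x : E) q) (fun x y => ?_) (x0 := x0) ?_
      · show c (x * y) * sg ((x * y : Q w) : E) q = _
        rw [hc, hs]; ring
      · show c x0 * sg (x0 : E) q = -1
        rcases hcv x0 with e | e <;> rcases hv (x0 : E) q with e' | e' <;> rw [e, e'] at hx0 ⊢ <;> simp_all
    have h2 : ∑ q : Q w, ∑ x : Q w, c x * sg (x : E) q = 0 := Finset.sum_eq_zero fun q _ => h1 q
    rw [Finset.sum_comm] at h2
    have h3 : ∀ x : Q w, ∑ q : Q w, c x * sg (x : E) q =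
        if (x : E) = 1 ∨ (x : E) = w then (Fintype.card (Q w) : ℤ) else 0 := by
      intro x
      rw [← Finset.mul_sum]
      by_cases hx : (x : E) = 1 ∨ (x : E) = w
      · rw [if_pos hx]
        have e1 : c x = 1 := by
          rcases hx with e | e
          · simp [c, e]
          · have e2 : φ w = w := by
              rcases h w (F.Qw w hw) with h' | h'
              · exact h'
              · exfalso
                rw [hww] at h'
                exact hwne ((map_eq_one_iff φ φ.injective).1 h')
            simp [c, e, e2]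
        have e2 : ∀ q : Q w, sg (x : E) q = 1 := by
          intro q
          unfold sg
          rw [if_pos]
          rcases hx with e | e
          · rw [e, one_mul, mul_one]
          · rw [e]; exact F.w_comm hw q.2
        simp [e1, e2]
      · rw [if_neg hx]
        have : ∃ q0 : Q w, sg (x : E) q0 = -1 := by
          by_contra hn
          push Not at hn
          apply hx
          apply F.zQ hw
          intro y hy
          by_contra hne
          apply hn ⟨y, hy⟩
          unfold sg
          rw [if_neg hne]
        obtain ⟨q0, hq0⟩ := this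
        rw [sum_zero (fun q : Q w => sg (x : E) q) (fun q q' => hs' x q q') hq0, mul_zero]
    rw [Finset.sum_congr rfl fun x _ => h3 x, ← Finset.sum_filter, Finset.sum_const, nsmul_eq_mul] at h2
    have h4 : (0 : ℤ) < ((Finset.univ.filter fun x : Q w => (x : E) = 1 ∨ (x : E) = w).card : ℤ) := by
      have : (1 : Q w) ∈ Finset.univ.filter fun x : Q w => (x : E) = 1 ∨ (x : E) = w := by simp
      exact_mod_cast Finset.card_pos.2 ⟨_, this⟩
    have h5 : (0 : ℤ) < (Fintype.card (Q w) : ℤ) := by exact_mod_cast Fintype.card_pos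
    exact absurd h2 (mul_pos h4 h5).ne'
  obtain ⟨q, hq⟩ := key
  have hφ : ∀ x ∈ Q w, φ x = MulAut.conj (q : E) x := by
    intro x hx
    have h1 := hq ⟨x, hx⟩
    have h2 : c ⟨x, hx⟩ = if φ x = x then 1 else -1 := rfl
    rw [h2] at h1
    unfold sg at h1
    rw [MulAut.conj_apply]
    by_cases e : x * (q : E) = q * x
    · rw [if_pos e] at h1
      have : φ x = x := by
        by_contra hne
        rw [if_neg hne] at h1
        omega
      rw [this, ← e, mul_inv_cancel_right]
    · rw [if_neg e] at h1
      have : φ x = x * w := by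
        rcases h x hx with h' | h'
        · rw [if_pos h'] at h1; omega
        · exact h'
      rw [this]
      have h3 := (F.dich hw hx q.2).resolve_left e
      have h4 := F.w_comm hw hx
      have h5 : (q : E) * x = w * (x * q) := by rw [h3, ← mul_assoc, hww, one_mul]
      rw [h5, ← h4]; group
  rcases F.Qcent w hw ((MulAut.conj (q : E))⁻¹ * φ) (fun x hx => by
    rw [MulAut.mul_apply, hφ x hx, MulAut.inv_apply_self]) with h1 | h1
  · rw [inv_mul_eq_one] at h1
    exact ⟨q, q.2, h1.symm⟩
  · rw [inv_mul_eq_iff_eq_mul] at h1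
    exact ⟨q * w, (Q w).mul_mem q.2 (F.Qw w hw), by rw [h1, map_mul]⟩

/-- **The end of the case `b ∈ T`.** -/
theorem root_end [Finite E] {b : E} (hb : b ∈ T) (A : Subgroup (MulAut E)) (hAb : ∀ a ∈ A, a b = b)
    (hbA : MulAut.conj b ∈ A)
    (hn : ∀ g, g * b = b * g → ∀ a ∈ A, MulAut.conj g * a * (MulAut.conj g)⁻¹ ∈ A)
    (hD : ∀ r ∈ T, MulAut.conj r ∈ A → r = b) : ∀ a ∈ A, a = 1 ∨ a = MulAut.conj b := by
  have hM := F.irr b hb (Q b ⊓ A.comap MulAut.conj) ⟨F.Qw b hb, hbA⟩ inf_le_left
    (by
      rintro g hg m ⟨hm, hmA⟩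
      refine ⟨?_, ?_⟩
      · have := F.Qaut (MulAut.conj g) b hb m hm
        rw [MulAut.conj_apply, MulAut.conj_apply, hg, mul_inv_cancel_right] at this
        exact this
      · show MulAut.conj (g * m * g⁻¹) ∈ A
        rw [map_mul, map_mul, map_inv]
        exact hn g hg _ hmA)
    (by
      rintro r ⟨-, hr⟩ hrT
      exact hD r hrT hr)
  intro a ha
  have h1 : ∀ x ∈ Q b, a x = x ∨ a x = x * b := by
    intro x hx
    have hax : a x ∈ Q b := by
      have := F.Qaut a b hb x hx
      rwa [hAb a ha] at this
    have hxb := (F.w_comm hb hx).symm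
    have h2 : a x * x⁻¹ ∈ Q b ⊓ A.comap MulAut.conj := by
      refine ⟨(Q b).mul_mem hax ((Q b).inv_mem hx), ?_⟩
      show MulAut.conj (a x * x⁻¹) ∈ A
      have h3 : MulAut.conj (a x) = a * MulAut.conj x * a⁻¹ := by
        ext y
        simp [MulAut.mul_apply, MulAut.conj_apply]
      rw [map_mul, h3, map_inv]
      have h4 : a * MulAut.conj x * a⁻¹ * (MulAut.conj x)⁻¹ = a * (MulAut.conj x * a⁻¹ * (MulAut.conj x)⁻¹) := by
        group
      rw [h4]
      exact A.mul_mem ha (hn x hxb _ (A.inv_mem ha))
    rcases hM _ h2 with h3 | h3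
    · left; exact mul_inv_eq_one.1 h3
    · right
      rw [hxb]
      exact mul_inv_eq_iff_eq_mul.1 h3
  obtain ⟨q, hq, rfl⟩ := F.exists_inner hb a h1
  rcases hM q ⟨hq, ha⟩ with h2 | h2
  · left; rw [h2, map_one]
  · right; rw [h2]

end EF

end Cfsg.Agent.BabyU.KEqE
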