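import Cfsg.Agent.BabyU.Lab
import Mathlib

/-!
# S1736(a), the facts on `E = ²E₆(2)` used to prove `C_G(L) = Z(L)`

`T` the class of root involutions, `Q w = O_2(C_E(w))` for `w ∈ T`.

`EF.tv`: an automorphism of `E` fixing `w` and all elements of `Q w` commuting with the involution `b` of `Q w`
(`b ≠ w`) is the conjugation by `1`, `b`, `w` or `b * w`.
`EF.exists_fixed`: the number of `w` with `Good T Q w b` is odd, hence an automorphism of order a power of two fixing
`b` fixes such a `w`.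
`EF.exists_inner`: duality in `Q w`.
-/

set_option autoImplicit false

namespace Cfsg.Agent.BabyU.KEqE

open Cfsg.Agent.BabyU.Lab
open scoped commutatorElement

universe v

variable {E : Type v} [Group E]

/-- `w` is a root, `b ∈ Q w`, and the elements of `Q w` commuting with `b` are generated by `b`, `w` and roots `y` of
`Q w` for which `y * b` is not a root. -/
structure Good (T : Set E) (Q : E → Subgroup E) (w b : E) : Prop where
  wT : w ∈ T
  bQ : b ∈ Q w
  bw : b * w ∉ T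
  gen : ∀ x ∈ Q w, x * b = b * x →
    x ∈ Subgroup.closure ({y | y ∈ T ∧ y ∈ Q w ∧ y * b = b * y ∧ y * b ∉ T} ∪ {b, w})

/-- The facts on `E`. -/
structure EF (T : Set E) (Q : E → Subgroup E) : Prop where
  roots : Roots E T
  cen : ∀ x : E, (∀ y, x * y = y * x) → x = 1
  aut : ∀ φ : MulAut E, ∀ r ∈ T, φ r ∈ T
  Qaut : ∀ φ : MulAut E, ∀ w ∈ T, ∀ x ∈ Q w, φ x ∈ Q (φ w)
  Qw : ∀ w ∈ T, w ∈ Q w
  Qtwo : ∀ w ∈ T, IsPGroup 2 (Q w)
  Qcomm : ∀ w ∈ T, ∀ x ∈ Q w, ∀ y ∈ Q w, ⁅x, y⁆ = 1 ∨ ⁅x, y⁆ = w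
  Qgen : ∀ w ∈ T, Q w ≤ Subgroup.closure {x | x ∈ T ∧ x ∈ Q w}
  Qcent : ∀ w ∈ T, ∀ φ : MulAut E, (∀ x ∈ Q w, φ x = x) → φ = 1 ∨ φ = MulAut.conj w
  Qcard : ∀ w ∈ T, 8 < Nat.card (Q w)
  near : ∀ b ∈ T, ∃ w ∈ T, w ≠ b ∧ b ∈ Q w
  irr : ∀ b ∈ T, ∀ M : Subgroup E, b ∈ M → M ≤ Q b → (∀ g, g * b = b * g → ∀ m ∈ M, g * m * g⁻¹ ∈ M) →
    (∀ r ∈ M, r ∈ T → r = b) → ∀ m ∈ M, m = 1 ∨ m = b
  big : ∀ b, b * b = 1 → b ≠ 1 → b ∉ T → ∃ w, Good T Q w b
  out : ∀ φ : MulAut E, φ * φ = 1 → (∀ g, φ ≠ MulAut.conj g) → ∃ w ∈ T, ∃ N : Subgroup E, N ≤ Q w ∧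
    (∀ x ∈ N, ∀ y ∈ N, x * y = y * x) ∧ N ≤ Subgroup.closure {x | x ∈ T ∧ x ∈ N} ∧ (∀ x ∈ N, φ x ∈ N) ∧
    ∃ e₁ ∈ N, ∃ e₂ ∈ N, φ e₁ ≠ e₁ ∧ φ e₂ ≠ e₂ ∧ e₁⁻¹ * φ e₁ ≠ e₂⁻¹ * φ e₂

namespace EF

variable {T : Set E} {Q : E → Subgroup E} (F : EF T Q)

include F

theorem conj_inj {x y : E} (h : MulAut.conj x = MulAut.conj y) : x = y := by
  have h1 : y⁻¹ * x = 1 := by
    apply F.cen
    intro g
    have h2 : x * g * x⁻¹ = y * g * y⁻¹ := by
      have := DFunLike.congr_fun h g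
      simpa using this
    calc y⁻¹ * x * g = y⁻¹ * (x * g * x⁻¹) * x := by group
      _ = y⁻¹ * (y * g * y⁻¹) * x := by rw [h2]
      _ = g * (y⁻¹ * x) := by group
  exact (inv_mul_eq_one.1 h1).symm

theorem conj_eq_one {x : E} (h : MulAut.conj x = 1) : x = 1 :=
  F.conj_inj (by rw [h, map_one])

theorem w_comm {w x : E} (hw : w ∈ T) (hx : x ∈ Q w) : w * x = x * w := by
  rcases F.Qcomm w hw w (F.Qw w hw) x hx with h | h
  · exact commutatorElement_eq_one_iff_mul_comm.1 h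
  · exfalso
    apply F.roots.ne_one w hw
    rw [commutatorElement_def] at h
    have h1 : x * w⁻¹ * x⁻¹ = 1 := by
      have h2 : w * (x * w⁻¹ * x⁻¹) = w * 1 := by rw [mul_one]; nth_rewrite 3 [← h]; group
      exact mul_left_cancel h2
    have h3 : w⁻¹ = 1 := by
      calc w⁻¹ = x⁻¹ * (x * w⁻¹ * x⁻¹) * x := by group
        _ = 1 := by rw [h1]; group
    exact inv_eq_one.1 h3

theorem dich {w x y : E} (hw : w ∈ T) (hx : x ∈ Q w) (hy : y ∈ Q w) : x * y = y * x ∨ x * y = w * (y * x) := by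
  rcases F.Qcomm w hw x hx y hy with h | h
  · exact Or.inl (commutatorElement_eq_one_iff_mul_comm.1 h)
  · right
    rw [← h, commutatorElement_def]; group

theorem ww {w : E} (hw : w ∈ T) : w * w = 1 := F.roots.sq w hw

theorem winv {w : E} (hw : w ∈ T) : w⁻¹ = w := inv_eq_of_mul_eq_one_left (F.ww hw)

/-- the centre of `Q w` -/
theorem zQ {w y : E} (hw : w ∈ T) (hc : ∀ x ∈ Q w, y * x = x * y) : y = 1 ∨ y = w := by
  rcases F.Qcent w hw (MulAut.conj y) (fun x hx => by
    rw [MulAut.conj_apply, hc x hx, mul_inv_cancel_right]) with h | h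
  · exact Or.inl (F.conj_eq_one h)
  · exact Or.inr (F.conj_inj h)

/-- a noncommuting element -/
theorem exists_nc {w b : E} (hw : w ∈ T) (hb1 : b ≠ 1) (hbw : b ≠ w) : ∃ x ∈ Q w, x * b ≠ b * x := by
  by_contra hcon
  push Not at hcon
  rcases F.zQ hw (fun x hx => (hcon x hx).symm) with h | h
  · exact hb1 h
  · exact hbw h

/-- two elements not commuting with `b` differ by one commuting with `b` -/
theorem nc_mul {w b x y : E} (hw : w ∈ T) (hb : b ∈ Q w) (hx : x ∈ Q w) (hy : y ∈ Q w) (hxb : x * b ≠ b * x)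
    (hyb : y * b ≠ b * y) : (x⁻¹ * y) * b = b * (x⁻¹ * y) := by
  have h1 := (F.dich hw hx hb).resolve_left hxb
  have h2 := (F.dich hw hy hb).resolve_left hyb
  have h3 : x⁻¹ * w = w * x⁻¹ := by
    rw [inv_mul_eq_iff_eq_mul, ← mul_assoc, ← F.w_comm hw hx, mul_inv_cancel_right]
  have h4 : x⁻¹ * b = w * (b * x⁻¹) := by
    have h5 : b * x = w * (x * b) := by
      rw [h1, ← mul_assoc w w, F.ww hw, one_mul]
    calc x⁻¹ * b = x⁻¹ * (b * x) * x⁻¹ := by group
      _ = x⁻¹ * w * (x * b) * x⁻¹ := by rw [h5]; group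
      _ = w * (b * x⁻¹) := by rw [h3]; group
  calc x⁻¹ * y * b = x⁻¹ * (y * b) := by group
    _ = (x⁻¹ * w) * (b * y) := by rw [h2]; group
    _ = w * (x⁻¹ * b) * y := by rw [h3]; group
    _ = (w * w) * (b * x⁻¹ * y) := by rw [h4]; group
    _ = b * (x⁻¹ * y) := by rw [F.ww hw, one_mul, mul_assoc]

theorem mul_nc {w b x y : E} (hw : w ∈ T) (hb : b ∈ Q w) (hx : x ∈ Q w) (hy : y ∈ Q w) (hxb : x * b ≠ b * x)
    (hyb : y * b ≠ b * y) : (x * y) * b = b * (x * y) := by
  have hx' : x⁻¹ * b ≠ b * x⁻¹ := by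
    intro h
    apply hxb
    calc x * b = x * (b * x⁻¹) * x := by group
      _ = x * (x⁻¹ * b) * x := by rw [h]
      _ = b * x := by group
  have := F.nc_mul hw hb ((Q w).inv_mem hx) hy hx' hyb
  rwa [inv_inv] at this

/-- double centraliser -/
theorem cc {w b y : E} (hw : w ∈ T) (hb : b ∈ Q w) (hb1 : b ≠ 1) (hbw : b ≠ w) (hy : y ∈ Q w)
    (hc : ∀ x ∈ Q w, x * b = b * x → x * y = y * x) : y = 1 ∨ y = w ∨ y = b ∨ y = b * w := by
  obtain ⟨x0, hx0, hx0b⟩ := F.exists_nc hw hb1 hbw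
  have key : ∀ y ∈ Q w, (∀ x ∈ Q w, x * b = b * x → x * y = y * x) → x0 * y = y * x0 → y = 1 ∨ y = w := by
    intro y hy hc h0
    apply F.zQ hw
    intro x hx
    by_cases hxb : x * b = b * x
    · exact (hc x hx hxb).symm
    · have h1 := hc _ ((Q w).mul_mem ((Q w).inv_mem hx0) hx) (F.nc_mul hw hb hx0 hx hx0b hxb)
      calc y * x = (y * x0) * (x0⁻¹ * x) := by group
        _ = x0 * (y * (x0⁻¹ * x)) := by rw [← h0]; group
        _ = x0 * ((x0⁻¹ * x) * y) := by rw [h1]
        _ = x * y := by group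
  by_cases h0 : x0 * y = y * x0
  · rcases key y hy hc h0 with h | h
    · exact Or.inl h
    · exact Or.inr (Or.inl h)
  · have h1 := (F.dich hw hx0 hy).resolve_left h0
    have h2 := (F.dich hw hx0 hb).resolve_left hx0b
    have hwb := F.w_comm hw hb
    have hwy := F.w_comm hw hy
    rcases key (y * b⁻¹) ((Q w).mul_mem hy ((Q w).inv_mem hb)) (fun x hx hxb => by
      have h3 := hc x hx hxb
      have h4 : x * b⁻¹ = b⁻¹ * x := by
        rw [eq_inv_mul_iff_mul_eq, ← mul_assoc, ← hxb, mul_inv_cancel_right]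
      calc x * (y * b⁻¹) = (x * y) * b⁻¹ := by group
        _ = y * (x * b⁻¹) := by rw [h3]; group
        _ = y * b⁻¹ * x := by rw [h4]; group) (by
      have h5 : b⁻¹ * w = w * b⁻¹ := by
        rw [inv_mul_eq_iff_eq_mul, ← mul_assoc, ← hwb, mul_inv_cancel_right]
      have h6 : x0 * b⁻¹ = w * (b⁻¹ * x0) := by
        have h7 : b * x0 = w * (x0 * b) := by rw [h2, ← mul_assoc w w, F.ww hw, one_mul]
        calc x0 * b⁻¹ = b⁻¹ * (b * x0) * b⁻¹ := by group
          _ = b⁻¹ * w * (x0 * b) * b⁻¹ := by rw [h7]; group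
          _ = w * (b⁻¹ * x0) := by rw [h5]; group
      calc x0 * (y * b⁻¹) = (x0 * y) * b⁻¹ := by group
        _ = w * y * (x0 * b⁻¹) := by rw [h1]; group
        _ = (w * y) * w * (b⁻¹ * x0) := by rw [h6]; group
        _ = (y * (w * w)) * (b⁻¹ * x0) := by rw [hwy]; group
        _ = y * b⁻¹ * x0 := by rw [F.ww hw]; group) with h | h
    · right; right; left
      exact mul_inv_eq_one.1 h
    · right; right; right
      rw [← hwb]; exact mul_inv_eq_iff_eq_mul.1 h

theorem fix_all {w b x0 : E} (hw : w ∈ T) (hb : b ∈ Q w) (hx0 : x0 ∈ Q w) (hx0b : x0 * b ≠ b * x0) (φ : MulAut E)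
    (hφ : ∀ x ∈ Q w, x * b = b * x → φ x = x) (h0 : φ x0 = x0) : φ = 1 ∨ φ = MulAut.conj w := by
  apply F.Qcent w hw
  intro x hx
  by_cases hxb : x * b = b * x
  · exact hφ x hx hxb
  · have h1 := hφ _ ((Q w).mul_mem ((Q w).inv_mem hx0) hx) (F.nc_mul hw hb hx0 hx hx0b hxb)
    rw [map_mul, map_inv, h0] at h1
    exact mul_left_cancel h1

/-- the main lemma -/
theorem tv {w b : E} (hw : w ∈ T) (hb : b ∈ Q w) (hbb : b * b = 1) (hb1 : b ≠ 1) (hbw : b ≠ w) (φ : MulAut E)
    (hφw : φ w = w) (hφ : ∀ x ∈ Q w, x * b = b * x → φ x = x) :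
    φ = 1 ∨ φ = MulAut.conj b ∨ φ = MulAut.conj w ∨ φ = MulAut.conj (b * w) := by
  obtain ⟨x0, hx0, hx0b⟩ := F.exists_nc hw hb1 hbw
  have hmem : ∀ x ∈ Q w, φ x ∈ Q w := fun x hx => by
    have := F.Qaut φ w hw x hx
    rwa [hφw] at this
  have hwb := F.w_comm hw hb
  -- roots
  have s1 : ∀ x ∈ Q w, x ∈ T → φ x = x ∨ φ x = x * w := by
    intro x hx hxT
    by_cases hxb : x * b = b * x
    · exact Or.inl (hφ x hx hxb)
    have hxx := F.ww hxT
    have hwx := F.w_comm hw hx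
    set y := x⁻¹ * φ x with hy
    have hyQ : y ∈ Q w := (Q w).mul_mem ((Q w).inv_mem hx) (hmem x hx)
    have hφx : φ x = x * y := by rw [hy]; group
    have hyc : ∀ z ∈ Q w, z * b = b * z → z * y = y * z := by
      intro z hz hzb
      have hz' := hφ z hz hzb
      have hzw := F.w_comm hw hz
      rcases F.dich hw hx hz with h | h
      · have h1 := congrArg φ h
        rw [map_mul, map_mul, hz', hφx] at h1
        have h2 : x * (z * y) = x * (y * z) := by
          calc x * (z * y) = (x * z) * y := by group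
            _ = z * (x * y) := by rw [h]; group
            _ = x * y * z := h1.symm
            _ = _ := by group
        exact mul_left_cancel h2
      · have h1 := congrArg φ h
        rw [map_mul, map_mul, map_mul, hφw, hz', hφx] at h1
        have h2 : x * (z * y) = x * (y * z) := by
          calc x * (z * y) = (x * z) * y := by group
            _ = w * (z * (x * y)) := by rw [h]; group
            _ = x * y * z := h1.symm
            _ = _ := by group
        exact mul_left_cancel h2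
    rcases F.cc hw hb hb1 hbw hyQ hyc with h | h | h | h
    · left; rw [hφx, h, mul_one]
    · right; rw [hφx, h]
    all_goals
      exfalso
      have h1 := F.ww (F.aut φ x hxT)
      rw [hφx, h] at h1
      apply hxb
    · have h2 : x * b = (x * b)⁻¹ := eq_inv_of_mul_eq_one_left h1
      rw [h2, mul_inv_rev, inv_eq_of_mul_eq_one_left hxx, inv_eq_of_mul_eq_one_left hbb]
    · have h3 : x * (b * w) * (x * (b * w)) = x * b * (x * b) := by
        calc x * (b * w) * (x * (b * w)) = x * b * (w * x) * b * w := by group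
          _ = x * b * x * (w * b) * w := by rw [hwx]; group
          _ = x * b * (x * b) * (w * w) := by rw [hwb]; group
          _ = _ := by rw [F.ww hw, mul_one]
      rw [h3] at h1
      have h2 : x * b = (x * b)⁻¹ := eq_inv_of_mul_eq_one_left h1
      rw [h2, mul_inv_rev, inv_eq_of_mul_eq_one_left hxx, inv_eq_of_mul_eq_one_left hbb]
  -- all elements
  let D : Subgroup E :=
    { carrier := {x | x ∈ Q w ∧ (φ x = x ∨ φ x = x * w)}
      one_mem' := ⟨(Q w).one_mem, Or.inl (map_one φ)⟩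
      mul_mem' := by
        rintro x y ⟨hx, h⟩ ⟨hy, h'⟩
        refine ⟨(Q w).mul_mem hx hy, ?_⟩
        have hwy := F.w_comm hw hy
        rw [map_mul]
        rcases h with h | h <;> rcases h' with h' | h' <;> rw [h, h']
        · left; rfl
        · right; group
        · right; rw [mul_assoc x w y, hwy]; group
        · left
          calc x * w * (y * w) = x * (w * y) * w := by group
            _ = x * y * (w * w) := by rw [hwy]; group
            _ = _ := by rw [F.ww hw, mul_one]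
      inv_mem' := by
        rintro x ⟨hx, h⟩
        refine ⟨(Q w).inv_mem hx, ?_⟩
        have hwx := F.w_comm hw hx
        rw [map_inv]
        rcases h with h | h <;> rw [h]
        · left; rfl
        · right
          rw [mul_inv_rev, F.winv hw]
          have : x⁻¹ * w = w * x⁻¹ := by
            rw [inv_mul_eq_iff_eq_mul, ← mul_assoc, ← hwx, mul_inv_cancel_right]
          exact this.symm }
  have s2 : ∀ x ∈ Q w, φ x = x ∨ φ x = x * w := by
    intro x hx
    have h1 : Subgroup.closure {x | x ∈ T ∧ x ∈ Q w} ≤ D := by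
      rw [Subgroup.closure_le]
      rintro y ⟨hyT, hyQ⟩
      exact ⟨hyQ, s1 y hyQ hyT⟩
    exact (h1 (F.Qgen w hw hx)).2
  rcases s2 x0 hx0 with h0 | h0
  · rcases F.fix_all hw hb hx0 hx0b φ hφ h0 with h | h
    · exact Or.inl h
    · exact Or.inr (Or.inr (Or.inl h))
  · have h2 := (F.dich hw hx0 hb).resolve_left hx0b
    have h3 : b⁻¹ * x0 * b = w * x0 := by
      calc b⁻¹ * x0 * b = b⁻¹ * (x0 * b) := by group
        _ = b⁻¹ * (w * b) * x0 := by rw [h2]; group
        _ = w * x0 := by rw [hwb]; group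
    have hwx := F.w_comm hw hx0
    rcases F.fix_all hw hb hx0 hx0b ((MulAut.conj b)⁻¹ * φ) (fun x hx hxb => by
        rw [MulAut.mul_apply, hφ x hx hxb, MulAut.conj_inv_apply, mul_assoc, hxb, inv_mul_cancel_left]) (by
        rw [MulAut.mul_apply, h0, MulAut.conj_inv_apply]
        calc b⁻¹ * (x0 * w) * b = b⁻¹ * x0 * (w * b) := by group
          _ = (b⁻¹ * x0 * b) * w := by rw [hwb]; group
          _ = w * (x0 * w) := by rw [h3]; group
          _ = (w * w) * x0 := by rw [← hwx]; group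
          _ = x0 := by rw [F.ww hw, one_mul]) with h | h
    · right; left
      rw [inv_mul_eq_one] at h
      exact h.symm
    · right; right; right
      rw [inv_mul_eq_iff_eq_mul] at h
      rw [h, map_mul]

/-- an automorphism fixing `b` and all roots `y` commuting with `b` for which `y * b` is not a root -/
theorem glue {b : E} (hbb : b * b = 1) (hb1 : b ≠ 1) (hbT : b ∉ T) (φ : MulAut E) (hφb : φ b = b)
    (hφ : ∀ y ∈ T, y * b = b * y → y * b ∉ T → φ y = y) :
    ∃ w ∈ T, w * b = b * w ∧ b * w ∉ T ∧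
      (φ = 1 ∨ φ = MulAut.conj b ∨ φ = MulAut.conj w ∨ φ = MulAut.conj (b * w)) := by
  obtain ⟨w, G⟩ := F.big b hbb hb1 hbT
  have hwb := F.w_comm G.wT G.bQ
  have hφw : φ w = w := hφ w G.wT hwb (by rw [hwb]; exact G.bw)
  refine ⟨w, G.wT, hwb, G.bw, F.tv G.wT G.bQ hbb hb1 (fun h => hbT (h ▸ G.wT)) φ hφw ?_⟩
  intro x hx hxb
  have h1 : Subgroup.closure ({y | y ∈ T ∧ y ∈ Q w ∧ y * b = b * y ∧ y * b ∉ T} ∪ {b, w}) ≤
      φ.toMonoidHom.eqLocus (MonoidHom.id E) := by
    rw [Subgroup.closure_le]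
    rintro y (⟨hy1, hy2, hy3, hy4⟩ | hy)
    · exact hφ y hy1 hy3 hy4
    · rcases hy with rfl | rfl
      · exact hφb
      · exact hφw
  exact h1 (G.gen x hx hxb)

/-! ### Fixed points -/

theorem good_map {w b : E} (h : Good T Q w b) (φ : MulAut E) : Good T Q (φ w) (φ b) := by
  have hinv : ∀ r, φ r ∈ T → r ∈ T := fun r hr => by
    have := F.aut φ⁻¹ _ hr
    rwa [MulAut.inv_apply_self] at this
  refine ⟨F.aut φ w h.wT, F.Qaut φ w h.wT b h.bQ, fun h1 => h.bw (hinv _ (by rwa [map_mul])), ?_⟩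
  intro x hx hxb
  have hx' : φ⁻¹ x ∈ Q w := by
    have := F.Qaut φ⁻¹ _ (F.aut φ w h.wT) x hx
    rwa [MulAut.inv_apply_self] at this
  have hxb' : φ⁻¹ x * b = b * φ⁻¹ x := by
    have := congrArg (φ⁻¹ : MulAut E) hxb
    rwa [map_mul, map_mul, MulAut.inv_apply_self] at this
  have h1 := h.gen _ hx' hxb'
  have h2 : Subgroup.closure ({y | y ∈ T ∧ y ∈ Q w ∧ y * b = b * y ∧ y * b ∉ T} ∪ {b, w}) ≤
      (Subgroup.closure ({y | y ∈ T ∧ y ∈ Q (φ w) ∧ y * φ b = φ b * y ∧ y * φ b ∉ T} ∪ {φ b, φ w})).comap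
        φ.toMonoidHom := by
    rw [Subgroup.closure_le]
    rintro y (⟨hy1, hy2, hy3, hy4⟩ | hy)
    · apply Subgroup.subset_closure
      left
      refine ⟨F.aut φ y hy1, F.Qaut φ w h.wT y hy2, ?_, fun h1 => hy4 (hinv _ (by rwa [map_mul]))⟩
      show φ y * φ b = φ b * φ y
      rw [← map_mul, hy3, map_mul]
    · apply Subgroup.subset_closure
      right
      rcases hy with rfl | rfl
      · left; rfl
      · right; rfl
  have h3 := h2 h1
  have h4 : φ.toMonoidHom (φ⁻¹ x) = x := φ.apply_symm_apply x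
  rw [Subgroup.mem_comap, h4] at h3
  exact h3

/-- the action of automorphisms fixing `b` on the `w` with `Good w b` -/
@[reducible] def act (b : E) (A : Subgroup (MulAut E)) (hA : ∀ a ∈ A, a b = b) :
    MulAction A {w : E // Good T Q w b} where
  smul a w := ⟨(a : MulAut E) w.1, by
    have := F.good_map w.2 (a : MulAut E)
    rwa [hA a a.2] at this⟩
  one_smul _ := Subtype.ext rfl
  mul_smul _ _ _ := Subtype.ext rfl

theorem odd_good [Finite E] {b : E} (hbb : b * b = 1) (hb1 : b ≠ 1) (hbT : b ∉ T) {w1 : E} (h1 : Good T Q w1 b) :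
    Nat.card {w : E // Good T Q w b} % 2 = 1 := by
  have hw1 := h1.wT
  have hbw : b ≠ w1 := fun h => hbT (h ▸ hw1)
  set A : Subgroup (MulAut E) := (Q w1 ⊓ Subgroup.centralizer {b}).map MulAut.conj with hA
  have hAb : ∀ a ∈ A, a b = b := by
    rintro _ ⟨x, hx, rfl⟩
    have hxb := Subgroup.mem_centralizer_singleton_iff.1 hx.2
    rw [MulAut.conj_apply, hxb, mul_inv_cancel_right]
  let := F.act b A hAb
  have : Fact (Nat.Prime 2) := ⟨Nat.prime_two⟩
  have hP : IsPGroup 2 A := ((F.Qtwo w1 hw1).to_le inf_le_left).map _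
  have hfix : MulAction.fixedPoints A {w : E // Good T Q w b} = {⟨w1, h1⟩} := by
    ext w
    rw [MulAction.mem_fixedPoints, Set.mem_singleton_iff]
    constructor
    · intro h
      apply Subtype.ext
      have hc : ∀ x ∈ Q w1, x * b = b * x → x * w.1 = w.1 * x := by
        intro x hx hxb
        have h2 := congrArg Subtype.val (h ⟨MulAut.conj x, ⟨x, ⟨hx,
          Subgroup.mem_centralizer_singleton_iff.2 hxb⟩, rfl⟩⟩)
        have h3 : x * w.1 * x⁻¹ = w.1 := h2
        exact mul_inv_eq_iff_eq_mul.1 h3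
      have hww1 : w1 * w.1 = w.1 * w1 := hc w1 (F.Qw w1 hw1) (F.w_comm hw1 h1.bQ)
      rcases F.tv hw1 h1.bQ hbb hb1 hbw (MulAut.conj w.1) (by
          rw [MulAut.conj_apply, ← hww1, mul_inv_cancel_right]) (fun x hx hxb => by
          rw [MulAut.conj_apply, ← hc x hx hxb, mul_inv_cancel_right]) with h2 | h2 | h2 | h2
      · exact absurd (F.conj_eq_one h2) (F.roots.ne_one _ w.2.wT)
      · exact absurd (F.conj_inj h2 ▸ w.2.wT) hbT
      · exact F.conj_inj h2
      · exact absurd (F.conj_inj h2 ▸ w.2.wT) h1.bw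
    · rintro rfl ⟨_, x, hx, rfl⟩
      apply Subtype.ext
      show x * w1 * x⁻¹ = w1
      rw [← F.w_comm hw1 hx.1, mul_inv_cancel_right]
  have h2 := hP.card_modEq_card_fixedPoints {w : E // Good T Q w b}
  rw [hfix] at h2
  have h3 : Nat.card ({⟨w1, h1⟩} : Set {w : E // Good T Q w b}) = 1 := Nat.card_unique
  rw [h3] at h2
  exact h2

theorem exists_fixed [Finite E] {b : E} (hbb : b * b = 1) (hb1 : b ≠ 1) (hbT : b ∉ T) (φ : MulAut E)
    (hφ : φ b = b) {n : ℕ} (hn : φ ^ 2 ^ n = 1) : ∃ w, Good T Q w b ∧ φ w = w := by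
  obtain ⟨w1, h1⟩ := F.big b hbb hb1 hbT
  have hodd := F.odd_good hbb hb1 hbT h1
  have hA : ∀ a ∈ Subgroup.zpowers φ, a b = b := by
    intro a ha
    have h2 : Subgroup.zpowers φ ≤ MulAction.stabilizer (MulAut E) b := by
      rw [Subgroup.zpowers_le, MulAction.mem_stabilizer_iff]
      exact hφ
    exact h2 ha
  let := F.act b _ hA
  have : Fact (Nat.Prime 2) := ⟨Nat.prime_two⟩
  have hP : IsPGroup 2 (Subgroup.zpowers φ) := by
    rintro ⟨a, ha⟩
    obtain ⟨i, rfl⟩ := Subgroup.mem_zpowers_iff.1 ha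
    refine ⟨n, Subtype.ext ?_⟩
    show (φ ^ i) ^ 2 ^ n = 1
    rw [← zpow_natCast, ← zpow_mul, mul_comm, zpow_mul, zpow_natCast, hn, one_zpow]
  have h2 := hP.card_modEq_card_fixedPoints {w : E // Good T Q w b}
  have h3 : Nat.card (MulAction.fixedPoints (Subgroup.zpowers φ) {w : E // Good T Q w b}) ≠ 0 := by
    intro h
    rw [h] at h2
    have h4 : Nat.card {w : E // Good T Q w b} % 2 = 0 % 2 := h2
    omega
  obtain ⟨w, hw⟩ := (Nat.card_ne_zero.1 h3).1
  refine ⟨w.1, w.2, ?_⟩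
  exact congrArg Subtype.val (hw ⟨φ, Subgroup.mem_zpowers φ⟩)

/-! ### Duality -/

/-- in the centraliser of `b` there are noncommuting elements of `Q w` -/
theorem exists_pair [Finite E] {w b : E} (hw : w ∈ T) (hb : b ∈ Q w) (hb1 : b ≠ 1) (hbw : b ≠ w) :
    ∃ x ∈ Q w, ∃ y ∈ Q w, x * b = b * x ∧ y * b = b * y ∧ ⁅x, y⁆ = w := by
  classical
  by_contra hcon
  push Not at hcon
  have hab : ∀ x ∈ Q w, ∀ y ∈ Q w, x * b = b * x → y * b = b * y → x * y = y * x := by
    intro x hx y hy hxb hyb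
    rcases F.Qcomm w hw x hx y hy with h | h
    · exact commutatorElement_eq_one_iff_mul_comm.1 h
    · exact absurd h (hcon x hx y hy hxb hyb)
  have hC : ∀ y ∈ Q w, y * b = b * y → y = 1 ∨ y = w ∨ y = b ∨ y = b * w := fun y hy hyb =>
    F.cc hw hb hb1 hbw hy fun x hx hxb => hab x hx y hy hxb hyb
  obtain ⟨x0, hx0, hx0b⟩ := F.exists_nc hw hb1 hbw
  have hcov : (Q w : Set E) ⊆ (({1, w, b, b * w} ∪ ({1, w, b, b * w} : Finset E).image (fun y => x0 * y) : Finset E) : Set E) := by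
    intro x hx
    rw [Finset.mem_coe, Finset.mem_union, Finset.mem_image]
    by_cases hxb : x * b = b * x
    · left
      rcases hC x hx hxb with h | h | h | h <;> simp [h]
    · right
      refine ⟨x0⁻¹ * x, ?_, by group⟩
      rcases hC _ ((Q w).mul_mem ((Q w).inv_mem hx0) hx) (F.nc_mul hw hb hx0 hx hx0b hxb) with h | h | h | h <;>
        simp [h]
  have h1 := Set.ncard_le_ncard hcov (Finset.finite_toSet _)
  rw [Set.ncard_coe_finset] at h1
  have h2 : (Q w : Set E).ncard = Nat.card (Q w) := rfl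
  have h3 : ({1, w, b, b * w} : Finset E).card ≤ 4 := Finset.card_le_four
  have h4 := Finset.card_image_le (s := ({1, w, b, b * w} : Finset E)) (f := fun y => x0 * y)
  have h5 := Finset.card_union_le ({1, w, b, b * w} : Finset E) (({1, w, b, b * w} : Finset E).image (fun y => x0 * y))
  have h6 := F.Qcard w hw
  omega

end EF

end Cfsg.Agent.BabyU.KEqE
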