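import Cfsg.Agent.BabyU.KEqEInst
import Cfsg.Agent.BabyU.KEqECx
import Cfsg.Agent.TwoESix.GenTri

/-!
# S1736(a): `C_G(L) = Z(L)`
-/

set_option autoImplicit false

namespace Cfsg.Agent.BabyU.KEqE

open Cfsg Cfsg.Lie Cfsg.Agent.TwoESix
open Cfsg.Agent.TwoESix.LeviA Cfsg.Agent.TwoESix.LongCard Cfsg.Agent.TwoESix.FlagH
open Cfsg.Agent.TwoESix.Cover Cfsg.Agent.TwoESix.Cox10
open Cfsg.Agent.BabyU (rootClass)

universe u v

/-- **The facts `EF` for `²E₆(2)`.** -/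
theorem ef {K : Type u} [Field K] [Fintype K] {φ : K →+* K} (F : Four K φ) [Finite HB]
    (hcard : Nat.card HB ≤ Nat.card ↥(twistedE6 K 2)) {M : Type*} [Group M]
    (hcov : Cfsg.IsNonsplitDoubleCover M ↥(twistedE6 K 2)) :
    EF (rootClass K) (OQ (E := ↥(twistedE6 K 2))) :=
  ef_tri F hcard hcov (by
    obtain ⟨p, q, r, h, hG⟩ := GenTri.good_tri F
    exact ⟨p, q, r, h, ⟨hG.1, hG.2.1, hG.2.2⟩⟩)

/-- **The centraliser of the standard subgroup is `{1, t}`.** -/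
theorem keq [Finite HB] (card : ∀ (K : Type) [Field K] [Fintype K], Fintype.card K = 4 →
      Nat.card HB ≤ Nat.card (twistedE6 K 2)) (G : Type u) [Group G] [Finite G] [IsSimpleGroup G]
    (hG : ¬ IsMulCommutative G) (F : Type) [Field F] [Fintype F] (hF : Fintype.card F = 4) (L K : Subgroup G) (t : G)
    (π : L →* twistedE6 F 2) (c : CtxTwo L K t π) : ∀ k ∈ K, k = 1 ∨ k = t := by
  obtain ⟨-, φ, F4⟩ := LeviA.exists_four F hF
  have := finite_E (K := F)
  exact keq_of hG c (ef F4 (card F hF) (cov_of_ctx c (OutNorm.center_eq F4)))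

end Cfsg.Agent.BabyU.KEqE
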