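import Cfsg.Agent.R01.IdentConfig
import Cfsg.Agent.TwoESix.Cox10

/-!
# U-B: configurations of root involutions

`E` is a group with a class `R` of involutions ("root involutions") such that the centraliser of `r ∈ R` maps to
`PSU 6 F 2` with a `2`-group as kernel, bijectively on the centraliser of an opposite pair, root involutions going to
transvections or to `1` (`RootFacts`).  For nine members `s 1, …, s 9` (printed `t3, …, t11`) of `R` with the graph
`Y₃₃₂` there is exactly one member of `R` (printed `t2`) extending it to the graph `Y₃₃₃`.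
-/

set_option autoImplicit false
set_option linter.unusedSectionVars false

namespace Cfsg.Agent.BabyU.RootCfg

open Cfsg Cfsg.Agent.LieClassical.HermBasic Cfsg.Agent.R01.PSUSix Cfsg.Agent.R01.IdentChain
open Cfsg.Agent.ClassicalGeometry.UnitAutBasic (tau pr pr_surjective)
open Cfsg.Agent.SporadicStructure.UnitTwo (two_eq_zero add_self exists_omega vadd_self pow_three
  zero_or_one_of_fixed)
open Cfsg.Agent.R01.IdentConfig (scale eq_zero_of_perp)
open Cfsg.Agent.TwoESix.Cox10 (lab)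

variable {E : Type*} [Group E] {F : Type*} [Field F] [Fintype F]

/-- Opposite elements. -/
def Opp (r s : E) : Prop := r ≠ s ∧ (r * s) ^ 3 = 1

theorem Opp.symm {r s : E} (h : Opp r s) (hr : r * r = 1) (hs : s * s = 1) : Opp s r := by
  refine ⟨h.1.symm, ?_⟩
  have e : s * r = (r * s)⁻¹ := by
    rw [mul_inv_rev, inv_eq_of_mul_eq_one_left hr, inv_eq_of_mul_eq_one_left hs]
  rw [e, inv_pow, h.2, inv_one]

theorem Opp.conj {r s : E} (h : Opp r s) (g : E) : Opp (g * r * g⁻¹) (g * s * g⁻¹) := by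
  refine ⟨fun e => h.1 ?_, ?_⟩
  · have := congrArg (fun x => g⁻¹ * x * g) e
    simpa [mul_assoc] using this
  · have : g * r * g⁻¹ * (g * s * g⁻¹) = g * (r * s) * g⁻¹ := by group
    rw [this, conj_pow, h.2, mul_one, mul_inv_cancel]

theorem Opp.not_comm {r s : E} (h : Opp r s) (hr : r * r = 1) (hs : s * s = 1) : r * s ≠ s * r := by
  intro hc
  apply h.1
  have e : (r * s) ^ 2 = 1 := by
    rw [pow_two]
    calc r * s * (r * s) = r * (s * r) * s := by group
      _ = r * (r * s) * s := by rw [hc]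
      _ = (r * r) * (s * s) := by group
      _ = 1 := by rw [hr, hs, one_mul]
  have h3 := h.2
  rw [pow_succ, e, one_mul] at h3
  rw [eq_inv_of_mul_eq_one_left h3, inv_eq_of_mul_eq_one_left hs]

/-- The map `ψ` has the properties of a chart at `r`. -/
structure ChartAt (hF : Fintype.card F = 2 ^ 2) (R : Set E) (r : E)
    (ψ : Subgroup.centralizer ({r} : Set E) →* PSU 6 F 2) : Prop where
  ker : ∀ x : Subgroup.centralizer ({r} : Set E), ψ x = 1 → ∃ k : ℕ, x ^ 2 ^ k = 1
  root : ∀ x : Subgroup.centralizer ({r} : Set E), (x : E) ∈ R → ψ x = 1 ∨ ψ x ∈ TT hF 6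
  surj : ∀ s ∈ R, Opp r s → ∀ u, ∃ x : Subgroup.centralizer ({r} : Set E), (x : E) * s = s * x ∧ ψ x = u
  inj : ∀ s ∈ R, Opp r s → ∀ x : Subgroup.centralizer ({r} : Set E), (x : E) * s = s * x → ψ x = 1 → x = 1
  back : ∀ s ∈ R, Opp r s → ∀ x : Subgroup.centralizer ({r} : Set E), (x : E) * s = s * x →
    ψ x ∈ TT hF 6 → (x : E) ∈ R

/-- The facts on a group `E` of type `²E₆(2)` and its class `R` of root involutions. -/
structure RootFacts (hF : Fintype.card F = 2 ^ 2) (R : Set E) : Prop where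
  sq : ∀ r ∈ R, r * r = 1
  ne : ∀ r ∈ R, r ≠ 1
  conj : ∀ r ∈ R, ∀ g : E, g * r * g⁻¹ ∈ R
  one : ∀ r ∈ R, ∀ s ∈ R, ∃ g : E, g * r * g⁻¹ = s
  ord : ∀ r ∈ R, ∀ s ∈ R, (r * s) ^ 4 = 1 ∨ (r * s) ^ 3 = 1
  opp : ∃ r ∈ R, ∃ s ∈ R, Opp r s
  chart : ∀ r ∈ R, ∃ ψ : Subgroup.centralizer ({r} : Set E) →* PSU 6 F 2, ChartAt hF R r ψ

theorem mem_cent {r a : E} : a ∈ Subgroup.centralizer ({r} : Set E) ↔ a * r = r * a :=
  Subgroup.mem_centralizer_singleton_iff

/-- `v` is a vector of `a` in the chart `ψ`. -/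
def IsVec (hF : Fintype.card F = 2 ^ 2) {r : E} (ψ : Subgroup.centralizer ({r} : Set E) →* PSU 6 F 2)
    (a : E) (v : Fin 6 → F) : Prop :=
  v ≠ 0 ∧ hermForm 6 F 2 v v = 0 ∧ ∃ h : a ∈ Subgroup.centralizer ({r} : Set E), ψ ⟨a, h⟩ = tau hF v

section Chart

variable {hF : Fintype.card F = 2 ^ 2} {R : Set E} {r s : E}
  {ψ : Subgroup.centralizer ({r} : Set E) →* PSU 6 F 2}

theorem ChartAt.inj' (C : ChartAt hF R r ψ) (hs : s ∈ R) (h : Opp r s) {x y : E}
    (hx : x ∈ Subgroup.centralizer ({r} : Set E)) (hy : y ∈ Subgroup.centralizer ({r} : Set E))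
    (hxs : x * s = s * x) (hys : y * s = s * y) (e : ψ ⟨x, hx⟩ = ψ ⟨y, hy⟩) : x = y := by
  have h1 : (x * y⁻¹) * s = s * (x * y⁻¹) :=
    (Commute.mul_left (show Commute x s from hxs) (show Commute y s from hys).inv_left).eq
  have h2 := C.inj s hs h (⟨x, hx⟩ * ⟨y, hy⟩⁻¹) h1 (by rw [map_mul, map_inv, e, mul_inv_cancel])
  have h3 := congrArg Subtype.val h2
  exact mul_inv_eq_one.1 h3

theorem ChartAt.exists_vec (C : ChartAt hF R r ψ) (hR : RootFacts hF R) (hs : s ∈ R) (h : Opp r s) {a : E}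
    (ha : a ∈ R) (har : a * r = r * a) (has : a * s = s * a) : ∃ v, IsVec hF ψ a v := by
  have hm : a ∈ Subgroup.centralizer ({r} : Set E) := mem_cent.2 har
  rcases C.root ⟨a, hm⟩ ha with h1 | ⟨v, h0, hv, h1⟩
  · exact absurd (congrArg Subtype.val (C.inj s hs h ⟨a, hm⟩ has h1)) (hR.ne a ha)
  · exact ⟨v, h0, hv, hm, h1⟩

theorem ChartAt.comm_iff (C : ChartAt hF R r ψ) (hs : s ∈ R) (h : Opp r s) {a b : E} {v w : Fin 6 → F}
    (ha : IsVec hF ψ a v) (hb : IsVec hF ψ b w) (has : a * s = s * a) (hbs : b * s = s * b) :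
    a * b = b * a ↔ hermForm 6 F 2 v w = 0 := by
  obtain ⟨v0, vv, ma, ea⟩ := ha
  obtain ⟨w0, ww, mb, eb⟩ := hb
  rw [← tau_commute_iff hF (by norm_num) vv ww v0, ← ea, ← eb]
  constructor
  · intro hab
    show ψ _ * ψ _ = ψ _ * ψ _
    rw [← map_mul, ← map_mul]
    congr 1
    exact Subtype.ext hab
  · intro hab
    have hab' : ψ (⟨a, ma⟩ * ⟨b, mb⟩) = ψ (⟨b, mb⟩ * ⟨a, ma⟩) := by rw [map_mul, map_mul]; exact hab
    refine C.inj' hs h (x := a * b) (y := b * a) (mul_mem ma mb) (mul_mem mb ma) ?_ ?_ hab'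
    · exact (Commute.mul_left (show Commute a s from has) (show Commute b s from hbs)).eq
    · exact (Commute.mul_left (show Commute b s from hbs) (show Commute a s from has)).eq

theorem IsVec.smul {a : E} {v : Fin 6 → F} (h : IsVec hF ψ a v) {c : F} (hc : c ≠ 0) :
    IsVec hF ψ a (c • v) := by
  obtain ⟨v0, vv, m, e⟩ := h
  exact ⟨smul_ne_zero hc v0, herm_smul_self hF vv c, m, by rw [tau_smul hF vv hc, e]⟩

theorem ChartAt.eq_of_smul (C : ChartAt hF R r ψ) (hs : s ∈ R) (h : Opp r s) {a b : E} {v w : Fin 6 → F}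
    (ha : IsVec hF ψ a v) (hb : IsVec hF ψ b w) (has : a * s = s * a) (hbs : b * s = s * b) {c : F}
    (hc : c ≠ 0) (e : w = c • v) : a = b := by
  obtain ⟨v0, vv, ma, ea⟩ := ha
  obtain ⟨w0, ww, mb, eb⟩ := hb
  refine C.inj' hs h ma mb has hbs ?_
  rw [ea, eb, e, tau_smul hF vv hc]

theorem ChartAt.exists_root (C : ChartAt hF R r ψ) (hs : s ∈ R) (h : Opp r s) {v : Fin 6 → F}
    (v0 : v ≠ 0) (vv : hermForm 6 F 2 v v = 0) : ∃ a ∈ R, a * s = s * a ∧ IsVec hF ψ a v := by
  obtain ⟨x, hx, e⟩ := C.surj s hs h (tau hF v)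
  refine ⟨x, C.back s hs h x hx (by rw [e]; exact tau_mem hF v0 vv), hx, v0, vv, x.2, e⟩

/-- Members commuting with the opposite pair commute or have a product of order three. -/
theorem ChartAt.three (C : ChartAt hF R r ψ) (hR : RootFacts hF R) (hs : s ∈ R) (h : Opp r s) {a b : E}
    (ha : a ∈ R) (har : a * r = r * a) (has : a * s = s * a) (hb : b ∈ R) (hbr : b * r = r * b)
    (hbs : b * s = s * b) : a * b = b * a ∨ (a * b) ^ 3 = 1 := by
  obtain ⟨v, hv⟩ := C.exists_vec hR hs h ha har has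
  obtain ⟨w, hw⟩ := C.exists_vec hR hs h hb hbr hbs
  by_cases h0 : hermForm 6 F 2 v w = 0
  · left; exact (C.comm_iff hs h hv hw has hbs).2 h0
  · right
    obtain ⟨v0, vv, ma, ea⟩ := hv
    obtain ⟨w0, ww, mb, eb⟩ := hw
    have h3 := (isThreeTranspositionClass_TT (F := F) hF (n := 6) (by norm_num)).1.2 _ (tau_mem hF v0 vv) _
      (tau_mem hF w0 ww)
    have h4 : (tau hF v * tau hF w) ^ 3 = 1 := by
      rcases h3 with h4 | h4
      · exfalso
        apply h0
        rw [← tau_commute_iff hF (by norm_num) vv ww v0]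
        show tau hF v * tau hF w = tau hF w * tau hF v
        have e1 := tau_mul_self hF vv
        have e2 := tau_mul_self hF ww
        rw [pow_two] at h4
        have := eq_inv_of_mul_eq_one_left h4
        rw [mul_inv_rev, tau_inv hF vv, tau_inv hF ww] at this
        exact this
      · exact h4
    have hab : (a * b) * s = s * (a * b) :=
      (Commute.mul_left (show Commute a s from has) (show Commute b s from hbs)).eq
    have h5 := C.inj s hs h ((⟨a, ma⟩ * ⟨b, mb⟩) ^ 3)
      (by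
        show (a * b) ^ 3 * s = s * (a * b) ^ 3
        exact (Commute.pow_left (show Commute (a * b) s from hab) 3).eq)
      (by rw [map_pow, map_mul, ea, eb, h4])
    exact congrArg Subtype.val h5

/-- If the images commute the product has `2`-power order. -/
theorem ChartAt.two_pow (C : ChartAt hF R r ψ) {a b : E} (har : a * r = r * a) (hbr : b * r = r * b)
    (ha : a * a = 1) (hb : b * b = 1)
    (hc : Commute (ψ ⟨a, mem_cent.2 har⟩) (ψ ⟨b, mem_cent.2 hbr⟩)) : ∃ k : ℕ, (a * b) ^ 2 ^ k = 1 := by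
  set x : Subgroup.centralizer ({r} : Set E) := ⟨a, mem_cent.2 har⟩ with hx
  set y : Subgroup.centralizer ({r} : Set E) := ⟨b, mem_cent.2 hbr⟩ with hy
  have xx : x * x = 1 := Subtype.ext ha
  have yy : y * y = 1 := Subtype.ext hb
  have h1 : ψ ((x * y) ^ 2) = 1 := by
    rw [map_pow, map_mul, hc.mul_pow, pow_two, pow_two, ← map_mul, ← map_mul, xx, yy, map_one, one_mul]
  obtain ⟨k, hk⟩ := C.ker _ h1
  refine ⟨k + 1, ?_⟩
  have h2 := congrArg Subtype.val hk
  rw [← pow_mul] at h2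
  rw [pow_succ']
  exact h2

end Chart

/-- Nine members of `R` with the graph `Y₃₃₂`, printed `t3, …, t11 = s 1, …, s 9`. -/
structure Cfg (R : Set E) (s : Fin 10 → E) : Prop where
  mem : ∀ i, i ≠ 0 → s i ∈ R
  opp : ∀ i j, i ≠ 0 → j ≠ 0 → lab i j = 3 → Opp (s i) (s j)
  comm : ∀ i j, i ≠ 0 → j ≠ 0 → lab i j = 2 → s i * s j = s j * s i

section Cfg

variable {hF : Fintype.card F = 2 ^ 2} {R : Set E} {s : Fin 10 → E}

/-- The vectors of `t3, …, t8` in the chart at `t11`. -/
structure Vecs (hF : Fintype.card F = 2 ^ 2) (s : Fin 10 → E)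
    (ψ : Subgroup.centralizer ({s 9} : Set E) →* PSU 6 F 2) (v1 v2 v3 v4 v5 v6 : Fin 6 → F) : Prop where
  chain : Chain v1 v2 v3 v4 v5 v6
  h1 : IsVec hF ψ (s 1) v1
  h2 : IsVec hF ψ (s 2) v2
  h3 : IsVec hF ψ (s 3) v3
  h4 : IsVec hF ψ (s 4) v4
  h5 : IsVec hF ψ (s 5) v5
  h6 : IsVec hF ψ (s 6) v6

theorem Cfg.exists_vecs (c : Cfg R s) (hR : RootFacts hF R)
    {ψ : Subgroup.centralizer ({s 9} : Set E) →* PSU 6 F 2} (C : ChartAt hF R (s 9) ψ) :
    ∃ v1 v2 v3 v4 v5 v6, Vecs hF s ψ v1 v2 v3 v4 v5 v6 := by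
  have hs8 : s 8 ∈ R := c.mem 8 (by decide)
  have hop : Opp (s 9) (s 8) := c.opp 9 8 (by decide) (by decide) (by decide)
  have hcr : ∀ k : Fin 10, k ≠ 0 → lab k 9 = 2 → s k * s 9 = s 9 * s k := fun k hk h => c.comm k 9 hk (by decide) h
  have hcs : ∀ k : Fin 10, k ≠ 0 → lab k 8 = 2 → s k * s 8 = s 8 * s k := fun k hk h => c.comm k 8 hk (by decide) h
  obtain ⟨v1, h1⟩ := C.exists_vec hR hs8 hop (c.mem 1 (by decide)) (hcr 1 (by decide) (by decide))
    (hcs 1 (by decide) (by decide))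
  obtain ⟨w2, k2⟩ := C.exists_vec hR hs8 hop (c.mem 2 (by decide)) (hcr 2 (by decide) (by decide))
    (hcs 2 (by decide) (by decide))
  obtain ⟨w3, k3⟩ := C.exists_vec hR hs8 hop (c.mem 3 (by decide)) (hcr 3 (by decide) (by decide))
    (hcs 3 (by decide) (by decide))
  obtain ⟨w4, k4⟩ := C.exists_vec hR hs8 hop (c.mem 4 (by decide)) (hcr 4 (by decide) (by decide))
    (hcs 4 (by decide) (by decide))
  obtain ⟨w5, k5⟩ := C.exists_vec hR hs8 hop (c.mem 5 (by decide)) (hcr 5 (by decide) (by decide))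
    (hcs 5 (by decide) (by decide))
  obtain ⟨w6, k6⟩ := C.exists_vec hR hs8 hop (c.mem 6 (by decide)) (hcr 6 (by decide) (by decide))
    (hcs 6 (by decide) (by decide))
  have hz : ∀ {u w : Fin 6 → F} {k l : Fin 10}, IsVec hF ψ (s k) u → IsVec hF ψ (s l) w → k ≠ 0 → l ≠ 0 →
      lab k 8 = 2 → lab l 8 = 2 → lab k l = 2 → hermForm 6 F 2 u w = 0 := by
    intro u w k l hu hw hk hl k8 l8 hkl
    exact (C.comm_iff hs8 hop hu hw (hcs k hk k8) (hcs l hl l8)).1 (c.comm k l hk hl hkl)
  have hnz : ∀ {u w : Fin 6 → F} {k l : Fin 10}, IsVec hF ψ (s k) u → IsVec hF ψ (s l) w → k ≠ 0 → l ≠ 0 →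
      lab k 8 = 2 → lab l 8 = 2 → lab k l = 3 → hermForm 6 F 2 u w ≠ 0 := by
    intro u w k l hu hw hk hl k8 l8 hkl h0
    exact (c.opp k l hk hl hkl).not_comm (hR.sq _ (c.mem k hk)) (hR.sq _ (c.mem l hl))
      ((C.comm_iff hs8 hop hu hw (hcs k hk k8) (hcs l hl l8)).2 h0)
  have resc : ∀ {u w : Fin 6 → F} {k l : Fin 10}, IsVec hF ψ (s k) u → IsVec hF ψ (s l) w → k ≠ 0 → l ≠ 0 →
      lab k 8 = 2 → lab l 8 = 2 → lab k l = 3 → ∃ w', IsVec hF ψ (s l) w' ∧ hermForm 6 F 2 u w' = 1 := by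
    intro u w k l hu hw hk hl k8 l8 hkl
    have h0 := hnz hu hw hk hl k8 l8 hkl
    exact ⟨hermForm 6 F 2 u w • w, hw.smul h0, scale h0 hF⟩
  obtain ⟨v2, h2, e12⟩ := resc h1 k2 (by decide) (by decide) (by decide) (by decide) (by decide)
  obtain ⟨v3, h3, e23⟩ := resc h2 k3 (by decide) (by decide) (by decide) (by decide) (by decide)
  obtain ⟨v4, h4, e34⟩ := resc h3 k4 (by decide) (by decide) (by decide) (by decide) (by decide)
  obtain ⟨v5, h5, e45⟩ := resc h4 k5 (by decide) (by decide) (by decide) (by decide) (by decide)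
  obtain ⟨v6, h6, e56⟩ := resc h5 k6 (by decide) (by decide) (by decide) (by decide) (by decide)
  refine ⟨v1, v2, v3, v4, v5, v6, ⟨h1.2.1, h2.2.1, h3.2.1, h4.2.1, h5.2.1, h6.2.1, e12, e23, e34, e45, e56,
    ?_, ?_, ?_, ?_, ?_, ?_, ?_, ?_, ?_, ?_⟩, h1, h2, h3, h4, h5, h6⟩
  · exact hz h1 h3 (by decide) (by decide) (by decide) (by decide) (by decide)
  · exact hz h1 h4 (by decide) (by decide) (by decide) (by decide) (by decide)
  · exact hz h1 h5 (by decide) (by decide) (by decide) (by decide) (by decide)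
  · exact hz h1 h6 (by decide) (by decide) (by decide) (by decide) (by decide)
  · exact hz h2 h4 (by decide) (by decide) (by decide) (by decide) (by decide)
  · exact hz h2 h5 (by decide) (by decide) (by decide) (by decide) (by decide)
  · exact hz h2 h6 (by decide) (by decide) (by decide) (by decide) (by decide)
  · exact hz h3 h5 (by decide) (by decide) (by decide) (by decide) (by decide)
  · exact hz h3 h6 (by decide) (by decide) (by decide) (by decide) (by decide)
  · exact hz h4 h6 (by decide) (by decide) (by decide) (by decide) (by decide)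

/-- Vectors with the same products with a chain are equal. -/
theorem eq_of_perp (hF : Fintype.card F = 2 ^ 2) {v1 v2 v3 v4 v5 v6 : Fin 6 → F}
    (c : Chain v1 v2 v3 v4 v5 v6) {u w : Fin 6 → F}
    (h1 : hermForm 6 F 2 u v1 = hermForm 6 F 2 w v1) (h2 : hermForm 6 F 2 u v2 = hermForm 6 F 2 w v2)
    (h3 : hermForm 6 F 2 u v3 = hermForm 6 F 2 w v3) (h4 : hermForm 6 F 2 u v4 = hermForm 6 F 2 w v4)
    (h5 : hermForm 6 F 2 u v5 = hermForm 6 F 2 w v5) (h6 : hermForm 6 F 2 u v6 = hermForm 6 F 2 w v6) :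
    u = w := by
  have h : u - w = 0 := by
    refine eq_zero_of_perp hF c ?_ ?_ ?_ ?_ ?_ ?_ <;> rw [herm_sub_left] <;> rw [sub_eq_zero] <;> assumption
  exact sub_eq_zero.1 h

theorem Cfg.exists_t2 (c : Cfg R s) (hR : RootFacts hF R) :
    ∃ r ∈ R, Opp r (s 1) ∧ ∀ j, j ≠ 0 → j ≠ 1 → r * s j = s j * r := by
  obtain ⟨ψ, C⟩ := hR.chart (s 9) (c.mem 9 (by decide))
  obtain ⟨v1, v2, v3, v4, v5, v6, V⟩ := c.exists_vecs hR C
  have ch := V.chain
  have hs8 : s 8 ∈ R := c.mem 8 (by decide)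
  have hop : Opp (s 9) (s 8) := c.opp 9 8 (by decide) (by decide) (by decide)
  have hcs : ∀ k : Fin 10, k ≠ 0 → lab k 8 = 2 → s k * s 8 = s 8 * s k := fun k hk h => c.comm k 8 hk (by decide) h
  have b21 := one_swap hF ch.ih
  have b32 := one_swap hF ch.hd
  have b43 := one_swap hF ch.de
  have b54 := one_swap hF ch.ef
  have b65 := one_swap hF ch.fg
  have z31 := herm_eq_zero_swap hF ch.id
  have z41 := herm_eq_zero_swap hF ch.ie
  have z51 := herm_eq_zero_swap hF ch.if'
  have z61 := herm_eq_zero_swap hF ch.ig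
  have z42 := herm_eq_zero_swap hF ch.he
  have z52 := herm_eq_zero_swap hF ch.hf
  have z62 := herm_eq_zero_swap hF ch.hg
  have z53 := herm_eq_zero_swap hF ch.df
  have z63 := herm_eq_zero_swap hF ch.dg
  have z64 := herm_eq_zero_swap hF ch.eg
  have two : (1 : F) + 1 = 0 := add_self hF 1
  set u : Fin 6 → F := v2 + v4 + v6 with hu
  have uu : hermForm 6 F 2 u u = 0 := by
    simp only [hu, herm_add_left, herm_add_right hF, ch.hh, ch.ee, ch.gg, ch.he, ch.hg, ch.eg, z42, z62, z64,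
      add_zero]
  have u1 : hermForm 6 F 2 u v1 = 1 := by
    rw [hu, herm_add_left, herm_add_left, b21, z41, z61, add_zero, add_zero]
  have u2 : hermForm 6 F 2 u v2 = 0 := by
    rw [hu, herm_add_left, herm_add_left, ch.hh, z42, z62, add_zero, add_zero]
  have u3 : hermForm 6 F 2 u v3 = 0 := by
    rw [hu, herm_add_left, herm_add_left, ch.hd, b43, z63, two, add_zero]
  have u4 : hermForm 6 F 2 u v4 = 0 := by
    rw [hu, herm_add_left, herm_add_left, ch.he, ch.ee, z64, add_zero, add_zero]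
  have u5 : hermForm 6 F 2 u v5 = 0 := by
    rw [hu, herm_add_left, herm_add_left, ch.hf, ch.ef, b65, zero_add, two]
  have u6 : hermForm 6 F 2 u v6 = 0 := by
    rw [hu, herm_add_left, herm_add_left, ch.hg, ch.eg, ch.gg, add_zero, add_zero]
  have u0 : u ≠ 0 := by
    intro h
    rw [h, herm_zero_left] at u1
    exact zero_ne_one u1
  obtain ⟨r, hr, hr8, hru⟩ := C.exists_root hs8 hop u0 uu
  have hr9 : r * s 9 = s 9 * r := mem_cent.1 hru.2.2.1
  have hcomm : ∀ {w : Fin 6 → F} (k : Fin 10), k ≠ 0 → lab k 8 = 2 → IsVec hF ψ (s k) w →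
      hermForm 6 F 2 u w = 0 → r * s k = s k * r := by
    intro w k hk k8 hw h
    exact (C.comm_iff hs8 hop hru hw hr8 (hcs k hk k8)).2 h
  have c2 := hcomm 2 (by decide) (by decide) V.h2 u2
  have c3 := hcomm 3 (by decide) (by decide) V.h3 u3
  have c4 := hcomm 4 (by decide) (by decide) V.h4 u4
  have c5 := hcomm 5 (by decide) (by decide) V.h5 u5
  have c6 := hcomm 6 (by decide) (by decide) V.h6 u6
  have n1 : r * s 1 ≠ s 1 * r := by
    intro h
    have := (C.comm_iff hs8 hop hru V.h1 hr8 (hcs 1 (by decide) (by decide))).1 h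
    rw [u1] at this
    exact one_ne_zero this
  -- `t9`
  have m7 : s 7 ∈ R := c.mem 7 (by decide)
  have c79 : s 7 * s 9 = s 9 * s 7 := c.comm 7 9 (by decide) (by decide) (by decide)
  have c7 : r * s 7 = s 7 * r := by
    obtain ⟨ψ', C'⟩ := hR.chart (s 5) (c.mem 5 (by decide))
    have hop' : Opp (s 5) (s 6) := c.opp 5 6 (by decide) (by decide) (by decide)
    rcases C'.three hR (c.mem 6 (by decide)) hop' hr c5 c6 m7
      (c.comm 7 5 (by decide) (by decide) (by decide)) (c.comm 7 6 (by decide) (by decide) (by decide))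
      with h | h
    · exact h
    · -- the images in the chart at `t11` commute
      have hm7 : s 7 ∈ Subgroup.centralizer ({s 9} : Set E) := mem_cent.2 c79
      have key : Commute (ψ ⟨r, mem_cent.2 hr9⟩) (ψ ⟨s 7, mem_cent.2 c79⟩) := by
        rcases C.root ⟨s 7, hm7⟩ m7 with h7 | ⟨v7, n7, q7, e7⟩
        · rw [h7]; exact Commute.one_right _
        · -- products of `v7`
          have hc7 : ∀ {w : Fin 6 → F} (k : Fin 10), k ≠ 0 → lab 7 k = 2 → IsVec hF ψ (s k) w →
              hermForm 6 F 2 v7 w = 0 := by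
            intro w k hk k7 hw
            obtain ⟨w0, ww, mk, ek⟩ := hw
            rw [← tau_commute_iff hF (by norm_num) q7 ww n7, ← e7, ← ek]
            show ψ _ * ψ _ = ψ _ * ψ _
            rw [← map_mul, ← map_mul]
            congr 1
            exact Subtype.ext (c.comm 7 k (by decide) hk k7)
          have w1 := hc7 1 (by decide) (by decide) V.h1
          have w2 := hc7 2 (by decide) (by decide) V.h2
          have w4 := hc7 4 (by decide) (by decide) V.h4
          have w5 := hc7 5 (by decide) (by decide) V.h5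
          have w6 := hc7 6 (by decide) (by decide) V.h6
          -- `v7` is a multiple of `v4 + v6`
          have e : v7 = hermForm 6 F 2 v7 v3 • (v4 + v6) := by
            refine eq_of_perp hF ch ?_ ?_ ?_ ?_ ?_ ?_
            · rw [w1, herm_smul_left, herm_add_left, z41, z61, add_zero, mul_zero]
            · rw [w2, herm_smul_left, herm_add_left, z42, z62, add_zero, mul_zero]
            · rw [herm_smul_left, herm_add_left, b43, z63, add_zero, mul_one]
            · rw [w4, herm_smul_left, herm_add_left, ch.ee, z64, add_zero, mul_zero]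
            · rw [w5, herm_smul_left, herm_add_left, ch.ef, b65, two, mul_zero]
            · rw [w6, herm_smul_left, herm_add_left, ch.eg, ch.gg, add_zero, mul_zero]
          have hu7 : hermForm 6 F 2 u v7 = 0 := by
            rw [e, herm_smul_right, herm_add_right hF, u4, u6, add_zero, mul_zero]
          obtain ⟨-, -, mr, er⟩ := hru
          rw [e7, er]
          exact (tau_commute_iff hF (by norm_num) uu q7 u0).2 hu7
      obtain ⟨k, hk⟩ := C.two_pow hr9 c79 (hR.sq r hr) (hR.sq _ m7) key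
      -- the order of the product divides `3` and `2 ^ k`
      have h1 : orderOf (r * s 7) ∣ 3 := orderOf_dvd_of_pow_eq_one h
      have h2 : orderOf (r * s 7) ∣ 2 ^ k := orderOf_dvd_of_pow_eq_one hk
      have h3 : Nat.Coprime 3 (2 ^ k) := Nat.Coprime.pow_right k (by norm_num)
      have h4 : orderOf (r * s 7) = 1 := Nat.eq_one_of_dvd_coprimes h3 h1 h2
      have h5 := orderOf_eq_one_iff.1 h4
      have h6 : r = s 7 := by
        rw [eq_inv_of_mul_eq_one_left h5, inv_eq_of_mul_eq_one_left (hR.sq _ m7)]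
      rw [h6]
  refine ⟨r, hr, ?_, ?_⟩
  · rcases C.three hR hs8 hop hr hr9 hr8 (c.mem 1 (by decide))
      (c.comm 1 9 (by decide) (by decide) (by decide)) (hcs 1 (by decide) (by decide)) with h | h
    · exact absurd h n1
    · refine ⟨?_, h⟩
      intro h1
      apply n1
      rw [h1]
  · intro j h0 h1
    fin_cases j
    · exact absurd rfl h0
    · exact absurd rfl h1
    · exact c2
    · exact c3
    · exact c4
    · exact c5
    · exact c6
    · exact c7
    · exact hr8
    · exact hr9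

/-- The node `t2` is unique. -/
theorem Cfg.unique_t2 (c : Cfg R s) (hR : RootFacts hF R) {r r' : E} (hr : r ∈ R) (hr' : r' ∈ R)
    (n : r * s 1 ≠ s 1 * r) (n' : r' * s 1 ≠ s 1 * r')
    (hc : ∀ j, j ≠ 0 → j ≠ 1 → j ≠ 7 → r * s j = s j * r)
    (hc' : ∀ j, j ≠ 0 → j ≠ 1 → j ≠ 7 → r' * s j = s j * r') : r = r' := by
  obtain ⟨ψ, C⟩ := hR.chart (s 9) (c.mem 9 (by decide))
  obtain ⟨v1, v2, v3, v4, v5, v6, V⟩ := c.exists_vecs hR C
  have ch := V.chain
  have hs8 : s 8 ∈ R := c.mem 8 (by decide)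
  have hop : Opp (s 9) (s 8) := c.opp 9 8 (by decide) (by decide) (by decide)
  have hcs : ∀ k : Fin 10, k ≠ 0 → lab k 8 = 2 → s k * s 8 = s 8 * s k := fun k hk h => c.comm k 8 hk (by decide) h
  obtain ⟨w, hw⟩ := C.exists_vec hR hs8 hop hr (hc 9 (by decide) (by decide) (by decide))
    (hc 8 (by decide) (by decide) (by decide))
  obtain ⟨w', hw'⟩ := C.exists_vec hR hs8 hop hr' (hc' 9 (by decide) (by decide) (by decide))
    (hc' 8 (by decide) (by decide) (by decide))
  have r8 := hc 8 (by decide) (by decide) (by decide)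
  have r8' := hc' 8 (by decide) (by decide) (by decide)
  have p : ∀ {x : Fin 6 → F} (k : Fin 10), k ≠ 0 → k ≠ 1 → k ≠ 7 → lab k 8 = 2 → IsVec hF ψ (s k) x →
      hermForm 6 F 2 w x = 0 := by
    intro x k h0 h1 h7 k8 hx
    exact (C.comm_iff hs8 hop hw hx r8 (hcs k h0 k8)).1 (hc k h0 h1 h7)
  have p' : ∀ {x : Fin 6 → F} (k : Fin 10), k ≠ 0 → k ≠ 1 → k ≠ 7 → lab k 8 = 2 → IsVec hF ψ (s k) x →
      hermForm 6 F 2 w' x = 0 := by
    intro x k h0 h1 h7 k8 hx
    exact (C.comm_iff hs8 hop hw' hx r8' (hcs k h0 k8)).1 (hc' k h0 h1 h7)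
  have q : hermForm 6 F 2 w v1 ≠ 0 := fun h =>
    n ((C.comm_iff hs8 hop hw V.h1 r8 (hcs 1 (by decide) (by decide))).2 h)
  have q' : hermForm 6 F 2 w' v1 ≠ 0 := fun h =>
    n' ((C.comm_iff hs8 hop hw' V.h1 r8' (hcs 1 (by decide) (by decide))).2 h)
  have e : w' = (hermForm 6 F 2 w' v1 * (hermForm 6 F 2 w v1)⁻¹) • w := by
    refine eq_of_perp hF ch ?_ ?_ ?_ ?_ ?_ ?_ <;> rw [herm_smul_left]
    · rw [mul_assoc, inv_mul_cancel₀ q, mul_one]
    · rw [p 2 (by decide) (by decide) (by decide) (by decide) V.h2,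
        p' 2 (by decide) (by decide) (by decide) (by decide) V.h2, mul_zero]
    · rw [p 3 (by decide) (by decide) (by decide) (by decide) V.h3,
        p' 3 (by decide) (by decide) (by decide) (by decide) V.h3, mul_zero]
    · rw [p 4 (by decide) (by decide) (by decide) (by decide) V.h4,
        p' 4 (by decide) (by decide) (by decide) (by decide) V.h4, mul_zero]
    · rw [p 5 (by decide) (by decide) (by decide) (by decide) V.h5,
        p' 5 (by decide) (by decide) (by decide) (by decide) V.h5, mul_zero]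
    · rw [p 6 (by decide) (by decide) (by decide) (by decide) V.h6,
        p' 6 (by decide) (by decide) (by decide) (by decide) V.h6, mul_zero]
  exact C.eq_of_smul hs8 hop hw hw' r8 r8' (mul_ne_zero q' (inv_ne_zero q)) e

/-- The members of `R` which may replace `t3`. -/
theorem Cfg.unique_t3 (c : Cfg R s) (hR : RootFacts hF R) {t r : E} (ht : t ∈ R)
    (nt : t * s 1 ≠ s 1 * t) (hct : ∀ j, j ≠ 0 → j ≠ 1 → j ≠ 7 → t * s j = s j * t)
    (hr : r ∈ R) (nr : r * s 2 ≠ s 2 * r)
    (hc : ∀ j, j ≠ 0 → j ≠ 1 → j ≠ 2 → j ≠ 7 → r * s j = s j * r) : r = s 1 ∨ r = t * s 1 * t := by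
  obtain ⟨ψ, C⟩ := hR.chart (s 9) (c.mem 9 (by decide))
  obtain ⟨v1, v2, v3, v4, v5, v6, V⟩ := c.exists_vecs hR C
  have ch := V.chain
  have hs8 : s 8 ∈ R := c.mem 8 (by decide)
  have hop : Opp (s 9) (s 8) := c.opp 9 8 (by decide) (by decide) (by decide)
  have hcs : ∀ k : Fin 10, k ≠ 0 → lab k 8 = 2 → s k * s 8 = s 8 * s k := fun k hk h => c.comm k 8 hk (by decide) h
  obtain ⟨w, hw⟩ := C.exists_vec hR hs8 hop hr (hc 9 (by decide) (by decide) (by decide) (by decide))
    (hc 8 (by decide) (by decide) (by decide) (by decide))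
  obtain ⟨u', hu'⟩ := C.exists_vec hR hs8 hop ht (hct 9 (by decide) (by decide) (by decide))
    (hct 8 (by decide) (by decide) (by decide))
  have r8 := hc 8 (by decide) (by decide) (by decide) (by decide)
  have t8 := hct 8 (by decide) (by decide) (by decide)
  have cs1 := hcs 1 (by decide) (by decide)
  have q1' : hermForm 6 F 2 v1 u' ≠ 0 := fun h =>
    nt ((C.comm_iff hs8 hop V.h1 hu' cs1 t8).2 h).symm
  -- rescale `u'`
  obtain ⟨u, hu, hu1⟩ : ∃ u, IsVec hF ψ t u ∧ hermForm 6 F 2 v1 u = 1 :=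
    ⟨_, hu'.smul q1', scale q1' hF⟩
  have u1 := one_swap hF hu1
  have pu : ∀ {x : Fin 6 → F} (k : Fin 10), k ≠ 0 → k ≠ 1 → k ≠ 7 → lab k 8 = 2 → IsVec hF ψ (s k) x →
      hermForm 6 F 2 u x = 0 := by
    intro x k h0 h1 h7 k8 hx
    exact (C.comm_iff hs8 hop hu hx t8 (hcs k h0 k8)).1 (hct k h0 h1 h7)
  have p : ∀ {x : Fin 6 → F} (k : Fin 10), k ≠ 0 → k ≠ 1 → k ≠ 2 → k ≠ 7 → lab k 8 = 2 →
      IsVec hF ψ (s k) x → hermForm 6 F 2 w x = 0 := by
    intro x k h0 h1 h2 h7 k8 hx
    exact (C.comm_iff hs8 hop hw hx r8 (hcs k h0 k8)).1 (hc k h0 h1 h2 h7)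
  have q : hermForm 6 F 2 w v2 ≠ 0 := fun h =>
    nr ((C.comm_iff hs8 hop hw V.h2 r8 (hcs 2 (by decide) (by decide))).2 h)
  obtain ⟨α, hα⟩ : ∃ α, α = hermForm 6 F 2 w v2 := ⟨_, rfl⟩
  obtain ⟨β, hβ⟩ : ∃ β, β = hermForm 6 F 2 w v1 := ⟨_, rfl⟩
  rw [← hα] at q
  have e : w = α • v1 + β • u := by
    refine eq_of_perp hF ch ?_ ?_ ?_ ?_ ?_ ?_ <;> rw [herm_add_left, herm_smul_left, herm_smul_left]
    · rw [ch.ii, u1, mul_zero, zero_add, mul_one, hβ]
    · rw [ch.ih, pu 2 (by decide) (by decide) (by decide) (by decide) V.h2, mul_zero, add_zero, mul_one, hα]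
    · rw [ch.id, pu 3 (by decide) (by decide) (by decide) (by decide) V.h3,
        p 3 (by decide) (by decide) (by decide) (by decide) (by decide) V.h3, mul_zero, mul_zero, add_zero]
    · rw [ch.ie, pu 4 (by decide) (by decide) (by decide) (by decide) V.h4,
        p 4 (by decide) (by decide) (by decide) (by decide) (by decide) V.h4, mul_zero, mul_zero, add_zero]
    · rw [ch.if', pu 5 (by decide) (by decide) (by decide) (by decide) V.h5,
        p 5 (by decide) (by decide) (by decide) (by decide) (by decide) V.h5, mul_zero, mul_zero, add_zero]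
    · rw [ch.ig, pu 6 (by decide) (by decide) (by decide) (by decide) V.h6,
        p 6 (by decide) (by decide) (by decide) (by decide) (by decide) V.h6, mul_zero, mul_zero, add_zero]
  -- isotropy
  have hiso : α * β ^ 2 + β * α ^ 2 = 0 := by
    have h := hw.2.1
    rw [e, herm_add_left, herm_add_right hF, herm_add_right hF, herm_smul_left, herm_smul_left,
      herm_smul_left, herm_smul_left, herm_smul_right, herm_smul_right, herm_smul_right, herm_smul_right,
      ch.ii, hu.2.1, hu1, u1] at h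
    simpa using h
  have hfac : β * (α * (β + α)) = 0 := by linear_combination hiso
  rcases mul_eq_zero.1 hfac with h | h
  · left
    rw [h, zero_smul, add_zero] at e
    exact (C.eq_of_smul hs8 hop V.h1 hw cs1 r8 q e).symm
  · right
    have h1 := (mul_eq_zero.1 h).resolve_left q
    have h2 : β = α := by
      have := two_eq_zero hF
      linear_combination h1 - α * this
    rw [h2, ← smul_add] at e
    -- the vector of `t * s 1 * t`
    have hv : IsVec hF ψ (t * s 1 * t) (v1 + u) := by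
      obtain ⟨u0, uu, mu, eu⟩ := hu
      obtain ⟨v0, vv, mv, ev⟩ := V.h1
      refine ⟨?_, ?_, mul_mem (mul_mem mu mv) mu, ?_⟩
      · intro h0
        have h3 : hermForm 6 F 2 (v1 + u) u = 0 := by rw [h0, herm_zero_left]
        rw [herm_add_left, hu1, uu, add_zero] at h3
        exact one_ne_zero h3
      · rw [herm_add_left, herm_add_right hF, herm_add_right hF, vv, uu, hu1, u1, zero_add, add_zero,
          add_self hF]
      · have h3 := tau_conj_tau hF uu vv
        rw [hu1, one_smul, ← eu, ← ev, ← map_mul, ← map_mul] at h3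
        exact h3
    have ht8 : (t * s 1 * t) * s 8 = s 8 * (t * s 1 * t) :=
      (Commute.mul_left (Commute.mul_left (show Commute t (s 8) from t8) (show Commute (s 1) (s 8) from cs1))
        (show Commute t (s 8) from t8)).eq
    exact (C.eq_of_smul hs8 hop hv hw ht8 r8 q e).symm

end Cfg

end Cfsg.Agent.BabyU.RootCfg
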