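import Cfsg.Agent.BabyU.KEqEFacts
import Cfsg.Agent.TwoESix.SheetA
import Cfsg.Agent.TwoESix.ExtTwisted

/-!
# S1736(a), `K = C_G(L)`: the subgroups `Q w = O_2(C_E(w))` of `E = ²E₆(2)`

`OQ w`: the largest normal 2-subgroup of `C_E(w)`; `OQ_r0`: it is `RE` for `w = r0`.
`GoodR`: the form of `Good` for `w = r0`.
`cent_RE_aut` (G3): an automorphism centralising `RE` is `1` or the conjugation by `r0`.
-/

set_option autoImplicit false

namespace Cfsg.Agent.BabyU.KEqE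

open Cfsg Cfsg.Lie
open Cfsg.Agent.ChevalleyStructure
open Cfsg.Agent.ChevalleyStructure.TwE6Basic
open Cfsg.Agent.ChevalleyStructure.TwE6BN
open Cfsg.Agent.TwoESix.LeviA
open Cfsg.Agent.TwoESix.LeviB
open Cfsg.Agent.TwoESix.LeviC
open Cfsg.Agent.TwoESix.LeviD
open Cfsg.Agent.TwoESix.LongPairs
open Cfsg.Agent.TwoESix.LongCard
open Cfsg.Agent.TwoESix.FlagH
open Cfsg.Agent.TwoESix.FlagI
open Cfsg.Agent.TwoESix.KeyExtra
open Cfsg.Agent.TwoESix.SheetA
open Cfsg.Agent.BabyU (rootClass)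

open scoped commutatorElement

universe u v

/-- the largest normal 2-subgroup of the centraliser of `w` -/
def OQ {E : Type v} [Group E] (w : E) : Subgroup E :=
  sSup {N | (∀ p ∈ N, p * w = w * p) ∧ IsPGroup 2 N ∧ ∀ y, y * w = w * y → ∀ p ∈ N, y * p * y⁻¹ ∈ N}

theorem OQ_map {E : Type v} [Group E] (φ : MulAut E) (w x : E) (hx : x ∈ OQ w) : φ x ∈ OQ (φ w) := by
  have h1 : OQ w ≤ (OQ (φ w)).comap φ.toMonoidHom := by
    refine sSup_le ?_
    rintro N ⟨h1, h2, h3⟩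
    intro p hp
    refine Subgroup.mem_comap.2 ?_
    have h4 : N.map φ.toMonoidHom ≤ OQ (φ w) := by
      refine le_sSup ⟨?_, h2.map _, ?_⟩
      · rintro _ ⟨q, hq, rfl⟩
        show φ q * φ w = φ w * φ q
        rw [← map_mul, h1 q hq, map_mul]
      · rintro y hy _ ⟨q, hq, rfl⟩
        refine ⟨φ.symm y * q * (φ.symm y)⁻¹, h3 _ ?_ q hq, ?_⟩
        · apply φ.injective
          rw [map_mul, map_mul, φ.apply_symm_apply, hy]
        · show φ (φ.symm y * q * (φ.symm y)⁻¹) = y * φ q * y⁻¹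
          rw [map_mul, map_mul, map_inv, φ.apply_symm_apply]
    exact h4 ⟨p, hp, rfl⟩
  exact h1 hx

theorem OQ_conj {E : Type v} [Group E] (g w x : E) (hx : x ∈ OQ w) : g * x * g⁻¹ ∈ OQ (g * w * g⁻¹) :=
  OQ_map (MulAut.conj g) w x hx

theorem OQ_conj_iff {E : Type v} [Group E] (g w x : E) : g * x * g⁻¹ ∈ OQ (g * w * g⁻¹) ↔ x ∈ OQ w := by
  refine ⟨fun h => ?_, OQ_conj g w x⟩
  have h1 := OQ_conj g⁻¹ _ _ h
  have e1 : g⁻¹ * (g * x * g⁻¹) * g⁻¹⁻¹ = x := by group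
  have e2 : g⁻¹ * (g * w * g⁻¹) * g⁻¹⁻¹ = w := by group
  rwa [e1, e2] at h1

variable {K : Type u} [Field K]

section Four

variable [Fintype K] {φ : K →+* K} (F : Four K φ)
include F

theorem OQ_r0 : OQ (r0 F) = RE K := by
  apply le_antisymm
  · refine sSup_le ?_
    rintro N ⟨h1, h2, h3⟩
    exact R_max F N h1 h2 h3
  · refine le_sSup ⟨fun p hp => RE_comm_r0 F hp, (S_two F).to_le fun q hq => UR_le_U hq, ?_⟩
    exact fun y hy p hp => R_norm F y hy p hp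

/-- the form of `Good` at `r0` -/
structure GoodR (b : ↥(twistedE6 K 2)) : Prop where
  bR : b ∈ RE K
  bw : b * r0 F ∉ rootClass K
  gen : ∀ x ∈ RE K, x * b = b * x →
    x ∈ Subgroup.closure ({y | y ∈ rootClass K ∧ y ∈ RE K ∧ y * b = b * y ∧ y * b ∉ rootClass K} ∪ {b, r0 F})

theorem r0_T : r0 F ∈ rootClass K := xe_T F 71 (by decide +kernel)

omit F in
theorem cent_iff {E : Type v} [Group E] {Q : Subgroup E} {α : MulAut E} (h : ∀ x ∈ Q, α x = x) (c : E)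
    (hc : ∀ x ∈ Q, c * x * c⁻¹ ∈ Q) (x : E) (hx : x ∈ Q) : (c⁻¹ * α c) * x = x * (c⁻¹ * α c) := by
  have h1 := h _ (hc x hx)
  rw [map_mul, map_mul, map_inv, h x hx] at h1
  have h2 : α c * x = c * x * c⁻¹ * α c := mul_inv_eq_iff_eq_mul.1 h1
  calc (c⁻¹ * α c) * x = c⁻¹ * (α c * x) := by group
    _ = x * (c⁻¹ * α c) := by rw [h2]; group

/-- **(G3)** -/
theorem cent_RE_aut (α : MulAut ↥(twistedE6 K 2)) (h : ∀ x ∈ RE K, α x = x) :
    α = 1 ∨ α = MulAut.conj (r0 F) := by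
  apply aut_triv F
  have h0 : α (r0 F) = r0 F := h _ (r0_mem_RE F)
  have hz := r0_sq' F
  -- the values of `c⁻¹ α(c)`
  have h1 : ∀ c, c * r0 F = r0 F * c → α c = c ∨ α c = c * r0 F := by
    intro c hc
    have h2 : ∀ x ∈ RE K, (c⁻¹ * α c) * x = x * (c⁻¹ * α c) :=
      fun x hx => cent_iff h c (fun x hx => R_norm F c hc x hx) x hx
    rcases center_RE F (self_RE F _ h2) h2 with h3 | h3
    · left
      rw [inv_mul_eq_one] at h3
      exact h3.symm
    · right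
      rw [← h3]; group
  -- it is a homomorphism
  let C := Subgroup.centralizer ({r0 F} : Set ↥(twistedE6 K 2))
  have hC : ∀ c, c ∈ C ↔ c * r0 F = r0 F * c := fun c => Subgroup.mem_centralizer_singleton_iff
  have hP := Cfsg.Agent.TwoESix.SheetA.perf F
  have h4 : C ≤ α.toMonoidHom.eqLocus (MonoidHom.id _) := by
    rw [show C = ⁅C, C⁆ from hP.symm, Subgroup.commutator_le]
    intro c hc d hd
    have hc' := (hC c).1 hc
    have hd' := (hC d).1 hd
    show α ⁅c, d⁆ = ⁅c, d⁆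
    rw [map_commutatorElement]
    have h5 : ∀ c' d' : ↥(twistedE6 K 2), c' * r0 F = r0 F * c' → d' * r0 F = r0 F * d' →
        ⁅c' * r0 F, d'⁆ = ⁅c', d'⁆ ∧ ⁅c', d' * r0 F⁆ = ⁅c', d'⁆ := by
      intro c' d' h5 h6
      have h7 : (r0 F) * d' * (r0 F)⁻¹ = d' := by rw [← h6, mul_inv_cancel_right]
      have h8 : (r0 F) * c'⁻¹ * (r0 F)⁻¹ = c'⁻¹ := by
        rw [mul_inv_eq_iff_eq_mul, eq_inv_mul_iff_mul_eq, ← mul_assoc, h5, mul_inv_cancel_right]
      constructor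
      · rw [commutatorElement_def, commutatorElement_def]
        calc c' * r0 F * d' * (c' * r0 F)⁻¹ * d'⁻¹ = c' * (r0 F * d' * (r0 F)⁻¹) * c'⁻¹ * d'⁻¹ := by group
          _ = _ := by rw [h7]
      · rw [commutatorElement_def, commutatorElement_def]
        calc c' * (d' * r0 F) * c'⁻¹ * (d' * r0 F)⁻¹ = c' * d' * (r0 F * c'⁻¹ * (r0 F)⁻¹) * d'⁻¹ := by group
          _ = _ := by rw [h8]
    have h9 : ∀ c', c' * r0 F = r0 F * c' → (c' * r0 F) * r0 F = r0 F * (c' * r0 F) := fun c' h => by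
      rw [← mul_assoc, h]
    rcases h1 c hc' with h6 | h6 <;> rcases h1 d hd' with h7 | h7 <;> rw [h6, h7]
    · exact (h5 c d hc' hd').2
    · exact (h5 c d hc' hd').1
    · rw [(h5 c (d * r0 F) hc' (h9 d hd')).1]
      exact (h5 c d hc' hd').2
  intro c hc
  exact h4 ((hC c).2 hc)

end Four

end Cfsg.Agent.BabyU.KEqE
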