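import Cfsg.Agent.BabyU.Setup
import Cfsg.Agent.TwoESix.LeviPerf
import Cfsg.Agent.MonsterU.Gasch
import Cfsg.Agent.S1066
import Cfsg.Agent.S1086

/-!
# U-B: the preimage in `M` of the centraliser of a root involution is perfect

`perf_of_section`: a subgroup `P = P'` of odd index lifts to a perfect subgroup in a nonsplit double cover.
`perf_root`: the centralisers of the root involutions of `²E₆(2)` are perfect.
`perf1`: the field `perf1` of `Ident.Hyp`.
-/

set_option autoImplicit false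

namespace Cfsg.Agent.BabyU.Perf1

open scoped commutatorElement
open Cfsg.Lie
open Cfsg.Agent.ChevalleyStructure
open Cfsg.Agent.ChevalleyStructure.Elts hiding x_add x_zero x_eq_one_iff
open Cfsg.Agent.ChevalleyStructure.TwE6Basic
open Cfsg.Agent.ChevalleyStructure.TwE6BN
open Cfsg.Agent.TwoESix.LeviA
open Cfsg.Agent.TwoESix.LeviB
open Cfsg.Agent.TwoESix.LeviPerf

universe u v

/-! ### The transfer -/

/-- The preimage of a perfect subgroup of odd index is perfect, if the double cover has no section. -/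
theorem perf_of_section {Γ : Type u} {X : Type v} [Group Γ] [Group X] [Finite X] (π : Γ →* X)
    (hπ : Function.Surjective π) {z : Γ} (hker : ∀ r, π r = 1 ↔ r = 1 ∨ r = z) (hz1 : z ≠ 1)
    (nosec : ∀ σ : X →* Γ, ¬ ∀ x, π (σ x) = x) (P : Subgroup X) (hodd : Odd P.index) (hP : ⁅P, P⁆ = P) :
    ⁅P.comap π, P.comap π⁆ = P.comap π := by
  classical
  set H := P.comap π with hH
  have hle : ⁅H, H⁆ ≤ H := Subgroup.commutator_le.2 fun g hg h hh => by
    rw [commutatorElement_def]
    exact mul_mem (mul_mem (mul_mem hg hh) (inv_mem hg)) (inv_mem hh)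
  have hmap : (⁅H, H⁆ : Subgroup Γ).map π = P := by
    rw [Subgroup.map_commutator, hH, Subgroup.map_comap_eq_self_of_surjective hπ, hP]
  have ex : ∀ p : P, ∃ d : Γ, d ∈ ⁅H, H⁆ ∧ π d = p := by
    rintro ⟨p, hp⟩
    rw [← hmap] at hp
    obtain ⟨d, hd, rfl⟩ := hp
    exact ⟨d, hd, rfl⟩
  refine le_antisymm hle fun h hh => ?_
  by_cases hz : z ∈ ⁅H, H⁆
  · obtain ⟨d, hd, e⟩ := ex ⟨π h, hh⟩
    have h1 : π (d⁻¹ * h) = 1 := by
      rw [map_mul, map_inv, e, inv_mul_cancel]
    have h2 : d⁻¹ * h ∈ ⁅H, H⁆ := by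
      rcases (hker _).1 h1 with h3 | h3
      · rw [h3]; exact one_mem _
      · rw [h3]; exact hz
    have h3 := mul_mem hd h2
    rwa [mul_inv_cancel_left] at h3
  · exfalso
    choose S hS1 hS2 using ex
    have uniq : ∀ d d' : Γ, d ∈ ⁅H, H⁆ → d' ∈ ⁅H, H⁆ → π d = π d' → d = d' := by
      intro d d' hd hd' e
      rcases (hker (d * d'⁻¹)).1 (by rw [map_mul, map_inv, e, mul_inv_cancel]) with h3 | h3
      · rwa [mul_inv_eq_one] at h3
      · exact absurd (h3 ▸ mul_mem hd (inv_mem hd')) hz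
    let s : P →* Γ :=
      { toFun := S
        map_one' := uniq _ _ (hS1 _) (one_mem _) (by rw [hS2, map_one]; rfl)
        map_mul' := fun a b => uniq _ _ (hS1 _) (mul_mem (hS1 _) (hS1 _)) (by rw [map_mul, hS2, hS2, hS2]; rfl) }
    obtain ⟨σ, hσ⟩ := Cfsg.Agent.MonsterU.Gasch.exists_section π hπ hker hz1 P hodd s hS2
    exact nosec σ hσ

/-! ### The root involutions -/

section root

variable {K : Type v} [Field K] [Fintype K]

/-- Every element of the root class is conjugate to `x_71(1)`. -/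
theorem exists_conj_top {φ : K →+* K} (F : Four K φ) {r : ↥(twistedE6 K 2)} (hr : r ∈ rootClass K) :
    ∃ g r0 : ↥(twistedE6 K 2), (r0 : GL chevE6.Idx K) = x 71 1 ∧ r = g * r0 * g⁻¹ := by
  have := F.charP
  obtain ⟨g, r', h, rfl⟩ := hr
  have hr' : (r' : GL chevE6.Idx K) = x 46 1 := by
    apply Units.ext
    rw [h]
    exact (coe_xG hE6 46 1).symm
  have h71 : x 71 (1 : K) ∈ twistedE6 K 2 := x_mem_E F (r := 71) (by decide +kernel)
  set w : ↥(twistedE6 K 2) := ⟨wn (K := K) w46, wn_mem F w46⟩ with hw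
  refine ⟨g * w, ⟨x 71 1, h71⟩, rfl, ?_⟩
  have h1 := wn_conj (K := K) w46 71 1
  rw [show (wpm w46 71).val = 46 by decide +kernel] at h1
  have h2 : r' = w * ⟨x 71 1, h71⟩ * w⁻¹ := by
    apply Subtype.ext
    rw [hr']
    exact h1.symm
  rw [h2]
  group

theorem centralizer_conj {Γ : Type*} [Group Γ] (g r : Γ) :
    Subgroup.centralizer ({g * r * g⁻¹} : Set Γ) =
      (Subgroup.centralizer ({r} : Set Γ)).map (MulAut.conj g).toMonoidHom := by
  ext y
  rw [Subgroup.mem_map, Subgroup.mem_centralizer_singleton_iff]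
  constructor
  · intro hy
    refine ⟨g⁻¹ * y * g, Subgroup.mem_centralizer_singleton_iff.2 ?_, ?_⟩
    · calc g⁻¹ * y * g * r = g⁻¹ * (y * (g * r * g⁻¹)) * g := by group
        _ = g⁻¹ * (g * r * g⁻¹ * y) * g := by rw [hy]
        _ = r * (g⁻¹ * y * g) := by group
    · show g * (g⁻¹ * y * g) * g⁻¹ = y
      group
  · rintro ⟨a, ha, rfl⟩
    have ha' := Subgroup.mem_centralizer_singleton_iff.1 ha
    show g * a * g⁻¹ * (g * r * g⁻¹) = g * r * g⁻¹ * (g * a * g⁻¹)
    calc g * a * g⁻¹ * (g * r * g⁻¹) = g * (a * r) * g⁻¹ := by group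
      _ = g * (r * a) * g⁻¹ := by rw [ha']
      _ = _ := by group

/-- **The centralisers of the root involutions are perfect.** -/
theorem perf_root (hK : Fintype.card K = 4) {r : ↥(twistedE6 K 2)} (hr : r ∈ rootClass K) :
    ⁅Subgroup.centralizer ({r} : Set ↥(twistedE6 K 2)), Subgroup.centralizer ({r} : Set ↥(twistedE6 K 2))⁆ =
      Subgroup.centralizer ({r} : Set ↥(twistedE6 K 2)) := by
  obtain ⟨_, φ, F⟩ := exists_four K hK
  obtain ⟨g, r0, h0, rfl⟩ := exists_conj_top F hr
  rw [centralizer_conj, ← Subgroup.map_commutator, perf_top F h0]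

theorem card_odd (hK : Fintype.card K = 4) : ∃ k, Odd k ∧ Nat.card (twistedE6 K 2) = 2 ^ 36 * k := by
  have h := Cfsg.Agent.S1066.result (K := K) (q := 2) Nat.prime_two.isPrimePow (by rw [hK]; norm_num)
  norm_num at h
  exact ⟨1113694156575, by decide, by omega⟩

/-- the centraliser of a root involution has odd index -/
theorem index_odd (hK : Fintype.card K = 4) {r : ↥(twistedE6 K 2)} (hr : r ∈ rootClass K) :
    Odd (Subgroup.centralizer ({r} : Set ↥(twistedE6 K 2))).index := by
  obtain ⟨_, φ, F⟩ := exists_four K hK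
  obtain ⟨g, r0, h0, rfl⟩ := exists_conj_top F hr
  have hidx : (Subgroup.centralizer ({g * r0 * g⁻¹} : Set ↥(twistedE6 K 2))).index =
      (Subgroup.centralizer ({r0} : Set ↥(twistedE6 K 2))).index := by
    rw [centralizer_conj]
    exact Subgroup.index_map_equiv _ (MulAut.conj g)
  rw [hidx]
  -- `U ∩ E` is contained in the centraliser
  have hU := Cfsg.Agent.S1086.result (K := K) (q := 2) Nat.prime_two.isPrimePow (by rw [hK]; norm_num)
  have hdvd : 2 ^ 36 ∣ Nat.card (Subgroup.centralizer ({r0} : Set ↥(twistedE6 K 2))) := by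
    rw [← hU]
    have hle : chevE6.posUnipotent K ⊓ twistedE6 K 2 ≤
        (Subgroup.centralizer ({r0} : Set ↥(twistedE6 K 2))).map (twistedE6 K 2).subtype := by
      rw [centralizer_eq F h0]
      exact inf_le_inf_right _ U_le_PR
    have h1 := Subgroup.card_dvd_of_le hle
    rwa [Subgroup.card_map_of_injective (twistedE6 K 2).subtype_injective] at h1
  obtain ⟨k, hk, hcard⟩ := card_odd (K := K) hK
  have h2 := (Subgroup.centralizer ({r0} : Set ↥(twistedE6 K 2))).card_mul_index
  rw [hcard] at h2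
  obtain ⟨m, hm⟩ := hdvd
  rw [hm, mul_assoc] at h2
  have h3 : m * (Subgroup.centralizer ({r0} : Set ↥(twistedE6 K 2))).index = k :=
    Nat.eq_of_mul_eq_mul_left (by norm_num) h2
  rw [← h3] at hk
  exact (Nat.odd_mul.1 hk).2

end root

/-- **The field `perf1` of `Ident.Hyp`.** -/
theorem perf1 {K : Type v} [Field K] [Fintype K] (hK : Fintype.card K = 4) {G : Type u} [Group G] {t : G}
    {M : Subgroup G} {π : M →* twistedE6 K 2} (S : Setup t M π) : ∀ r ∈ rootClass K,
    ⁅(Subgroup.centralizer ({r} : Set (twistedE6 K 2))).comap π,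
      (Subgroup.centralizer ({r} : Set (twistedE6 K 2))).comap π⁆ =
    (Subgroup.centralizer ({r} : Set (twistedE6 K 2))).comap π := fun _ hr =>
  perf_of_section π S.surj (z := S.z) S.ext.ker S.ext.zne S.nosec _ (index_odd hK hr) (perf_root hK hr)

end Cfsg.Agent.BabyU.Perf1
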