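import Cfsg.Agent.BabyU.KEqEQ
import Cfsg.Agent.TwoESix.GenSym
import Cfsg.Agent.TwoESix.OutMain
import Cfsg.Agent.TwoESix.KeyQuad
import Cfsg.Agent.TwoESix.RootsInst
import Cfsg.Agent.TwoESix.LeviG

/-!
# S1736(a), `K = C_G(L)`: the facts `EF` for `E = ²E₆(2)`, the instance
-/

set_option autoImplicit false

namespace Cfsg.Agent.BabyU.KEqE

open Cfsg Cfsg.Lie Cfsg.Agent.TwoESix
open Cfsg.Agent.TwoESix.LeviA Cfsg.Agent.TwoESix.LongCard Cfsg.Agent.TwoESix.FlagH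
open Cfsg.Agent.TwoESix.Cover Cfsg.Agent.TwoESix.Cox10
open Cfsg.Agent.BabyU (rootClass)

universe u

variable {K : Type u} [Field K] [Fintype K]

/-- The facts `Extra` (any universe). -/
theorem extra_of (hF : Fintype.card K = 2 ^ 2) : Key.Extra hF (rootClass K) where
  opp_trans r hr s hs r' hr' s' hs' h h' :=
    (ExtTwisted.basic K hF).opp_trans r hr s hs r' hr' s' hs' h.1 h.2 h'.1 h'.2
  spe := KeyExtra.spe hF
  odd := KeyExtra.odd hF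
  ker := KeyExtra.ker hF
  quad := by
    obtain ⟨p, q, r, s, p', q', r', h1, h2, h3⟩ := KeyQuad.quad K hF
    exact ⟨p, q, r, s, p', q', r', h1, h2, h3⟩

section Four

variable {φ : K →+* K} (F : Four K φ)
include F

theorem sym_of : ∃ p q, Key.Sym (rootClass K) p q ∧ GoodR F (p * q) := by
  obtain ⟨p, q, hs, h1, h2, h3⟩ := GenSym.good_sym F
  exact ⟨p, q, hs, ⟨h1, h2, h3⟩⟩

theorem out_of [Finite HB] (hcard : Nat.card HB ≤ Nat.card ↥(twistedE6 K 2)) {M : Type*} [Group M]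
    (hcov : Cfsg.IsNonsplitDoubleCover M ↥(twistedE6 K 2)) (α : MulAut ↥(twistedE6 K 2)) (hα : α * α = 1)
    (hn : ∀ g, α ≠ MulAut.conj g) : ∃ w ∈ rootClass K, ∃ N : Subgroup ↥(twistedE6 K 2), N ≤ OQ w ∧
      (∀ x ∈ N, ∀ y ∈ N, x * y = y * x) ∧
      N ≤ Subgroup.closure {x | x ∈ rootClass K ∧ x ∈ N} ∧ (∀ x ∈ N, α x ∈ N) ∧
      ∃ e₁ ∈ N, ∃ e₂ ∈ N, α e₁ ≠ e₁ ∧ α e₂ ≠ e₂ ∧ e₁⁻¹ * α e₁ ≠ e₂⁻¹ * α e₂ := by
  obtain ⟨B, N, h1, h2, h3, h4, -, h6, x, hx, y, hy, h7, h8, h9⟩ := OutMain.exists_abelian F hcard hcov hα hn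
  refine ⟨B (r0 F), OutMain.auto_root F B _ (r0_T F), N, ?_, h3, h6, h4, x, hx, y, hy, ?_, ?_, ?_⟩
  · intro z hz
    obtain ⟨u, hu, rfl⟩ := h1 hz
    exact OQ_map B (r0 F) u (by rw [OQ_r0]; exact hu)
  · intro h
    apply h7
    rw [h, h2 x hx]
  · intro h
    apply h8
    rw [h, h2 y hy]
  · have hi : ∀ z ∈ N, z⁻¹ = z := fun z hz => inv_eq_of_mul_eq_one_left (h2 z hz)
    rw [hi x hx, hi y hy]
    exact h9

/-- **The facts `EF` for `²E₆(2)`.** -/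
theorem ef_tri [Finite HB] (hcard : Nat.card HB ≤ Nat.card ↥(twistedE6 K 2)) {M : Type*} [Group M]
    (hcov : Cfsg.IsNonsplitDoubleCover M ↥(twistedE6 K 2))
    (tri : ∃ p q r, Key.Tri (rootClass K) p q r ∧ GoodR F (p * q * r)) :
    EF (rootClass K) (OQ (E := ↥(twistedE6 K 2))) := by
  have hF : Fintype.card K = 2 ^ 2 := F.card
  exact ef_of F (RootsInst.roots K F.card) (LeviG.rootFacts (K := K) hF hF) (extra_of hF) (OutNorm.center_eq F)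
    (sym_of F) tri (out_of F hcard hcov)

end Four

end Cfsg.Agent.BabyU.KEqE
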