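import Cfsg.Agent.BabyU.FusGood
import Cfsg.Agent.Lib.NormalAbelian

/-!
# S1736(a): normal subgroups of `O_2(C_E(b))` containing no root involution other than `b`
-/

set_option autoImplicit false

namespace Cfsg.Agent.BabyU.KEqE

open Cfsg.Agent.BabyU.FusGood

universe v

variable {E : Type v} [Group E]

/-- the field `irr` at `b` from the flag -/
theorem irr_of_flag [Finite E] {T : Set E} {R S : Subgroup E} {b a c : E} (Fl : Flag T R S b a c)
    (hne : ∀ r ∈ T, r ≠ 1) (hsq : ∀ r ∈ T, r * r = 1) (M : Subgroup E) (hbM : b ∈ M) (hMR : M ≤ R)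
    (hn : ∀ g, g * b = b * g → ∀ m ∈ M, g * m * g⁻¹ ∈ M) (hr : ∀ r ∈ M, r ∈ T → r = b) :
    ∀ m ∈ M, m = 1 ∨ m = b := by
  intro m hm
  by_contra hcon
  push Not at hcon
  obtain ⟨hm1, hmb⟩ := hcon
  have hbb := hsq b Fl.b_mem
  have hbS : b ∈ S := Fl.R_le (hMR hbM)
  have hbi : b⁻¹ = b := inv_eq_of_mul_eq_one_left hbb
  let b' : S := ⟨b, hbS⟩
  have hcen : ∀ y : S, y * b' = b' * y := fun y => Subtype.ext (Fl.S_le y y.2)
  have hzb : ∀ y : S, y ∈ Subgroup.zpowers b' ↔ (y : E) = 1 ∨ (y : E) = b := by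
    intro y
    constructor
    · intro hy
      have h1 : Subgroup.zpowers b' ≤ ({
          carrier := {y : S | (y : E) = 1 ∨ (y : E) = b}
          one_mem' := Or.inl rfl
          mul_mem' := by
            rintro x y (hx | hx) (hy | hy)
            · left; show (x : E) * y = 1; rw [hx, hy, one_mul]
            · right; show (x : E) * y = b; rw [hx, hy, one_mul]
            · right; show (x : E) * y = b; rw [hx, hy, mul_one]
            · left; show (x : E) * y = 1; rw [hx, hy, hbb]
          inv_mem' := by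
            rintro x (hx | hx)
            · left; show (x : E)⁻¹ = 1; rw [hx, inv_one]
            · right; show (x : E)⁻¹ = b; rw [hx, hbi] } : Subgroup S) := by
        rw [Subgroup.zpowers_le]
        exact Or.inr rfl
      exact h1 hy
    · rintro (h | h)
      · have : y = 1 := Subtype.ext h
        rw [this]
        exact Subgroup.one_mem _
      · have : y = b' := Subtype.ext h
        rw [this]
        exact Subgroup.mem_zpowers b'
  have hZn : (Subgroup.zpowers b').Normal := ⟨fun z hz y => by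
    have h1 : y * z * y⁻¹ = z := by
      rcases (hzb z).1 hz with h | h
      · have : z = 1 := Subtype.ext h
        rw [this, mul_one, mul_inv_cancel]
      · have : z = b' := Subtype.ext h
        rw [this, hcen, mul_inv_cancel_right]
    rw [h1]
    exact hz⟩
  have hfin : Finite S := inferInstance
  have hnil : Group.IsNilpotent (S ⧸ Subgroup.zpowers b') :=
    have : Fact (Nat.Prime 2) := ⟨Nat.prime_two⟩
    (Fl.S_two.to_quotient _).isNilpotent
  let N : Subgroup (S ⧸ Subgroup.zpowers b') := (M.subgroupOf S).map (QuotientGroup.mk' _)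
  have hNn : (M.subgroupOf S).Normal := ⟨fun x hx y => hn y (Fl.S_le y y.2) x hx⟩
  have hN : N.Normal := hNn.map _ (QuotientGroup.mk'_surjective _)
  have hNb : N ≠ ⊥ := by
    intro h
    have hmS : m ∈ S := Fl.R_le (hMR hm)
    have h1 : (QuotientGroup.mk' (Subgroup.zpowers b')) ⟨m, hmS⟩ ∈ N := ⟨⟨m, hmS⟩, hm, rfl⟩
    rw [h, Subgroup.mem_bot] at h1
    have h2 : (⟨m, hmS⟩ : S) ∈ Subgroup.zpowers b' := (QuotientGroup.eq_one_iff _).1 h1
    rcases (hzb _).1 h2 with h3 | h3
    · exact hm1 h3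
    · exact hmb h3
  obtain ⟨⟨xb, hxN, hxc⟩, hxb1⟩ :=
    Subgroup.ne_bot_iff_exists_ne_one.1 (Lib.NormalAbelian.normal_inf_center_ne_bot N hNb)
  obtain ⟨x, hxM, rfl⟩ := hxN
  have hx1 : (QuotientGroup.mk' (Subgroup.zpowers b')) x ≠ 1 := fun h => hxb1 (Subtype.ext h)
  have hx : (x : E) ∈ M := hxM
  have hfix : ∀ y ∈ S, y * (x : E) * y⁻¹ = x ∨ y * (x : E) * y⁻¹ = b * x := by
    intro y hy
    have h1 := Subgroup.mem_center_iff.1 hxc ((QuotientGroup.mk' (Subgroup.zpowers b')) ⟨y, hy⟩)
    rw [← map_mul, ← map_mul] at h1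
    have h2 := QuotientGroup.eq.1 h1.symm
    rcases (hzb _).1 h2 with h3 | h3
    · left
      have h4 : (x * ⟨y, hy⟩)⁻¹ * (⟨y, hy⟩ * x) = (1 : S) := Subtype.ext h3
      have h5 := congrArg Subtype.val (inv_mul_eq_one.1 h4)
      have h6 : (x : E) * y = y * x := h5
      rw [← h6, mul_inv_cancel_right]
    · right
      have h4 : ((x : E) * y)⁻¹ * (y * x) = b := h3
      have h5 : y * (x : E) = x * y * b := by rw [← h4]; group
      have h6 := Fl.S_le y hy
      have h7 := Fl.S_le x x.2
      rw [h5]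
      calc (x : E) * y * b * y⁻¹ = x * (y * b) * y⁻¹ := by group
        _ = x * b := by rw [h6]; group
        _ = b * x := h7
  have hcb : c ≠ b := by
    rintro rfl
    exact hne _ Fl.bc hbb
  rcases Fl.c_uni x (hMR hx) hfix with h | h | h | h
  · apply hx1
    exact (QuotientGroup.eq_one_iff _).2 ((hzb x).2 (Or.inl h))
  · apply hx1
    exact (QuotientGroup.eq_one_iff _).2 ((hzb x).2 (Or.inr h))
  · exact hcb (hr c (h ▸ hx) Fl.c_mem)
  · have h1 := hr (b * c) (h ▸ hx) Fl.bc
    exact hne c Fl.c_mem (mul_eq_left.1 h1)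

end Cfsg.Agent.BabyU.KEqE
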