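import Cfsg.Agent.BabyU.KEqEDual

/-!
# S1736(a): `C_G(L) = Z(L)` for a standard subgroup `L = 2.²E₆(2)`: the proof in `G`

`Cx L K t π`: `K` is the centraliser of `L`, `π : L →* E` is onto with kernel `{1, t}`, `L` and `K` are normalised by
`C_G(t)`, `K` is tightly embedded, `L K` has index at most two in `C_G(t)`.
`K_eq`: with the facts `EF T Q` on `E`, if `t` commutes with another conjugate of `t`, then `K = {1, t}`.
-/

set_option autoImplicit false
set_option linter.unusedSectionVars false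

namespace Cfsg.Agent.BabyU.KEqE

open Cfsg.Agent.BabyU.Lab
open scoped commutatorElement

universe u v

variable {G : Type u} [Group G] {E : Type v} [Group E]

/-- product of an element of `L` and an element of `K` -/
def Inn (L K : Subgroup G) (g : G) : Prop := ∃ l ∈ L, ∃ k ∈ K, g = l * k

/-- `g` induces the automorphism `φ` -/
def Ind {L : Subgroup G} (π : L →* E) (g : G) (φ : MulAut E) : Prop :=
  ∀ l l' : L, (l' : G) = g * l * g⁻¹ → π l' = φ (π l)

/-- The situation. -/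
structure Cx (L K : Subgroup G) (t : G) (π : L →* E) : Prop where
  t1 : t ≠ 1
  t2 : t * t = 1
  tL : t ∈ L
  tK : t ∈ K
  LK : ∀ x ∈ L, x ∈ K → x = 1 ∨ x = t
  comm : ∀ l ∈ L, ∀ k ∈ K, l * k = k * l
  surj : Function.Surjective π
  ker : ∀ l : L, π l = 1 ↔ (l : G) = 1 ∨ (l : G) = t
  Lnorm : ∀ g, g * t = t * g → ∀ l ∈ L, g * l * g⁻¹ ∈ L
  Knorm : ∀ g, g * t = t * g → ∀ k ∈ K, g * k * g⁻¹ ∈ K
  act : ∀ g, g * t = t * g → (∀ l l' : L, (l' : G) = g * l * g⁻¹ → π l' = π l) → g ∈ K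
  idx : ∀ g h, g * t = t * g → h * t = t * h → ¬ Inn L K g → ¬ Inn L K h → Inn L K (g * h)
  tight : ∀ h, ¬ h * t = t * h → ∀ x ∈ K, h⁻¹ * x * h ∈ K → Odd (orderOf x)
  core : ∀ N : Subgroup G, N ≤ K → (∀ k ∈ K, ∀ n ∈ N, k * n * k⁻¹ ∈ N) → Odd (Nat.card N) → N = ⊥

namespace Cx

variable {L K : Subgroup G} {t : G} {π : L →* E} (c : Cx L K t π)

include c

theorem ti : t⁻¹ = t := inv_eq_of_mul_eq_one_left c.t2

theorem LC {l : G} (hl : l ∈ L) : l * t = t * l := c.comm l hl t c.tK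

theorem KC {k : G} (hk : k ∈ K) : k * t = t * k := (c.comm t c.tL k hk).symm

theorem cover : Cover π ⟨t, c.tL⟩ := by
  refine ⟨c.surj, fun m => ?_, fun h => c.t1 (congrArg Subtype.val h)⟩
  rw [c.ker]
  constructor
  · rintro (h | h)
    · exact Or.inl (Subtype.ext h)
    · exact Or.inr (Subtype.ext h)
  · rintro (h | h)
    · exact Or.inl (congrArg Subtype.val h)
    · exact Or.inr (congrArg Subtype.val h)

/-! ### Induced automorphisms -/

theorem ind_mul {g h : G} {φ ψ : MulAut E} (hh : h * t = t * h) (h1 : Ind π g φ) (h2 : Ind π h ψ) :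
    Ind π (g * h) (φ * ψ) := by
  intro l l' e
  have hm := c.Lnorm h hh l l.2
  have e1 := h2 l ⟨_, hm⟩ rfl
  have e2 := h1 ⟨_, hm⟩ l' (by rw [e]; group)
  rw [e2, e1]; rfl

theorem ind_inv {g : G} {φ : MulAut E} (h1 : Ind π g φ) : Ind π g⁻¹ φ⁻¹ := by
  intro l l' e
  have e1 := h1 l' l (by rw [e]; group)
  rw [e1, MulAut.inv_apply_self]

theorem ind_L (l : L) : Ind π (l : G) (MulAut.conj (π l)) := by
  intro x x' e
  have : x' = l * x * l⁻¹ := Subtype.ext e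
  rw [this, map_mul, map_mul, map_inv, MulAut.conj_apply]

theorem ind_K {k : G} (hk : k ∈ K) : Ind π k 1 := by
  intro x x' e
  have : x' = x := Subtype.ext (by rw [e, ← c.comm x x.2 k hk]; group)
  rw [this]; rfl

theorem ind_unique {g : G} {φ ψ : MulAut E} (hg : g * t = t * g) (h1 : Ind π g φ) (h2 : Ind π g ψ) : φ = ψ := by
  ext x
  obtain ⟨l, rfl⟩ := c.surj x
  rw [← h1 l ⟨_, c.Lnorm g hg l l.2⟩ rfl, h2 l ⟨_, c.Lnorm g hg l l.2⟩ rfl]

theorem mem_K {g : G} (hg : g * t = t * g) (h : Ind π g 1) : g ∈ K := c.act g hg fun l l' e => h l l' e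

theorem exists_ind {g : G} (hg : g * t = t * g) : ∃ φ : MulAut E, Ind π g φ := by
  have hg' : g⁻¹ * t = t * g⁻¹ := by
    calc g⁻¹ * t = g⁻¹ * (t * g) * g⁻¹ := by group
      _ = g⁻¹ * (g * t) * g⁻¹ := by rw [hg]
      _ = t * g⁻¹ := by group
  let β : L ≃* L :=
    { toFun := fun x => ⟨g * x * g⁻¹, c.Lnorm g hg x x.2⟩
      invFun := fun x => ⟨g⁻¹ * x * g, by
        have := c.Lnorm g⁻¹ hg' x x.2
        rwa [inv_inv] at this⟩
      left_inv := fun x => Subtype.ext (by show g⁻¹ * (g * x * g⁻¹) * g = x; group)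
      right_inv := fun x => Subtype.ext (by show g * (g⁻¹ * x * g) * g⁻¹ = x; group)
      map_mul' := fun x y => Subtype.ext (by show g * (x * y) * g⁻¹ = g * x * g⁻¹ * (g * y * g⁻¹); group) }
  have hβ : ∀ x : L, ((β x : L) : G) = g * x * g⁻¹ := fun x => rfl
  have h1 : π.ker = (π.comp β.toMonoidHom).ker := by
    ext m
    show π m = 1 ↔ π (β m) = 1
    rw [c.ker, c.ker, hβ]
    constructor
    · rintro (h | h)
      · left; rw [h]; group
      · right; rw [h, hg]; group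
    · rintro (h | h)
      · left
        calc (m : G) = g⁻¹ * (g * m * g⁻¹) * g := by group
          _ = 1 := by rw [h]; group
      · right
        calc (m : G) = g⁻¹ * (g * m * g⁻¹) * g := by group
          _ = t := by rw [h, hg']; group
  have h2 : Function.Surjective (π.comp β.toMonoidHom) := c.surj.comp β.surjective
  let θ : E ≃* E := ((QuotientGroup.quotientKerEquivOfSurjective π c.surj).symm.trans
    (QuotientGroup.quotientMulEquivOfEq h1)).trans (QuotientGroup.quotientKerEquivOfSurjective _ h2)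
  have h3 : ∀ m, θ (π m) = π (β m) := by
    intro m
    have h4 : (QuotientGroup.quotientKerEquivOfSurjective π c.surj).symm (π m) = (m : L ⧸ π.ker) := by
      rw [MulEquiv.symm_apply_eq]
      rfl
    show (QuotientGroup.quotientKerEquivOfSurjective _ h2) ((QuotientGroup.quotientMulEquivOfEq h1)
      ((QuotientGroup.quotientKerEquivOfSurjective π c.surj).symm (π m))) = π (β m)
    rw [h4]
    rfl
  refine ⟨θ, fun l l' e => ?_⟩
  rw [h3]
  congr 1
  exact Subtype.ext e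

/-! ### Inner elements -/

theorem inn_mul {g h : G} (hg : Inn L K g) (hh : Inn L K h) : Inn L K (g * h) := by
  obtain ⟨l, hl, k, hk, rfl⟩ := hg
  obtain ⟨l', hl', k', hk', rfl⟩ := hh
  refine ⟨l * l', L.mul_mem hl hl', k * k', K.mul_mem hk hk', ?_⟩
  calc l * k * (l' * k') = l * (k * l') * k' := by group
    _ = l * (l' * k) * k' := by rw [c.comm l' hl' k hk]
    _ = _ := by group

theorem inn_inv {g : G} (hg : Inn L K g) : Inn L K g⁻¹ := by
  obtain ⟨l, hl, k, hk, rfl⟩ := hg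
  refine ⟨l⁻¹, L.inv_mem hl, k⁻¹, K.inv_mem hk, ?_⟩
  rw [c.comm l hl k hk, mul_inv_rev]

theorem inn_conj {x g : G} (hx : x * t = t * x) (hg : Inn L K g) : Inn L K (x * g * x⁻¹) := by
  obtain ⟨l, hl, k, hk, rfl⟩ := hg
  exact ⟨_, c.Lnorm x hx l hl, _, c.Knorm x hx k hk, by group⟩

theorem inn_comm {g h : G} (hg : g * t = t * g) (hh : h * t = t * h) : Inn L K (g * h * g⁻¹ * h⁻¹) := by
  by_cases h1 : Inn L K g
  · have h2 := c.inn_mul h1 (c.inn_conj hh (c.inn_inv h1))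
    rw [show g * h * g⁻¹ * h⁻¹ = g * (h * g⁻¹ * h⁻¹) by group]
    exact h2
  by_cases h2 : Inn L K h
  · exact c.inn_mul (c.inn_conj hg h2) (c.inn_inv h2)
  have hg' : g⁻¹ * t = t * g⁻¹ := by
    rw [inv_mul_eq_iff_eq_mul, ← mul_assoc, hg, mul_inv_cancel_right]
  have hh' : h⁻¹ * t = t * h⁻¹ := by
    rw [inv_mul_eq_iff_eq_mul, ← mul_assoc, hh, mul_inv_cancel_right]
  have h3 := c.idx g h hg hh h1 h2
  have h4 := c.idx g⁻¹ h⁻¹ hg' hh' (fun h => h1 (by simpa using c.inn_inv h)) (fun h => h2 (by simpa using c.inn_inv h))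
  rw [show g * h * g⁻¹ * h⁻¹ = g * h * (g⁻¹ * h⁻¹) by group]
  exact c.inn_mul h3 h4

/-- an involution of `K` is centralised only by elements of the centraliser of `t` -/
theorem cent [Finite G] {v : G} (hv : v ∈ K) (hv2 : v * v = 1) (hv1 : v ≠ 1) {g : G} (hg : g * v = v * g) :
    g * t = t * g := by
  by_contra hn
  have h1 := c.tight g hn v hv (by rw [mul_assoc, ← hg, ← mul_assoc, inv_mul_cancel, one_mul]; exact hv)
  have h2 : orderOf v = 2 := by
    apply orderOf_eq_prime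
    · rw [sq, hv2]
    · exact hv1
  rw [h2] at h1
  exact absurd h1 (by decide)

/-- the automorphisms induced by `K^h ∩ C(t)` -/
def AA (h : G) : Subgroup (MulAut E) where
  carrier := {φ | ∃ x, x * t = t * x ∧ h⁻¹ * x * h ∈ K ∧ Ind π x φ}
  one_mem' := ⟨1, by group, by rw [show h⁻¹ * 1 * h = 1 by group]; exact K.one_mem, c.ind_K K.one_mem⟩
  mul_mem' := by
    rintro φ ψ ⟨x, hx, hx', hxi⟩ ⟨y, hy, hy', hyi⟩
    refine ⟨x * y, ?_, ?_, c.ind_mul hy hxi hyi⟩
    · rw [mul_assoc, hy, ← mul_assoc, hx, mul_assoc]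
    · rw [show h⁻¹ * (x * y) * h = (h⁻¹ * x * h) * (h⁻¹ * y * h) by group]
      exact K.mul_mem hx' hy'
  inv_mem' := by
    rintro φ ⟨x, hx, hx', hxi⟩
    refine ⟨x⁻¹, ?_, ?_, c.ind_inv hxi⟩
    · rw [inv_mul_eq_iff_eq_mul, ← mul_assoc, hx, mul_inv_cancel_right]
    · rw [show h⁻¹ * x⁻¹ * h = (h⁻¹ * x * h)⁻¹ by group]
      exact K.inv_mem hx'

end Cx

/-! ### The pair `t`, `t₁ = h t h⁻¹ = l k` -/

/-- `t₁ = h t h⁻¹ = l k` commutes with `t` and is different from `t`. -/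
structure Pair (L K : Subgroup G) (t h l k : G) : Prop where
  hl : l ∈ L
  hk : k ∈ K
  eq : h * t * h⁻¹ = l * k
  ne : h * t * h⁻¹ ≠ t
  cm : h * t * h⁻¹ * t = t * (h * t * h⁻¹)

section pair

variable {L K : Subgroup G} {t : G} {π : L →* E} (c : Cx L K t π) {h l k : G} (p : Pair L K t h l k)

include c p

theorem Pair.not_comm : ¬ h * t = t * h := by
  intro h1
  apply p.ne
  rw [h1, mul_inv_cancel_right]

theorem Pair.sq : h * t * h⁻¹ * (h * t * h⁻¹) = 1 := by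
  calc h * t * h⁻¹ * (h * t * h⁻¹) = h * (t * t) * h⁻¹ := by group
    _ = 1 := by rw [c.t2]; group

theorem Pair.ll : l * l = 1 ∨ l * l = t := by
  apply c.LK _ (L.mul_mem p.hl p.hl)
  have h1 := Pair.sq c p
  rw [p.eq] at h1
  have h2 : (l * l) * (k * k) = 1 := by
    calc (l * l) * (k * k) = l * (l * k) * k := by group
      _ = l * (k * l) * k := by rw [c.comm l p.hl k p.hk]
      _ = (l * k) * (l * k) := by group
      _ = 1 := h1
  rw [eq_inv_of_mul_eq_one_left h2]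
  exact K.inv_mem (K.mul_mem p.hk p.hk)

theorem Pair.bb : π ⟨l, p.hl⟩ * π ⟨l, p.hl⟩ = 1 := by
  rw [← map_mul, c.ker]
  exact Pair.ll c p

theorem Pair.b1 [Finite G] : π ⟨l, p.hl⟩ ≠ 1 := by
  intro h1
  have h2 : h * t * h⁻¹ ∈ K := by
    rw [p.eq]
    rcases (c.ker _).1 h1 with h3 | h3
    · have : l = 1 := h3
      rw [this, one_mul]; exact p.hk
    · have : l = t := h3
      rw [this]; exact K.mul_mem c.tK p.hk
  have h3 := c.tight h (Pair.not_comm c p) _ h2 (by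
    rw [show h⁻¹ * (h * t * h⁻¹) * h = t by group]; exact c.tK)
  have h4 : orderOf (h * t * h⁻¹) = 2 := by
    apply orderOf_eq_prime
    · rw [_root_.sq, Pair.sq c p]
    · intro h5
      apply c.t1
      calc t = h⁻¹ * (h * t * h⁻¹) * h := by group
        _ = 1 := by rw [h5]; group
  rw [h4] at h3
  exact absurd h3 (by decide)

/-- elements of `L` commuting with `l` commute with `t₁` -/
theorem Pair.comm_of {m : G} (hm : m ∈ L) (h1 : m * l = l * m) : m * (h * t * h⁻¹) = h * t * h⁻¹ * m := by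
  rw [p.eq, ← mul_assoc, h1, mul_assoc, c.comm m hm k p.hk, mul_assoc]

theorem Pair.of_comm {m : G} (hm : m ∈ L) (h1 : m * (h * t * h⁻¹) = h * t * h⁻¹ * m) : m * l = l * m := by
  rw [p.eq, ← mul_assoc, mul_assoc l k m, ← c.comm m hm k p.hk, ← mul_assoc] at h1
  exact mul_right_cancel h1

theorem Pair.back {m : G} (h1 : m * (h * t * h⁻¹) = h * t * h⁻¹ * m) : h⁻¹ * m * h * t = t * (h⁻¹ * m * h) := by
  calc h⁻¹ * m * h * t = h⁻¹ * (m * (h * t * h⁻¹)) * h := by group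
    _ = h⁻¹ * ((h * t * h⁻¹) * m) * h := by rw [h1]
    _ = t * (h⁻¹ * m * h) := by group

theorem Pair.forth {x : G} (hx : h⁻¹ * x * h * t = t * (h⁻¹ * x * h)) :
    x * (h * t * h⁻¹) = h * t * h⁻¹ * x := by
  calc x * (h * t * h⁻¹) = h * (h⁻¹ * x * h * t) * h⁻¹ := by group
    _ = h * (t * (h⁻¹ * x * h)) * h⁻¹ := by rw [hx]
    _ = _ := by group

/-- `t₁` induces the conjugation by `b` -/
theorem Pair.ind_t1 : Ind π (h * t * h⁻¹) (MulAut.conj (π ⟨l, p.hl⟩)) := by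
  rw [p.eq]
  have := c.ind_mul (c.KC p.hk) (c.ind_L ⟨l, p.hl⟩) (c.ind_K p.hk)
  rwa [mul_one] at this

theorem Pair.fix {φ : MulAut E} (hφ : φ ∈ c.AA h) : φ (π ⟨l, p.hl⟩) = π ⟨l, p.hl⟩ := by
  obtain ⟨x, hx, hx', hxi⟩ := hφ
  have hl' := c.Lnorm x hx l p.hl
  have hk' := c.Knorm x hx k p.hk
  rw [← hxi ⟨l, p.hl⟩ ⟨_, hl'⟩ rfl]
  have h1 : x * (h * t * h⁻¹) = h * t * h⁻¹ * x := Pair.forth c p (c.KC hx')
  rw [p.eq] at h1
  have h2 : (x * l * x⁻¹) * (x * k * x⁻¹) = l * k := by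
    calc (x * l * x⁻¹) * (x * k * x⁻¹) = x * (l * k) * x⁻¹ := by group
      _ = l * k := by rw [h1]; group
  have h3 : l⁻¹ * (x * l * x⁻¹) = k * (x * k * x⁻¹)⁻¹ := by
    rw [inv_mul_eq_iff_eq_mul, ← mul_assoc, ← h2, mul_inv_cancel_right]
  have h4 := c.LK (l⁻¹ * (x * l * x⁻¹)) (L.mul_mem (L.inv_mem p.hl) hl') (by
    rw [h3]; exact K.mul_mem p.hk (K.inv_mem hk'))
  have h5 : π (⟨l, p.hl⟩⁻¹ * ⟨x * l * x⁻¹, hl'⟩) = 1 := (c.ker _).2 h4
  rw [map_mul, map_inv, inv_mul_eq_one] at h5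
  exact h5.symm

theorem Pair.conj_mem {m : L} (hm : (m : G) * l = l * m) {φ : MulAut E} (hφ : φ ∈ c.AA h) :
    MulAut.conj (π m) * φ * (MulAut.conj (π m))⁻¹ ∈ c.AA h := by
  obtain ⟨x, hx, hx', hxi⟩ := hφ
  have hmt := c.LC m.2
  have hmt' : (m : G)⁻¹ * t = t * (m : G)⁻¹ := by
    rw [inv_mul_eq_iff_eq_mul, ← mul_assoc, hmt, mul_inv_cancel_right]
  refine ⟨m * x * (m : G)⁻¹, ?_, ?_, ?_⟩
  · calc m * x * (m : G)⁻¹ * t = m * x * ((m : G)⁻¹ * t) := by group
      _ = m * (x * t) * (m : G)⁻¹ := by rw [hmt']; group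
      _ = (m * t) * x * (m : G)⁻¹ := by rw [hx]; group
      _ = t * (m * x * (m : G)⁻¹) := by rw [hmt]; group
  · have h1 := c.Knorm _ (Pair.back c p (Pair.comm_of c p m.2 hm)) _ hx'
    rw [show h⁻¹ * (m * x * (m : G)⁻¹) * h = h⁻¹ * m * h * (h⁻¹ * x * h) * (h⁻¹ * m * h)⁻¹ by group]
    exact h1
  · exact c.ind_mul hmt' (c.ind_mul hx (c.ind_L m) hxi) (c.ind_inv (c.ind_L m))

theorem Pair.b_mem : MulAut.conj (π ⟨l, p.hl⟩) ∈ c.AA h :=
  ⟨h * t * h⁻¹, p.cm, by rw [show h⁻¹ * (h * t * h⁻¹) * h = t by group]; exact c.tK, Pair.ind_t1 c p⟩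

variable {T : Set E} {Q : E → Subgroup E} (F : EF T Q)

include F

/-- **(D)** -/
theorem Pair.root [Finite G] {r : E} (hr : r ∈ T) (hA : MulAut.conj r ∈ c.AA h) : r = π ⟨l, p.hl⟩ := by
  obtain ⟨x0, hx0, hx0', hx0i⟩ := hA
  set W : L := w π T r with hW
  have hπW : π W = r := map_w c.cover F.roots hr
  have hrr := F.roots.sq r hr
  have hri : r⁻¹ = r := inv_eq_of_mul_eq_one_left hrr
  have hWt := c.LC W.2
  have hWt' : (W : G)⁻¹ * t = t * (W : G)⁻¹ := by
    rw [inv_mul_eq_iff_eq_mul, ← mul_assoc, hWt, mul_inv_cancel_right]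
  -- elements inducing `conj r` are `W κ`
  have key : ∀ x, x * t = t * x → Ind π x (MulAut.conj r) → (W : G)⁻¹ * x ∈ K := by
    intro x hx hxi
    apply c.mem_K
    · rw [mul_assoc, hx, ← mul_assoc, hWt', mul_assoc]
    · have := c.ind_mul hx (c.ind_inv (c.ind_L W)) hxi
      rwa [hπW, inv_mul_cancel] at this
  have hWW : (W : G) * W = 1 := by
    have := w_sq c.cover F.roots hr
    exact congrArg Subtype.val this
  -- an involution
  have hsq : x0 * x0 ∈ K := by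
    have h1 := key x0 hx0 hx0i
    have h2 := c.comm W W.2 _ h1
    have h3 : x0 * x0 = ((W : G)⁻¹ * x0) * ((W : G)⁻¹ * x0) := by
      have h4 : x0 = W * ((W : G)⁻¹ * x0) := by group
      calc x0 * x0 = W * ((W : G)⁻¹ * x0) * (W * ((W : G)⁻¹ * x0)) := by rw [← h4]
        _ = W * (((W : G)⁻¹ * x0) * W) * ((W : G)⁻¹ * x0) := by group
        _ = (W * W) * (((W : G)⁻¹ * x0) * ((W : G)⁻¹ * x0)) := by rw [← h2]; group
        _ = _ := by rw [hWW, one_mul]
    rw [h3]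
    exact K.mul_mem h1 h1
  have hodd : Odd (orderOf (x0 * x0)) := by
    apply c.tight h (Pair.not_comm c p) _ hsq
    rw [show h⁻¹ * (x0 * x0) * h = (h⁻¹ * x0 * h) * (h⁻¹ * x0 * h) by group]
    exact K.mul_mem hx0' hx0'
  obtain ⟨j, hj⟩ := hodd
  obtain ⟨x, hx, hx', hxi, hxx⟩ : ∃ x, x * t = t * x ∧ h⁻¹ * x * h ∈ K ∧ Ind π x (MulAut.conj r) ∧ x * x = 1 := by
    refine ⟨x0 ^ (2 * j + 1), ?_, ?_, ?_, ?_⟩
    · exact (show Commute x0 t from hx0).pow_left _
    · have : h⁻¹ * x0 ^ (2 * j + 1) * h = (h⁻¹ * x0 * h) ^ (2 * j + 1) := by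
        have := conj_pow (i := 2 * j + 1) (a := h⁻¹) (b := x0)
        rw [inv_inv] at this
        exact this.symm
      rw [this]
      exact K.pow_mem hx0' _
    · have h1 : ∀ n : ℕ, Ind π (x0 ^ n) (MulAut.conj r ^ n) := by
        intro n
        induction n with
        | zero => rw [pow_zero, pow_zero]; exact c.ind_K K.one_mem
        | succ n ih => rw [pow_succ, pow_succ]; exact c.ind_mul hx0 ih hx0i
      have h2 := h1 (2 * j + 1)
      have h3 : MulAut.conj r ^ (2 * j + 1) = MulAut.conj r := by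
        rw [pow_succ, pow_mul, pow_two, ← map_mul, hrr, map_one, one_pow, one_mul]
      rwa [h3] at h2
    · rw [← pow_two, ← pow_mul, mul_comm, pow_mul, pow_two, ← hj, pow_orderOf_eq_one]
  have hx1 : x ≠ 1 := by
    intro h1
    rw [h1] at hxi
    have h2 := c.ind_unique (by group) hxi (c.ind_K K.one_mem)
    exact F.roots.ne_one r hr (F.conj_eq_one h2)
  have hκ := key x hx hxi
  -- roots commuting with `r` commute with `b`
  have h1 : ∀ s ∈ T, s * r = r * s → s * π ⟨l, p.hl⟩ = π ⟨l, p.hl⟩ * s := by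
    intro s hs hsr
    set S : L := w π T s with hS
    have hπS : π S = s := map_w c.cover F.roots hs
    have h2 : (S : G) * W = W * S := congrArg Subtype.val (w_comm c.cover F.roots hs hr hsr)
    have h3 : (S : G) * x = x * S := by
      have h4 : x = W * ((W : G)⁻¹ * x) := by group
      rw [h4]
      calc (S : G) * (W * ((W : G)⁻¹ * x)) = (S * W) * ((W : G)⁻¹ * x) := by group
        _ = W * (S * ((W : G)⁻¹ * x)) := by rw [h2]; group
        _ = W * (((W : G)⁻¹ * x) * S) := by rw [c.comm S S.2 _ hκ]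
        _ = _ := by group
    have h5 : h⁻¹ * S * h * (h⁻¹ * x * h) = h⁻¹ * x * h * (h⁻¹ * S * h) := by
      calc h⁻¹ * S * h * (h⁻¹ * x * h) = h⁻¹ * (S * x) * h := by group
        _ = h⁻¹ * (x * S) * h := by rw [h3]
        _ = _ := by group
    have h6 := c.cent hx' (by
      calc h⁻¹ * x * h * (h⁻¹ * x * h) = h⁻¹ * (x * x) * h := by group
        _ = 1 := by rw [hxx]; group) (by
      intro h7
      apply hx1
      calc x = h * (h⁻¹ * x * h) * h⁻¹ := by group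
        _ = 1 := by rw [h7]; group) h5
    have h7 : (S : G) * l = l * S := Pair.of_comm c p S.2 (Pair.forth c p h6)
    have h8 : S * ⟨l, p.hl⟩ = ⟨l, p.hl⟩ * S := Subtype.ext h7
    rw [← hπS, ← map_mul, h8, map_mul]
  have h2 : ∀ y ∈ Q r, π ⟨l, p.hl⟩ * y = y * π ⟨l, p.hl⟩ := by
    have h3 : Subgroup.closure {x | x ∈ T ∧ x ∈ Q r} ≤ Subgroup.centralizer {π ⟨l, p.hl⟩} := by
      rw [Subgroup.closure_le]
      rintro s ⟨hs, hs'⟩
      exact Subgroup.mem_centralizer_singleton_iff.2 (h1 s hs (F.w_comm hr hs').symm)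
    intro y hy
    exact (Subgroup.mem_centralizer_singleton_iff.1 (h3 (F.Qgen r hr hy))).symm
  rcases F.zQ hr h2 with h3 | h3
  · exact absurd h3 (Pair.b1 c p)
  · exact h3.symm

/-- the automorphisms of two-power order are trivial or the conjugation by `b` -/
theorem Pair.two [Finite G] [Finite E] {φ : MulAut E} (hφ : φ ∈ c.AA h) {n : ℕ} (hn : φ ^ 2 ^ n = 1) :
    φ = 1 ∨ φ = MulAut.conj (π ⟨l, p.hl⟩) := by
  have hlift : ∀ g : E, g ∈ T → g * π ⟨l, p.hl⟩ = π ⟨l, p.hl⟩ * g → ∃ m : L, π m = g ∧ (m : G) * l = l * m := by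
    intro g hg hgb
    obtain ⟨m, rfl⟩ := c.surj g
    exact ⟨m, rfl, congrArg Subtype.val (commute_lift c.cover F.roots (x := m) (y := ⟨l, p.hl⟩) hg hgb)⟩
  by_cases hb : π ⟨l, p.hl⟩ ∈ T
  · refine F.root_end hb (c.AA h) (fun a ha => Pair.fix c p ha) (Pair.b_mem c p) ?_
      (fun r hr hrA => Pair.root c p F hr hrA) φ hφ
    intro g hg a ha
    obtain ⟨m, rfl⟩ := c.surj g
    have h1 : (⟨l, p.hl⟩ : L) * m = m * ⟨l, p.hl⟩ := commute_lift c.cover F.roots hb hg.symm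
    exact Pair.conj_mem c p (congrArg Subtype.val h1).symm ha
  · obtain ⟨w', W, hφw⟩ := F.exists_fixed (Pair.bb c p) (Pair.b1 c p) hb φ (Pair.fix c p hφ) hn
    have hwb := F.w_comm W.wT W.bQ
    have hbw : π ⟨l, p.hl⟩ ≠ w' := fun h1 => hb (h1 ▸ W.wT)
    have hbA := Pair.b_mem c p
    have hbb := Pair.bb c p
    have hwA : MulAut.conj w' ∉ c.AA h := fun h1 => hbw (Pair.root c p F W.wT h1).symm
    have hbwA : MulAut.conj (π ⟨l, p.hl⟩ * w') ∉ c.AA h := by
      intro h1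
      apply hwA
      have h2 := (c.AA h).mul_mem hbA h1
      rwa [← map_mul, ← mul_assoc, hbb, one_mul] at h2
    -- elements of `Q w` inducing an element of `A`
    have hgenA : ∀ q ∈ Q w', MulAut.conj q ∈ c.AA h → q = 1 ∨ q = π ⟨l, p.hl⟩ := by
      intro q hq hqA
      have h1 : ∀ y ∈ T, y ∈ Q w' → y * π ⟨l, p.hl⟩ = π ⟨l, p.hl⟩ * y → y * q = q * y := by
        intro y hy hyQ hyb
        obtain ⟨m, rfl, hm⟩ := hlift y hy hyb
        rcases F.dich W.wT hyQ hq with h2 | h2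
        · exact h2
        · exfalso
          have h3 := (c.AA h).mul_mem (Pair.conj_mem c p hm hqA) ((c.AA h).inv_mem hqA)
          have h4 : π m * q * (π m)⁻¹ * q⁻¹ = w' := by
            rw [h2]; group
          apply hwA
          rw [← h4, map_mul, map_mul, map_mul, map_inv, map_inv]
          exact h3
      have hqb : q * π ⟨l, p.hl⟩ = π ⟨l, p.hl⟩ * q := by
        have := Pair.fix c p hqA
        rw [MulAut.conj_apply] at this
        exact mul_inv_eq_iff_eq_mul.1 this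
      have h2 : ∀ x ∈ Q w', x * π ⟨l, p.hl⟩ = π ⟨l, p.hl⟩ * x → x * q = q * x := by
        intro x hx hxb
        have h3 : Subgroup.closure ({y | y ∈ T ∧ y ∈ Q w' ∧ y * π ⟨l, p.hl⟩ = π ⟨l, p.hl⟩ * y ∧
            y * π ⟨l, p.hl⟩ ∉ T} ∪ {π ⟨l, p.hl⟩, w'}) ≤ Subgroup.centralizer {q} := by
          rw [Subgroup.closure_le]
          rintro y (⟨hy1, hy2, hy3, hy4⟩ | hy)
          · exact Subgroup.mem_centralizer_singleton_iff.2 (h1 y hy1 hy2 hy3)
          · rcases hy with rfl | hy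
            · exact Subgroup.mem_centralizer_singleton_iff.2 hqb.symm
            · rw [Set.mem_singleton_iff.1 hy]
              exact Subgroup.mem_centralizer_singleton_iff.2 (F.w_comm W.wT hq)
        exact Subgroup.mem_centralizer_singleton_iff.1 (h3 (W.gen x hx hxb))
      rcases F.cc W.wT W.bQ (Pair.b1 c p) hbw hq h2 with h3 | h3 | h3 | h3
      · exact Or.inl h3
      · exact absurd (h3 ▸ hqA) hwA
      · exact Or.inr h3
      · exact absurd (h3 ▸ hqA) hbwA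
    -- `φ` fixes the roots
    have hfix : ∀ y ∈ T, y ∈ Q w' → y * π ⟨l, p.hl⟩ = π ⟨l, p.hl⟩ * y → y * π ⟨l, p.hl⟩ ∉ T → φ y = y := by
      intro y hy hyQ hyb hyT
      obtain ⟨m, rfl, hm⟩ := hlift y hy hyb
      have hφQ : φ (π m) ∈ Q w' := by
        have := F.Qaut φ w' W.wT _ hyQ
        rwa [hφw] at this
      have h3 : MulAut.conj (φ (π m) * (π m)⁻¹) ∈ c.AA h := by
        have h4 : MulAut.conj (φ (π m)) = φ * MulAut.conj (π m) * φ⁻¹ := by
          ext y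
          simp [MulAut.mul_apply, MulAut.conj_apply]
        rw [map_mul, h4, map_inv]
        have h5 : φ * MulAut.conj (π m) * φ⁻¹ * (MulAut.conj (π m))⁻¹ =
            φ * (MulAut.conj (π m) * φ⁻¹ * (MulAut.conj (π m))⁻¹) := by group
        rw [h5]
        exact (c.AA h).mul_mem hφ (Pair.conj_mem c p hm ((c.AA h).inv_mem hφ))
      rcases hgenA _ ((Q w').mul_mem hφQ ((Q w').inv_mem hyQ)) h3 with h4 | h4
      · exact mul_inv_eq_one.1 h4
      · exfalso
        apply hyT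
        rw [hyb, ← mul_inv_eq_iff_eq_mul.1 h4]
        exact F.aut φ _ hy
    have h1 := F.tv W.wT W.bQ hbb (Pair.b1 c p) hbw φ hφw (by
      intro x hx hxb
      have h3 : Subgroup.closure ({y | y ∈ T ∧ y ∈ Q w' ∧ y * π ⟨l, p.hl⟩ = π ⟨l, p.hl⟩ * y ∧
          y * π ⟨l, p.hl⟩ ∉ T} ∪ {π ⟨l, p.hl⟩, w'}) ≤ φ.toMonoidHom.eqLocus (MonoidHom.id E) := by
        rw [Subgroup.closure_le]
        rintro y (⟨hy1, hy2, hy3, hy4⟩ | hy)
        · exact hfix y hy1 hy2 hy3 hy4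
        · rcases hy with rfl | hy
          · exact Pair.fix c p hφ
          · rw [Set.mem_singleton_iff.1 hy]
            exact hφw
      exact h3 (W.gen x hx hxb))
    rcases h1 with h2 | h2 | h2 | h2
    · exact Or.inl h2
    · exact Or.inr h2
    · exact absurd (h2 ▸ hφ) hwA
    · exact absurd (h2 ▸ hφ) hbwA

/-- **The two-elements of `K^h ∩ C(t)`.** -/
theorem Pair.main [Finite G] [Finite E] {x : G} (hx : x * t = t * x) (hx' : h⁻¹ * x * h ∈ K) {n : ℕ}
    (hn : x ^ 2 ^ n = 1) : x = 1 ∨ x = h * t * h⁻¹ := by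
  obtain ⟨φ, hφ⟩ := c.exists_ind hx
  have hpow : ∀ m : ℕ, Ind π (x ^ m) (φ ^ m) := by
    intro m
    induction m with
    | zero => rw [pow_zero, pow_zero]; exact c.ind_K K.one_mem
    | succ m ih => rw [pow_succ, pow_succ]; exact c.ind_mul hx ih hφ
  have hφn : φ ^ 2 ^ n = 1 := by
    have h1 := hpow (2 ^ n)
    rw [hn] at h1
    exact c.ind_unique (by group) h1 (c.ind_K K.one_mem)
  have hodd : ∀ y : G, y ∈ K → h⁻¹ * y * h ∈ K → ∀ m : ℕ, y ^ 2 ^ m = 1 → y = 1 := by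
    intro y hy hy' m hm
    have h1 := c.tight h (Pair.not_comm c p) y hy hy'
    have h2 : orderOf y ∣ 2 ^ m := orderOf_dvd_of_pow_eq_one hm
    have h3 : (orderOf y).Coprime (2 ^ m) := Nat.Coprime.pow_right m (Nat.coprime_two_right.mpr h1)
    rw [← orderOf_eq_one_iff]
    exact Nat.eq_one_of_dvd_coprimes h3 dvd_rfl h2
  rcases Pair.two c p F ⟨x, hx, hx', hφ⟩ hφn with h1 | h1
  · left
    exact hodd x (c.mem_K hx (h1 ▸ hφ)) hx' n hn
  · right
    have hxt : x * (h * t * h⁻¹) = h * t * h⁻¹ * x := Pair.forth c p (c.KC hx')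
    have h2 : x * (h * t * h⁻¹) ∈ K := by
      apply c.mem_K
      · rw [mul_assoc, p.cm, ← mul_assoc, hx, mul_assoc]
      · have h3 := c.ind_mul p.cm (h1 ▸ hφ) (Pair.ind_t1 c p)
        rwa [← map_mul, Pair.bb c p, map_one] at h3
    have h3 : h⁻¹ * (x * (h * t * h⁻¹)) * h ∈ K := by
      rw [show h⁻¹ * (x * (h * t * h⁻¹)) * h = (h⁻¹ * x * h) * t by group]
      exact K.mul_mem hx' c.tK
    have h4 := hodd _ h2 h3 (n + 1) (by
      have h5 : Commute x (h * t * h⁻¹) := hxt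
      rw [h5.mul_pow, pow_succ, pow_mul, hn, one_pow, one_mul, mul_comm (2 ^ n) 2, pow_mul, pow_two, Pair.sq c p,
        one_pow])
    rw [eq_inv_of_mul_eq_one_left h4]
    exact inv_eq_of_mul_eq_one_left (Pair.sq c p)

end pair

/-! ### Mutually inner pairs -/

section swap

variable {L K : Subgroup G} {t : G} {π : L →* E} (c : Cx L K t π)

include c

/-- Swapping `t₁ = h t h⁻¹` and `t₁ u` by `q` gives a mutually inner pair. -/
theorem swap_pair {h q u : G} (hq : q * (h * t * h⁻¹) * q⁻¹ = h * t * h⁻¹ * u) (hu1 : u ≠ 1) (huu : u * u = 1)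
    (hqu : q * u = u * q) (hut : u * (h * t * h⁻¹) = h * t * h⁻¹ * u) (hI : Inn L K (h⁻¹ * u * h)) :
    ∃ g : G, g * t * g⁻¹ ≠ t ∧ g * t * g⁻¹ * t = t * (g * t * g⁻¹) ∧ Inn L K (g * t * g⁻¹) ∧
      Inn L K (g⁻¹ * t * g) := by
  have e1 : h⁻¹ * q * h * t * (h⁻¹ * q * h)⁻¹ = t * (h⁻¹ * u * h) := by
    calc h⁻¹ * q * h * t * (h⁻¹ * q * h)⁻¹ = h⁻¹ * (q * (h * t * h⁻¹) * q⁻¹) * h := by group
      _ = h⁻¹ * (h * t * h⁻¹ * u) * h := by rw [hq]
      _ = _ := by group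
  have hIt : Inn L K t := ⟨t, c.tL, 1, K.one_mem, by group⟩
  have hut' : h⁻¹ * u * h * t = t * (h⁻¹ * u * h) := by
    calc h⁻¹ * u * h * t = h⁻¹ * (u * (h * t * h⁻¹)) * h := by group
      _ = h⁻¹ * (h * t * h⁻¹ * u) * h := by rw [hut]
      _ = _ := by group
  have e2 : q⁻¹ * (h * t * h⁻¹) * q = h * t * h⁻¹ * u := by
    have h1 : q⁻¹ * (h * t * h⁻¹) * q * u = h * t * h⁻¹ := by
      calc q⁻¹ * (h * t * h⁻¹) * q * u = q⁻¹ * (h * t * h⁻¹) * (q * u) := by group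
        _ = q⁻¹ * ((h * t * h⁻¹) * u) * q := by rw [hqu]; group
        _ = q⁻¹ * (q * (h * t * h⁻¹) * q⁻¹) * q := by rw [hq]
        _ = _ := by group
    calc q⁻¹ * (h * t * h⁻¹) * q = q⁻¹ * (h * t * h⁻¹) * q * (u * u) := by rw [huu, mul_one]
      _ = (q⁻¹ * (h * t * h⁻¹) * q * u) * u := by group
      _ = _ := by rw [h1]
  have e3 : (h⁻¹ * q * h)⁻¹ * t * (h⁻¹ * q * h) = t * (h⁻¹ * u * h) := by
    calc (h⁻¹ * q * h)⁻¹ * t * (h⁻¹ * q * h) = h⁻¹ * (q⁻¹ * (h * t * h⁻¹) * q) * h := by group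
      _ = h⁻¹ * (h * t * h⁻¹ * u) * h := by rw [e2]
      _ = _ := by group
  refine ⟨h⁻¹ * q * h, ?_, ?_, ?_, ?_⟩
  · rw [e1]
    intro h1
    apply hu1
    have h2 : h⁻¹ * u * h = 1 := mul_eq_left.1 h1
    calc u = h * (h⁻¹ * u * h) * h⁻¹ := by group
      _ = 1 := by rw [h2]; group
  · rw [e1, mul_assoc, hut']
  · rw [e1]; exact c.inn_mul hIt hI
  · rw [e3]; exact c.inn_mul hIt hI

variable {T : Set E} {Q : E → Subgroup E} (F : EF T Q)

include F

/-- commutators of lifts of elements of `Q w` -/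
theorem comm_Q {w' : E} (hw : w' ∈ T) {x y : L} (hx : π x ∈ Q w') (hy : π y ∈ Q w') :
    ⁅x, y⁆ = 1 ∨ ⁅x, y⁆ = w π T w' := by
  set W : L := w π T w' with hW
  have hπW : π W = w' := map_w c.cover F.roots hw
  have hWW : W * W = 1 := w_sq c.cover F.roots hw
  have hWi : W⁻¹ = W := inv_eq_of_mul_eq_one_left hWW
  have hcen : ∀ z : L, π z ∈ Q w' → W * z = z * W := by
    intro z hz
    apply commute_lift c.cover F.roots
    · rw [hπW]; exact hw
    · rw [hπW]; exact F.w_comm hw hz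
  -- the subgroup of the elements whose lifts have good commutators with the lifts of elements of `S`
  have hsub : ∀ S : Set E, (∀ s ∈ S, s ∈ Q w') →
      (∀ s ∈ S, ∀ r ∈ T, r ∈ Q w' → ∀ a b : L, π a = s → π b = r → ⁅a, b⁆ = 1 ∨ ⁅a, b⁆ = W) →
      ∀ s ∈ S, ∀ r ∈ Q w', ∀ a b : L, π a = s → π b = r → ⁅a, b⁆ = 1 ∨ ⁅a, b⁆ = W := by
    intro S hS hST s hs r hr
    have h1 : Subgroup.closure {x | x ∈ T ∧ x ∈ Q w'} ≤ ({
        carrier := {r | r ∈ Q w' ∧ ∀ a b : L, π a = s → π b = r → ⁅a, b⁆ = 1 ∨ ⁅a, b⁆ = W}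
        one_mem' := by
          refine ⟨(Q w').one_mem, fun a b ha hb => ?_⟩
          left
          rw [commutatorElement_eq_one_iff_mul_comm]
          rcases (c.cover.ker b).1 hb with rfl | rfl
          · rw [one_mul, mul_one]
          · exact c.cover.central a
        mul_mem' := by
          rintro r1 r2 ⟨hr1, h1⟩ ⟨hr2, h2⟩
          refine ⟨(Q w').mul_mem hr1 hr2, fun a b ha hb => ?_⟩
          obtain ⟨b1, rfl⟩ := c.surj r1
          obtain ⟨b2, rfl⟩ := c.surj r2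
          have e0 : ⁅a, b⁆ = ⁅a, b1 * b2⁆ := c.cover.commutator_eq rfl (by rw [hb, map_mul])
          have e1 : ⁅a, b1 * b2⁆ = ⁅a, b1⁆ * (b1 * ⁅a, b2⁆ * b1⁻¹) := by
            simp only [commutatorElement_def]; group
          have e2 : b1 * ⁅a, b2⁆ * b1⁻¹ = ⁅a, b2⁆ := by
            rcases h2 a b2 ha rfl with h | h
            · rw [h]; group
            · rw [h, ← hcen b1 hr1, mul_inv_cancel_right]
          rw [e0, e1, e2]
          rcases h1 a b1 ha rfl with h | h <;> rcases h2 a b2 ha rfl with h' | h' <;> rw [h, h']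
          · left; rw [one_mul]
          · right; rw [one_mul]
          · right; rw [mul_one]
          · left; exact hWW
        inv_mem' := by
          rintro r1 ⟨hr1, h1⟩
          refine ⟨(Q w').inv_mem hr1, fun a b ha hb => ?_⟩
          have hb' : π b⁻¹ = r1 := by rw [map_inv, hb, inv_inv]
          have hbQ : π b ∈ Q w' := by rw [hb]; exact (Q w').inv_mem hr1
          have e0 : ⁅a, b⁆ = b * ⁅a, b⁻¹⁆⁻¹ * b⁻¹ := by
            simp only [commutatorElement_def]; group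
          rcases h1 a b⁻¹ ha hb' with h | h
          · left; rw [e0, h]; group
          · right
            rw [e0, h, hWi, ← hcen b hbQ, mul_inv_cancel_right] } : Subgroup E) := by
      rw [Subgroup.closure_le]
      rintro r ⟨hr, hrQ⟩
      exact ⟨hrQ, hST s hs r hr hrQ⟩
    exact (h1 (F.Qgen w' hw hr)).2
  -- roots with roots
  have s1 : ∀ s ∈ {x | x ∈ T ∧ x ∈ Q w'}, ∀ r ∈ T, r ∈ Q w' → ∀ a b : L, π a = s → π b = r →
      ⁅a, b⁆ = 1 ∨ ⁅a, b⁆ = W := by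
    rintro s ⟨hs, hsQ⟩ r hr hrQ a b rfl rfl
    rcases F.Qcomm w' hw _ hsQ _ hrQ with h | h
    · left
      rw [commutatorElement_eq_one_iff_mul_comm]
      exact commute_lift c.cover F.roots hs (commutatorElement_eq_one_iff_mul_comm.1 h)
    · right
      have := w_commutator c.cover F.roots hs hr (by rw [h]; exact hw)
      rw [h] at this
      exact this.symm
  have s2 := hsub _ (fun s hs => hs.2) s1
  have s3 : ∀ s ∈ {x | x ∈ Q w'}, ∀ r ∈ T, r ∈ Q w' → ∀ a b : L, π a = s → π b = r →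
      ⁅a, b⁆ = 1 ∨ ⁅a, b⁆ = W := by
    intro s hs r hr hrQ a b ha hb
    rcases s2 r ⟨hr, hrQ⟩ s hs b a hb ha with h | h
    · left; rw [← commutatorElement_inv, h, inv_one]
    · right; rw [← commutatorElement_inv, h, hWi]
  exact hsub _ (fun s hs => hs) s3 _ hx _ hy x y rfl rfl

/-- the case where `t₁` is inner -/
theorem inner_pair [Finite G] [Finite E] {h l k : G} (p : Pair L K t h l k) :
    ∃ g : G, g * t * g⁻¹ ≠ t ∧ g * t * g⁻¹ * t = t * (g * t * g⁻¹) ∧ Inn L K (g * t * g⁻¹) ∧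
      Inn L K (g⁻¹ * t * g) := by
  have hb1 := Pair.b1 c p
  have hbb := Pair.bb c p
  -- the choice of `w`
  obtain ⟨w', hw, hwb, hbQ, hlift⟩ : ∃ w' ∈ T, π ⟨l, p.hl⟩ ≠ w' ∧ π ⟨l, p.hl⟩ ∈ Q w' ∧
      ∀ x : L, π x ∈ Q w' → π x * π ⟨l, p.hl⟩ = π ⟨l, p.hl⟩ * π x → x * ⟨l, p.hl⟩ = ⟨l, p.hl⟩ * x := by
    by_cases hb : π ⟨l, p.hl⟩ ∈ T
    · obtain ⟨w', hw, hne, hQ⟩ := F.near _ hb
      exact ⟨w', hw, hne.symm, hQ, fun x _ hx => (commute_lift c.cover F.roots hb hx.symm).symm⟩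
    · obtain ⟨w', W⟩ := F.big _ hbb hb1 hb
      refine ⟨w', W.wT, fun h => hb (h ▸ W.wT), W.bQ, ?_⟩
      have h1 : Subgroup.closure ({y | y ∈ T ∧ y ∈ Q w' ∧ y * π ⟨l, p.hl⟩ = π ⟨l, p.hl⟩ * y ∧
          y * π ⟨l, p.hl⟩ ∉ T} ∪ {π ⟨l, p.hl⟩, w'}) ≤ (Subgroup.centralizer {(⟨l, p.hl⟩ : L)}).map π := by
        rw [Subgroup.closure_le]
        have hroot : ∀ y ∈ T, y * π ⟨l, p.hl⟩ = π ⟨l, p.hl⟩ * y →
            y ∈ (Subgroup.centralizer {(⟨l, p.hl⟩ : L)}).map π := by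
          intro y hy hyb
          obtain ⟨m, rfl⟩ := c.surj y
          exact ⟨m, Subgroup.mem_centralizer_singleton_iff.2 (commute_lift c.cover F.roots hy hyb), rfl⟩
        rintro y (⟨hy1, -, hy3, -⟩ | hy)
        · exact hroot y hy1 hy3
        · rcases hy with rfl | hy
          · exact ⟨_, Subgroup.mem_centralizer_singleton_iff.2 rfl, rfl⟩
          · rw [Set.mem_singleton_iff.1 hy]
            exact hroot w' W.wT (F.w_comm W.wT W.bQ)
      intro x hx hxb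
      obtain ⟨x', hx', he⟩ := h1 (W.gen _ hx hxb)
      have h2 := Subgroup.mem_centralizer_singleton_iff.1 hx'
      have h3 : x' * ⟨l, p.hl⟩ = ⟨l, p.hl⟩ * x' := h2
      rcases c.cover.eq_or he.symm with h4 | h4
      · rw [h4]; exact h3
      · rw [h4, mul_assoc, h3, ← mul_assoc, ← mul_assoc, c.cover.central]
  obtain ⟨x, hx, y, hy, hxb, hyb, hxy⟩ := F.exists_pair hw hbQ hb1 hwb
  obtain ⟨q, hq, hqb⟩ := F.exists_nc hw hb1 hwb
  obtain ⟨x, rfl⟩ := c.surj x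
  obtain ⟨y, rfl⟩ := c.surj y
  obtain ⟨q, rfl⟩ := c.surj q
  set W : L := w π T w' with hW
  have hπW : π W = w' := map_w c.cover F.roots hw
  have hWW : W * W = 1 := w_sq c.cover F.roots hw
  have hW1 : W ≠ 1 := w_ne_one c.cover F.roots hw
  have hxyW : ⁅x, y⁆ = W := by
    rcases comm_Q c F hw hx hy with h1 | h1
    · exfalso
      have h2 := congrArg π h1
      rw [map_commutatorElement, hxy, map_one] at h2
      exact F.roots.ne_one _ hw h2
    · exact h1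
  have hqlW : ⁅q, ⟨l, p.hl⟩⁆ = W := by
    rcases comm_Q c F hw hq hbQ with h1 | h1
    · exfalso
      apply hqb
      rw [commutatorElement_eq_one_iff_mul_comm] at h1
      rw [← map_mul, h1, map_mul]
    · exact h1
  have hqW : q * W = W * q := by
    refine (commute_lift c.cover F.roots (x := W) (y := q) ?_ ?_).symm
    · rw [hπW]; exact hw
    · rw [hπW]; exact F.w_comm hw hq
  have hxl := hlift x hx hxb
  have hyl := hlift y hy hyb
  have hxt := Pair.comm_of c p x.2 (congrArg Subtype.val hxl)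
  have hyt := Pair.comm_of c p y.2 (congrArg Subtype.val hyl)
  have hWl : W * ⟨l, p.hl⟩ = ⟨l, p.hl⟩ * W := by
    refine commute_lift c.cover F.roots (x := W) ?_ ?_
    · rw [hπW]; exact hw
    · rw [hπW]; exact F.w_comm hw hbQ
  have hWt := Pair.comm_of c p W.2 (congrArg Subtype.val hWl)
  refine swap_pair c (h := h) (q := q) (u := W) ?_ (fun h1 => hW1 (Subtype.ext h1)) (congrArg Subtype.val hWW)
    (congrArg Subtype.val hqW) hWt ?_
  · have h1 : (q : G) * l * (q : G)⁻¹ = W * l := by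
      have h2 := congrArg Subtype.val hqlW
      have h3 : (q : G) * l * (q : G)⁻¹ * l⁻¹ = W := h2
      exact mul_inv_eq_iff_eq_mul.1 h3
    have h2 := c.comm q q.2 k p.hk
    have h3 : (W : G) * l = l * W := congrArg Subtype.val hWl
    have h4 := c.comm W W.2 k p.hk
    rw [p.eq]
    calc (q : G) * (l * k) * (q : G)⁻¹ = (q * l * (q : G)⁻¹) * (q * k) * (q : G)⁻¹ := by group
      _ = (q * l * (q : G)⁻¹) * k := by rw [h2]; group
      _ = l * (W * k) := by rw [h1, h3]; group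
      _ = l * k * W := by rw [h4]; group
  · have h1 : (h⁻¹ * (W : G) * h) = (h⁻¹ * x * h) * (h⁻¹ * y * h) * (h⁻¹ * x * h)⁻¹ * (h⁻¹ * y * h)⁻¹ := by
      have h2 := congrArg Subtype.val hxyW
      have h3 : (x : G) * y * (x : G)⁻¹ * (y : G)⁻¹ = W := h2
      rw [← h3]; group
    rw [h1]
    exact c.inn_comm (Pair.back c p hxt) (Pair.back c p hyt)

/-- the case where `t₁` is not inner -/
theorem outer_pair [Finite G] [Finite E] {h : G}
    (hcm : h * t * h⁻¹ * t = t * (h * t * h⁻¹)) (hI : ¬ Inn L K (h * t * h⁻¹)) :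
    ∃ g : G, g * t * g⁻¹ ≠ t ∧ g * t * g⁻¹ * t = t * (g * t * g⁻¹) ∧ Inn L K (g * t * g⁻¹) ∧
      Inn L K (g⁻¹ * t * g) := by
  set s := h * t * h⁻¹ with hs
  have hss : s * s = 1 := by
    calc s * s = h * (t * t) * h⁻¹ := by rw [hs]; group
      _ = 1 := by rw [c.t2]; group
  have hsi : s⁻¹ = s := inv_eq_of_mul_eq_one_left hss
  obtain ⟨φ, hφ⟩ := c.exists_ind hcm
  have hφφ : φ * φ = 1 := by
    have h1 := c.ind_mul hcm hφ hφ
    rw [hss] at h1
    exact c.ind_unique (by group) h1 (c.ind_K K.one_mem)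
  obtain ⟨w', hw, N, hNQ, hab, hgen, hinv, e₁, he₁, e₂, he₂, hne1, hne2, hne12⟩ := F.out φ hφφ (by
    intro g hg
    obtain ⟨m, rfl⟩ := c.surj g
    apply hI
    have hmt := c.LC m.2
    have hmt' : (m : G)⁻¹ * t = t * (m : G)⁻¹ := by
      rw [inv_mul_eq_iff_eq_mul, ← mul_assoc, hmt, mul_inv_cancel_right]
    refine ⟨m, m.2, (m : G)⁻¹ * s, c.mem_K ?_ ?_, by group⟩
    · rw [mul_assoc, hcm, ← mul_assoc, hmt', mul_assoc]
    · have h1 := c.ind_mul hcm (c.ind_inv (c.ind_L m)) hφ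
      rwa [hg, inv_mul_cancel] at h1)
  -- lifts of elements of `N` commute and are involutions
  have c1 : ∀ x ∈ N, ∀ y ∈ N, ∀ a b : L, π a = x → π b = y → a * b = b * a := by
    intro x hx y hy a b ha hb
    have h1 : N ≤ Subgroup.closure {x | x ∈ T ∧ x ∈ N} := hgen
    have h2 : Subgroup.closure {x | x ∈ T ∧ x ∈ N} ≤ (Subgroup.centralizer {b}).map π := by
      rw [Subgroup.closure_le]
      rintro r ⟨hr, hrN⟩
      obtain ⟨m, rfl⟩ := c.surj r
      refine ⟨m, Subgroup.mem_centralizer_singleton_iff.2 ?_, rfl⟩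
      exact commute_lift c.cover F.roots hr (by rw [hb]; exact hab _ hrN y hy)
    obtain ⟨a', ha', he⟩ := h2 (h1 hx)
    have h3 := Subgroup.mem_centralizer_singleton_iff.1 ha'
    have h4 : a' * b = b * a' := h3
    rcases c.cover.eq_or (ha.trans he.symm) with h5 | h5
    · rw [h5]; exact h4
    · rw [h5, mul_assoc, h4, ← mul_assoc, ← mul_assoc, c.cover.central]
  have c2 : ∀ x ∈ N, ∀ a : L, π a = x → a * a = 1 := by
    intro x hx
    have h2 : Subgroup.closure {x | x ∈ T ∧ x ∈ N} ≤ ({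
        carrier := {x | x ∈ N ∧ ∀ a : L, π a = x → a * a = 1}
        one_mem' := by
          refine ⟨N.one_mem, fun a ha => ?_⟩
          rcases (c.cover.ker a).1 ha with rfl | rfl
          · rw [one_mul]
          · exact c.cover.t_mul_t
        mul_mem' := by
          rintro x y ⟨hx, h1⟩ ⟨hy, h2⟩
          refine ⟨N.mul_mem hx hy, fun a ha => ?_⟩
          obtain ⟨a1, rfl⟩ := c.surj x
          obtain ⟨a2, rfl⟩ := c.surj y
          have e0 : (a1 * a2) * (a1 * a2) = 1 := by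
            calc (a1 * a2) * (a1 * a2) = a1 * (a2 * a1) * a2 := by group
              _ = (a1 * a1) * (a2 * a2) := by rw [← c1 _ hx _ hy a1 a2 rfl rfl]; group
              _ = 1 := by rw [h1 a1 rfl, h2 a2 rfl, one_mul]
          rcases c.cover.eq_or (ha.trans (map_mul π a1 a2).symm) with h3 | h3
          · rw [h3]; exact e0
          · rw [h3]
            calc _ * (a1 * a2) * (_ * (a1 * a2)) = (⟨t, c.tL⟩ * ((a1 * a2) * ⟨t, c.tL⟩)) * (a1 * a2) := by group
              _ = (⟨t, c.tL⟩ * ⟨t, c.tL⟩) * ((a1 * a2) * (a1 * a2)) := by rw [c.cover.central]; group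
              _ = 1 := by rw [c.cover.t_mul_t, e0, one_mul]
        inv_mem' := by
          rintro x ⟨hx, h1⟩
          refine ⟨N.inv_mem hx, fun a ha => ?_⟩
          have h2 := h1 a⁻¹ (by rw [map_inv, ha, inv_inv])
          have h3 : (a * a)⁻¹ = 1 := by rw [mul_inv_rev]; exact h2
          exact inv_eq_one.1 h3 } : Subgroup E) := by
      rw [Subgroup.closure_le]
      rintro r ⟨hr, hrN⟩
      refine ⟨hrN, fun a ha => ?_⟩
      rcases eq_w_or_lab c.cover F.roots (m := a) (by rw [ha]; exact hr) with h3 | h3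
      · rw [h3]; exact w_sq c.cover F.roots (by rw [ha]; exact hr)
      · rw [h3]; exact lab_sq c.cover F.roots (by rw [ha]; exact hr)
    exact (h2 (hgen hx)).2
  -- the element `u` for a lift of `e`
  have main : ∀ a : L, π a ∈ N → φ (π a) ≠ π a → Inn L K (h⁻¹ * (s * a * s⁻¹ * (a : G)⁻¹) * h) →
      ∃ g : G, g * t * g⁻¹ ≠ t ∧ g * t * g⁻¹ * t = t * (g * t * g⁻¹) ∧ Inn L K (g * t * g⁻¹) ∧
      Inn L K (g⁻¹ * t * g) := by
    intro a ha hane hIa
    let a' : L := ⟨s * a * s⁻¹, c.Lnorm s hcm a a.2⟩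
    have hπa' : π a' = φ (π a) := hφ a a' rfl
    have ha'N : π a' ∈ N := by rw [hπa']; exact hinv _ ha
    have huN : π (a' * a⁻¹) ∈ N := by rw [map_mul, map_inv]; exact N.mul_mem ha'N (N.inv_mem ha)
    have hval : ((a' * a⁻¹ : L) : G) = s * a * s⁻¹ * (a : G)⁻¹ := rfl
    have huu : (a' * a⁻¹) * (a' * a⁻¹) = 1 := c2 _ huN _ rfl
    have hau : a * (a' * a⁻¹) = (a' * a⁻¹) * a := c1 _ ha _ huN _ _ rfl rfl
    refine swap_pair c (h := h) (q := a) (u := s * a * s⁻¹ * (a : G)⁻¹) ?_ ?_ ?_ ?_ ?_ hIa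
    · rw [← hs, hsi]
      calc (a : G) * s * (a : G)⁻¹ = (s * s) * a * s * (a : G)⁻¹ := by rw [hss, one_mul]
        _ = _ := by group
    · intro h1
      apply hane
      rw [← hπa']
      have h2 : a' * a⁻¹ = 1 := Subtype.ext h1
      rw [mul_inv_eq_one.1 h2]
    · exact congrArg Subtype.val huu
    · exact congrArg Subtype.val hau
    · rw [← hs]
      have h1 : s * (s * a * s⁻¹ * (a : G)⁻¹) * s⁻¹ = (s * a * s⁻¹ * (a : G)⁻¹)⁻¹ := by
        calc s * (s * a * s⁻¹ * (a : G)⁻¹) * s⁻¹ = (s * s) * a * (s⁻¹ * (a : G)⁻¹ * s⁻¹) := by group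
          _ = a * (s⁻¹ * (a : G)⁻¹ * s⁻¹) := by rw [hss, one_mul]
          _ = a * (s * (a : G)⁻¹ * s⁻¹) := by rw [hsi]
          _ = _ := by group
      have h2 : (s * a * s⁻¹ * (a : G)⁻¹) * (s * a * s⁻¹ * (a : G)⁻¹) = 1 := congrArg Subtype.val huu
      rw [inv_eq_of_mul_eq_one_left h2] at h1
      exact (mul_inv_eq_iff_eq_mul.1 h1).symm
  -- the two elements
  obtain ⟨a₁, rfl⟩ := c.surj e₁
  obtain ⟨a₂, rfl⟩ := c.surj e₂
  by_cases i1 : Inn L K (h⁻¹ * (s * a₁ * s⁻¹ * (a₁ : G)⁻¹) * h)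
  · exact main a₁ he₁ hne1 i1
  by_cases i2 : Inn L K (h⁻¹ * (s * a₂ * s⁻¹ * (a₂ : G)⁻¹) * h)
  · exact main a₂ he₂ hne2 i2
  -- elements of `L` commuting with `s`
  have hback : ∀ a : L, π a ∈ N → h⁻¹ * (s * a * s⁻¹ * (a : G)⁻¹) * h * t =
      t * (h⁻¹ * (s * a * s⁻¹ * (a : G)⁻¹) * h) := by
    intro a ha
    let a' : L := ⟨s * a * s⁻¹, c.Lnorm s hcm a a.2⟩
    have hπa' : π a' = φ (π a) := hφ a a' rfl
    have ha'N : π a' ∈ N := by rw [hπa']; exact hinv _ ha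
    have huN : π (a' * a⁻¹) ∈ N := by rw [map_mul, map_inv]; exact N.mul_mem ha'N (N.inv_mem ha)
    have huu : (a' * a⁻¹) * (a' * a⁻¹) = 1 := c2 _ huN _ rfl
    have h2 : (s * a * s⁻¹ * (a : G)⁻¹) * (s * a * s⁻¹ * (a : G)⁻¹) = 1 := congrArg Subtype.val huu
    have h1 : s * (s * a * s⁻¹ * (a : G)⁻¹) * s⁻¹ = (s * a * s⁻¹ * (a : G)⁻¹)⁻¹ := by
      calc s * (s * a * s⁻¹ * (a : G)⁻¹) * s⁻¹ = (s * s) * a * (s⁻¹ * (a : G)⁻¹ * s⁻¹) := by group
        _ = a * (s⁻¹ * (a : G)⁻¹ * s⁻¹) := by rw [hss, one_mul]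
        _ = a * (s * (a : G)⁻¹ * s⁻¹) := by rw [hsi]
        _ = _ := by group
    rw [inv_eq_of_mul_eq_one_left h2] at h1
    have h3 := mul_inv_eq_iff_eq_mul.1 h1
    have h4 : t = h⁻¹ * s * h := by rw [hs]; group
    calc h⁻¹ * (s * a * s⁻¹ * (a : G)⁻¹) * h * t = h⁻¹ * ((s * a * s⁻¹ * (a : G)⁻¹) * s) * h := by
          nth_rewrite 1 [h4]; group
      _ = h⁻¹ * (s * (s * a * s⁻¹ * (a : G)⁻¹)) * h := by rw [← h3]
      _ = (h⁻¹ * s * h) * (h⁻¹ * (s * a * s⁻¹ * (a : G)⁻¹) * h) := by group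
      _ = _ := by rw [← h4]
  have i12 := c.idx _ _ (hback a₁ he₁) (hback a₂ he₂) i1 i2
  refine main (a₁ * a₂) (by rw [map_mul]; exact N.mul_mem he₁ he₂) ?_ ?_
  · intro h1
    apply hne12
    rw [map_mul, map_mul] at h1
    have hab1 : ∀ x ∈ N, x * x = 1 := fun x hx => by
      obtain ⟨a, rfl⟩ := c.surj x
      rw [← map_mul, c2 _ hx a rfl, map_one]
    have f1 := hinv _ he₁
    have f2 := hinv _ he₂
    have h2 : φ (π a₂) * (π a₂)⁻¹ = (φ (π a₁))⁻¹ * π a₁ := by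
      calc φ (π a₂) * (π a₂)⁻¹ = (φ (π a₁))⁻¹ * (φ (π a₁) * φ (π a₂)) * (π a₂)⁻¹ := by group
        _ = (φ (π a₁))⁻¹ * (π a₁ * π a₂) * (π a₂)⁻¹ := by rw [h1]
        _ = _ := by group
    have h3 : ∀ x ∈ N, x⁻¹ = x := fun x hx => inv_eq_of_mul_eq_one_left (hab1 x hx)
    rw [h3 _ he₂, h3 _ f1] at h2
    rw [h3 _ he₁, h3 _ he₂, hab _ he₁ _ f1, hab _ he₂ _ f2]
    exact h2.symm
  · have h1 : h⁻¹ * (s * ((a₁ * a₂ : L) : G) * s⁻¹ * ((a₁ * a₂ : L) : G)⁻¹) * h =
        h⁻¹ * (s * a₁ * s⁻¹ * (a₁ : G)⁻¹) * h * (h⁻¹ * (s * a₂ * s⁻¹ * (a₂ : G)⁻¹) * h) := by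
      let b₂ : L := ⟨s * a₂ * s⁻¹, c.Lnorm s hcm a₂ a₂.2⟩
      have hπb : π b₂ = φ (π a₂) := hφ a₂ b₂ rfl
      have hbN : π b₂ ∈ N := by rw [hπb]; exact hinv _ he₂
      have huN : π (b₂ * a₂⁻¹) ∈ N := by rw [map_mul, map_inv]; exact N.mul_mem hbN (N.inv_mem he₂)
      have h2 : (a₁ : G) * (s * a₂ * s⁻¹ * (a₂ : G)⁻¹) = (s * a₂ * s⁻¹ * (a₂ : G)⁻¹) * a₁ :=
        congrArg Subtype.val (c1 _ he₁ _ huN a₁ (b₂ * a₂⁻¹) rfl rfl)
      show h⁻¹ * (s * ((a₁ : G) * a₂) * s⁻¹ * ((a₁ : G) * a₂)⁻¹) * h = _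
      calc h⁻¹ * (s * ((a₁ : G) * a₂) * s⁻¹ * ((a₁ : G) * a₂)⁻¹) * h
          = h⁻¹ * (s * a₁ * s⁻¹) * ((s * a₂ * s⁻¹ * (a₂ : G)⁻¹) * (a₁ : G)⁻¹) * h := by group
        _ = h⁻¹ * (s * a₁ * s⁻¹) * ((a₁ : G)⁻¹ * (a₁ * (s * a₂ * s⁻¹ * (a₂ : G)⁻¹)) * (a₁ : G)⁻¹) * h := by group
        _ = h⁻¹ * (s * a₁ * s⁻¹) * ((a₁ : G)⁻¹ * ((s * a₂ * s⁻¹ * (a₂ : G)⁻¹) * a₁) * (a₁ : G)⁻¹) * h := by rw [h2]
        _ = _ := by group
    rw [h1]
    exact i12

/-! ### The end -/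

/-- **`C_G(L) = Z(L)`.** -/
theorem K_eq [Finite G] [Finite E] (hfus : ∃ h : G, h * t * h⁻¹ ≠ t ∧ h * t * h⁻¹ * t = t * (h * t * h⁻¹)) :
    ∀ k ∈ K, k = 1 ∨ k = t := by
  obtain ⟨h, hne, hcm, ⟨l, hl, k, hk, e1⟩, l2, hl2, k2, hk2, e2⟩ : ∃ g : G, g * t * g⁻¹ ≠ t ∧
      g * t * g⁻¹ * t = t * (g * t * g⁻¹) ∧ Inn L K (g * t * g⁻¹) ∧ Inn L K (g⁻¹ * t * g) := by
    obtain ⟨h, hne, hcm⟩ := hfus
    by_cases hI : Inn L K (h * t * h⁻¹)
    · obtain ⟨l, hl, k, hk, e⟩ := hI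
      exact inner_pair c F ⟨hl, hk, e, hne, hcm⟩
    · exact outer_pair c F hcm hI
  have p : Pair L K t h l k := ⟨hl, hk, e1, hne, hcm⟩
  -- `k2 ∈ {1, t}`
  have hx : h * k2 * h⁻¹ * t = t * (h * k2 * h⁻¹) := by
    have h1 : k2 * (h⁻¹ * t * h) = (h⁻¹ * t * h) * k2 := by
      rw [e2, ← mul_assoc, ← c.comm l2 hl2 k2 hk2, mul_assoc]
    calc h * k2 * h⁻¹ * t = h * (k2 * (h⁻¹ * t * h)) * h⁻¹ := by group
      _ = h * ((h⁻¹ * t * h) * k2) * h⁻¹ := by rw [h1]
      _ = _ := by group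
  have hll : k2 * k2 = 1 ∨ k2 * k2 = t := by
    have h1 : (l2 * k2) * (l2 * k2) = 1 := by
      rw [← e2]
      calc h⁻¹ * t * h * (h⁻¹ * t * h) = h⁻¹ * (t * t) * h := by group
        _ = 1 := by rw [c.t2]; group
    have h2 : (l2 * l2) * (k2 * k2) = 1 := by
      calc (l2 * l2) * (k2 * k2) = l2 * (l2 * k2) * k2 := by group
        _ = l2 * (k2 * l2) * k2 := by rw [c.comm l2 hl2 k2 hk2]
        _ = (l2 * k2) * (l2 * k2) := by group
        _ = 1 := h1
    apply c.LK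
    · rw [eq_inv_of_mul_eq_one_right h2]
      exact L.inv_mem (L.mul_mem hl2 hl2)
    · exact K.mul_mem hk2 hk2
  have hx4 : (h * k2 * h⁻¹) ^ 2 ^ 2 = 1 := by
    have h1 : k2 ^ 4 = 1 := by
      have h0 : k2 ^ 4 = (k2 * k2) * (k2 * k2) := by
        rw [show (4 : ℕ) = 2 + 2 from rfl, pow_add, pow_two]
      rw [h0]
      rcases hll with h2 | h2 <;> rw [h2]
      · rw [one_mul]
      · rw [c.t2]
    rw [show (2 : ℕ) ^ 2 = 4 from rfl, conj_pow, h1, mul_one, mul_inv_cancel]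
  have hk2' : k2 ∈ L := by
    rcases Pair.main c p F hx (by rw [show h⁻¹ * (h * k2 * h⁻¹) * h = k2 by group]; exact hk2) hx4 with h1 | h1
    · have : k2 = 1 := by
        calc k2 = h⁻¹ * (h * k2 * h⁻¹) * h := by group
          _ = 1 := by rw [h1]; group
      rw [this]; exact L.one_mem
    · have : k2 = t := by
        calc k2 = h⁻¹ * (h * k2 * h⁻¹) * h := by group
          _ = t := by rw [h1]; group
      rw [this]; exact c.tL
  have htL : h⁻¹ * t * h ∈ L := by rw [e2]; exact L.mul_mem hl2 hk2'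
  -- all two-elements of `K`
  have hK2 : ∀ k ∈ K, ∀ n : ℕ, k ^ 2 ^ n = 1 → k = 1 ∨ k = t := by
    intro k hk n hn
    have h1 := c.comm _ htL k hk
    have h2 : h * k * h⁻¹ * t = t * (h * k * h⁻¹) := by
      calc h * k * h⁻¹ * t = h * (k * (h⁻¹ * t * h)) * h⁻¹ := by group
        _ = h * ((h⁻¹ * t * h) * k) * h⁻¹ := by rw [h1]
        _ = _ := by group
    rcases Pair.main c p F h2 (by rw [show h⁻¹ * (h * k * h⁻¹) * h = k by group]; exact hk) (n := n)
      (by rw [conj_pow, hn, mul_one, mul_inv_cancel]) with h3 | h3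
    · left
      calc k = h⁻¹ * (h * k * h⁻¹) * h := by group
        _ = 1 := by rw [h3]; group
    · right
      calc k = h⁻¹ * (h * k * h⁻¹) * h := by group
        _ = t := by rw [h3]; group
  -- four does not divide the order of `K`
  have h4 : ¬ 4 ∣ Nat.card K := by
    intro hd
    have : Fact (Nat.Prime 2) := ⟨Nat.prime_two⟩
    obtain ⟨S, hS⟩ := Sylow.exists_subgroup_card_pow_prime (G := K) 2 (n := 2) hd
    have h5 : ∀ x : S, (x : K) = 1 ∨ (x : K) = ⟨t, c.tK⟩ := by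
      intro x
      have h6 : (x : K) ^ 2 ^ 2 = 1 := by
        have h7 : x ^ Nat.card S = 1 := pow_card_eq_one'
        rw [hS] at h7
        exact congrArg Subtype.val h7
      rcases hK2 (x : K) (x : K).2 2 (congrArg Subtype.val h6) with h7 | h7
      · left; exact Subtype.ext h7
      · right; exact Subtype.ext h7
    have h6 : (S : Set K) ⊆ {1, ⟨t, c.tK⟩} := by
      intro x hx
      rcases h5 ⟨x, hx⟩ with h7 | h7
      · left; exact h7
      · right; exact h7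
    have h7 := Set.ncard_le_ncard h6 (Set.toFinite _)
    have h8 : (S : Set K).ncard = 4 := by
      have : (S : Set K).ncard = Nat.card S := rfl
      rw [this, hS]; rfl
    rw [h8] at h7
    have h9 : ({1, ⟨t, c.tK⟩} : Set K).ncard ≤ 2 := by
      refine (Set.ncard_insert_le _ _).trans ?_
      rw [Set.ncard_singleton]
    omega
  -- the complement of odd order
  intro k hk
  set N : Subgroup K := Subgroup.zpowers ⟨t, c.tK⟩ with hN
  have hNt : orderOf (⟨t, c.tK⟩ : K) = 2 := by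
    apply orderOf_eq_prime
    · rw [pow_two]; exact Subtype.ext c.t2
    · intro h'; exact c.t1 (congrArg Subtype.val h')
  have hNcard : Nat.card N = 2 := by rw [hN, Nat.card_zpowers, hNt]
  have hcen : ∀ n ∈ N, ∀ x : K, x * n = n * x := by
    intro n hn x
    obtain ⟨i, rfl⟩ := Subgroup.mem_zpowers_iff.1 hn
    have : Commute x (⟨t, c.tK⟩ : K) := Subtype.ext (c.KC x.2)
    exact (this.zpow_right i).eq
  have hNn : N.Normal := ⟨fun n hn g => by rw [hcen n hn g, mul_inv_cancel_right]; exact hn⟩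
  have hindex : Nat.card K = 2 * N.index := by rw [← N.card_mul_index, hNcard]
  have hodd : ¬ 2 ∣ N.index := by
    rintro ⟨m, hm⟩
    exact h4 ⟨m, by rw [hindex, hm]; ring⟩
  have hcop : Nat.Coprime (Nat.card N) N.index := by
    rw [hNcard]
    exact (Nat.Prime.coprime_iff_not_dvd Nat.prime_two).2 hodd
  obtain ⟨M, hM⟩ := Subgroup.exists_right_complement'_of_coprime hcop
  have hMdec : ∀ x : K, ∃ n ∈ N, ∃ m ∈ M, x = n * m := by
    intro x
    obtain ⟨⟨n, m⟩, hnm⟩ := hM.2 x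
    exact ⟨n, n.2, m, m.2, hnm.symm⟩
  have hMcard : Nat.card M = N.index := by
    have h1 := hM.card_mul_card
    rw [hNcard, hindex] at h1
    omega
  have hMbot : M.map K.subtype = ⊥ := by
    apply c.core
    · rintro _ ⟨m, _, rfl⟩; exact m.2
    · rintro k hk _ ⟨m, hm, rfl⟩
      obtain ⟨n, hn, m', hm', hkm⟩ := hMdec ⟨k, hk⟩
      refine ⟨m' * m * m'⁻¹, M.mul_mem (M.mul_mem hm' hm) (M.inv_mem hm'), ?_⟩
      have h1 : (⟨k, hk⟩ : K) * m * (⟨k, hk⟩ : K)⁻¹ = m' * m * m'⁻¹ := by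
        rw [hkm]
        calc n * m' * m * (n * m')⁻¹ = n * (m' * m * m'⁻¹) * n⁻¹ := by group
          _ = _ := by rw [← hcen n hn, mul_inv_cancel_right]
      rw [← h1]
      rfl
    · rw [Subgroup.card_map_of_injective K.subtype_injective, hMcard]
      exact Nat.not_even_iff_odd.1 (fun h => hodd h.two_dvd)
  obtain ⟨n, hn, m, hm, hkm⟩ := hMdec ⟨k, hk⟩
  have hm1 : (m : G) = 1 := by
    have : (m : G) ∈ M.map K.subtype := ⟨m, hm, rfl⟩
    rw [hMbot] at this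
    exact Subgroup.mem_bot.1 this
  have hk1 : k = (n : G) := by
    have := congrArg Subtype.val hkm
    simp only [Subgroup.coe_mul] at this
    rw [this, hm1, mul_one]
  obtain ⟨i, hi⟩ := Subgroup.mem_zpowers_iff.1 hn
  have ht : (n : G) = t ^ i := by rw [← hi]; rfl
  rw [hk1, ht]
  rcases Int.even_or_odd' i with ⟨j, rfl | rfl⟩
  · left
    rw [zpow_mul, zpow_ofNat, pow_two, c.t2, one_zpow]
  · right
    rw [zpow_add, zpow_mul, zpow_ofNat, pow_two, c.t2, one_zpow, one_mul, zpow_one]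

end swap

end Cfsg.Agent.BabyU.KEqE
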