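import Cfsg.Agent.BabyU.KEqEForm
import Cfsg.Agent.BabyU.Key

/-!
# S1736(a), `K = C_G(L)`: the facts `EF` for `E = ²E₆(2)`
-/

set_option autoImplicit false

namespace Cfsg.Agent.BabyU.KEqE

open Cfsg Cfsg.Lie
open Cfsg.Agent.ChevalleyStructure
open Cfsg.Agent.ChevalleyStructure.TwE6Basic
open Cfsg.Agent.ChevalleyStructure.TwE6BN
open Cfsg.Agent.TwoESix.LeviA
open Cfsg.Agent.TwoESix.LeviB
open Cfsg.Agent.TwoESix.LeviC
open Cfsg.Agent.TwoESix.LeviD
open Cfsg.Agent.TwoESix.LongPairs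
open Cfsg.Agent.TwoESix.LongCard
open Cfsg.Agent.TwoESix.FlagH
open Cfsg.Agent.TwoESix.FlagI
open Cfsg.Agent.TwoESix.KeyExtra
open Cfsg.Agent.TwoESix.SheetA
open Cfsg.Agent.BabyU (rootClass)

open scoped commutatorElement

universe u v

/-- transport of `Good` -/
theorem Good.map {E : Type v} [Group E] {T : Set E} {Q : E → Subgroup E} (aut : ∀ φ : MulAut E, ∀ r ∈ T, φ r ∈ T)
    (Qaut : ∀ φ : MulAut E, ∀ w ∈ T, ∀ x ∈ Q w, φ x ∈ Q (φ w)) {w b : E} (h : Good T Q w b) (φ : MulAut E) :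
    Good T Q (φ w) (φ b) := by
  have hinv : ∀ r, φ r ∈ T → r ∈ T := fun r hr => by
    have := aut φ⁻¹ _ hr
    rwa [MulAut.inv_apply_self] at this
  refine ⟨aut φ w h.wT, Qaut φ w h.wT b h.bQ, fun h1 => h.bw (hinv _ (by rwa [map_mul])), ?_⟩
  intro x hx hxb
  have hx' : φ⁻¹ x ∈ Q w := by
    have := Qaut φ⁻¹ _ (aut φ w h.wT) x hx
    rwa [MulAut.inv_apply_self] at this
  have hxb' : φ⁻¹ x * b = b * φ⁻¹ x := by
    have := congrArg (φ⁻¹ : MulAut E) hxb
    rwa [map_mul, map_mul, MulAut.inv_apply_self] at this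
  have h1 := h.gen _ hx' hxb'
  have h2 : Subgroup.closure ({y | y ∈ T ∧ y ∈ Q w ∧ y * b = b * y ∧ y * b ∉ T} ∪ {b, w}) ≤
      (Subgroup.closure ({y | y ∈ T ∧ y ∈ Q (φ w) ∧ y * φ b = φ b * y ∧ y * φ b ∉ T} ∪ {φ b, φ w})).comap
        φ.toMonoidHom := by
    rw [Subgroup.closure_le]
    rintro y (⟨hy1, hy2, hy3, hy4⟩ | hy)
    · apply Subgroup.subset_closure
      left
      refine ⟨aut φ y hy1, Qaut φ w h.wT y hy2, ?_, fun h1 => hy4 (hinv _ (by rwa [map_mul]))⟩
      show φ y * φ b = φ b * φ y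
      rw [← map_mul, hy3, map_mul]
    · apply Subgroup.subset_closure
      right
      rcases hy with rfl | rfl
      · left; rfl
      · right; rfl
  have h3 := h2 h1
  have h4 : φ.toMonoidHom (φ⁻¹ x) = x := φ.apply_symm_apply x
  rw [Subgroup.mem_comap, h4] at h3
  exact h3

theorem Good.conj {E : Type v} [Group E] {T : Set E} {Q : E → Subgroup E} (aut : ∀ φ : MulAut E, ∀ r ∈ T, φ r ∈ T)
    (Qaut : ∀ φ : MulAut E, ∀ w ∈ T, ∀ x ∈ Q w, φ x ∈ Q (φ w)) {w b : E} (h : Good T Q w b) (g : E) :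
    Good T Q (g * w * g⁻¹) (g * b * g⁻¹) := h.map aut Qaut (MulAut.conj g)

/-- eight fixed roots -/
def tab8 : Fin 8 → Fin 72 := ![46, 51, 53, 63, 65, 69, 70, 71]

theorem rho_fix : ∀ i, rho (tab8 i) = tab8 i := by decide +kernel

theorem fix_U : ∀ i, 36 ≤ (tab8 i).val ∧ ¬ chevE6.InRootSub {j | j ∈ Jn} (tab8 i).val := by decide +kernel

theorem tab8_inj : ∀ i j, i ≠ j → (tab8 i).val ≠ (tab8 j).val := by decide +kernel

variable {K : Type u} [Field K]

section Four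

variable [Fintype K] {φ : K →+* K} (F : Four K φ)
include F

theorem card_RE_gt : 8 < Nat.card (RE K) := by
  have := F.charP
  have := finite_E (K := K)
  let f : Option (Fin 8) → RE K := fun o => match o with
    | none => 1
    | some i => ⟨xe F (tab8 i) (rho_fix i), Subgroup.mem_subgroupOf.2 (x_mem_UR (fix_U i).1 (fix_U i).2 1)⟩
  have hf : Function.Injective f := by
    intro o o' h
    have h1 := congrArg (fun y : RE K => ((y : ↥(twistedE6 K 2)) : GL chevE6.Idx K)) h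
    rcases o with _ | i <;> rcases o' with _ | j
    · rfl
    · exfalso
      exact x_ne_one (K := K) (Fin.is_lt _) h1.symm
    · exfalso
      exact x_ne_one (K := K) (Fin.is_lt _) h1
    · by_contra hne
      have hij : i ≠ j := fun h => hne (by rw [h])
      exact x_ne (K := K) (Fin.is_lt _) (Fin.is_lt _) (tab8_inj i j hij) h1
  have h2 := Nat.card_le_card_of_injective f hf
  have h3 : Nat.card (Option (Fin 8)) = 9 := by simp
  omega

theorem r0_OQ_c0 : r0 F ∈ OQ (c0 F) := by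
  have := F.charP
  have h1 := we_zero F
  have h2 := wn_conj (K := K) [0] 70 1
  have hw : wpm [0] 70 = 71 := by decide +kernel
  rw [hw] at h2
  have h3 : we F [0] * c0 F * (we F [0])⁻¹ = r0 F := Subtype.ext h2
  have h4 := OQ_conj (we F [0]) (r0 F) (c0 F) (by rw [OQ_r0]; exact c_R F)
  rw [h1, h3] at h4
  exact h4

/-- **The facts `EF`.** -/
theorem ef_of {F' : Type*} [Field F'] [Fintype F'] {hF : Fintype.card F' = 2 ^ 2}
    (hroots : Lab.Roots ↥(twistedE6 K 2) (rootClass K)) (hRF : RootCfg.RootFacts hF (rootClass K))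
    (hX : Key.Extra hF (rootClass K)) (hcen : ∀ x : ↥(twistedE6 K 2), (∀ y, x * y = y * x) → x = 1)
    (sym : ∃ p q, Key.Sym (rootClass K) p q ∧ GoodR F (p * q))
    (tri : ∃ p q r, Key.Tri (rootClass K) p q r ∧ GoodR F (p * q * r))
    (hout : ∀ φ : MulAut ↥(twistedE6 K 2), φ * φ = 1 → (∀ g, φ ≠ MulAut.conj g) → ∃ w ∈ rootClass K,
      ∃ N : Subgroup ↥(twistedE6 K 2), N ≤ OQ w ∧ (∀ x ∈ N, ∀ y ∈ N, x * y = y * x) ∧
      N ≤ Subgroup.closure {x | x ∈ rootClass K ∧ x ∈ N} ∧ (∀ x ∈ N, φ x ∈ N) ∧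
      ∃ e₁ ∈ N, ∃ e₂ ∈ N, φ e₁ ≠ e₁ ∧ φ e₂ ≠ e₂ ∧ e₁⁻¹ * φ e₁ ≠ e₂⁻¹ * φ e₂) :
    EF (rootClass K) (OQ (E := ↥(twistedE6 K 2))) := by
  have := finite_E (K := K)
  have B := Cfsg.Agent.TwoESix.ExtTwisted.basic K F.card
  have haut : ∀ φ : MulAut ↥(twistedE6 K 2), ∀ r ∈ rootClass K, φ r ∈ rootClass K := fun α r hr =>
    (Cfsg.Agent.TwoESix.ExtTwisted.auto K K F.card F.card α r).1 hr
  have hQaut : ∀ φ : MulAut ↥(twistedE6 K 2), ∀ w ∈ rootClass K, ∀ x ∈ OQ w, φ x ∈ OQ (φ w) :=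
    fun φ w _ x hx => OQ_map φ w x hx
  have hmem : ∀ g x : ↥(twistedE6 K 2), x ∈ OQ (g * r0 F * g⁻¹) ↔ g⁻¹ * x * g ∈ RE K := by
    intro g x
    rw [← OQ_r0 F, ← OQ_conj_iff g (r0 F) (g⁻¹ * x * g)]
    have e : g * (g⁻¹ * x * g) * g⁻¹ = x := by group
    rw [e]
  have hinv : ∀ g r : ↥(twistedE6 K 2), r ∈ rootClass K → g⁻¹ * r * g ∈ rootClass K := by
    intro g r hr
    have := B.conj r hr g⁻¹
    rwa [inv_inv] at this
  have good_of : ∀ b, GoodR F b → Good (rootClass K) (OQ (E := ↥(twistedE6 K 2))) (r0 F) b := by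
    intro b h
    have hQ := OQ_r0 F
    refine ⟨r0_T F, by rw [hQ]; exact h.bR, h.bw, ?_⟩
    rw [hQ]
    exact h.gen
  refine ⟨hroots, hcen, haut, hQaut, ?_, ?_, ?_, ?_, ?_, ?_, ?_, ?_, ?_, hout⟩
  · -- Qw
    intro w hw
    obtain ⟨g, rfl⟩ := exists_conj F hw
    exact OQ_conj g _ _ (by rw [OQ_r0]; exact r0_mem_RE F)
  · -- Qtwo
    intro w hw
    obtain ⟨g, rfl⟩ := exists_conj F hw
    have h1 : OQ (g * r0 F * g⁻¹) ≤ (RE K).map (MulAut.conj g).toMonoidHom := by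
      intro x hx
      refine ⟨g⁻¹ * x * g, (hmem g x).1 hx, ?_⟩
      show g * (g⁻¹ * x * g) * g⁻¹ = x
      group
    have h2 : IsPGroup 2 (RE K) := (S_two F).to_le fun q hq => UR_le_U hq
    exact (h2.map _).to_le h1
  · -- Qcomm
    intro w hw x hx y hy
    obtain ⟨g, rfl⟩ := exists_conj F hw
    rw [hmem] at hx hy
    rcases comm_RE F hx hy with h | h
    · left
      rw [commutatorElement_eq_one_iff_mul_comm]
      calc x * y = g * ((g⁻¹ * x * g) * (g⁻¹ * y * g)) * g⁻¹ := by group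
        _ = y * x := by rw [h]; group
    · right
      rw [← h, commutatorElement_def, commutatorElement_def]
      group
  · -- Qgen
    intro w hw
    obtain ⟨g, rfl⟩ := exists_conj F hw
    intro x hx
    have h1 := R_gen F ((hmem g x).1 hx)
    have h2 : Subgroup.closure ((RE K : Set ↥(twistedE6 K 2)) ∩ rootClass K) ≤
        (Subgroup.closure {x | x ∈ rootClass K ∧ x ∈ OQ (g * r0 F * g⁻¹)}).comap (MulAut.conj g).toMonoidHom := by
      rw [Subgroup.closure_le]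
      rintro y ⟨hy, hyT⟩
      apply Subgroup.subset_closure
      refine ⟨B.conj y hyT g, ?_⟩
      rw [hmem]
      have e : g⁻¹ * ((MulAut.conj g).toMonoidHom y) * g = y := by
        show g⁻¹ * (g * y * g⁻¹) * g = y
        group
      rw [e]
      exact hy
    have h3 := h2 h1
    rw [Subgroup.mem_comap] at h3
    have e : (MulAut.conj g).toMonoidHom (g⁻¹ * x * g) = x := by
      show g * (g⁻¹ * x * g) * g⁻¹ = x
      group
    rwa [e] at h3
  · -- Qcent
    intro w hw α h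
    obtain ⟨g, rfl⟩ := exists_conj F hw
    rcases cent_RE_aut F ((MulAut.conj g)⁻¹ * α * MulAut.conj g) (fun x hx => by
      have h1 := h (g * x * g⁻¹) (by
        rw [hmem]
        have e : g⁻¹ * (g * x * g⁻¹) * g = x := by group
        rw [e]; exact hx)
      show (MulAut.conj g)⁻¹ (α (g * x * g⁻¹)) = x
      rw [h1, MulAut.conj_inv_apply]
      group) with h1 | h1
    · left
      have h2 : α = MulAut.conj g * ((MulAut.conj g)⁻¹ * α * MulAut.conj g) * (MulAut.conj g)⁻¹ := by group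
      rw [h2, h1, mul_one, mul_inv_cancel]
    · right
      have h2 : α = MulAut.conj g * ((MulAut.conj g)⁻¹ * α * MulAut.conj g) * (MulAut.conj g)⁻¹ := by group
      rw [h2, h1, map_mul, map_mul, map_inv]
  · -- Qcard
    intro w hw
    obtain ⟨g, rfl⟩ := exists_conj F hw
    have h1 : (RE K).map (MulAut.conj g).toMonoidHom ≤ OQ (g * r0 F * g⁻¹) := by
      rintro _ ⟨y, hy, rfl⟩
      rw [hmem]
      have e : g⁻¹ * ((MulAut.conj g).toMonoidHom y) * g = y := by
        show g⁻¹ * (g * y * g⁻¹) * g = y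
        group
      rw [e]
      exact hy
    have h2 : Nat.card ((RE K).map (MulAut.conj g).toMonoidHom) = Nat.card (RE K) :=
      Nat.card_congr ((RE K).equivMapOfInjective _ (MulAut.conj g).injective).toEquiv.symm
    have h3 := Subgroup.card_le_of_le h1
    have h4 := card_RE_gt F
    omega
  · -- near
    intro b hb
    obtain ⟨g, rfl⟩ := exists_conj F hb
    refine ⟨g * c0 F * g⁻¹, B.conj _ (xe_T F 70 (by decide +kernel)) g, ?_, OQ_conj g _ _ (r0_OQ_c0 F)⟩
    intro h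
    have h1 : c0 F = r0 F := by
      calc c0 F = g⁻¹ * (g * c0 F * g⁻¹) * g := by group
        _ = r0 F := by rw [h]; group
    exact x_ne (K := K) (r := 70) (s := 71) (by norm_num) (by norm_num) (by norm_num) (congrArg Subtype.val h1)
  · -- irr
    intro b hb M hbM hMQ hn hr m hm
    obtain ⟨g, rfl⟩ := exists_conj F hb
    set N : Subgroup ↥(twistedE6 K 2) := M.comap (MulAut.conj g).toMonoidHom with hN
    have hNm : ∀ x, x ∈ N ↔ g * x * g⁻¹ ∈ M := fun x => Iff.rfl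
    have hNR : N ≤ RE K := by
      intro x hx
      have h1 := hMQ ((hNm x).1 hx)
      rw [hmem] at h1
      have e : g⁻¹ * (g * x * g⁻¹) * g = x := by group
      rwa [e] at h1
    have hNinv : ∀ y, y * r0 F = r0 F * y → ∀ x ∈ N, y * x * y⁻¹ ∈ N := by
      intro y hy x hx
      rw [hNm] at hx ⊢
      have h1 := hn (g * y * g⁻¹) (by
        calc g * y * g⁻¹ * (g * r0 F * g⁻¹) = g * (y * r0 F) * g⁻¹ := by group
          _ = g * r0 F * g⁻¹ * (g * y * g⁻¹) := by rw [hy]; group) _ hx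
      have e : g * y * g⁻¹ * (g * x * g⁻¹) * (g * y * g⁻¹)⁻¹ = g * (y * x * y⁻¹) * g⁻¹ := by group
      rwa [e] at h1
    rcases irr F N hNR hNinv with h1 | h1
    · have h2 := h1 (g⁻¹ * m * g) (by
        rw [hNm]
        have e : g * (g⁻¹ * m * g) * g⁻¹ = m := by group
        rwa [e])
      rcases h2 with h2 | h2
      · left
        calc m = g * (g⁻¹ * m * g) * g⁻¹ := by group
          _ = 1 := by rw [h2]; group
      · right
        calc m = g * (g⁻¹ * m * g) * g⁻¹ := by group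
          _ = g * r0 F * g⁻¹ := by rw [h2]
    · exfalso
      have h2 : c0 F ∈ N := by rw [h1]; exact c_R F
      have h3 := hr _ ((hNm _).1 h2) (B.conj _ (xe_T F 70 (by decide +kernel)) g)
      have h4 : c0 F = r0 F := by
        calc c0 F = g⁻¹ * (g * c0 F * g⁻¹) * g := by group
          _ = r0 F := by rw [h3]; group
      exact x_ne (K := K) (r := 70) (s := 71) (by norm_num) (by norm_num) (by norm_num) (congrArg Subtype.val h4)
  · -- big
    intro b hbb hb1 hbT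
    rcases Key.key hRF hX b hbb hb1 with h | ⟨p, q, h, rfl⟩ | ⟨p, q, r, h, rfl⟩
    · exact absurd h hbT
    · obtain ⟨p0, q0, h0, hG⟩ := sym
      obtain ⟨g, rfl, rfl⟩ := hroots.sym p0 h0.1 q0 h0.2.1 p h.1 q h.2.1 h0.2.2.1 h0.2.2.2.1 h0.2.2.2.2
        h.2.2.1 h.2.2.2.1 h.2.2.2.2
      have h1 := (good_of _ hG).conj haut hQaut g
      have e : g * (p0 * q0) * g⁻¹ = g * p0 * g⁻¹ * (g * q0 * g⁻¹) := by group
      rw [e] at h1
      exact ⟨_, h1⟩
    · obtain ⟨p0, q0, r0', h0, hG⟩ := tri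
      obtain ⟨g, rfl, rfl, rfl⟩ := Key.tri_conj hRF hX h0 h
      have h1 := (good_of _ hG).conj haut hQaut g
      have e : g * (p0 * q0 * r0') * g⁻¹ = g * p0 * g⁻¹ * (g * q0 * g⁻¹) * (g * r0' * g⁻¹) := by group
      rw [e] at h1
      exact ⟨_, h1⟩

end Four

end Cfsg.Agent.BabyU.KEqE
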