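import Cfsg.Agent.BabyU.KEqECtx
import Cfsg.Agent.StandardComponent.StdCtx
import Cfsg.Agent.TwoESix.ClassIso

/-!
# S1736(a): `C_G(L) = {1, t}` for `E = ²E₆(2)` from `EF (rootClass F) Q`

`keqSt_of` is literally `HalfA.KEqSt`.
-/

set_option autoImplicit false

namespace Cfsg.Agent.BabyU.KEqE

open Cfsg.Lie

universe u

/-- `HalfA.KEqSt` from the facts on `²E₆(2)`. -/
theorem keqSt_of (hEF : ∀ (F : Type) [Field F] [Fintype F], Fintype.card F = 4 →
      ∃ Q : twistedE6 F 2 → Subgroup (twistedE6 F 2), EF (rootClass F) Q)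
    (G : Type u) [Group G] [Finite G] [IsSimpleGroup G] (hG : ¬ IsMulCommutative G) (F : Type) [Field F] [Fintype F]
    (hF : Fintype.card F = 4) (L K : Subgroup G) (t : G) (π : L →* twistedE6 F 2) (c : CtxTwo L K t π) :
    ∀ k ∈ K, k = 1 ∨ k = t := by
  obtain ⟨Q, hQ⟩ := hEF F hF
  obtain ⟨h, h1, h2⟩ := StandardComponent.StdCtx.fusion hG (StandardComponent.StdCtx.orderOf_two c.t1 c.t2)
  exact K_eq' c hQ ⟨h, h2, h1.eq⟩

end Cfsg.Agent.BabyU.KEqE
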