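import Cfsg.Agent.BabyU.TriLifts
import Cfsg.Agent.TwoESix.KeyExtra
import Cfsg.Agent.TwoESix.KeyQuad
import Cfsg.Agent.TwoESix.RootsInst
import Cfsg.Agent.TwoESix.LeviG
import Cfsg.Agent.TwoESix.GoodInst
import Cfsg.Agent.TwoESix.ExtTwisted

/-!
# The list of the involutions of `²E₆(2)` and of its double cover
-/

set_option autoImplicit false

namespace Cfsg.Agent.BabyU.KeyInst

open Cfsg.Lie Cfsg.Agent.BabyU.Lab Cfsg.Agent.BabyU.RootCfg
open Cfsg.Agent.TwoESix Cfsg.Agent.TwoESix.Cox10 Cfsg.Agent.TwoESix.Lift Cfsg.Agent.TwoESix.Cover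

universe u

variable {K : Type} [Field K] [Fintype K]

/-- The facts `Extra`. -/
theorem extra (hF : Fintype.card K = 2 ^ 2) : Key.Extra hF (rootClass K) where
  opp_trans r hr s hs r' hr' s' hs' h h' :=
    (ExtTwisted.basic K hF).opp_trans r hr s hs r' hr' s' hs' h.1 h.2 h'.1 h'.2
  spe := KeyExtra.spe hF
  odd := KeyExtra.odd hF
  ker := KeyExtra.ker hF
  quad := by
    obtain ⟨p, q, r, s, p', q', r', h1, h2, h3⟩ := KeyQuad.quad K hF
    exact ⟨p, q, r, s, p', q', r', h1, h2, h3⟩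

/-- The input `key` of `Lit.result`. -/
theorem keyE [Finite HB] (hcard : Nat.card HB ≤ Nat.card (twistedE6 K 2)) {G : Type u} [Group G] {t : G}
    {M : Subgroup G} {π : M →* twistedE6 K 2} {hF : Fintype.card K = 2 ^ 2}
    (H : Ident.Hyp hF t M π (rootClass K)) : KeyM.KeyE t M π (rootClass K) (Key.Tri (rootClass K)) := by
  obtain ⟨e, r, h1, h2, h3, -, h5⟩ := GoodInst.exists_good K hF
  have heT : ∀ i, e i ∈ rootClass K := fun i => by
    obtain ⟨g, hg⟩ := h5 i
    exact ⟨g, r, h3, hg⟩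
  obtain ⟨m, hz, hmT⟩ := Chain.exists_lifts H.S h1 h2 hcard heT
  exact TriLifts.keyE H.S (RootsInst.roots K hF) H.RF (extra hF) hz hmT

end Cfsg.Agent.BabyU.KeyInst
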