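import Cfsg.Agent.BabyU.Heptad

/-!
# U-B: the list of the involutions of `M` from the list of the involutions of `E`

`keyM` : `KeyM` from the list of the involutions of `E` and the fusion of the two lifts of the third type.
`root` : (u1) with all inputs on `E` and `M`.
-/

set_option autoImplicit false

namespace Cfsg.Agent.BabyU.KeyM

open Cfsg Cfsg.Agent.BabyU Cfsg.Agent.BabyU.RootCfg Cfsg.Agent.BabyU.Ident
open Cfsg.Agent.TwoESix.Cox10 Cfsg.Agent.TwoESix.Lift Cfsg.Agent.BabyU.Lab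

universe u v w

variable {G : Type u} [Group G] {E : Type v} [Group E] {F : Type w} [Field F] [Fintype F]
variable {hF : Fintype.card F = 2 ^ 2} {t : G} {M : Subgroup G} {π : M →* E} {R : Set E}

/-- The list of the involutions of `E` and the fusion of the lifts of the third type. -/
structure KeyE (t : G) (M : Subgroup G) (π : M →* E) (R : Set E) (Tri : E → E → E → Prop) : Prop where
  tri : ∀ p q r, Tri p q r → p ∈ R ∧ q ∈ R ∧ r ∈ R ∧ p ≠ q ∧ p ≠ r ∧ q ≠ r ∧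
    p * q = q * p ∧ p * r = r * p ∧ q * r = r * q
  key : ∀ f : E, f * f = 1 → f ≠ 1 → f ∈ R ∨ (∃ a b, (a ∈ R ∧ b ∈ R ∧ a ≠ b ∧ a * b = b * a ∧ a * b ∉ R) ∧
    f = a * b) ∨ ∃ p q r, Tri p q r ∧ f = p * q * r
  lifts : ∀ p q r, Tri p q r → ∃ x : M, π x = p * q * r ∧ ∃ m : M, (m : G) * x * (m : G)⁻¹ = t * x

variable (H : Hyp hF t M π R)

include H

theorem keyM {Tri : E → E → E → Prop} (K : KeyE t M π R Tri) : FusU1.KeyM t M π R := by
  intro y hy h1 ht
  have hπ1 : π y ≠ 1 := by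
    intro h
    rcases (H.S.ker y).1 h with h2 | h2
    · exact h1 h2
    · exact ht h2
  rcases K.key (π y) (by rw [← map_mul, hy, map_one]) hπ1 with h | ⟨a, b, ⟨ha, hb, hne, hab, -⟩, h⟩ |
    ⟨p, q, r, hT, h⟩
  · exact Or.inl h
  · exact Or.inr (Or.inl ⟨a, ha, b, hb, hne, hab, h⟩)
  · right; right
    obtain ⟨hp, hq, hr, npq, npr, nqr, cpq, cpr, cqr⟩ := K.tri p q r hT
    obtain ⟨x₁, e1, d1⟩ := H.exists_good hp
    obtain ⟨x₂, e2, d2⟩ := H.exists_good hq
    obtain ⟨x₃, e3, d3⟩ := H.exists_good hr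
    have r1 : Rel t M π R t x₁ := H.rel_base.2 ⟨⟨x₁.2, by rw [Subtype.coe_eta, e1]; exact hp⟩, d1⟩
    have r2 : Rel t M π R t x₂ := H.rel_base.2 ⟨⟨x₂.2, by rw [Subtype.coe_eta, e2]; exact hq⟩, d2⟩
    have r3 : Rel t M π R t x₃ := H.rel_base.2 ⟨⟨x₃.2, by rw [Subtype.coe_eta, e3]; exact hr⟩, d3⟩
    have c12 : (x₁ : G) * x₂ = x₂ * x₁ := H.comm_of (by rw [e2]; exact hq) d2 (by rw [e1, e2]; exact cpq)
    have c13 : (x₁ : G) * x₃ = x₃ * x₁ := H.comm_of (by rw [e3]; exact hr) d3 (by rw [e1, e3]; exact cpr)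
    have c23 : (x₂ : G) * x₃ = x₃ * x₂ := H.comm_of (by rw [e3]; exact hr) d3 (by rw [e2, e3]; exact cqr)
    have n12 : (x₁ : G) ≠ x₂ := fun e => npq (by rw [← e1, ← e2, Subtype.ext e])
    have n13 : (x₁ : G) ≠ x₃ := fun e => npr (by rw [← e1, ← e3, Subtype.ext e])
    have n23 : (x₂ : G) ≠ x₃ := fun e => nqr (by rw [← e2, ← e3, Subtype.ext e])
    have h5 : π y = π (x₁ * x₂ * x₃) := by rw [h, map_mul, map_mul, e1, e2, e3]
    rcases H.eq_or h5 with h6 | h6
    · exact ⟨x₁, x₂, x₃, r1, r2, r3, n12, n13, n23, c12, c13, c23, h6⟩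
    · -- the other lift
      obtain ⟨x, ex, m, hm⟩ := K.lifts p q r hT
      have ctm : (m : G) * t = t * m := H.S.comm m m.2
      have h7 : ∃ m : M, (m : G) * (x₁ * x₂ * x₃ : M) * (m : G)⁻¹ = t * (x₁ * x₂ * x₃ : M) := by
        have h8 : π x = π (x₁ * x₂ * x₃) := by rw [ex, map_mul, map_mul, e1, e2, e3]
        rcases H.eq_or h8 with h9 | h9
        · exact ⟨m, by rw [← h9]; exact hm⟩
        · refine ⟨m, ?_⟩
          have h10 : ((x₁ * x₂ * x₃ : M) : G) = t * x := by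
            rw [h9, ← mul_assoc, H.S.sq, one_mul]
          rw [h10]
          calc (m : G) * (t * x) * (m : G)⁻¹ = (m : G) * t * x * (m : G)⁻¹ := by group
            _ = t * (m * x * (m : G)⁻¹) := by rw [ctm]; group
            _ = t * (t * x) := by rw [hm]
      obtain ⟨n, hn⟩ := h7
      have ctn : (n : G) * t * (n : G)⁻¹ = t := by rw [H.S.comm n n.2]; group
      have eqv : ∀ {b : G}, Rel t M π R t b → Rel t M π R t (n * b * (n : G)⁻¹) := by
        intro b hb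
        have := hb.equiv (n : G)
        rwa [ctn] at this
      have ne' : ∀ {a b : G}, a ≠ b → (n : G) * a * (n : G)⁻¹ ≠ n * b * (n : G)⁻¹ := fun h h' =>
        h (mul_left_cancel (mul_right_cancel h'))
      have cm : ∀ {a b : G}, a * b = b * a →
          ((n : G) * a * (n : G)⁻¹) * (n * b * (n : G)⁻¹) = (n * b * (n : G)⁻¹) * (n * a * (n : G)⁻¹) := by
        intro a b h
        calc ((n : G) * a * (n : G)⁻¹) * (n * b * (n : G)⁻¹) = n * (a * b) * (n : G)⁻¹ := by group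
          _ = n * (b * a) * (n : G)⁻¹ := by rw [h]
          _ = _ := by group
      refine ⟨n * x₁ * (n : G)⁻¹, n * x₂ * (n : G)⁻¹, n * x₃ * (n : G)⁻¹, eqv r1, eqv r2, eqv r3, ne' n12, ne' n13,
        ne' n23, cm c12, cm c13, cm c23, ?_⟩
      rw [h6, ← hn]
      show (n : G) * ((x₁ : G) * x₂ * x₃) * (n : G)⁻¹ = _
      group

/-- **(u1)** -/
theorem root {Tri : E → E → E → Prop} (K : KeyE t M π R Tri) (Rt : Roots E R) {m : Fin 10 → M}
    (hz : ZRels m H.S.z) (hT : ∀ i, π (m i) ∈ R) (y : M) (hD : ∃ g : G, g * t * g⁻¹ = y) (hne : (y : G) ≠ t) :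
    π y ∈ R :=
  FusU1.root H (keyM H K) (Heptad.exists_heptad H Rt hz hT) Rt.sym y hD hne

end Cfsg.Agent.BabyU.KeyM
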