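import Cfsg.Agent.TwoESix.FlagI
import Cfsg.Agent.BabyU.Lab

/-!
# U-B: a line of root involutions and a root involution symplectic to two of its points

`exists_cfg`: a special pair `a`, `y` and a root involution `b` commuting with both, symplectic to `a`.
`exists_line`: a line `a`, `s`, `a s` and a root involution `b` commuting with it, symplectic to `a` and to `a s`, with
`w a * w s = w (a s)` for the canonical lifts to a double cover.
-/

set_option autoImplicit false
set_option linter.unusedSectionVars false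

namespace Cfsg.Agent.BabyU.LineCfg

open Cfsg.Lie
open Cfsg.Agent.ChevalleyStructure
open Cfsg.Agent.ChevalleyStructure.Elts hiding x_add x_zero x_eq_one_iff
open Cfsg.Agent.ChevalleyStructure.TwE6Basic
open Cfsg.Agent.ChevalleyStructure.TwE6BN
open Cfsg.Agent.TwoESix.LeviA
open Cfsg.Agent.TwoESix.LeviB
open Cfsg.Agent.TwoESix.LeviC
open Cfsg.Agent.TwoESix.LeviD
open Cfsg.Agent.TwoESix.LongPairs
open Cfsg.Agent.TwoESix.LongCard
open Cfsg.Agent.TwoESix.FlagH
open Cfsg.Agent.TwoESix.FlagI
open Cfsg.Agent.BabyU (rootClass)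

open scoped commutatorElement

universe u

section Concrete

variable {K : Type u} [Field K]

theorem comm_60_25 [CharP K 2] : x 60 (1 : K) * x 25 1 = x 25 1 * x 60 1 :=
  comm_of_commTerms (r := 25) (s := 60) (by norm_num) (by norm_num) (by norm_num) (by decide +kernel)
    (by decide +kernel) 1 1

/-- A special pair `a`, `y` and `b` commuting with both and symplectic to `a`. -/
theorem exists_cfg [Fintype K] (hK : Fintype.card K = 4) : ∃ a ∈ rootClass K, ∃ y ∈ rootClass K,
    ∃ b ∈ rootClass K, (a * y) ^ 2 ∈ rootClass K ∧ a * b = b * a ∧ y * b = b * y ∧ a ≠ b ∧ a * b ∉ rootClass K := by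
  obtain ⟨-, φ, F⟩ := exists_four K hK
  have := F.charP
  refine ⟨r0 F, xe_T F 71 (by decide +kernel), xe F 25 (by decide +kernel), xe_T F 25 _, xe F 60 (by decide +kernel),
    xe_T F 60 _, ?_, Subtype.ext comm60, Subtype.ext comm_60_25.symm, ?_, ?_⟩
  · have h : (r0 F * xe F 25 (by decide +kernel)) ^ 2 = xe F 70 (by decide +kernel) := Subtype.ext sq25
    rw [h]
    exact xe_T F 70 _
  · intro h
    exact x_ne (K := K) (r := 71) (s := 60) (by norm_num) (by norm_num) (by norm_num) (congrArg Subtype.val h)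
  · have h : r0 F * xe F 60 (by decide +kernel) = xe F 60 (by decide +kernel) * r0 F := Subtype.ext comm60
    rw [h]
    exact ab_not F

end Concrete

section Abstract

open Cfsg.Agent.BabyU.Lab

variable {M E : Type*} [Group M] [Group E] {π : M →* E} {z : M} {T : Set E}

/-- The line configuration with the canonical lifts. -/
theorem exists_line (C : Cover π z) (R : Roots E T) (h : ∃ a ∈ T, ∃ y ∈ T, ∃ b ∈ T, (a * y) ^ 2 ∈ T ∧
    a * b = b * a ∧ y * b = b * y ∧ a ≠ b ∧ a * b ∉ T) :
    ∃ a ∈ T, ∃ s ∈ T, ∃ b ∈ T, a * s ∈ T ∧ a * s = s * a ∧ a * b = b * a ∧ s * b = b * s ∧ a ≠ b ∧ a * b ∉ T ∧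
      a * s ≠ b ∧ a * s * b ∉ T ∧ w π T a * w π T s = w π T (a * s) := by
  obtain ⟨a, ha, y, hy, b, hb, hs, hab, hyb, hne, hnot⟩ := h
  have aa := R.sq a ha
  have yy := R.sq y hy
  have ai : a⁻¹ = a := inv_eq_of_mul_eq_one_left aa
  have yi : y⁻¹ = y := inv_eq_of_mul_eq_one_left yy
  have e1 : a * (a * y) ^ 2 = y * a * y⁻¹ := by
    rw [yi, pow_two]
    calc a * (a * y * (a * y)) = (a * a) * y * a * y := by group
      _ = y * a * y := by rw [aa, one_mul]
  have hT : a * (a * y) ^ 2 ∈ T := by rw [e1]; exact R.conj a ha y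
  have hsb : (a * y) ^ 2 * b = b * (a * y) ^ 2 :=
    (Commute.pow_left (Commute.mul_left (show Commute a b from hab) (show Commute y b from hyb)) 2).eq
  have hcomm : a * (a * y) ^ 2 = (a * y) ^ 2 * a := by
    have h1 := R.sq _ hT
    have h2 := R.sq _ hs
    have h3 : (a * (a * y) ^ 2)⁻¹ = a * (a * y) ^ 2 := inv_eq_of_mul_eq_one_left h1
    rw [mul_inv_rev, ai, inv_eq_of_mul_eq_one_left h2] at h3
    exact h3.symm
  have hby : b = y * b * y⁻¹ := by rw [hyb, mul_inv_cancel_right]
  refine ⟨a, ha, (a * y) ^ 2, hs, b, hb, hT, hcomm, hab, hsb, hne, hnot, ?_, ?_, ?_⟩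
  · rw [e1]
    intro h
    apply hne
    rw [hby] at h
    exact mul_left_cancel (mul_right_cancel h)
  · rw [e1]
    intro h
    apply hnot
    have e2 : y * a * y⁻¹ * b = y * (a * b) * y⁻¹ := by
      calc y * a * y⁻¹ * b = y * a * y⁻¹ * (y * b * y⁻¹) := by rw [← hby]
        _ = y * (a * b) * y⁻¹ := by group
    rw [e2] at h
    have h1 := R.conj _ h y⁻¹
    have e3 : y⁻¹ * (y * (a * b) * y⁻¹) * y⁻¹⁻¹ = a * b := by group
    rwa [e3] at h1
  · rw [← w_spe C R ha hy hs, e1]
    have e2 := w_conj C R (w π T y) ha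
    rw [map_w C R hy] at e2
    rw [← e2, w_inv C R hy, pow_two]
    have wa := w_sq C R ha
    calc w π T a * (w π T a * w π T y * (w π T a * w π T y)) =
        (w π T a * w π T a) * w π T y * w π T a * w π T y := by group
      _ = w π T y * w π T a * w π T y := by rw [wa, one_mul]

end Abstract

end Cfsg.Agent.BabyU.LineCfg
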