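import Cfsg.Agent.BabyU.ClosGlue
import Cfsg.Agent.BabyU.ClosMap
import Cfsg.Agent.BabyU.FusGood
import Cfsg.Agent.BabyU.Chain
import Cfsg.Agent.BabyU.FusFinal
import Cfsg.Agent.BabyU.Ident
import Cfsg.Agent.BabyU.KeyM
import Cfsg.Agent.TwoESix.ExtTwisted
import Cfsg.Agent.TwoESix.GoodInst

/-!
# The literal S1662 from its pieces

Every input which is not on main yet is a hypothesis in its final form.
-/

set_option autoImplicit false

namespace Cfsg.Agent.BabyU.Lit

open Cfsg.Lie Cfsg.Agent.BabyU.Lab Cfsg.Agent.BabyU.RootCfg Cfsg.Agent.BabyU.Clos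
open Cfsg.Agent.TwoESix Cfsg.Agent.TwoESix.Cox10 Cfsg.Agent.TwoESix.Lift Cfsg.Agent.TwoESix.Cover Cfsg.Agent.BabyU.Ident

universe u

variable {K : Type} [Field K] [Fintype K]

/-- facts on `E = ²E₆(2)` alone -/
structure Facts2E6 (K : Type) [Field K] [Fintype K] (hF : Fintype.card K = 2 ^ 2) : Prop where
  /-- stage A (helper62) -/
  fin : Finite HB
  card : Nat.card HB ≤ Nat.card (twistedE6 K 2)
  /-- helper883: LeviG.rootFacts -/
  root : RootFacts hF (rootClass K)
  /-- helper883: LeviHyp.outHyp -/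
  out : OutCount.Hyp hF (rootClass K)
  /-- helper450 -/
  roots : Lab.Roots (twistedE6 K 2) (rootClass K)
  /-- helper476, helper923 -/
  flag : ∃ (R S : Subgroup (twistedE6 K 2)) (b a c : twistedE6 K 2), FusGood.Flag (rootClass K) R S b a c
  /-- simplicity (S1063 or the like) -/
  simple : IsSimpleGroup (twistedE6 K 2)

theorem exists_good (hF : Fintype.card K = 2 ^ 2) : ∃ e : Fin 10 → twistedE6 K 2, Good e ∧
    Subgroup.closure (Set.range e) = ⊤ ∧ ∀ i, e i ∈ rootClass K := by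
  obtain ⟨e, r, h1, h2, h3, -, h5⟩ := GoodInst.exists_good K hF
  exact ⟨e, h1, h2, fun i => by
    obtain ⟨g, hg⟩ := h5 i
    exact ⟨g, r, h3, hg⟩⟩

section

variable {hF : Fintype.card K = 2 ^ 2} (F : Facts2E6 K hF)
include F

variable {G : Type u} [Group G] {t : G} {M : Subgroup G} {π : M →* twistedE6 K 2}

/-- **Fusion**: `FusW`. -/
theorem fusW [Finite G] [IsSimpleGroup G] (S : Setup t M π) (hout : ∃ g : G, g * t = t * g ∧ g ∉ M) :
    FusW t M π (rootClass K) := by
  have := F.fin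
  have B := ExtTwisted.basic K hF
  have hinv : ∀ (g : G) (hg : g * t = t * g) (x : M), π x ∈ rootClass K →
      π ⟨g * x * g⁻¹, S.norm g hg x x.2⟩ ∈ rootClass K := fun g hg x hx =>
    ExtTwisted.setup_inv B S g hg x _ rfl hx
  have hfuse := FusFinal.fuse hF S F.card F.out F.roots hinv hout
  obtain ⟨e, he, hgen, heT⟩ := exists_good hF
  obtain ⟨hperf, hchain⟩ := Chain.perf_chain S F.roots B.ord he hgen F.card heT
  obtain ⟨R, S', b, a, c, hflag⟩ := F.flag
  have H : FusGood.Hyp t M π (rootClass K) R S' b a c :=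
    { set := S, roots := F.roots, flag := hflag, perf := hperf b hflag.b_mem
      out := fun h hh m m' e hm => ExtTwisted.setup_inv B S h hh m m' e hm
      fuse := hfuse, chain := hchain }
  obtain ⟨h1, h2, h3⟩ := H.fusW
  refine ⟨h1, h2, ?_⟩
  intro x y hx hy hxy hc hyc g hg
  obtain ⟨h, hh⟩ := h3 x y hx hy hxy (Subtype.ext hc) hyc g hg.symm
  exact ⟨⟨g⁻¹ * y * g, h⟩, rfl, hh⟩

/-- **Identification.** -/
theorem exists_hom [Finite G] (S : Setup t M π) (W : FusW t M π (rootClass K))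
    (perf1 : ∀ r ∈ rootClass K, ⁅(Subgroup.centralizer ({r} : Set (twistedE6 K 2))).comap π,
      (Subgroup.centralizer ({r} : Set (twistedE6 K 2))).comap π⁆ =
      (Subgroup.centralizer ({r} : Set (twistedE6 K 2))).comap π)
    (perf2 : ∀ r ∈ rootClass K, ∀ s ∈ rootClass K, RootCfg.Opp r s →
      ⁅(Subgroup.centralizer ({r, s} : Set (twistedE6 K 2))).comap π,
      (Subgroup.centralizer ({r, s} : Set (twistedE6 K 2))).comap π⁆ =
      (Subgroup.centralizer ({r, s} : Set (twistedE6 K 2))).comap π) :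
    ∃ φ : Spor.BabyMonster →* G, M ≤ φ.range ∧ ∃ g : G, φ (PresentedGroup.of .t1) = g * t * g⁻¹ := by
  have := F.fin
  have := F.simple
  obtain ⟨e0, he0, hgen, -⟩ := exists_good hF
  have : Finite (twistedE6 K 2) := inferInstance
  exact Ident.ident (hF := hF) ⟨S, F.root, W, perf1, perf2⟩ fun e h1 h2 h3 h4 h5 =>
    IdentGen.closure_eq_top he0 hgen F.card h1 h2 h3 h4 h5

/-- **(u1)** -/
theorem u1 [Finite G] (H : Ident.Hyp hF t M π (rootClass K))
    {Tri : twistedE6 K 2 → twistedE6 K 2 → twistedE6 K 2 → Prop} (X : KeyM.KeyE t M π (rootClass K) Tri) :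
    ∀ y : M, (∃ g : G, g * t * g⁻¹ = y) → (y : G) ≠ t → π y ∈ rootClass K := by
  have := F.fin
  obtain ⟨e, he, hgen, heT⟩ := exists_good hF
  obtain ⟨m, hz, hmT⟩ := Chain.exists_lifts H.S he hgen F.card heT
  intro y hD hne
  exact KeyM.root H X F.roots hz hmT y hD hne

end

/-- the centraliser of `φ t1` is in the range, by orders -/
theorem cent_le {G : Type u} [Group G] [Finite G] {t : G} {M : Subgroup G} {π : M →* twistedE6 K 2}
    (hcard : ∀ (K : Type) [Field K] [Fintype K], Fintype.card K = 4 →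
      Nat.card (Subgroup.centralizer ({PresentedGroup.of .t1} : Set Spor.BabyMonster)) = 4 * Nat.card (twistedE6 K 2))
    (hK : Fintype.card K = 4) (S : Setup t M π) {φ : Spor.BabyMonster →* G} (hinj : Function.Injective φ) {g : G}
    (hg : φ (PresentedGroup.of .t1) = g * t * g⁻¹) :
    ∀ x : G, x * φ (PresentedGroup.of .t1) = φ (PresentedGroup.of .t1) * x → x ∈ φ.range := by
  set a : Spor.BabyMonster := PresentedGroup.of .t1 with ha
  set CB := Subgroup.centralizer ({a} : Set Spor.BabyMonster) with hCB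
  have hle : CB.map φ ≤ Subgroup.centralizer ({φ a} : Set G) := by
    rintro _ ⟨b, hb, rfl⟩
    rw [Subgroup.mem_centralizer_iff]
    rintro _ rfl
    rw [← map_mul, ← map_mul, (Subgroup.mem_centralizer_iff.1 hb) a rfl]
  have hconj : Nat.card (Subgroup.centralizer ({φ a} : Set G)) = Nat.card (Subgroup.centralizer ({t} : Set G)) := by
    have : Subgroup.centralizer ({φ a} : Set G) =
        (Subgroup.centralizer ({t} : Set G)).map (MulAut.conj g).toMonoidHom := by
      ext x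
      rw [Subgroup.mem_centralizer_iff, Subgroup.mem_map]
      constructor
      · intro hx
        have hx' := hx _ rfl
        refine ⟨g⁻¹ * x * g, ?_, by simp [mul_assoc]⟩
        rw [Subgroup.mem_centralizer_iff]
        intro y hy
        rw [Set.mem_singleton_iff] at hy
        rw [hy]
        rw [hg] at hx'
        calc t * (g⁻¹ * x * g) = g⁻¹ * (g * t * g⁻¹ * x) * g := by group
          _ = g⁻¹ * (x * (g * t * g⁻¹)) * g := by rw [hx']
          _ = g⁻¹ * x * g * t := by group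
      · rintro ⟨y, hy, rfl⟩ w hw
        rw [Set.mem_singleton_iff] at hw
        have hy' := (Subgroup.mem_centralizer_iff.1 hy) t rfl
        rw [hw, hg]
        show g * t * g⁻¹ * (g * y * g⁻¹) = g * y * g⁻¹ * (g * t * g⁻¹)
        calc g * t * g⁻¹ * (g * y * g⁻¹) = g * (t * y) * g⁻¹ := by group
          _ = g * (y * t) * g⁻¹ := by rw [hy']
          _ = g * y * g⁻¹ * (g * t * g⁻¹) := by group
    rw [this, Subgroup.card_map_of_injective (MulAut.conj g).injective]
  have h1 : Nat.card (CB.map φ) = 4 * Nat.card (twistedE6 K 2) := by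
    rw [Subgroup.card_map_of_injective hinj, hcard K hK]
  have h2 : Nat.card (Subgroup.centralizer ({φ a} : Set G)) ≤ Nat.card (CB.map φ) := by
    rw [h1, hconj]; exact S.card_centralizer
  have h3 : CB.map φ = Subgroup.centralizer ({φ a} : Set G) := Subgroup.eq_of_le_of_card_ge hle h2
  intro x hx
  have h4 : x ∈ Subgroup.centralizer ({φ a} : Set G) := by
    rw [Subgroup.mem_centralizer_iff]
    rintro _ rfl
    exact hx.symm
  rw [← h3] at h4
  obtain ⟨b, _, rfl⟩ := h4
  exact ⟨b, rfl⟩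

/-- the model of the Baby Monster with the facts for the closing -/
structure ModelB (Γ : Type) [Group Γ] : Prop where
  /-- S1704, KHAll.iso -/
  iso : ∃ f : Spor.BabyMonster ≃* Γ, ∃ (P M₁ : Subgroup Γ) (z τ τ₁ : Γ), Inner ⊤ P M₁ z τ τ₁ ∧
    (∃ g : Γ, f (PresentedGroup.of .t1) = g * τ * g⁻¹) ∧ ∃ g : Γ, g * τ = τ * g ∧ g ∉ M₁

/-- **S1662.** -/
theorem result (h62 : ∀ (K : Type) [Field K] [Fintype K] (hF : Fintype.card K = 2 ^ 2), Facts2E6 K hF)
    (cent : CentralizerSt) {Γ : Type} [Group Γ] (model : ModelB Γ)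
    (perf1 : ∀ {G : Type u} [Group G] [Finite G] {t : G} {M : Subgroup G} {K : Type} [Field K] [Fintype K]
      {π : M →* twistedE6 K 2}, Fintype.card K = 4 → Setup t M π →
      ∀ r ∈ rootClass K, ⁅(Subgroup.centralizer ({r} : Set (twistedE6 K 2))).comap π,
      (Subgroup.centralizer ({r} : Set (twistedE6 K 2))).comap π⁆ =
      (Subgroup.centralizer ({r} : Set (twistedE6 K 2))).comap π)
    (perf2 : ∀ {G : Type u} [Group G] [Finite G] {t : G} {M : Subgroup G} {K : Type} [Field K] [Fintype K]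
      {π : M →* twistedE6 K 2}, Fintype.card K = 4 → Setup t M π → FusW t M π (rootClass K) →
      ∀ r ∈ rootClass K, ∀ s ∈ rootClass K, RootCfg.Opp r s →
      ⁅(Subgroup.centralizer ({r, s} : Set (twistedE6 K 2))).comap π,
      (Subgroup.centralizer ({r, s} : Set (twistedE6 K 2))).comap π⁆ =
      (Subgroup.centralizer ({r, s} : Set (twistedE6 K 2))).comap π)
    (key : ∀ {G : Type u} [Group G] [Finite G] {t : G} {M : Subgroup G} {K : Type} [Field K] [Fintype K]
      {π : M →* twistedE6 K 2} {hF : Fintype.card K = 2 ^ 2}, Ident.Hyp hF t M π (rootClass K) →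
      ∃ Tri : twistedE6 K 2 → twistedE6 K 2 → twistedE6 K 2 → Prop, KeyM.KeyE t M π (rootClass K) Tri)
    {G : Type u} [Group G] [Finite G] [IsSimpleGroup G] (t : G) (ht : orderOf t = 2)
    (M : Subgroup (Subgroup.centralizer ({t} : Set G))) [M.Normal] (hM : M.index = 2)
    (K : Type) [Field K] [Fintype K] (hK : Fintype.card K = 4)
    (hout : Subgroup.centralizer (M : Set (Subgroup.centralizer ({t} : Set G))) ≤ M)
    (hcov : Cfsg.IsNonsplitDoubleCover M (Cfsg.Lie.twistedE6 K 2)) : Cfsg.Spor.IsoB G := by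
  classical
  obtain ⟨π, S, hidx⟩ := exists_setup t ht M hM hout hcov
  generalize hM' : M.map (Subgroup.centralizer ({t} : Set G)).subtype = M' at π S hidx
  have hF : Fintype.card K = 2 ^ 2 := hK
  have F := h62 K hF
  have W := fusW F S hidx
  have p1 := perf1 hK S
  have p2 := perf2 hK S W
  have HH : Ident.Hyp hF t M' π (rootClass K) := ⟨S, F.root, W, p1, p2⟩
  obtain ⟨Tri, hTri⟩ := key HH
  have rt := u1 F HH hTri
  obtain ⟨φ, hMφ, g, hg⟩ := exists_hom F S W p1 p2
  obtain ⟨hsimp, hfin, hcard⟩ := cent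
  -- `φ` is injective
  have hinj : Function.Injective φ := by
    rw [← MonoidHom.ker_eq_bot_iff]
    rcases hsimp.eq_bot_or_eq_top_of_normal φ.ker inferInstance with h | h
    · exact h
    · exfalso
      have : φ (PresentedGroup.of .t1) = 1 := by
        have h1 : (PresentedGroup.of .t1 : Spor.BabyMonster) ∈ φ.ker := by rw [h]; trivial
        exact h1
      rw [this] at hg
      have h2 : t = 1 := by
        have h3 : g⁻¹ * 1 * g = t := by rw [hg]; group
        rw [← h3]; group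
      exact S.ne h2
  have hcent := cent_le hcard hK S hinj hg
  -- the model
  obtain ⟨f, P, M₁, z, τ, τ₁, I, ⟨γ, hγ⟩, ⟨κ, hκ, hκM⟩⟩ := model.iso
  set ψ : Γ →* G := φ.comp f.symm.toMonoidHom with hψ
  have hψinj : Function.Injective ψ := hinj.comp f.symm.injective
  have hrange : (⊤ : Subgroup Γ).map ψ = φ.range := by
    rw [← MonoidHom.range_eq_map]
    ext x
    constructor
    · rintro ⟨y, rfl⟩
      exact ⟨f.symm y, rfl⟩
    · rintro ⟨y, rfl⟩
      exact ⟨f y, by show φ (f.symm (f y)) = φ y; rw [f.symm_apply_apply]⟩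
  have I' := Inner.map I ψ hψinj
  have hx : ψ (γ * τ * γ⁻¹) = φ (PresentedGroup.of .t1) := by
    rw [← hγ]
    show φ (f.symm (f _)) = _
    rw [f.symm_apply_apply]
  have hτ : ((ψ γ)⁻¹ * g) * t * ((ψ γ)⁻¹ * g)⁻¹ = ψ τ := by
    have h1 : ψ γ * ψ τ * (ψ γ)⁻¹ = g * t * g⁻¹ := by
      rw [← hg, ← hx, map_mul, map_mul, map_inv]
    calc ((ψ γ)⁻¹ * g) * t * ((ψ γ)⁻¹ * g)⁻¹ = (ψ γ)⁻¹ * (g * t * g⁻¹) * ψ γ := by group
      _ = ψ τ := by rw [← h1]; group
  have hψr : ∀ y : Γ, ψ y ∈ φ.range := fun y => ⟨f.symm y, rfl⟩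
  have hc : ∀ x : G, x * ψ τ = ψ τ * x → x ∈ (⊤ : Subgroup Γ).map ψ := by
    intro x hx'
    rw [hrange]
    have h1 : ψ τ = (ψ γ)⁻¹ * φ (PresentedGroup.of .t1) * ψ γ := by
      rw [← hx, map_mul, map_mul, map_inv]; group
    have h2 := hcent (ψ γ * x * (ψ γ)⁻¹) (by
      have h3 : φ (PresentedGroup.of .t1) = ψ γ * ψ τ * (ψ γ)⁻¹ := by rw [h1]; group
      rw [h3]
      calc ψ γ * x * (ψ γ)⁻¹ * (ψ γ * ψ τ * (ψ γ)⁻¹) = ψ γ * (x * ψ τ) * (ψ γ)⁻¹ := by group
        _ = ψ γ * (ψ τ * x) * (ψ γ)⁻¹ := by rw [hx']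
        _ = ψ γ * ψ τ * (ψ γ)⁻¹ * (ψ γ * x * (ψ γ)⁻¹) := by group)
    have h4 := φ.range.mul_mem (φ.range.mul_mem (φ.range.inv_mem (hψr γ)) h2) (hψr γ)
    have e : (ψ γ)⁻¹ * (ψ γ * x * (ψ γ)⁻¹) * ψ γ = x := by group
    rwa [e] at h4
  have hprop : ∃ x : G, x * ψ τ = ψ τ * x ∧ x ∉ M₁.map ψ := by
    refine ⟨ψ κ, by rw [← map_mul, hκ, map_mul], ?_⟩
    rintro ⟨y, hy, hyκ⟩
    exact hκM (hψinj hyκ ▸ hy)
  have := F.simple
  have hE : ∃ a b : twistedE6 K 2, a * b ≠ b * a := by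
    obtain ⟨a, b, h⟩ := FusFinal.exists_not_commute F.roots
    exact ⟨a, b, h⟩
  have hperf := ClosGlue.perfect_setup S hE
  have htop := ClosGlue.eq_top S hperf W.xor F.root.one rt I' hτ hc hprop
  rw [hrange] at htop
  exact ⟨(MulEquiv.ofBijective φ ⟨hinj, MonoidHom.range_eq_top.1 htop⟩).symm⟩

end Cfsg.Agent.BabyU.Lit
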