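import Cfsg.Agent.BabyU.OutCount
import Cfsg.Agent.BabyU.OutFree

/-!
# Automorphisms of `²E₆(2)` and of its double cover

`R` is a class of involutions of `E` with the properties `OutCount.Hyp` (opposite pairs conjugate, centralisers of
opposite pairs are `PSU 6 F 2`, elements of `R` going to transvections); `E` is generated by a configuration of type
`Y₃₃₃` of elements of `R` and has a non-split double cover.  Then any two such configurations are conjugate up to a
permutation of the three arms (`Main.arms`), every automorphism of `E` preserving `R` is the product of an inner one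
and an arm permutation (`Main.auto`), and every element outside of `M` of a group `C` with `M` normal,
`C_C(M) ≤ M`, can be corrected by an element of `M` so as to exchange the last two arms (`Main.outer`).
-/

set_option autoImplicit false

namespace Cfsg.Agent.BabyU.Out

open Cfsg Cfsg.Agent.TwoESix Cfsg.Agent.TwoESix.Cox10 Cfsg.Agent.TwoESix.Lift Cfsg.Agent.TwoESix.Cover
open Cfsg.Agent.R01.Lifts Cfsg.Agent.BabyU.OutCount Cfsg.Agent.BabyU.OutFree

variable {F : Type*} [Field F] [Fintype F] {hF : Fintype.card F = 2 ^ 2}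
variable {E : Type*} [Group E]

/-! ### Adjacent nodes do not commute -/

theorem sq_of_good {f : Fin 10 → E} (h : Good f) (i : Fin 10) : f i * f i = 1 := sq h.lift i

theorem three_of_good {f : Fin 10 → E} (h : Good f) {i j : Fin 10} (hij : adj i j = true) : (f i * f j) ^ 3 = 1 := by
  have := h.lift i j
  rwa [M10_apply, lab_adj i j hij] at this

theorem eq_of_commute {a b : E} (ha : a * a = 1) (hb : b * b = 1) (h3 : (a * b) ^ 3 = 1) (hc : Commute a b) :
    a = b := by
  have h2 : (a * b) ^ 2 = 1 := by rw [hc.mul_pow, pow_two, pow_two, ha, hb, mul_one]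
  have h1 : a * b = 1 := by
    calc a * b = (a * b) ^ 3 * ((a * b) ^ 2)⁻¹ := by group
      _ = 1 := by rw [h3, h2]; simp
  calc a = a * (b * b) := by rw [hb, mul_one]
    _ = (a * b) * b := by rw [mul_assoc]
    _ = b := by rw [h1, one_mul]

theorem commute_of_nonadj {f : Fin 10 → E} (h : Good f) {i j : Fin 10} (hij : adj i j = false) :
    Commute (f i) (f j) := by
  by_cases he : i = j
  · subst he; exact Commute.refl _
  · refine comm_of h.lift ?_
    rw [lab, if_neg he, hij]; rfl

theorem tree : ∀ i j k : Fin 10, adj i j = true → adj j k = true → k = i ∨ adj k i = false := by decide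

/-- In a non-commutative group generated by a configuration adjacent nodes do not commute. -/
theorem nadj_of_gg {f : Fin 10 → E} (hf : GG f) (hE : ∃ a b : E, ¬ Commute a b) {i j : Fin 10}
    (hij : adj i j = true) : ¬ Commute (f i) (f j) := by
  intro hc
  have hall : ∀ k, (∃ l, adj l k = true ∧ f l = f k) := by
    -- the property spreads
    have sp : ∀ k k', adj k k' = true → (∃ l, adj l k = true ∧ f l = f k) → ∃ l, adj l k' = true ∧ f l = f k' := by
      rintro k k' hk ⟨l, hl, he⟩
      refine ⟨k, hk, ?_⟩
      rcases tree l k k' hl hk with h | h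
      · rw [h, he]
      · have h1 : Commute (f k') (f k) := by rw [← he]; exact commute_of_nonadj hf.1 h
        exact eq_of_commute (sq_of_good hf.1 k) (sq_of_good hf.1 k') (three_of_good hf.1 hk) h1.symm
    have h3 : ∃ l, adj l 3 = true ∧ f l = f 3 := by
      have hPj : ∃ l, adj l j = true ∧ f l = f j :=
        ⟨i, hij, eq_of_commute (sq_of_good hf.1 i) (sq_of_good hf.1 j) (three_of_good hf.1 hij) hc⟩
      have := all_nodes (fun k => (∃ l, adj l k = true ∧ f l = f k) → ∃ l, adj l 3 = true ∧ f l = f 3)
        (fun a b hab ha hb => ha (sp b a (adj_symm _ _ hab) hb)) (fun h => h) j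
      exact this hPj
    exact all_nodes (fun k => ∃ l, adj l k = true ∧ f l = f k) sp h3
  -- hence all nodes are equal
  have heq : ∀ k, f k = f 3 := by
    have hedge : ∀ a b, adj a b = true → f a = f b := by
      intro a b hab
      obtain ⟨l, hl, he⟩ := hall a
      rcases tree l a b hl hab with h | h
      · rw [h, he]
      · have h1 : Commute (f b) (f a) := by rw [← he]; exact commute_of_nonadj hf.1 h
        exact eq_of_commute (sq_of_good hf.1 a) (sq_of_good hf.1 b) (three_of_good hf.1 hab) h1.symm
    exact all_nodes (fun k => f k = f 3) (fun a b hab ha => by rw [← hedge a b hab, ha]) rfl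
  obtain ⟨a, b, hab⟩ := hE
  apply hab
  have hmem : ∀ c : E, c ∈ Subgroup.closure ({f 3} : Set E) := by
    intro c
    have : Set.range f = {f 3} := by
      ext x
      constructor
      · rintro ⟨k, rfl⟩; exact heq k
      · rintro rfl; exact ⟨3, rfl⟩
    rw [← this, hf.2]; exact Subgroup.mem_top _
  have hz : ∀ c : E, ∃ n : ℤ, f 3 ^ n = c := fun c => Subgroup.mem_closure_singleton.1 (hmem c)
  obtain ⟨n, rfl⟩ := hz a
  obtain ⟨l, rfl⟩ := hz b
  exact (Commute.refl (f 3)).zpow_zpow n l

theorem cfg_of_gg {R : Set E} {f : Fin 10 → E} (hf : GG f) (hR : ∀ i, f i ∈ R) (hE : ∃ a b : E, ¬ Commute a b) :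
    Cfg R f where
  mem := hR
  nadj _ _ h := nadj_of_gg hf hE h
  three _ _ h := three_of_good hf.1 h
  non _ _ h := commute_of_nonadj hf.1 h

/-! ### The main theorem -/

theorem GG.cj {f : Fin 10 → E} (hf : GG f) (x : E) : GG (OutCount.cj x f) := hf.equiv (MulAut.conj x)

/-- **Two configurations are conjugate up to a permutation of the arms.** -/
theorem arms [Finite HB] {M : Type*} [Group M] (hcov : IsNonsplitDoubleCover M E)
    (hcard : Nat.card HB ≤ Nat.card E) (hE : ∃ a b : E, ¬ Commute a b) {R : Set E} (H : Hyp hF R)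
    {f f' : Fin 10 → E} (hf : GG f) (hfR : ∀ i, f i ∈ R) (hf' : GG f') (hfR' : ∀ i, f' i ∈ R) :
    ∃ (x : E) (k : Fin 6), ∀ i, x * f' i * x⁻¹ = f (P6 k i) := by
  let g : Fin 7 → Fin 10 → E := Fin.snoc (α := fun _ => Fin 10 → E) (fun k : Fin 6 => fun i => f (P6 k i)) f'
  have hg1 : ∀ k : Fin 6, g k.castSucc = fun i => f (P6 k i) := fun k => by simp [g]
  have hg2 : g (Fin.last 6) = f' := Fin.snoc_last _ _
  have hgg : ∀ k, GG (g k) := by
    intro k
    refine Fin.lastCases ?_ (fun k => ?_) k
    · rw [hg2]; exact hf'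
    · rw [hg1]; exact hf.P6 k
  have hgR : ∀ k i, g k i ∈ R := by
    intro k
    refine Fin.lastCases ?_ (fun k => ?_) k
    · rw [hg2]; exact hfR'
    · rw [hg1]; exact fun i => hfR _
  have hfree : ∀ k h, Cj (g k) h → ∀ x : E, ¬ ∀ i, x * h i * x⁻¹ = h (pAC i) := by
    rintro k _ ⟨y, rfl⟩ x hx
    exact not_inner hcov hcard (GG.cj (hgg k) y) (n := 2) (by decide) x hx
  -- two arm permutations of `f` are not conjugate
  have hperm : ∀ k l : Fin 6, k ≠ l → ¬ Cj (g k.castSucc) (g l.castSucc) := by
    rintro k l hkl ⟨x, hx⟩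
    rw [hg1, hg1] at hx
    obtain ⟨n, hn, hnn⟩ := P6_div k l hkl
    refine not_inner hcov hcard hf hn x fun j => ?_
    obtain ⟨i, rfl⟩ := P6_surj k j
    rw [← hnn]
    exact congrFun hx i
  obtain ⟨k, l, hkl, hc⟩ := seven H (f := g) (fun k => cfg_of_gg (hgg k) (hgR k) hE) hfree
  have fin : ∀ k : Fin 6, Cj (g (Fin.last 6)) (g k.castSucc) → ∃ (x : E) (k : Fin 6), ∀ i, x * f' i * x⁻¹ = f (P6 k i) := by
    rintro k ⟨x, hx⟩
    rw [hg1, hg2] at hx
    exact ⟨x, k, fun i => congrFun hx i⟩
  revert hkl hc
  refine Fin.lastCases ?_ (fun k => ?_) k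
  · refine Fin.lastCases ?_ (fun l => ?_) l
    · intro h; exact absurd rfl h
    · intro _ hc; exact fin l hc
  · refine Fin.lastCases ?_ (fun l => ?_) l
    · intro _ hc; exact fin k hc.symm
    · intro hkl hc
      exact absurd hc (hperm k l fun h => hkl (by rw [h]))

/-- **Every automorphism of `E` preserving `R` is inner up to a permutation of the arms.** -/
theorem auto [Finite HB] {M : Type*} [Group M] (hcov : IsNonsplitDoubleCover M E)
    (hcard : Nat.card HB ≤ Nat.card E) (hE : ∃ a b : E, ¬ Commute a b) {R : Set E} (H : Hyp hF R)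
    {f : Fin 10 → E} (hf : GG f) (hfR : ∀ i, f i ∈ R) (φ : E ≃* E) (hφ : ∀ r ∈ R, φ r ∈ R) :
    ∃ (x : E) (k : Fin 6), ∀ i, x * φ (f i) * x⁻¹ = f (P6 k i) :=
  arms hcov hcard hE H hf hfR (hf.equiv φ) fun i => hφ _ (hfR i)

/-- **The outer side of the double cover.** `M` is a normal subgroup of `C` containing its centraliser; every element of
`C` outside of `M` becomes the exchange of the last two arms after multiplication by an element of `M`. -/
theorem outer [Finite HB] {C : Type*} [Group C] {M : Subgroup C} [M.Normal]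
    (hout : Subgroup.centralizer (M : Set C) ≤ M) (hcov : IsNonsplitDoubleCover M E)
    (hcard : Nat.card HB ≤ Nat.card E) (hE : ∃ a b : E, ¬ Commute a b) {R : Set E} (H : Hyp hF R)
    {π : M →* E} {z : M} (h : Ext π z) {m : Fin 10 → M} (hm : ZRels m z)
    (hgen : Subgroup.closure (Set.range m) = ⊤) (hmR : ∀ i, π (m i) ∈ R)
    (hR : ∀ (g : C) (x : M), π x ∈ R → π (MulAut.conjNormal g x) ∈ R) {g : C} (hg : g ∉ M) :
    ∃ y : M, (∀ i, MulAut.conjNormal (g * y) (m i) = m (pBC i)) ∧
      ((g * y) * (g * y) = 1 ∨ (g * y) * (g * y) = (z : C)) := by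
  -- the centre of `M`
  have hcenter : ∀ c : M, (∀ d : M, c * d = d * c) → c = 1 ∨ c = z := by
    intro c hc
    obtain ⟨h2, _, _⟩ := hcov
    have hzc : z ∈ Subgroup.center M := Subgroup.mem_center_iff.2 h.comm
    have hcc : c ∈ Subgroup.center M := Subgroup.mem_center_iff.2 fun d => (hc d).symm
    have hn : (Subgroup.center M : Set M).ncard = 2 := h2
    by_contra hno
    push Not at hno
    have hsub : ({1, z, c} : Set M) ⊆ (Subgroup.center M : Set M) := by
      rintro x (rfl | rfl | rfl)
      · exact (Subgroup.center M).one_mem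
      · exact hzc
      · exact hcc
    have hfin : (Subgroup.center M : Set M).Finite := Set.finite_of_ncard_ne_zero (by rw [hn]; norm_num)
    have h3 := Set.ncard_le_ncard hsub hfin
    rw [hn, Set.ncard_insert_of_notMem, Set.ncard_pair] at h3
    · omega
    · exact fun h => hno.2 h.symm
    · rintro (h1 | h1)
      · exact h.zne h1.symm
      · exact hno.1 (Set.mem_singleton_iff.1 h1).symm
  -- every automorphism of `M` fixes `z`
  have hzfix : ∀ θ : M ≃* M, θ z = z := by
    intro θ
    have h1 : ∀ d : M, θ z * d = d * θ z := by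
      intro d
      obtain ⟨d, rfl⟩ := θ.surjective d
      rw [← map_mul, ← map_mul, h.comm]
    rcases hcenter _ h1 with h2 | h2
    · exact absurd (θ.injective (h2.trans (map_one θ).symm)) h.zne
    · exact h2
  -- induced automorphism of `E`
  have hGG : GG (fun i => π (m i)) := by
    refine ⟨?_, ?_⟩
    · have := hm.map π
      rw [h.mapz] at this
      exact this.good
    · have e : (Set.range fun i => π (m i)) = π '' Set.range m := by rw [← Set.range_comp]; rfl
      rw [e, ← MonoidHom.map_closure, hgen, ← MonoidHom.range_eq_map, MonoidHom.range_eq_top]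
      exact h.surj
  have hGG' : GG (fun i => π (MulAut.conjNormal g (m i))) := by
    refine ⟨?_, ?_⟩
    · have := hm.map (π.comp (MulAut.conjNormal g : M ≃* M).toMonoidHom)
      have hz : (π.comp (MulAut.conjNormal g : M ≃* M).toMonoidHom) z = 1 := by
        show π (MulAut.conjNormal g z) = 1
        rw [hzfix, h.mapz]
      rw [hz] at this
      exact this.good
    · have e : (Set.range fun i => π (MulAut.conjNormal g (m i))) =
          (π.comp (MulAut.conjNormal g : M ≃* M).toMonoidHom) '' Set.range m := by rw [← Set.range_comp]; rfl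
      rw [e, ← MonoidHom.map_closure, hgen, ← MonoidHom.range_eq_map, MonoidHom.range_eq_top]
      exact h.surj.comp (MulAut.conjNormal g : M ≃* M).surjective
  obtain ⟨x, k, hx⟩ := arms hcov hcard hE H hGG hmR hGG' fun i => hR g _ (hmR i)
  obtain ⟨y, rfl⟩ := h.surj x
  -- the corrected element
  have hh : ∀ i, π (MulAut.conjNormal ((y : C) * g) (m i)) = π (m (P6 k i)) := by
    intro i
    have e : (MulAut.conjNormal ((y : C) * g) (m i) : M) = y * MulAut.conjNormal g (m i) * y⁻¹ := by
      apply Subtype.ext
      simp only [MulAut.conjNormal_apply, Subgroup.coe_mul, Subgroup.coe_inv]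
      group
    rw [e, map_mul, map_mul, map_inv, hx]
  have h03 := zero_or_three h hm (MulAut.conjNormal ((y : C) * g) : M ≃* M).toMonoidHom (n := k) hh (hzfix _)
  -- an element commuting with the nodes centralises `M`
  have hcent : ∀ c : C, (∀ i, MulAut.conjNormal c (m i) = m i) → c ∈ M ∧ ∀ d : M, c * d = d * c := by
    intro c hc
    have h1 : ∀ d : M, MulAut.conjNormal c d = d := by
      intro d
      have h2 : (MulAut.conjNormal c : M ≃* M).toMonoidHom = MonoidHom.id M := by
        refine MonoidHom.eq_of_eqOn_dense hgen ?_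
        rintro _ ⟨i, rfl⟩
        exact hc i
      exact DFunLike.congr_fun h2 d
    have h3 : ∀ d : M, c * d = d * c := by
      intro d
      have := congrArg Subtype.val (h1 d)
      rw [MulAut.conjNormal_apply] at this
      calc c * (d : C) = c * d * c⁻¹ * c := by group
        _ = d * c := by rw [this]
    refine ⟨hout ?_, h3⟩
    rw [Subgroup.mem_centralizer_iff]
    intro d hd
    exact (h3 ⟨d, hd⟩).symm
  obtain ⟨rfl | rfl, h4⟩ := h03
  · exfalso
    have h5 := (hcent ((y : C) * g) fun i => h4 i).1
    exact hg ((M.mul_mem_cancel_left y.2).1 h5)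
  · obtain ⟨y', hy'⟩ : ∃ y' : M, (y' : C) = g⁻¹ * y * g := by
      refine ⟨⟨g⁻¹ * y * g, ?_⟩, rfl⟩
      have := Subgroup.Normal.conj_mem (inferInstance : M.Normal) y y.2 g⁻¹
      simpa using this
    have e : g * (y' : C) = y * g := by rw [hy']; group
    refine ⟨y', ?_, ?_⟩
    · intro i
      rw [e]; exact h4 i
    · rw [e]
      have h5 : ∀ i, MulAut.conjNormal ((y : C) * g * (y * g)) (m i) = m i := by
        intro i
        rw [map_mul, MulAut.mul_apply]
        have h6 : ∀ i, (MulAut.conjNormal ((y : C) * g) (m i) : M) = m (P6 3 i) := fun i => h4 i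
        rw [h6, h6]
        congr 1
        revert i; decide
      obtain ⟨h6, h7⟩ := hcent _ h5
      have := hcenter ⟨_, h6⟩ fun d => Subtype.ext (h7 d)
      rcases this with h8 | h8
      · exact Or.inl (congrArg Subtype.val h8)
      · exact Or.inr (congrArg Subtype.val h8)

end Cfsg.Agent.BabyU.Out
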