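import Cfsg.Agent.BabyU.OutCount
import Cfsg.Agent.TwoESix.ExtTwisted
import Cfsg.Agent.TwoESix.LeviG

/-!
# The hypotheses of `OutCount` for the root involutions of `²E₆(2)`

`hyp_of`: `RootFacts` and the transitivity on opposite pairs give `OutCount.Hyp`; `hyp`: for `rootClass K`.
-/

set_option autoImplicit false

namespace Cfsg.Agent.BabyU.OutHyp

open Cfsg Cfsg.Lie Cfsg.Agent.R01.PSUSix Cfsg.Agent.TwoESix.ExtTwisted

variable {F : Type*} [Field F] [Fintype F] {hF : Fintype.card F = 2 ^ 2}

theorem hyp_of {E : Type*} [Group E] {R : Set E} (RF : RootCfg.RootFacts hF R) (B : Basic R) :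
    OutCount.Hyp hF R where
  conj x r hr := B.conj r hr x
  opp := by
    rintro r s r' s' ⟨hr, hs, hc, h3⟩ ⟨hr', hs', hc', h3'⟩
    exact B.opp_trans r hr s hs r' hr' s' hs' (by rintro rfl; exact hc (Commute.refl r)) h3
      (by rintro rfl; exact hc' (Commute.refl r')) h3'
  chart := by
    rintro r s ⟨hr, hs, hc, h3⟩
    have hopp : RootCfg.Opp r s := ⟨by rintro rfl; exact hc (Commute.refl r), h3⟩
    obtain ⟨ψ, C⟩ := RF.chart r hr
    have hle : Subgroup.centralizer ({r, s} : Set E) ≤ Subgroup.centralizer ({r} : Set E) :=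
      Subgroup.centralizer_le (by intro x hx; exact Or.inl hx)
    have hcs : ∀ x : ↥(Subgroup.centralizer ({r, s} : Set E)), (x : E) * s = s * x := fun x =>
      (OutCount.mem_cent.1 x.2).2
    let f := ψ.comp (Subgroup.inclusion hle)
    have hbij : Function.Bijective f := by
      constructor
      · rw [← MonoidHom.ker_eq_bot_iff, eq_bot_iff]
        intro x hx
        rw [MonoidHom.mem_ker] at hx
        have h1 := C.inj s hs hopp (Subgroup.inclusion hle x) (hcs x) hx
        rw [Subgroup.mem_bot]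
        have h2 : ((Subgroup.inclusion hle x : ↥(Subgroup.centralizer ({r} : Set E))) : E) = 1 := by rw [h1]; rfl
        exact Subtype.ext h2
      · intro u
        obtain ⟨x, hx, hu⟩ := C.surj s hs hopp u
        have hxm : (x : E) ∈ Subgroup.centralizer ({r, s} : Set E) :=
          OutCount.mem_cent.2 ⟨RootCfg.mem_cent.1 x.2, hx⟩
        refine ⟨⟨x, hxm⟩, ?_⟩
        show ψ (Subgroup.inclusion hle ⟨x, hxm⟩) = u
        rw [← hu]; rfl
    refine ⟨MulEquiv.ofBijective f hbij, fun x hx => ?_⟩
    rcases C.root (Subgroup.inclusion hle x) hx with h1 | h1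
    · exfalso
      have h2 := C.inj s hs hopp (Subgroup.inclusion hle x) (hcs x) h1
      have h3 : ((Subgroup.inclusion hle x : ↥(Subgroup.centralizer ({r} : Set E))) : E) = 1 := by rw [h2]; rfl
      exact B.ne x hx h3
    · exact h1

/-- **`OutCount.Hyp` for the root involutions of `²E₆(2)`.** -/
theorem hyp (K : Type*) [Field K] [Fintype K] (hK : Fintype.card K = 4) (hF : Fintype.card F = 2 ^ 2) :
    OutCount.Hyp hF (rootClass K) :=
  hyp_of (Cfsg.Agent.TwoESix.LeviG.rootFacts hK hF) (basic K hK)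

end Cfsg.Agent.BabyU.OutHyp
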