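import Mathlib.FieldTheory.Finite.GaloisField
import Cfsg.Prelude.Def_Local
import Cfsg.Prelude.Def_CaseTheorems
import Cfsg.Agent.BabyU.Out
import Cfsg.Agent.BabyU.FusRoot
import Cfsg.Agent.BabyU.OutHyp
import Cfsg.Agent.TwoESix.ClassIso
import Cfsg.Agent.TwoESix.ExtTwisted
import Cfsg.Agent.TwoESix.GoodInst

/-!
# A standard subgroup which is a double cover of `²E₆(2)` gives a `Setup`

`exists_setup` : `L` standard in `G`, `|Z(L)| = 2`, `L / Z(L)` isomorphic to `²E₆(2)` (over any field with four elements,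
in any universe) and `C_G(L) ≤ L`; then `L` is a `Setup` of index one or two for the involution of `Z(L)`.
-/

set_option autoImplicit false

namespace Cfsg.Agent.BabyU.SetupOf

open Cfsg Cfsg.Lie Cfsg.Agent.BabyU Cfsg.Agent.R01.Lifts Cfsg.Agent.BabyU.OutFree Cfsg.Agent.BabyU.OutCount
open Cfsg.Agent.TwoESix Cfsg.Agent.TwoESix.Cox10 Cfsg.Agent.TwoESix.Lift Cfsg.Agent.TwoESix.Cover
open scoped Pointwise commutatorElement

universe u v w

/-- The group `²E₆(2)` over a field in `Type`. -/
theorem exists_type (K : Type v) [Field K] [Fintype K] (hK : Fintype.card K = 4) :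
    ∃ (K' : Type) (_ : Field K') (_ : Fintype K'), Fintype.card K' = 4 ∧
      Nonempty (twistedE6 K 2 ≃* twistedE6 K' 2) := by
  have : Fact (Nat.Prime 2) := ⟨Nat.prime_two⟩
  have : Finite (GaloisField 2 2) := inferInstance
  have hc : @Fintype.card (GaloisField 2 2) (Fintype.ofFinite _) = 4 := by
    rw [← @Nat.card_eq_fintype_card _ (Fintype.ofFinite _), GaloisField.card 2 2 (by norm_num)]
    norm_num
  refine ⟨GaloisField 2 2, inferInstance, Fintype.ofFinite _, hc, ?_⟩
  obtain ⟨θ, -⟩ := ClassIso.exists_equiv K hK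
  obtain ⟨θ', -⟩ := @ClassIso.exists_equiv (GaloisField 2 2) _ (Fintype.ofFinite _) hc
  exact ⟨θ.trans θ'.symm⟩

/-- A quasisimple group with centre of order two is a nonsplit double cover of its central quotient. -/
theorem nonsplit {L : Type u} [Group L] (hq : IsQuasisimple L) (h2 : Nat.card (Subgroup.center L) = 2)
    {E : Type w} [Group E] (e : Nonempty (L ⧸ Subgroup.center L ≃* E)) : IsNonsplitDoubleCover L E := by
  refine ⟨h2, e, fun N hN => ?_⟩
  have hle : commutator L ≤ N := by
    rw [commutator_def, Subgroup.commutator_le]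
    intro x _ y _
    have hx : x ∈ (Subgroup.center L : Set L) * (N : Set L) := by rw [hN.mul_eq]; trivial
    have hy : y ∈ (Subgroup.center L : Set L) * (N : Set L) := by rw [hN.mul_eq]; trivial
    obtain ⟨c, hc, n, hn, rfl⟩ := hx
    obtain ⟨c', hc', n', hn', rfl⟩ := hy
    have hc1 : ∀ a, a * c = c * a := Subgroup.mem_center_iff.1 hc
    have hc2 : ∀ a, a * c' = c' * a := Subgroup.mem_center_iff.1 hc'
    have key : ⁅c * n, c' * n'⁆ = ⁅n, n'⁆ := by
      rw [commutatorElement_def, commutatorElement_def, mul_inv_rev, mul_inv_rev]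
      calc c * n * (c' * n') * (n⁻¹ * c⁻¹) * (n'⁻¹ * c'⁻¹)
          = c * (n * c') * n' * n⁻¹ * c⁻¹ * n'⁻¹ * c'⁻¹ := by group
        _ = c * c' * (n * n' * n⁻¹ * c⁻¹ * n'⁻¹) * c'⁻¹ := by rw [hc2 n]; group
        _ = c' * c * (n * n' * n⁻¹ * c⁻¹ * n'⁻¹) * c'⁻¹ := by rw [hc1 c']
        _ = c' * ((c * (n * n' * n⁻¹)) * c⁻¹ * n'⁻¹) * c'⁻¹ := by group
        _ = c' * (((n * n' * n⁻¹) * c) * c⁻¹ * n'⁻¹) * c'⁻¹ := by rw [hc1 (n * n' * n⁻¹)]
        _ = (c' * (n * n' * n⁻¹ * n'⁻¹)) * c'⁻¹ := by group
        _ = n * n' * n⁻¹ * n'⁻¹ := by rw [← hc2]; group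
    rw [key, commutatorElement_def]
    exact N.mul_mem (N.mul_mem (N.mul_mem hn hn') (N.inv_mem hn)) (N.inv_mem hn')
  have hperf : commutator L = ⊤ := hq.1.commutator_eq_top
  have htop : N = ⊤ := top_le_iff.1 (hperf ▸ hle)
  have hd := hN.disjoint
  rw [htop, disjoint_top] at hd
  rw [hd, Subgroup.card_bot] at h2
  exact absurd h2 (by norm_num)

/-- `Setup` from the double cover; the index is one or two by `Out.outer`. -/
theorem setup_of [Finite HB] {G : Type u} [Group G] {t : G} {M : Subgroup G} {E : Type w} [Group E] [Finite E]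
    (hcov : IsNonsplitDoubleCover M E) {π : M →* E} {z : M} (hE : Ext π z) (hzt : (z : G) = t)
    (norm : ∀ g, g * t = t * g → ∀ m ∈ M, g * m * g⁻¹ ∈ M)
    (cent : ∀ g, (∀ m ∈ M, g * m = m * g) → g ∈ M)
    (hcard : Nat.card HB ≤ Nat.card E) {F : Type*} [Field F] [Fintype F] {hF : Fintype.card F = 2 ^ 2}
    {R : Set E} (H : Hyp hF R) (B : ExtTwisted.Basic R) (hEc : ∃ a b : E, ¬ Commute a b)
    {e : Fin 10 → E} (he : GG e) (heR : ∀ i, e i ∈ R) : Setup t M π := by
  -- the centre of `M`
  have hcenter : ∀ c : M, (∀ d : M, c * d = d * c) → c = 1 ∨ c = z := by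
    intro c hc
    obtain ⟨h2, _, _⟩ := hcov
    have hzc : z ∈ Subgroup.center M := Subgroup.mem_center_iff.2 hE.comm
    have hcc : c ∈ Subgroup.center M := Subgroup.mem_center_iff.2 fun d => (hc d).symm
    have hn : (Subgroup.center M : Set M).ncard = 2 := h2
    by_contra hno
    push Not at hno
    have hsub : ({1, z, c} : Set M) ⊆ (Subgroup.center M : Set M) := by
      rintro x (rfl | rfl | rfl)
      · exact (Subgroup.center M).one_mem
      · exact hzc
      · exact hcc
    have hfin : (Subgroup.center M : Set M).Finite := Set.finite_of_ncard_ne_zero (by rw [hn]; norm_num)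
    have h3 := Set.ncard_le_ncard hsub hfin
    rw [hn, Set.ncard_insert_of_notMem, Set.ncard_pair] at h3
    · omega
    · exact fun h => hno.2 h.symm
    · rintro (h1 | h1)
      · exact hE.zne h1.symm
      · exact hno.1 (Set.mem_singleton_iff.1 h1).symm
  have htM : t ∈ M := hzt ▸ z.2
  have hcomm : ∀ m ∈ M, m * t = t * m := by
    intro m hm
    rw [← hzt]
    exact congrArg Subtype.val (hE.comm ⟨m, hm⟩)
  have hcent2 : ∀ g, (∀ m ∈ M, g * m = m * g) → g = 1 ∨ g = t := by
    intro g hg
    rcases hcenter ⟨g, cent g hg⟩ (fun n => Subtype.ext (hg n n.2)) with h | h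
    · left; exact congrArg Subtype.val h
    · right; rw [← hzt]; exact congrArg Subtype.val h
  refine ⟨?_, ?_, htM, hcomm, norm, ?_, hcent2, hE.surj, ?_, fun σ hσ => no_section hcov hE σ hσ⟩
  · rw [← hzt]
    exact fun h => hE.zne (Subtype.ext h)
  · rw [← hzt]
    exact congrArg Subtype.val hE.zz
  · -- the index
    intro g h hg hh hgM hhM
    set C : Subgroup G := Subgroup.centralizer ({t} : Set G) with hC
    have memC : ∀ x : G, x ∈ C ↔ x * t = t * x := fun x => Subgroup.mem_centralizer_singleton_iff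
    have hMC : M ≤ C := fun m hm => (memC m).2 (hcomm m hm)
    set N : Subgroup C := M.subgroupOf C with hN
    have memN : ∀ x : C, x ∈ N ↔ (x : G) ∈ M := fun x => Iff.rfl
    have hNn : N.Normal := ⟨fun n hn x => norm x ((memC _).1 x.2) n hn⟩
    let ι : N ≃* M := Subgroup.subgroupOfEquivOfLe hMC
    have hι : ∀ x : N, ((ι x : M) : G) = ((x : C) : G) := fun _ => rfl
    have hιs : ∀ x : M, (((ι.symm x : N) : C) : G) = (x : G) := fun x => by
      rw [← hι, ι.apply_symm_apply]
    set π' : N →* E := π.comp ι.toMonoidHom with hπ'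
    have hE' : Ext π' (ι.symm z) := by
      refine ⟨hE.surj.comp ι.surjective, ?_, ?_, fun c => ?_, fun c => ?_⟩
      · rw [← map_mul, hE.zz, map_one]
      · intro h1
        apply hE.zne
        rw [← ι.apply_symm_apply z, h1, map_one]
      · show π (ι c) = 1 ↔ _
        rw [hE.ker]
        constructor
        · rintro (h1 | h1)
          · left; exact ι.injective (h1.trans (map_one ι).symm)
          · right; rw [← h1, ι.symm_apply_apply]
        · rintro (rfl | rfl)
          · left; exact map_one ι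
          · right; exact ι.apply_symm_apply z
      · apply ι.injective
        rw [map_mul, map_mul, ι.apply_symm_apply, hE.comm]
    have hcov' : IsNonsplitDoubleCover N E := by
      refine FusRoot.nonsplit_of hE' (fun c hc => ?_) fun σ hσ => no_section hcov hE (ι.toMonoidHom.comp σ) hσ
      rcases hcenter (ι c) (fun d => by
        obtain ⟨d, rfl⟩ := ι.surjective d
        rw [← map_mul, hc, map_mul]) with h1 | h1
      · left; exact ι.injective (h1.trans (map_one ι).symm)
      · right; rw [← h1, ι.symm_apply_apply]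
    have hout : Subgroup.centralizer (N : Set C) ≤ N := by
      intro x hx
      refine (memN x).2 (cent _ fun m hm => ?_)
      have := Subgroup.mem_centralizer_iff.1 hx ⟨m, hMC hm⟩ hm
      exact (congrArg Subtype.val this).symm
    obtain ⟨p, hp, m, hm, hz, hgen⟩ := exists_gens hcov he.1 he.2 hcard hE
    set m' : Fin 10 → N := fun i => ι.symm (m i) with hm'
    have hz' : ZRels m' (ι.symm z) := hz.map ι.symm.toMonoidHom
    have hgen' : Subgroup.closure (Set.range m') = ⊤ := by
      have e1 : Set.range m' = ι.symm.toMonoidHom '' Set.range m := by rw [← Set.range_comp]; rfl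
      rw [e1, ← MonoidHom.map_closure, hgen, ← MonoidHom.range_eq_map, MonoidHom.range_eq_top]
      exact ι.symm.surjective
    have hmR : ∀ i, π' (m' i) ∈ R := by
      intro i
      show π (ι (ι.symm (m i))) ∈ R
      rw [ι.apply_symm_apply, hm]
      exact heR _
    have hR : ∀ (g : C) (x : N), π' x ∈ R → π' (MulAut.conjNormal g x) ∈ R := by
      intro g x hx
      refine (ExtTwisted.cover_auto B hE'.surj (MulAut.conjNormal g : N ≃* N) (fun y => ?_) x).1 hx
      rw [hE'.ker, hE'.ker]
      have hzg : (MulAut.conjNormal g : N ≃* N) (ι.symm z) = ι.symm z := by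
        apply Subtype.ext
        apply Subtype.ext
        rw [MulAut.conjNormal_apply]
        show (g : G) * ((ι.symm z : N) : C) * (g : G)⁻¹ = ((ι.symm z : N) : C)
        rw [hιs, hzt, (memC _).1 g.2]
        group
      constructor
      · rintro (rfl | rfl)
        · left; exact map_one _
        · right; exact hzg
      · rintro (h1 | h1)
        · left; exact (MulAut.conjNormal g : N ≃* N).injective (h1.trans (map_one _).symm)
        · right; exact (MulAut.conjNormal g : N ≃* N).injective (h1.trans hzg.symm)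
    obtain ⟨y₁, h1, -⟩ := Out.outer hout hcov' hcard hEc H hE' hz' hgen' hmR hR
      (g := ⟨g, (memC g).2 hg⟩) (fun h1 => hgM h1)
    obtain ⟨y₂, h2, -⟩ := Out.outer hout hcov' hcard hEc H hE' hz' hgen' hmR hR
      (g := ⟨h, (memC h).2 hh⟩) (fun h1 => hhM h1)
    set γ : C := ⟨g, (memC g).2 hg⟩ with hγ
    set δ : C := ⟨h, (memC h).2 hh⟩ with hδ
    have h3 : ∀ i, (MulAut.conjNormal ((γ * y₁) * (δ * y₂)) : N ≃* N) (m' i) = m' i := by
      intro i
      rw [map_mul, MulAut.mul_apply, h2, h1, FusRoot.pBC_pBC]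
    have h4 : ∀ x : N, (MulAut.conjNormal ((γ * y₁) * (δ * y₂)) : N ≃* N) x = x := by
      intro x
      have h5 : ((MulAut.conjNormal ((γ * y₁) * (δ * y₂)) : N ≃* N) : N →* N) = MonoidHom.id N := by
        refine MonoidHom.eq_of_eqOn_dense hgen' ?_
        rintro _ ⟨i, rfl⟩
        exact h3 i
      exact DFunLike.congr_fun h5 x
    have h6 : (γ * y₁) * (δ * y₂) ∈ N := by
      apply hout
      rw [Subgroup.mem_centralizer_iff]
      intro x hx
      have h7 := congrArg Subtype.val (h4 ⟨x, hx⟩)
      rw [MulAut.conjNormal_apply] at h7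
      exact (mul_inv_eq_iff_eq_mul.1 h7).symm
    have h8 : γ * δ ∈ N := by
      have h9 : γ * δ = (γ * y₁) * (δ * y₂) * (y₂ : C)⁻¹ * (δ⁻¹ * (y₁ : C) * δ)⁻¹ := by group
      rw [h9]
      refine N.mul_mem (N.mul_mem h6 (N.inv_mem y₂.2)) (N.inv_mem ?_)
      have := hNn.conj_mem y₁ y₁.2 δ⁻¹
      rwa [inv_inv] at this
    exact h8
  · intro m
    rw [hE.ker]
    constructor
    · rintro (h1 | h1)
      · left; exact congrArg Subtype.val h1
      · right; rw [← hzt]; exact congrArg Subtype.val h1
    · rintro (h1 | h1)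
      · left; exact Subtype.ext h1
      · right; exact Subtype.ext (by rw [hzt]; exact h1)

theorem exists_good {K : Type v} [Field K] [Fintype K] (hF : Fintype.card K = 2 ^ 2) :
    ∃ e : Fin 10 → twistedE6 K 2, GG e ∧ ∀ i, e i ∈ rootClass K := by
  obtain ⟨e, r, h1, h2, h3, -, h5⟩ := GoodInst.exists_good K hF
  exact ⟨e, ⟨h1, h2⟩, fun i => by
    obtain ⟨g, hg⟩ := h5 i
    exact ⟨g, r, h3, hg⟩⟩

/-- **`Setup` from a standard subgroup.** -/
theorem exists_setup [Finite HB] (card : ∀ (K : Type) [Field K] [Fintype K], Fintype.card K = 4 →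
      Nat.card HB ≤ Nat.card (twistedE6 K 2))
    (nc : ∀ (K : Type) [Field K] [Fintype K], Fintype.card K = 4 → ∃ a b : twistedE6 K 2, ¬ Commute a b)
    {G : Type u} [Group G] [Finite G] (L : Subgroup G) (hL : IsStandardSubgroup L)
    {K : Type v} [Field K] [Fintype K] (hK : Fintype.card K = 4) (h2 : Nat.card ↥(Subgroup.center ↥L) = 2)
    (hLX : Nonempty (↥L ⧸ Subgroup.center ↥L ≃* ↥(twistedE6 K 2)))
    (hC : ∀ g : G, (∀ m ∈ L, g * m = m * g) → g ∈ L) :
    ∃ (K' : Type) (_ : Field K') (_ : Fintype K') (_ : Fintype.card K' = 4) (t : G) (π : L →* twistedE6 K' 2),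
      Setup t L π := by
  obtain ⟨K', _, _, hK', ⟨θ⟩⟩ := exists_type K hK
  obtain ⟨f⟩ := hLX
  have hcov : IsNonsplitDoubleCover L (twistedE6 K' 2) := nonsplit hL.1 h2 ⟨f.trans θ⟩
  obtain ⟨π, z, hE⟩ := exists_ext hcov
  obtain ⟨e, he, heR⟩ := exists_good (K := K') hK'
  have hzL : ∀ m ∈ L, m * (z : G) = z * m := fun m hm => congrArg Subtype.val (hE.comm ⟨m, hm⟩)
  -- the centraliser of `L` is `{1, z}`
  have hcen : ∀ g : G, (∀ m ∈ L, g * m = m * g) → g = 1 ∨ g = z := by
    intro g hg
    have h3 : (⟨g, hC g hg⟩ : L) ∈ Subgroup.center L := Subgroup.mem_center_iff.2 fun d =>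
      Subtype.ext (hg d d.2).symm
    have hzc : z ∈ Subgroup.center L := Subgroup.mem_center_iff.2 hE.comm
    have hn : (Subgroup.center L : Set L).ncard = 2 := h2
    by_contra hno
    push Not at hno
    have hsub : ({1, z, ⟨g, hC g hg⟩} : Set L) ⊆ (Subgroup.center L : Set L) := by
      rintro x (rfl | rfl | rfl)
      · exact (Subgroup.center L).one_mem
      · exact hzc
      · exact h3
    have hfin : (Subgroup.center L : Set L).Finite := Set.finite_of_ncard_ne_zero (by rw [hn]; norm_num)
    have h4 := Set.ncard_le_ncard hsub hfin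
    rw [hn, Set.ncard_insert_of_notMem, Set.ncard_pair] at h4
    · omega
    · exact fun h => hno.2 (congrArg Subtype.val h.symm)
    · rintro (h1 | h1)
      · exact hE.zne h1.symm
      · exact hno.1 (congrArg Subtype.val (Set.mem_singleton_iff.1 h1).symm)
  refine ⟨K', inferInstance, inferInstance, hK', z, π, ?_⟩
  refine setup_of hcov hE rfl ?_ hC (card K' hK') (OutHyp.hyp K' hK' (hF := hK')) (ExtTwisted.basic K' hK')
    (nc K' hK') he heR
  -- `C_G(z)` normalises `L`
  intro g hg m hm
  have hz1 : ∀ x : G, x ∈ Subgroup.centralizer (L : Set G) ↔ x = 1 ∨ x = z := by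
    intro x
    rw [Subgroup.mem_centralizer_iff]
    constructor
    · intro hx
      exact hcen x fun m hm => (hx m hm).symm
    · rintro (rfl | rfl) m hm
      · rw [mul_one, one_mul]
      · exact hzL m hm
  have hnorm : g ∈ Subgroup.normalizer (Subgroup.centralizer (L : Set G) : Set G) := by
    rw [Subgroup.mem_normalizer_iff]
    intro x
    show x ∈ Subgroup.centralizer (L : Set G) ↔ g * x * g⁻¹ ∈ Subgroup.centralizer (L : Set G)
    rw [hz1, hz1]
    constructor
    · rintro (rfl | rfl)
      · left; group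
      · right; rw [hg]; group
    · rintro (h | h)
      · left
        calc x = g⁻¹ * (g * x * g⁻¹) * g := by group
          _ = 1 := by rw [h]; group
      · right
        calc x = g⁻¹ * (g * x * g⁻¹) * g := by group
          _ = g⁻¹ * (z * g) := by rw [h]; group
          _ = z := by rw [← hg]; group
  rw [← hL.2.2.2] at hnorm
  exact (Subgroup.mem_normalizer_iff.1 hnorm m).1 hm

end Cfsg.Agent.BabyU.SetupOf
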