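import Cfsg.Agent.BabyU.LitFin
import Cfsg.Agent.BabyU.HexadOne
import Cfsg.Agent.BabyU.LineCfg
import Cfsg.Agent.BabyU.SetupOf
import Cfsg.Agent.BabyU.CtxTwo

/-!
# S1736 (a): `G ≃ B` from `Setup`

`isoB_outer`: the case `|C_G(t) : M| = 2` (this is S1662); `not_one`: the case `C_G(t) = M` is impossible (fusion by
`IsoOne.fuse_one`, then the identification gives an injection `B → G`, against the order of `C_B(t₁)`);
`isoB`: a finite simple group with `Setup t M π` is isomorphic to the Baby Monster.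
-/

set_option autoImplicit false

namespace Cfsg.Agent.BabyU.LitA

open Cfsg.Lie Cfsg.Agent.BabyU.Lab Cfsg.Agent.BabyU.RootCfg Cfsg.Agent.BabyU.Clos
open Cfsg.Agent.TwoESix Cfsg.Agent.TwoESix.Cox10 Cfsg.Agent.TwoESix.Lift Cfsg.Agent.TwoESix.Cover
open Cfsg.Agent.BabyU.Ident

universe u

variable {K : Type} [Field K] [Fintype K] {G : Type u} [Group G] {t : G} {M : Subgroup G} {π : M →* twistedE6 K 2}

section

variable {hF : Fintype.card K = 2 ^ 2} (F : Lit.Facts2E6 K hF)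
include F

/-- `FusW` from one fused pair -/
theorem fusW [Finite G] (S : Setup t M π) (hfuse : ∃ m : M, π m ∈ rootClass K ∧ ∃ g : G, g * t * g⁻¹ = m) :
    FusW t M π (rootClass K) := by
  have := F.fin
  have B := ExtTwisted.basic K hF
  obtain ⟨e, he, hgen, heT⟩ := Lit.exists_good hF
  obtain ⟨hperf, hchain⟩ := Chain.perf_chain S F.roots B.ord he hgen F.card heT
  obtain ⟨R, S', b, a, c, hflag⟩ := F.flag
  have H : FusGood.Hyp t M π (rootClass K) R S' b a c :=
    { set := S, roots := F.roots, flag := hflag, perf := hperf b hflag.b_mem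
      out := fun h hh m m' e hm => ExtTwisted.setup_inv B S h hh m m' e hm
      fuse := hfuse, chain := hchain }
  obtain ⟨h1, h2, h3⟩ := H.fusW
  refine ⟨h1, h2, ?_⟩
  intro x y hx hy hxy hc hyc g hg
  obtain ⟨h, hh⟩ := h3 x y hx hy hxy (Subtype.ext hc) hyc g hg.symm
  exact ⟨⟨g⁻¹ * y * g, h⟩, rfl, hh⟩

end

/-- fusion in the case `C_G(t) = M` -/
theorem fuse_one {hF : Fintype.card K = 2 ^ 2} (F : Lit.Facts2E6 K hF) (S : Setup t M π)
    (hone : ∀ g, g * t = t * g → g ∈ M)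
    (hex : ∃ g : G, g * t * g⁻¹ ≠ t ∧ (g * t * g⁻¹) * t = t * (g * t * g⁻¹)) :
    ∃ m : M, π m ∈ rootClass K ∧ ∃ g : G, g * t * g⁻¹ = m := by
  have := F.fin
  obtain ⟨e, he, hgen, heT⟩ := Lit.exists_good hF
  obtain ⟨m, hz, hmT⟩ := Chain.exists_lifts S he hgen F.card heT
  have X : Key.Extra hF (rootClass K) := LitE6.extra K hF hF
  have tc : ∀ p q r p' q' r', Key.Tri (rootClass K) p q r → Key.Tri (rootClass K) p' q' r' →
      ∃ g : twistedE6 K 2, g * p * g⁻¹ = p' ∧ g * q * g⁻¹ = q' ∧ g * r * g⁻¹ = r' :=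
    fun p q r p' q' r' h h' => Key.tri_conj F.root X h h'
  obtain ⟨r, r', hx, hx', hp, hp'⟩ := HexadOne.exists_hexads S F.roots F.root tc hz hmT
  obtain ⟨a, ha, s, hs, b, hb, hl, has, hab, hsb, hne, hnot, hne', hnot', -⟩ :=
    LineCfg.exists_line S.cover F.roots (LineCfg.exists_cfg hF)
  refine IsoOne.fuse_one S hone F.roots (TriLifts.keyE S F.roots F.root X hz hmT) tc hx hx' hp hp' ha hs hl
    ⟨ha, hb, hne, hab, hnot⟩ ⟨hl, hb, hne', ?_, hnot'⟩ hex
  calc a * s * b = a * (s * b) := mul_assoc _ _ _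
    _ = a * (b * s) := by rw [hsb]
    _ = (a * b) * s := (mul_assoc _ _ _).symm
    _ = (b * a) * s := by rw [hab]
    _ = b * (a * s) := mul_assoc _ _ _

/-- `φ` is injective, `B` being simple -/
theorem injective (cent : CentralizerSt) (hne : t ≠ 1) {φ : Spor.BabyMonster →* G} {g : G}
    (hg : φ (PresentedGroup.of .t1) = g * t * g⁻¹) : Function.Injective φ := by
  obtain ⟨hsimp, -, -⟩ := cent
  rw [← MonoidHom.ker_eq_bot_iff]
  rcases hsimp.eq_bot_or_eq_top_of_normal φ.ker inferInstance with h | h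
  · exact h
  · exfalso
    have : φ (PresentedGroup.of .t1) = 1 := by
      have h1 : (PresentedGroup.of .t1 : Spor.BabyMonster) ∈ φ.ker := by rw [h]; trivial
      exact h1
    rw [this] at hg
    apply hne
    have h3 : g⁻¹ * 1 * g = t := by rw [hg]; group
    rw [← h3]; group

/-- **The case `C_G(t) = M` is impossible.** -/
theorem not_one [Finite G] (hK : Fintype.card K = 4) (F : Lit.Facts2E6 K (hF := hK)) (cent : CentralizerSt) (S : Setup t M π)
    (hone : ∀ g, g * t = t * g → g ∈ M)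
    (hex : ∃ g : G, g * t * g⁻¹ ≠ t ∧ (g * t * g⁻¹) * t = t * (g * t * g⁻¹)) : False := by
  have W := fusW F S (fuse_one F S hone hex)
  have p1 := Perf1.perf1 hK S
  have p2 := PerfTwo.perf2 S F.root W
  obtain ⟨φ, -, g, hg⟩ := Lit.exists_hom F S W p1 p2
  have hinj := injective cent S.ne hg
  obtain ⟨-, -, hcard⟩ := cent
  set a : Spor.BabyMonster := PresentedGroup.of .t1 with ha
  set CB := Subgroup.centralizer ({a} : Set Spor.BabyMonster) with hCB
  -- `C_B(a)` embeds into `M`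
  have hmem : ∀ b ∈ CB, g⁻¹ * φ b * g ∈ M := by
    intro b hb
    apply hone
    have h1 : b * a = a * b := Subgroup.mem_centralizer_singleton_iff.1 hb
    have h2 : φ b * (g * t * g⁻¹) = g * t * g⁻¹ * φ b := by rw [← hg, ← map_mul, ← map_mul, h1]
    calc g⁻¹ * φ b * g * t = g⁻¹ * (φ b * (g * t * g⁻¹)) * g := by group
      _ = g⁻¹ * (g * t * g⁻¹ * φ b) * g := by rw [h2]
      _ = t * (g⁻¹ * φ b * g) := by group
  have : Finite (twistedE6 K 2) := Finite.of_surjective π S.surj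
  have h1 : Nat.card CB ≤ Nat.card M := by
    refine Nat.card_le_card_of_injective (fun b : CB => (⟨g⁻¹ * φ b * g, hmem b b.2⟩ : M)) ?_
    intro b b' h
    have h2 := congrArg (Subtype.val : M → G) h
    exact Subtype.ext (hinj (mul_left_cancel (mul_right_cancel h2)))
  have h2 := Cfsg.Agent.TwoESix.Cover.card_of_ext S.ext
  have h3 := hcard K hK
  have h4 : 0 < Nat.card (twistedE6 K 2) := Nat.card_pos
  omega

/-- **The case of index two.** -/
theorem isoB_outer [Finite G] [IsSimpleGroup G] (hK : Fintype.card K = 4) (F : Lit.Facts2E6 K (hF := hK))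
    (cent : CentralizerSt) {Γ : Type} [Group Γ] (model : Lit.ModelB Γ) (S : Setup t M π)
    (hidx : ∃ g : G, g * t = t * g ∧ g ∉ M) : Cfsg.Spor.IsoB G := by
  classical
  have hF : Fintype.card K = 2 ^ 2 := hK
  have W := Lit.fusW F S hidx
  have p1 := Perf1.perf1 hK S
  have p2 := PerfTwo.perf2 S F.root W
  have HH : Ident.Hyp hF t M π (rootClass K) := ⟨S, F.root, W, p1, p2⟩
  have := F.fin
  obtain ⟨e, he, hgen, heT⟩ := Lit.exists_good hF
  obtain ⟨m, hz, hmT⟩ := Chain.exists_lifts S he hgen F.card heT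
  have rt := Lit.u1 F HH (TriLifts.keyE S F.roots F.root (LitE6.extra K hK hF) hz hmT)
  obtain ⟨φ, hMφ, g, hg⟩ := Lit.exists_hom F S W p1 p2
  obtain ⟨hsimp, hfin, hcard⟩ := cent
  -- `φ` is injective
  have hinj : Function.Injective φ := by
    rw [← MonoidHom.ker_eq_bot_iff]
    rcases hsimp.eq_bot_or_eq_top_of_normal φ.ker inferInstance with h | h
    · exact h
    · exfalso
      have : φ (PresentedGroup.of .t1) = 1 := by
        have h1 : (PresentedGroup.of .t1 : Spor.BabyMonster) ∈ φ.ker := by rw [h]; trivial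
        exact h1
      rw [this] at hg
      have h2 : t = 1 := by
        have h3 : g⁻¹ * 1 * g = t := by rw [hg]; group
        rw [← h3]; group
      exact S.ne h2
  have hcent := Lit.cent_le hcard hK S hinj hg
  -- the model
  obtain ⟨f, P, M₁, z, τ, τ₁, I, ⟨γ, hγ⟩, ⟨κ, hκ, hκM⟩⟩ := model.iso
  set ψ : Γ →* G := φ.comp f.symm.toMonoidHom with hψ
  have hψinj : Function.Injective ψ := hinj.comp f.symm.injective
  have hrange : (⊤ : Subgroup Γ).map ψ = φ.range := by
    rw [← MonoidHom.range_eq_map]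
    ext x
    constructor
    · rintro ⟨y, rfl⟩
      exact ⟨f.symm y, rfl⟩
    · rintro ⟨y, rfl⟩
      exact ⟨f y, by show φ (f.symm (f y)) = φ y; rw [f.symm_apply_apply]⟩
  have I' := Inner.map I ψ hψinj
  have hx : ψ (γ * τ * γ⁻¹) = φ (PresentedGroup.of .t1) := by
    rw [← hγ]
    show φ (f.symm (f _)) = _
    rw [f.symm_apply_apply]
  have hτ : ((ψ γ)⁻¹ * g) * t * ((ψ γ)⁻¹ * g)⁻¹ = ψ τ := by
    have h1 : ψ γ * ψ τ * (ψ γ)⁻¹ = g * t * g⁻¹ := by
      rw [← hg, ← hx, map_mul, map_mul, map_inv]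
    calc ((ψ γ)⁻¹ * g) * t * ((ψ γ)⁻¹ * g)⁻¹ = (ψ γ)⁻¹ * (g * t * g⁻¹) * ψ γ := by group
      _ = ψ τ := by rw [← h1]; group
  have hψr : ∀ y : Γ, ψ y ∈ φ.range := fun y => ⟨f.symm y, rfl⟩
  have hc : ∀ x : G, x * ψ τ = ψ τ * x → x ∈ (⊤ : Subgroup Γ).map ψ := by
    intro x hx'
    rw [hrange]
    have h1 : ψ τ = (ψ γ)⁻¹ * φ (PresentedGroup.of .t1) * ψ γ := by
      rw [← hx, map_mul, map_mul, map_inv]; group
    have h2 := hcent (ψ γ * x * (ψ γ)⁻¹) (by
      have h3 : φ (PresentedGroup.of .t1) = ψ γ * ψ τ * (ψ γ)⁻¹ := by rw [h1]; group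
      rw [h3]
      calc ψ γ * x * (ψ γ)⁻¹ * (ψ γ * ψ τ * (ψ γ)⁻¹) = ψ γ * (x * ψ τ) * (ψ γ)⁻¹ := by group
        _ = ψ γ * (ψ τ * x) * (ψ γ)⁻¹ := by rw [hx']
        _ = ψ γ * ψ τ * (ψ γ)⁻¹ * (ψ γ * x * (ψ γ)⁻¹) := by group)
    have h4 := φ.range.mul_mem (φ.range.mul_mem (φ.range.inv_mem (hψr γ)) h2) (hψr γ)
    have e : (ψ γ)⁻¹ * (ψ γ * x * (ψ γ)⁻¹) * ψ γ = x := by group
    rwa [e] at h4
  have hprop : ∃ x : G, x * ψ τ = ψ τ * x ∧ x ∉ M₁.map ψ := by
    refine ⟨ψ κ, by rw [← map_mul, hκ, map_mul], ?_⟩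
    rintro ⟨y, hy, hyκ⟩
    exact hκM (hψinj hyκ ▸ hy)
  have := F.simple
  have hE : ∃ a b : twistedE6 K 2, a * b ≠ b * a := by
    obtain ⟨a, b, h⟩ := FusFinal.exists_not_commute F.roots
    exact ⟨a, b, h⟩
  have hperf := ClosGlue.perfect_setup S hE
  have htop := ClosGlue.eq_top S hperf W.xor F.root.one rt I' hτ hc hprop
  rw [hrange] at htop
  exact ⟨(MulEquiv.ofBijective φ ⟨hinj, MonoidHom.range_eq_top.1 htop⟩).symm⟩


/-- **A finite simple group with `Setup t M π` is the Baby Monster.** -/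
theorem isoB [Finite G] [IsSimpleGroup G] (hK : Fintype.card K = 4) (F : Lit.Facts2E6 K (hF := hK))
    (cent : CentralizerSt) {Γ : Type} [Group Γ] (model : Lit.ModelB Γ) (S : Setup t M π) : Cfsg.Spor.IsoB G := by
  by_cases h : ∃ g : G, g * t = t * g ∧ g ∉ M
  · exact isoB_outer hK F cent model S h
  · exfalso
    push Not at h
    have ht : orderOf t = 2 := StandardComponent.StdCtx.orderOf_two S.ne S.sq
    have hG : ¬ IsMulCommutative G := by
      rintro ⟨⟨hc⟩⟩
      obtain ⟨a, b, hab⟩ := FusFinal.exists_not_commute F.roots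
      obtain ⟨a, rfl⟩ := S.surj a
      obtain ⟨b, rfl⟩ := S.surj b
      apply hab
      show π a * π b = π b * π a
      rw [← map_mul, ← map_mul]
      congr 1
      exact Subtype.ext (hc _ _)
    obtain ⟨g, h1, h2⟩ := StandardComponent.StdCtx.fusion hG ht
    exact not_one hK F cent S h ⟨g, h2, h1⟩

end Cfsg.Agent.BabyU.LitA
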