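import Cfsg.Agent.BabyU.PerfTwoA
import Cfsg.Agent.R01.Lifts

/-!
# U-B: a double cover of `PSU 6 F 2` with a Fischer type fusion is perfect (Lemma NoSplit)
-/

set_option autoImplicit false
set_option linter.unusedSectionVars false

namespace Cfsg.Agent.BabyU.PerfTwo

open Cfsg Cfsg.Agent.R01.Lifts Cfsg.Agent.LieClassical.HermBasic Cfsg.Agent.R01.PSUSix
open Cfsg.Agent.ClassicalGeometry.UnitAutBasic (tau)
open Cfsg.Agent.SporadicStructure.UnitTwo (two_eq_zero exists_omega)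
open scoped commutatorElement

variable {F : Type*} [Field F] [Fintype F] {G : Type*} [Group G]

/-- The situation of Lemma NoSplit: `U` is an extension of `PSU 6 F 2` by `⟨t⟩`, `rel t y` says that `y` is the
good lift of a transvection, `Y` is a group transporting everything. -/
structure Data (hF : Fintype.card F = 2 ^ 2) (t : G) (U Y : Subgroup G) (ht : t ∈ U) (θ : U →* PSU 6 F 2)
    (rel : G → G → Prop) : Prop where
  le : U ≤ Y
  ext : Ext θ ⟨t, ht⟩
  mem : ∀ y, rel t y → y ∈ U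
  img : ∀ y (h : y ∈ U), rel t y → θ ⟨y, h⟩ ∈ TT hF 6
  lift : ∀ u ∈ TT hF 6, ∃ y, ∃ h : y ∈ U, rel t y ∧ θ ⟨y, h⟩ = u
  inj : ∀ x y (hx : x ∈ U) (hy : y ∈ U), rel t x → rel t y → θ ⟨x, hx⟩ = θ ⟨y, hy⟩ → x = y
  equiv : ∀ g ∈ Y, ∀ x y, rel x y → rel (g * x * g⁻¹) (g * y * g⁻¹)
  star : ∀ x y, rel t x → rel t y → x ≠ y → x * y = y * x → rel x y
  fuse : ∀ x, rel t x → ∃ g ∈ Y, g * t * g⁻¹ = x

section Pts

variable (hF : Fintype.card F = 2 ^ 2)

/-- three vectors spanning a totally isotropic plane -/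
def va : Fin 6 → F := ![1, 1, 0, 0, 0, 0]
/-- three vectors spanning a totally isotropic plane -/
def vb : Fin 6 → F := ![0, 0, 1, 1, 0, 0]
/-- three vectors spanning a totally isotropic plane -/
def vc : Fin 6 → F := ![0, 0, 0, 0, 1, 1]

include hF in
theorem h_aa : hermForm 6 F 2 va va = 0 := by
  rw [herm_def]; simp [va, Fin.sum_univ_succ]; linear_combination two_eq_zero hF

include hF in
theorem h_bb : hermForm 6 F 2 vb vb = 0 := by
  rw [herm_def]; simp [vb, Fin.sum_univ_succ]; linear_combination two_eq_zero hF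

include hF in
theorem h_cc : hermForm 6 F 2 vc vc = 0 := by
  rw [herm_def]; simp [vc, Fin.sum_univ_succ]; linear_combination two_eq_zero hF

theorem h_ab : hermForm 6 F 2 va vb = 0 := by
  rw [herm_def]; simp [va, vb, Fin.sum_univ_succ]

theorem h_ac : hermForm 6 F 2 va vc = 0 := by
  rw [herm_def]; simp [va, vc, Fin.sum_univ_succ]

theorem h_bc : hermForm 6 F 2 vb vc = 0 := by
  rw [herm_def]; simp [vb, vc, Fin.sum_univ_succ]

/-- the vector with coordinates `k` -/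
def pt (k : Fin 3 → F) : Fin 6 → F := vec va vb vc k

theorem pt_0 (k : Fin 3 → F) : pt k 0 = k 0 := by simp [pt, vec, va, vb, vc]
theorem pt_2 (k : Fin 3 → F) : pt k 2 = k 1 := by simp [pt, vec, va, vb, vc]
theorem pt_4 (k : Fin 3 → F) : pt k 4 = k 2 := by simp [pt, vec, va, vb, vc]

theorem pt_ne {k : Fin 3 → F} (h : k ≠ 0) : pt k ≠ 0 := by
  intro e
  apply h
  funext i
  fin_cases i
  · have := congrFun e 0
    rw [pt_0] at this
    exact this
  · have := congrFun e 2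
    rw [pt_2] at this
    exact this
  · have := congrFun e 4
    rw [pt_4] at this
    exact this

theorem smul_of_pt {k k' : Fin 3 → F} {c : F} (e : pt k' = c • pt k) : k' = c • k := by
  funext i
  fin_cases i
  · have := congrFun e 0
    rw [pt_0, Pi.smul_apply, pt_0] at this
    exact this
  · have := congrFun e 2
    rw [pt_2, Pi.smul_apply, pt_2] at this
    exact this
  · have := congrFun e 4
    rw [pt_4, Pi.smul_apply, pt_4] at this
    exact this

include hF in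
theorem herm_pt (k k' : Fin 3 → F) : hermForm 6 F 2 (pt k) (pt k') = 0 :=
  herm_comb hF (h_aa hF) (h_bb hF) (h_cc hF) h_ab h_ac h_bc _ _ _ _ _ _

include hF in
theorem tau_pt_eq {k k' : Fin 3 → F} (hk : k ≠ 0) (e : tau hF (pt k) = tau hF (pt k')) :
    ∃ c : F, c ≠ 0 ∧ k' = c • k := by
  obtain ⟨c, hc, h⟩ := (tau_eq_iff hF (by norm_num) (herm_pt hF k k) (herm_pt hF k' k') (pt_ne hk)).1 e
  exact ⟨c, hc, smul_of_pt h⟩

variable {ω : F} (hω : ω ^ 2 + ω + 1 = 0)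

include hF hω in
theorem omega_facts : ω ≠ 0 ∧ ω ≠ 1 ∧ ω ^ 2 ≠ 1 ∧ ω ^ 2 ≠ ω ∧ ω ^ 2 ≠ 0 := by
  have h2 := two_eq_zero hF
  have h0 : ω ≠ 0 := by
    rintro rfl
    norm_num at hω
  have h1 : ω ≠ 1 := by
    rintro rfl
    have : (1 : F) = 0 := by linear_combination hω - h2
    exact one_ne_zero this
  refine ⟨h0, h1, ?_, ?_, pow_ne_zero 2 h0⟩
  · intro h
    apply h0
    linear_combination hω - h - h2
  · intro h
    apply one_ne_zero (α := F)
    linear_combination hω - h - ω * h2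

theorem minors {k k' : Fin 3 → F} {c : F} (e : k' = c • k) :
    k' 0 * k 1 = k' 1 * k 0 ∧ k' 0 * k 2 = k' 2 * k 0 ∧ k' 1 * k 2 = k' 2 * k 1 := by
  subst e
  simp only [Pi.smul_apply, smul_eq_mul]
  refine ⟨by ring, by ring, by ring⟩

include hF hω in
theorem ovA_ne (i j : Fin 6) (hij : i ≠ j) (c : F) : ovA ω j ≠ c • ovA ω i := by
  obtain ⟨w0, w1, w2, w3, w4⟩ := omega_facts hF hω
  intro e
  obtain ⟨m1, m2, m3⟩ := minors e
  have w1' := Ne.symm w1
  have w2' := Ne.symm w2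
  have w3' := Ne.symm w3
  have w0' := Ne.symm w0
  have w4' := Ne.symm w4
  clear e
  fin_cases i <;> fin_cases j <;>
    simp [ovA, w0, w1, w2, w3, w4, w0', w1', w2', w3', w4'] at hij m1 m2 m3

include hF hω in
theorem ovB_ne (i j : Fin 6) (hij : i ≠ j) (c : F) : ovB ω j ≠ c • ovB ω i := by
  obtain ⟨w0, w1, w2, w3, w4⟩ := omega_facts hF hω
  intro e
  obtain ⟨m1, m2, m3⟩ := minors e
  have w1' := Ne.symm w1
  have w2' := Ne.symm w2
  have w3' := Ne.symm w3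
  have w0' := Ne.symm w0
  have w4' := Ne.symm w4
  clear e
  fin_cases i <;> fin_cases j <;>
    simp [ovB, w0, w1, w2, w3, w4, w0', w1', w2', w3', w4'] at hij m1 m2 m3

include hF hω in
theorem ovAB_ne (j : Fin 5) (c : F) : ovB ω j.succ ≠ c • ovA ω 3 := by
  obtain ⟨w0, w1, w2, w3, w4⟩ := omega_facts hF hω
  intro e
  obtain ⟨m1, m2, m3⟩ := minors e
  have w1' := Ne.symm w1
  have w2' := Ne.symm w2
  have w3' := Ne.symm w3
  have w0' := Ne.symm w0
  have w4' := Ne.symm w4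
  clear e
  fin_cases j <;> simp [ovA, ovB, w0, w1, w2, w3, w4, w0', w1', w2', w3', w4'] at m1 m2 m3

theorem ovBA_zero : ovB ω 0 = ovA ω 0 := by
  simp only [ovA, ovB, Matrix.cons_val_zero]

theorem ovBA_one : ovB ω 1 = ovA ω 1 := by
  simp [ovA, ovB]

theorem ovBA_two : ovB ω 2 = ovA ω 2 := by
  simp [ovA, ovB]

theorem ovA_ne_zero (i : Fin 6) : ovA ω i ≠ 0 := by
  intro e
  have e0 := congrFun e 0
  have e1 := congrFun e 1
  have e2 := congrFun e 2
  fin_cases i <;> simp [ovA] at e0 e1 e2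

theorem ovB_ne_zero (i : Fin 6) : ovB ω i ≠ 0 := by
  intro e
  have e0 := congrFun e 0
  have e1 := congrFun e 1
  have e2 := congrFun e 2
  fin_cases i <;> simp [ovB] at e0 e1 e2

end Pts

theorem theta_congr {A : Type*} [Group A] {U : Subgroup G} (θ : U →* A) {x y : G} (e : x = y) (hx : x ∈ U)
    (hy : y ∈ U) : θ ⟨x, hx⟩ = θ ⟨y, hy⟩ := by
  subst e
  rfl

namespace Data

variable {hF : Fintype.card F = 2 ^ 2} {t : G} {U Y : Subgroup G} {ht : t ∈ U} {θ : U →* PSU 6 F 2}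
  {rel : G → G → Prop}

theorem comm_t (D : Data hF t U Y ht θ rel) {g : G} (hg : g ∈ U) : g * t = t * g :=
  congrArg Subtype.val (D.ext.comm ⟨g, hg⟩)

theorem tt (D : Data hF t U Y ht θ rel) : t * t = 1 := congrArg Subtype.val D.ext.zz

theorem conjT (D : Data hF t U Y ht θ rel) {g x : G} (hg : g ∈ U) (hx : rel t x) : rel t (g * x * g⁻¹) := by
  have h := D.equiv g (D.le hg) t x hx
  rwa [D.comm_t hg, mul_inv_cancel_right] at h

theorem theta_mul (_D : Data hF t U Y ht θ rel) {x y : G} (hx : x ∈ U) (hy : y ∈ U) :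
    θ ⟨x * y, mul_mem hx hy⟩ = θ ⟨x, hx⟩ * θ ⟨y, hy⟩ := by
  rw [← map_mul]; rfl

theorem theta_conj (_D : Data hF t U Y ht θ rel) {x y : G} (hx : x ∈ U) (hy : y ∈ U) :
    θ ⟨x * y * x⁻¹, mul_mem (mul_mem hx hy) (inv_mem hx)⟩ = θ ⟨x, hx⟩ * θ ⟨y, hy⟩ * (θ ⟨x, hx⟩)⁻¹ := by
  rw [← map_inv, ← map_mul, ← map_mul]; rfl

/-- good lifts with commuting images commute -/
theorem comm (D : Data hF t U Y ht θ rel) {x y : G} (hx : rel t x) (hy : rel t y)
    (h : θ ⟨x, D.mem x hx⟩ * θ ⟨y, D.mem y hy⟩ = θ ⟨y, D.mem y hy⟩ * θ ⟨x, D.mem x hx⟩) : x * y = y * x := by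
  have mx := D.mem x hx
  have my := D.mem y hy
  have h1 := D.inj (x * y * x⁻¹) y (mul_mem (mul_mem mx my) (inv_mem mx)) my (D.conjT mx hy) hy (by
    rw [D.theta_conj mx my, h, mul_inv_cancel_right])
  calc x * y = x * y * x⁻¹ * x := by group
    _ = y * x := by rw [h1]

/-- the good lifts are conjugate under `U` -/
theorem conj (D : Data hF t U Y ht θ rel) {x y : G} (hx : rel t x) (hy : rel t y) :
    ∃ g ∈ U, g * x * g⁻¹ = y := by
  have mx := D.mem x hx
  have my := D.mem y hy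
  have h1 := D.img x mx hx
  have h2 := D.img y my hy
  obtain ⟨d, -, hd⟩ := (isThreeTranspositionClass_TT (F := F) hF (n := 6) (by norm_num)).2.1
  rw [hd] at h1 h2
  obtain ⟨c, hc⟩ := isConj_iff.1 ((show IsConj d _ from h1).symm.trans (show IsConj d _ from h2))
  obtain ⟨g, rfl⟩ := D.ext.surj c
  refine ⟨g, g.2, ?_⟩
  exact D.inj _ _ (mul_mem (mul_mem g.2 mx) (inv_mem g.2)) my (D.conjT g.2 hx) hy
    ((D.theta_conj g.2 mx).trans hc)

/-- The derived subgroup, elementwise. -/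
def KK (U : Subgroup G) (x : G) : Prop := ∃ h : x ∈ U, (⟨x, h⟩ : U) ∈ commutator U

theorem kk_mul {x y : G} (hx : KK U x) (hy : KK U y) : KK U (x * y) := by
  obtain ⟨h1, h2⟩ := hx
  obtain ⟨h3, h4⟩ := hy
  exact ⟨mul_mem h1 h3, mul_mem h2 h4⟩

theorem kk_conj {g x : G} (hg : g ∈ U) (hx : KK U x) : KK U (g * x * g⁻¹) := by
  obtain ⟨h1, h2⟩ := hx
  refine ⟨mul_mem (mul_mem hg h1) (inv_mem hg), ?_⟩
  have h3 : (commutator U).Normal := inferInstance
  exact h3.conj_mem _ h2 ⟨g, hg⟩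

theorem map_K (D : Data hF t U Y ht θ rel) : (commutator U).map θ = ⊤ := by
  rw [commutator_def, Subgroup.map_commutator, ← MonoidHom.range_eq_map, MonoidHom.range_eq_top.2 D.ext.surj,
    ← commutator_def, commutator_PSU hF]

/-- if `t` is in the derived subgroup then `U` is perfect -/
theorem top_of (D : Data hF t U Y ht θ rel) (h : KK U t) : commutator U = ⊤ := by
  obtain ⟨h1, h2⟩ := h
  rw [eq_top_iff]
  intro x _
  have h3 : θ x ∈ (commutator U).map θ := by rw [D.map_K]; exact Subgroup.mem_top _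
  obtain ⟨k, hk, e⟩ := h3
  rcases D.ext.map_eq.1 e with h4 | h4
  · rw [← h4]; exact hk
  · have h5 : x = k * ⟨t, ht⟩ := by rw [h4, D.ext.mul_z_mul_z]
    rw [h5]
    exact mul_mem hk h2

theorem eq_one (D : Data hF t U Y ht θ rel) (hn : ¬ KK U t) {x : G} (hx : KK U x)
    (h : ∀ m : x ∈ U, θ ⟨x, m⟩ = 1) : x = 1 := by
  obtain ⟨h1, h2⟩ := hx
  rcases (D.ext.ker _).1 (h h1) with h3 | h3
  · exact congrArg Subtype.val h3
  · exfalso
    apply hn
    exact ⟨ht, by rw [← h3]; exact h2⟩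

/-- a good lift outside the derived subgroup, times `t`, is in it -/
theorem kk_or (D : Data hF t U Y ht θ rel) {x : G} (hx : x ∈ U) : KK U x ∨ KK U (t * x) := by
  have h3 : θ ⟨x, hx⟩ ∈ (commutator U).map θ := by rw [D.map_K]; exact Subgroup.mem_top _
  obtain ⟨k, hk, e⟩ := h3
  rcases D.ext.map_eq.1 e with h4 | h4
  · left; exact ⟨hx, by rw [← h4]; exact hk⟩
  · right
    refine ⟨mul_mem ht hx, ?_⟩
    have h5 : (⟨t * x, mul_mem ht hx⟩ : U) = k := by
      rw [h4]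
      exact Subtype.ext (D.comm_t hx).symm
    rw [h5]; exact hk

/-- the view from another good lift -/
theorem seen (D : Data hF t U Y ht θ rel) {x y g : G} (hx : rel t x) (hy : rel t y) (hne : x ≠ y)
    (hc : x * y = y * x) (hg : g ∈ Y) (e : g * t * g⁻¹ = x) : rel t (g⁻¹ * y * g) := by
  have h := D.equiv g⁻¹ (inv_mem hg) x y (D.star x y hx hy hne hc)
  have e1 : g⁻¹ * x * g⁻¹⁻¹ = t := by rw [← e]; group
  rw [e1, inv_inv] at h
  exact h

/-- The five good lifts seen from the first of six good lifts with product one. -/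
theorem five (D : Data hF t U Y ht θ rel) {x : Fin 6 → G} (hx : ∀ i, rel t (x i)) (hi : Function.Injective x)
    (hc : ∀ i j, x i * x j = x j * x i) (hp : x 0 * x 1 * x 2 * x 3 * x 4 * x 5 = 1) {g : G} (hg : g ∈ Y)
    (e : g * t * g⁻¹ = x 0) : ∃ hr : ∀ i : Fin 5, rel t (g⁻¹ * x i.succ * g),
      Function.Injective (fun i => θ ⟨_, D.mem _ (hr i)⟩) ∧
      (∀ i j, θ ⟨_, D.mem _ (hr i)⟩ * θ ⟨_, D.mem _ (hr j)⟩ = θ ⟨_, D.mem _ (hr j)⟩ * θ ⟨_, D.mem _ (hr i)⟩) ∧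
      θ ⟨_, D.mem _ (hr 0)⟩ * θ ⟨_, D.mem _ (hr 1)⟩ * θ ⟨_, D.mem _ (hr 2)⟩ * θ ⟨_, D.mem _ (hr 3)⟩ *
        θ ⟨_, D.mem _ (hr 4)⟩ = 1 := by
  have hr : ∀ i : Fin 5, rel t (g⁻¹ * x i.succ * g) := fun i =>
    D.seen (hx 0) (hx i.succ) (fun h => Fin.succ_ne_zero i (hi h).symm) (hc _ _) hg e
  refine ⟨hr, ?_, ?_, ?_⟩
  · intro i j h
    have h1 := D.inj _ _ (D.mem _ (hr i)) (D.mem _ (hr j)) (hr i) (hr j) h
    have h2 : x i.succ = x j.succ := by
      calc x i.succ = g * (g⁻¹ * x i.succ * g) * g⁻¹ := by group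
        _ = g * (g⁻¹ * x j.succ * g) * g⁻¹ := by rw [h1]
        _ = x j.succ := by group
    exact Fin.succ_injective _ (hi h2)
  · intro i j
    rw [← map_mul, ← map_mul]
    congr 1
    apply Subtype.ext
    show g⁻¹ * x i.succ * g * (g⁻¹ * x j.succ * g) = g⁻¹ * x j.succ * g * (g⁻¹ * x i.succ * g)
    calc g⁻¹ * x i.succ * g * (g⁻¹ * x j.succ * g) = g⁻¹ * (x i.succ * x j.succ) * g := by group
      _ = g⁻¹ * (x j.succ * x i.succ) * g := by rw [hc]
      _ = _ := by group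
  · rw [← map_mul, ← map_mul, ← map_mul, ← map_mul]
    apply (D.ext.ker _).2
    right
    apply Subtype.ext
    show g⁻¹ * x 1 * g * (g⁻¹ * x 2 * g) * (g⁻¹ * x 3 * g) * (g⁻¹ * x 4 * g) * (g⁻¹ * x 5 * g) = t
    have h1 : x 1 * x 2 * x 3 * x 4 * x 5 = (x 0)⁻¹ := by
      apply eq_inv_of_mul_eq_one_right
      rw [← hp]; group
    calc g⁻¹ * x 1 * g * (g⁻¹ * x 2 * g) * (g⁻¹ * x 3 * g) * (g⁻¹ * x 4 * g) * (g⁻¹ * x 5 * g)
        = g⁻¹ * (x 1 * x 2 * x 3 * x 4 * x 5) * g := by group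
      _ = t⁻¹ := by rw [h1, ← e]; group
      _ = t := inv_eq_of_mul_eq_one_left D.tt

/-- **Lemma NoSplit.** -/
theorem perfect (D : Data hF t U Y ht θ rel) : commutator U = ⊤ := by
  by_contra htop
  have hn : ¬ KK U t := fun h => htop (D.top_of h)
  obtain ⟨ω, hω⟩ := exists_omega hF
  -- the good lift of the transvection with centre `pt k`
  have hL : ∀ k : Fin 3 → F, ∃ y, k ≠ 0 → ∃ h : y ∈ U, rel t y ∧ θ ⟨y, h⟩ = tau hF (pt k) := by
    intro k
    by_cases hk : k = 0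
    · exact ⟨1, fun h => absurd hk h⟩
    · obtain ⟨y, h⟩ := D.lift _ (tau_mem hF (pt_ne hk) (herm_pt hF k k))
      exact ⟨y, fun _ => h⟩
  choose L hL using hL
  have Lr : ∀ k, k ≠ 0 → rel t (L k) := fun k hk => (hL k hk).2.1
  have Lθ : ∀ k (hk : k ≠ 0) (m : L k ∈ U), θ ⟨L k, m⟩ = tau hF (pt k) := fun k hk m => (hL k hk).2.2
  have Lc : ∀ k k', k ≠ 0 → k' ≠ 0 → L k * L k' = L k' * L k := by
    intro k k' hk hk'
    apply D.comm (Lr k hk) (Lr k' hk')
    rw [Lθ k hk, Lθ k' hk']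
    exact ((tau_commute_iff hF (by norm_num) (herm_pt hF k k) (herm_pt hF k' k') (pt_ne hk)).2
      (herm_pt hF k k')).eq
  have Lne : ∀ k k', k ≠ 0 → k' ≠ 0 → (∀ c : F, k' ≠ c • k) → L k ≠ L k' := by
    intro k k' hk hk' h e
    have h1 : tau hF (pt k) = tau hF (pt k') := by
      rw [← Lθ k hk (D.mem _ (Lr k hk)), ← Lθ k' hk' (D.mem _ (Lr k' hk'))]
      exact theta_congr θ e _ _
    obtain ⟨c, -, hc⟩ := tau_pt_eq hF hk h1
    exact h c hc
  -- the product of six good lifts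
  by_cases hcase : ∀ x, rel t x → KK U x
  · -- all good lifts are in the derived subgroup
    set k : Fin 5 → Fin 3 → F := ![![1, 0, 0], ![0, 1, 0], ![1, 1, 0], ![ω, 1, 0], ![ω ^ 2, 1, 0]] with hk
    have k0 : ∀ i, k i ≠ 0 := by
      intro i e
      have e0 := congrFun e 0
      have e1 := congrFun e 1
      fin_cases i <;> simp [hk] at e0 e1
    have kne : ∀ i : Fin 4, ∀ c : F, k i.succ ≠ c • k 0 := by
      intro i c e
      obtain ⟨m1, -, -⟩ := minors e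
      fin_cases i <;> simp [hk] at m1
    have hprod : L (k 0) * L (k 1) * L (k 2) * L (k 3) * L (k 4) = 1 := by
      apply D.eq_one hn
      · exact kk_mul (kk_mul (kk_mul (kk_mul (hcase _ (Lr _ (k0 0))) (hcase _ (Lr _ (k0 1))))
          (hcase _ (Lr _ (k0 2)))) (hcase _ (Lr _ (k0 3)))) (hcase _ (Lr _ (k0 4)))
      · intro m
        have m0 := D.mem _ (Lr _ (k0 0))
        have m1 := D.mem _ (Lr _ (k0 1))
        have m2 := D.mem _ (Lr _ (k0 2))
        have m3 := D.mem _ (Lr _ (k0 3))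
        have m4 := D.mem _ (Lr _ (k0 4))
        have h1 : θ ⟨_, m⟩ = θ ⟨_, m0⟩ * θ ⟨_, m1⟩ * θ ⟨_, m2⟩ * θ ⟨_, m3⟩ * θ ⟨_, m4⟩ := by
          rw [← map_mul, ← map_mul, ← map_mul, ← map_mul]; rfl
        rw [h1, Lθ _ (k0 0), Lθ _ (k0 1), Lθ _ (k0 2), Lθ _ (k0 3), Lθ _ (k0 4)]
        have h2 := line_prod hF (a := va) (b := vb) (h_aa hF) (h_bb hF) h_ab hω
        have e0 : pt (k 0) = va := by simp [pt, vec, hk]
        have e1 : pt (k 1) = vb := by simp [pt, vec, hk]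
        have e2 : pt (k 2) = va + vb := by simp [pt, vec, hk]
        have e3 : pt (k 3) = ω • va + vb := by simp [pt, vec, hk]
        have e4 : pt (k 4) = ω ^ 2 • va + vb := by simp [pt, vec, hk]
        rw [e0, e1, e2, e3, e4]
        exact h2
    obtain ⟨g, hg, e⟩ := D.fuse _ (Lr _ (k0 0))
    have hr : ∀ i : Fin 4, rel t (g⁻¹ * L (k i.succ) * g) := fun i =>
      D.seen (Lr _ (k0 0)) (Lr _ (k0 _)) (Lne _ _ (k0 0) (k0 _) (kne i)) (Lc _ _ (k0 0) (k0 _)) hg e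
    apply hn
    have h1 : KK U (g⁻¹ * L (k 1) * g * (g⁻¹ * L (k 2) * g) * (g⁻¹ * L (k 3) * g) * (g⁻¹ * L (k 4) * g)) :=
      kk_mul (kk_mul (kk_mul (hcase _ (hr 0)) (hcase _ (hr 1))) (hcase _ (hr 2))) (hcase _ (hr 3))
    have h2 : L (k 1) * L (k 2) * L (k 3) * L (k 4) = (L (k 0))⁻¹ := by
      apply eq_inv_of_mul_eq_one_right
      rw [← hprod]; group
    have h3 : g⁻¹ * L (k 1) * g * (g⁻¹ * L (k 2) * g) * (g⁻¹ * L (k 3) * g) * (g⁻¹ * L (k 4) * g) = t := by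
      calc g⁻¹ * L (k 1) * g * (g⁻¹ * L (k 2) * g) * (g⁻¹ * L (k 3) * g) * (g⁻¹ * L (k 4) * g)
          = g⁻¹ * (L (k 1) * L (k 2) * L (k 3) * L (k 4)) * g := by group
        _ = t⁻¹ := by rw [h2, ← e]; group
        _ = t := inv_eq_of_mul_eq_one_left D.tt
    rwa [h3] at h1
  · -- no good lift is in the derived subgroup
    have hcase' : ∀ x, rel t x → KK U (t * x) := by
      intro x hx
      rcases D.kk_or (D.mem x hx) with h1 | h1
      · exfalso
        apply hcase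
        intro y hy
        obtain ⟨g, hg, rfl⟩ := D.conj hx hy
        exact kk_conj hg h1
      · exact h1
    have hprod : ∀ k : Fin 6 → Fin 3 → F, (∀ i, k i ≠ 0) → tau hF (pt (k 0)) * tau hF (pt (k 1)) *
        tau hF (pt (k 2)) * tau hF (pt (k 3)) * tau hF (pt (k 4)) * tau hF (pt (k 5)) = 1 →
        L (k 0) * L (k 1) * L (k 2) * L (k 3) * L (k 4) * L (k 5) = 1 := by
      intro k k0 hk
      have m : ∀ i, L (k i) ∈ U := fun i => D.mem _ (Lr _ (k0 i))
      have h1 : KK U (t * L (k 0) * (t * L (k 1)) * (t * L (k 2)) * (t * L (k 3)) * (t * L (k 4)) *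
          (t * L (k 5))) :=
        kk_mul (kk_mul (kk_mul (kk_mul (kk_mul (hcase' _ (Lr _ (k0 0))) (hcase' _ (Lr _ (k0 1))))
          (hcase' _ (Lr _ (k0 2)))) (hcase' _ (Lr _ (k0 3)))) (hcase' _ (Lr _ (k0 4))))
          (hcase' _ (Lr _ (k0 5)))
      have hc : ∀ i, L (k i) * t = t * L (k i) := fun i => D.comm_t (m i)
      have two : ∀ a b : G, a * t = t * a → t * a * (t * b) = a * b := by
        intro a b ha
        calc t * a * (t * b) = (t * a) * t * b := by group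
          _ = (a * t) * t * b := by rw [ha]
          _ = a * (t * t) * b := by group
          _ = a * b := by rw [D.tt, mul_one]
      have h2 : t * L (k 0) * (t * L (k 1)) * (t * L (k 2)) * (t * L (k 3)) * (t * L (k 4)) *
          (t * L (k 5)) = L (k 0) * L (k 1) * L (k 2) * L (k 3) * L (k 4) * L (k 5) := by
        have a1 := two (L (k 0)) (L (k 1)) (hc 0)
        have a2 := two (L (k 2)) (L (k 3)) (hc 2)
        have a3 := two (L (k 4)) (L (k 5)) (hc 4)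
        calc t * L (k 0) * (t * L (k 1)) * (t * L (k 2)) * (t * L (k 3)) * (t * L (k 4)) * (t * L (k 5))
            = (t * L (k 0) * (t * L (k 1))) * (t * L (k 2) * (t * L (k 3))) * (t * L (k 4) * (t * L (k 5))) := by
              group
          _ = L (k 0) * L (k 1) * (L (k 2) * L (k 3)) * (L (k 4) * L (k 5)) := by rw [a1, a2, a3]
          _ = _ := by group
      rw [h2] at h1
      apply D.eq_one hn h1
      intro m'
      have h3 : θ ⟨_, m'⟩ = θ ⟨_, m 0⟩ * θ ⟨_, m 1⟩ * θ ⟨_, m 2⟩ * θ ⟨_, m 3⟩ * θ ⟨_, m 4⟩ * θ ⟨_, m 5⟩ := by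
        rw [← map_mul, ← map_mul, ← map_mul, ← map_mul, ← map_mul]; rfl
      rw [h3, Lθ _ (k0 0), Lθ _ (k0 1), Lθ _ (k0 2), Lθ _ (k0 3), Lθ _ (k0 4), Lθ _ (k0 5)]
      exact hk
    have pA := hprod (ovA ω) ovA_ne_zero
      (ovA_prod hF (h_aa hF) (h_bb hF) (h_cc hF) h_ab h_ac h_bc hω)
    have pB := hprod (ovB ω) ovB_ne_zero
      (ovB_prod hF (h_aa hF) (h_bb hF) (h_cc hF) h_ab h_ac h_bc hω)
    have iA : Function.Injective fun i => L (ovA ω i) := by
      intro i j h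
      by_contra hij
      exact Lne _ _ (ovA_ne_zero i) (ovA_ne_zero j) (ovA_ne hF hω i j hij) h
    have iB : Function.Injective fun i => L (ovB ω i) := by
      intro i j h
      by_contra hij
      exact Lne _ _ (ovB_ne_zero i) (ovB_ne_zero j) (ovB_ne hF hω i j hij) h
    have a0 : ovB ω 0 = ovA ω 0 := ovBA_zero
    have a1 : ovB ω 1 = ovA ω 1 := ovBA_one
    have a2 : ovB ω 2 = ovA ω 2 := ovBA_two
    obtain ⟨g, hg, e⟩ := D.fuse _ (Lr _ (ovA_ne_zero (ω := ω) 0))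
    have e' : g * t * g⁻¹ = L (ovB ω 0) := by rw [a0]; exact e
    obtain ⟨rA, jA, cA, qA⟩ := D.five (x := fun i => L (ovA ω i)) (fun i => Lr _ (ovA_ne_zero i)) iA
      (fun i j => Lc _ _ (ovA_ne_zero i) (ovA_ne_zero j)) pA hg e
    obtain ⟨rB, jB, cB, qB⟩ := D.five (x := fun i => L (ovB ω i)) (fun i => Lr _ (ovB_ne_zero i)) iB
      (fun i j => Lc _ _ (ovB_ne_zero i) (ovB_ne_zero j)) pB hg e'
    have b0 : g⁻¹ * L (ovB ω (0 : Fin 5).succ) * g = g⁻¹ * L (ovA ω (0 : Fin 5).succ) * g :=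
      congrArg (fun z => g⁻¹ * L z * g) a1
    have b1 : g⁻¹ * L (ovB ω (1 : Fin 5).succ) * g = g⁻¹ * L (ovA ω (1 : Fin 5).succ) * g :=
      congrArg (fun z => g⁻¹ * L z * g) a2
    obtain ⟨i, hi⟩ := five_line hF (n := 6) (by norm_num)
      (σ := fun i => θ ⟨_, D.mem _ (rA i)⟩) (σ' := fun i => θ ⟨_, D.mem _ (rB i)⟩)
      (fun i => D.img _ _ (rA i)) (fun i => D.img _ _ (rB i)) cA cB jA jB qA qB
      (theta_congr θ b0 _ _) (theta_congr θ b1 _ _)
    have h1 : g⁻¹ * L (ovA ω (2 : Fin 5).succ) * g = g⁻¹ * L (ovB ω i.succ) * g :=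
      D.inj _ _ (D.mem _ (rA 2)) (D.mem _ (rB i)) (rA 2) (rB i) hi
    have h2 : L (ovA ω (2 : Fin 5).succ) = L (ovB ω i.succ) := by
      calc L (ovA ω (2 : Fin 5).succ) = g * (g⁻¹ * L (ovA ω (2 : Fin 5).succ) * g) * g⁻¹ := by group
        _ = g * (g⁻¹ * L (ovB ω i.succ) * g) * g⁻¹ := by rw [h1]
        _ = L (ovB ω i.succ) := by group
    exact Lne _ _ (ovA_ne_zero _) (ovB_ne_zero i.succ) (ovAB_ne hF hω i) h2

end Data

end Cfsg.Agent.BabyU.PerfTwo
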