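import Cfsg.Agent.BabyU.Unitary
import Cfsg.Agent.BabyU.PerfTwo

/-!
# U-B: the preimage of the centraliser of an opposite pair is perfect

`perf2`: the last hypothesis of `Ident.Hyp` follows from the others (`perf1` is not used).  The lemmas on the
relation `Rel` are those of `Local`, `Symm` and `Unitary` without the two perfectness hypotheses.
-/

set_option autoImplicit false
set_option linter.unusedSectionVars false

namespace Cfsg.Agent.BabyU.PerfTwo

open Cfsg Cfsg.Agent.R01.Lifts Cfsg.Agent.BabyU.RootCfg Cfsg.Agent.R01.PSUSix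
open Cfsg.Agent.LieClassical.HermBasic Cfsg.Agent.BabyU.Ident
open Cfsg.Agent.ClassicalGeometry.UnitAutBasic (tau)
open scoped commutatorElement

universe u v w

variable {G : Type u} [Group G] {E : Type v} [Group E] {F : Type w} [Field F] [Fintype F]
variable {hF : Fintype.card F = 2 ^ 2} {t : G} {M : Subgroup G} {π : M →* E} {R : Set E}

/-- `Ident.Hyp` without the perfectness hypotheses. -/
structure Pre (hF : Fintype.card F = 2 ^ 2) (t : G) (M : Subgroup G) (π : M →* E) (R : Set E) : Prop where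
  S : Setup t M π
  RF : RootFacts hF R
  W : FusW t M π R

theorem Pre.conj (H : Pre hF t M π R) (g : G) : Pre hF (g * t * g⁻¹) (conjN g M) (conjP g π) R where
  S := setup_conj H.S g
  RF := H.RF
  W := fusW_conj H.W g

/-- A base point at every conjugate of `t`. -/
theorem Pre.at (H : Pre hF t M π R) {d : G} (hd : ∃ g : G, g * t * g⁻¹ = d) :
    ∃ (N : Subgroup G) (ρ : N →* E), Pre hF d N ρ R ∧ (∀ a b, Rel d N ρ R a b ↔ Rel t M π R a b) ∧
      (∀ a b, NN d N a b ↔ NN t M a b) ∧ ∀ x, (∃ g : G, g * d * g⁻¹ = x) ↔ ∃ g : G, g * t * g⁻¹ = x := by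
  obtain ⟨g, rfl⟩ := hd
  exact ⟨conjN g M, conjP g π, H.conj g, fun a b => rel_conj, fun a b => nn_conj, fun x => exists_conj_iff⟩

namespace Pre

theorem nn_base (H : Pre hF t M π R) {x : G} : NN t M t x ↔ x ∈ M := by
  constructor
  · rintro ⟨g, h1, h2⟩
    have h3 : g * t = t * g := by
      calc g * t = g * t * g⁻¹ * g := by group
        _ = t * g := by rw [← h1]
    have h4 := H.S.norm g h3 _ h2
    have : g * (g⁻¹ * x * g) * g⁻¹ = x := by group
    rwa [this] at h4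
  · intro h
    exact ⟨1, by group, by simpa using h⟩

theorem rel_base (H : Pre hF t M π R) {x : G} :
    Rel t M π R t x ↔ (∃ h : x ∈ M, π ⟨x, h⟩ ∈ R) ∧ ∃ h : G, h * t * h⁻¹ = x := by
  constructor
  · rintro ⟨g, h1, ⟨h2, h3⟩, h4⟩
    have h5 : g * t = t * g := by
      calc g * t = g * t * g⁻¹ * g := by group
        _ = t * g := by rw [← h1]
    have h6 := H.S.norm g h5 _ h2
    have e : g * (g⁻¹ * x * g) * g⁻¹ = x := by group
    rw [e] at h6
    exact ⟨⟨h6, H.W.inv g h5 ⟨_, h2⟩ ⟨x, h6⟩ e.symm h3⟩, h4⟩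
  · rintro ⟨⟨h1, h2⟩, h3⟩
    refine ⟨1, by group, ?_, h3⟩
    have e : (1 : G)⁻¹ * x * 1 = x := by group
    refine ⟨by rw [e]; exact h1, ?_⟩
    have : (⟨(1 : G)⁻¹ * x * 1, by rw [e]; exact h1⟩ : M) = ⟨x, h1⟩ := Subtype.ext e
    rw [this]; exact h2

theorem tt (H : Pre hF t M π R) {x : G} (h : ∃ g : G, g * t * g⁻¹ = x) : x * x = 1 := by
  obtain ⟨g, rfl⟩ := h
  have : g * t * g⁻¹ * (g * t * g⁻¹) = g * (t * t) * g⁻¹ := by group
  rw [this, H.S.sq]; group

/-- Two elements of `M` with the same image. -/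
theorem eq_or (H : Pre hF t M π R) {x y : M} (h : π x = π y) : (x : G) = y ∨ (x : G) = t * y := by
  rcases H.S.ext.map_eq.1 h with h1 | h1
  · left; rw [h1]
  · right
    rw [h1]
    show (y : G) * t = t * y
    exact H.S.comm y y.2

/-- Good lifts of the same root involution are equal. -/
theorem eq_of_map (H : Pre hF t M π R) {x y : M} (hx : π x ∈ R) (cx : ∃ g : G, g * t * g⁻¹ = x)
    (cy : ∃ g : G, g * t * g⁻¹ = y) (h : π x = π y) : (x : G) = y := by
  rcases H.eq_or h.symm with h1 | h1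
  · exact h1.symm
  · exfalso
    have h2 := H.W.xor x hx
    rw [← h1] at h2
    rcases h2 with ⟨-, h3⟩ | ⟨-, h3⟩
    · exact h3 cy
    · exact h3 cx

/-- Conjugation by an element whose image commutes with the root involution fixes the good lift. -/
theorem comm_of (H : Pre hF t M π R) {x : M} (hx : π x ∈ R) (cx : ∃ g : G, g * t * g⁻¹ = x) {m : M}
    (h : π m * π x = π x * π m) : (m : G) * x = x * m := by
  have h1 : π (m * x * m⁻¹) = π x := by
    rw [map_mul, map_mul, map_inv, h, mul_inv_cancel_right]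
  have h2 : ((m * x * m⁻¹ : M) : G) = x := by
    refine H.eq_of_map (by rw [h1]; exact hx) ?_ cx h1
    obtain ⟨g, hg⟩ := cx
    refine ⟨m * g, ?_⟩
    show (m : G) * g * t * ((m : G) * g)⁻¹ = m * x * (m : G)⁻¹
    rw [← hg]; group
  have h3 : (m : G) * x * (m : G)⁻¹ = x := h2
  calc (m : G) * x = (m : G) * x * (m : G)⁻¹ * m := by group
    _ = x * m := by rw [h3]

/-- A good lift of a root involution. -/
theorem exists_good (H : Pre hF t M π R) {r : E} (hr : r ∈ R) :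
    ∃ m : M, π m = r ∧ ∃ g : G, g * t * g⁻¹ = m := by
  obtain ⟨m, hm⟩ := H.S.surj r
  rcases H.W.xor m (by rw [hm]; exact hr) with ⟨h, -⟩ | ⟨h, -⟩
  · exact ⟨m, hm, h⟩
  · refine ⟨H.S.z * m, ?_, h⟩
    rw [map_mul, H.S.ext.mapz, one_mul, hm]

/-- Opposite root involutions have opposite good lifts. -/
theorem opp_iff (H : Pre hF t M π R) {x y : M} (hx : π x ∈ R) (_hy : π y ∈ R)
    (cx : ∃ g : G, g * t * g⁻¹ = x) (cy : ∃ g : G, g * t * g⁻¹ = y) :
    Opp (π x) (π y) ↔ Opp (x : G) y := by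
  constructor
  · rintro ⟨h1, h2⟩
    refine ⟨fun h => h1 (by rw [Subtype.ext h]), ?_⟩
    have h3 : π ((x * y) ^ 3) = π 1 := by rw [map_pow, map_mul, h2, map_one]
    rcases H.eq_or h3 with h4 | h4
    · exact h4
    · exfalso
      -- `x y x = t (y x y)`
      have xx : (x : G) * x = 1 := H.tt cx
      have yy : (y : G) * y = 1 := H.tt cy
      have ct : ∀ m : M, (m : G) * t = t * m := fun m => H.S.comm m m.2
      have h5 : ((x : G) * y) ^ 3 = t := by
        have h6 : (((x * y) ^ 3 : M) : G) = t * ((1 : M) : G) := h4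
        rw [Subgroup.coe_one, mul_one] at h6
        exact h6
      have h6 : (x : G) * y * x = t * ((y : G) * x * y) := by
        have h7 : (x : G) * y * x * ((y : G) * x * y) = t := by
          rw [← h5, pow_succ, pow_two]; group
        calc (x : G) * y * x = (x : G) * y * x * ((y : G) * x * y) * ((y : G) * x * y)⁻¹ := by
              rw [mul_assoc _ _ ((y : G) * x * y)⁻¹, mul_inv_cancel, mul_one]
          _ = t * ((y : G) * x * y)⁻¹ := by rw [h7]
          _ = t * ((y : G) * x * y) := by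
            rw [mul_inv_rev, mul_inv_rev, inv_eq_of_mul_eq_one_left xx, inv_eq_of_mul_eq_one_left yy,
              mul_assoc (y : G)]
      have c1 : ∃ g : G, g * t * g⁻¹ = ((x * y * x : M) : G) := by
        obtain ⟨g, hg⟩ := cy
        refine ⟨x * g, ?_⟩
        show (x : G) * g * t * ((x : G) * g)⁻¹ = x * y * x
        rw [← hg]
        calc (x : G) * g * t * ((x : G) * g)⁻¹ = x * (g * t * g⁻¹) * (x : G)⁻¹ := by group
          _ = x * (g * t * g⁻¹) * x := by rw [inv_eq_of_mul_eq_one_left xx]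
      have c2 : ∃ g : G, g * t * g⁻¹ = ((y * x * y : M) : G) := by
        obtain ⟨g, hg⟩ := cx
        refine ⟨y * g, ?_⟩
        show (y : G) * g * t * ((y : G) * g)⁻¹ = y * x * y
        rw [← hg]
        calc (y : G) * g * t * ((y : G) * g)⁻¹ = y * (g * t * g⁻¹) * (y : G)⁻¹ := by group
          _ = y * (g * t * g⁻¹) * y := by rw [inv_eq_of_mul_eq_one_left yy]
      have h8 : π (y * x * y) ∈ R := by
        have h9 := H.RF.conj _ hx (π y)
        have h10 : (π y)⁻¹ = π y := by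
          rw [← map_inv]; congr 1
          exact Subtype.ext (inv_eq_of_mul_eq_one_left yy)
        rw [h10] at h9
        rwa [map_mul, map_mul]
      have h11 := H.W.xor _ h8
      have h12 : t * ((y * x * y : M) : G) = ((x * y * x : M) : G) := h6.symm
      rw [h12] at h11
      rcases h11 with ⟨-, h13⟩ | ⟨-, h13⟩
      · exact h13 c1
      · exact h13 c2
  · rintro ⟨h1, h2⟩
    refine ⟨fun h => h1 (H.eq_of_map hx cx cy h), ?_⟩
    have h3 : (x * y) ^ 3 = 1 := Subtype.ext h2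
    rw [← map_mul, ← map_pow, h3, map_one]

theorem star' (H : Pre hF t M π R) {x y : G} (hx : Rel t M π R t x) (hy : Rel t M π R t y) (hne : x ≠ y)
    (hc : x * y = y * x) : Rel t M π R x y := by
  obtain ⟨⟨mx, rx⟩, g, hg⟩ := H.rel_base.1 hx
  obtain ⟨⟨my, ry⟩, hD⟩ := H.rel_base.1 hy
  obtain ⟨m, hm, hmR⟩ := H.W.star ⟨x, mx⟩ ⟨y, my⟩ rx ry (fun h => hne (congrArg Subtype.val h)) hc hD g hg
  refine ⟨g, hg.symm, ?_, hD⟩
  have h1 : g⁻¹ * y * g ∈ M := by
    have : (m : G) = g⁻¹ * y * g := hm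
    rw [← this]; exact m.2
  refine ⟨h1, ?_⟩
  have : (⟨g⁻¹ * y * g, h1⟩ : M) = m := Subtype.ext hm.symm
  rw [this]; exact hmR

/-- a pair of commuting good lifts, each good for the other one -/
theorem exists_sym (H : Pre hF t M π R) : ∃ x y : G, Rel t M π R x y ∧ Rel t M π R y x := by
  obtain ⟨r, hr, s, hs, h⟩ := H.RF.opp
  obtain ⟨a, ha, b, hb, hne, hab, -⟩ := H.RF.exists_pair hr hs h
  obtain ⟨x, ex, cx⟩ := H.exists_good ha
  obtain ⟨y, ey, cy⟩ := H.exists_good hb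
  have hxy : (x : G) * y = y * x :=
    H.comm_of (by rw [ey]; exact hb) cy (by rw [ex, ey]; exact hab)
  have rx : Rel t M π R t x := H.rel_base.2 ⟨⟨x.2, by rw [Subtype.coe_eta, ex]; exact ha⟩, cx⟩
  have ry : Rel t M π R t y := H.rel_base.2 ⟨⟨y.2, by rw [Subtype.coe_eta, ey]; exact hb⟩, cy⟩
  have hn : (x : G) ≠ y := fun e => hne (by rw [← ex, ← ey, Subtype.ext e])
  exact ⟨x, y, H.star' rx ry hn hxy, H.star' ry rx hn.symm hxy.symm⟩

/-- transitivity on the pairs in the relation -/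
theorem trans (H : Pre hF t M π R) {x y : G} (hx : Rel t M π R t x) (hy : Rel t M π R t y) :
    ∃ m : M, (m : G) * x * (m : G)⁻¹ = y := by
  obtain ⟨⟨mx, rx⟩, cx⟩ := H.rel_base.1 hx
  obtain ⟨⟨my, ry⟩, cy⟩ := H.rel_base.1 hy
  obtain ⟨g, hg⟩ := H.RF.one _ rx _ ry
  obtain ⟨m, rfl⟩ := H.S.surj g
  refine ⟨m, ?_⟩
  have h1 : π (m * ⟨x, mx⟩ * m⁻¹) = π ⟨y, my⟩ := by rw [map_mul, map_mul, map_inv, hg]
  refine H.eq_of_map (x := m * ⟨x, mx⟩ * m⁻¹) (y := ⟨y, my⟩) (by rw [h1]; exact ry) ?_ cy h1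
  obtain ⟨k, hk⟩ := cx
  refine ⟨m * k, ?_⟩
  show (m : G) * k * t * ((m : G) * k)⁻¹ = m * x * (m : G)⁻¹
  rw [← hk]; group

theorem symm_base (H : Pre hF t M π R) {c : G} (hc : Rel t M π R t c) : Rel t M π R c t := by
  obtain ⟨x, y, hxy, hyx⟩ := H.exists_sym
  obtain ⟨g, hg, -⟩ := id hxy
  have h1 := hxy.equiv g⁻¹
  have h2 := hyx.equiv g⁻¹
  have e : g⁻¹ * x * g⁻¹⁻¹ = t := by rw [hg]; group
  rw [e] at h1 h2
  obtain ⟨m, hm⟩ := H.trans h1 hc
  have h3 := h2.equiv m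
  rw [hm] at h3
  have e2 : (m : G) * t * (m : G)⁻¹ = t := by rw [H.S.comm m m.2]; group
  rwa [e2] at h3

theorem symm (H : Pre hF t M π R) {a b : G} (h : Rel t M π R a b) : Rel t M π R b a := by
  obtain ⟨g, hg, -⟩ := id h
  have h1 := h.equiv g⁻¹
  have e : g⁻¹ * a * g⁻¹⁻¹ = t := by rw [hg]; group
  rw [e] at h1
  have h2 := (H.symm_base h1).equiv g
  have e1 : g * (g⁻¹ * b * g⁻¹⁻¹) * g⁻¹ = b := by group
  rw [e1, ← hg] at h2
  exact h2

theorem conjL (_H : Pre hF t M π R) {a b : G} (h : Rel t M π R a b) : ∃ g : G, g * t * g⁻¹ = a := by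
  obtain ⟨g, hg, -⟩ := h
  exact ⟨g, hg.symm⟩

theorem conjR (_H : Pre hF t M π R) {a b : G} (h : Rel t M π R a b) : ∃ g : G, g * t * g⁻¹ = b := by
  obtain ⟨g, -, -, h⟩ := h
  exact h

theorem star (H : Pre hF t M π R) {c x y : G} (hx : Rel t M π R c x) (hy : Rel t M π R c y) (hne : x ≠ y)
    (hc : x * y = y * x) : Rel t M π R x y := by
  obtain ⟨N, ρ, H', h1, -, -⟩ := H.at (H.conjL hx)
  rw [← h1]
  exact H'.star' ((h1 _ _).2 hx) ((h1 _ _).2 hy) hne hc

theorem nn_of_rel (_H : Pre hF t M π R) {a b : G} (h : Rel t M π R a b) : NN t M a b := by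
  obtain ⟨g, hg, ⟨h1, -⟩, -⟩ := h
  exact ⟨g, hg, h1⟩

theorem rel_comm (H : Pre hF t M π R) {a b : G} (h : Rel t M π R a b) : a * b = b * a := by
  obtain ⟨g, hg, ⟨h1, -⟩, -⟩ := h
  have h2 := H.S.comm _ h1
  rw [hg]
  calc g * t * g⁻¹ * b = g * (t * (g⁻¹ * b * g)) * g⁻¹ := by group
    _ = g * (g⁻¹ * b * g * t) * g⁻¹ := by rw [h2]
    _ = b * (g * t * g⁻¹) := by group

theorem rel_ne (H : Pre hF t M π R) {a b : G} (h : Rel t M π R a b) : a ≠ b := by
  rintro rfl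
  obtain ⟨g, hg, ⟨h1, h2⟩, -⟩ := h
  have e : g⁻¹ * a * g = t := by rw [hg]; group
  have h3 : (⟨g⁻¹ * a * g, h1⟩ : M) = H.S.z := Subtype.ext e
  rw [h3, H.S.ext.mapz] at h2
  exact H.RF.ne 1 h2 rfl

theorem nn_comm (H : Pre hF t M π R) {a b : G} (h : NN t M a b) : a * b = b * a := by
  obtain ⟨g, hg, h1⟩ := h
  have h2 := H.S.comm _ h1
  rw [hg]
  calc g * t * g⁻¹ * b = g * (t * (g⁻¹ * b * g)) * g⁻¹ := by group
    _ = g * (g⁻¹ * b * g * t) * g⁻¹ := by rw [h2]
    _ = b * (g * t * g⁻¹) := by group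

theorem opp_base (H : Pre hF t M π R) {a b : G} (ha : Rel t M π R t a) (hb : Rel t M π R t b) (hab : Opp a b)
    (ma : a ∈ M) (mb : b ∈ M) : Opp (π ⟨a, ma⟩) (π ⟨b, mb⟩) := by
  obtain ⟨⟨_, ra⟩, ca⟩ := H.rel_base.1 ha
  obtain ⟨⟨_, rb⟩, cb⟩ := H.rel_base.1 hb
  exact (H.opp_iff (x := ⟨a, ma⟩) (y := ⟨b, mb⟩) ra rb ca cb).2 hab

theorem rel_sq (H : Pre hF t M π R) {a b : G} (h : Rel t M π R a b) : b * b = 1 := H.tt (H.conjR h)

/-- The chart of `UU M a b`. -/
theorem exists_chart (H : Pre hF t M π R) {a b : G} (ha : Rel t M π R t a) (hb : Rel t M π R t b)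
    (hab : Opp a b) (ht : t ∈ UU M a b) : ∃ θ : UU M a b →* PSU 6 F 2, Ext θ ⟨t, ht⟩ ∧
      (∀ g : UU M a b, Rel t M π R t g → θ g ∈ TT hF 6) ∧
      ∀ u ∈ TT hF 6, ∃ g : UU M a b, θ g = u ∧ Rel t M π R t g := by
  obtain ⟨⟨ma, ra⟩, ca⟩ := H.rel_base.1 ha
  obtain ⟨⟨mb, rb⟩, cb⟩ := H.rel_base.1 hb
  have ho : Opp (π ⟨a, ma⟩) (π ⟨b, mb⟩) := H.opp_base ha hb hab ma mb
  obtain ⟨ψ, C⟩ := H.RF.chart _ ra
  have hle : UU M a b ≤ M := fun g hg => (mem_UU.1 hg).1
  let f : UU M a b →* E := π.comp (Subgroup.inclusion hle)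
  have hf : ∀ g : UU M a b, f g ∈ Subgroup.centralizer ({π ⟨a, ma⟩} : Set E) := by
    intro g
    rw [mem_cent]
    show π ⟨g, hle g.2⟩ * π ⟨a, ma⟩ = π ⟨a, ma⟩ * π ⟨g, hle g.2⟩
    rw [← map_mul, ← map_mul]
    congr 1
    exact Subtype.ext (mem_UU.1 g.2).2.1
  have hfb : ∀ g : UU M a b, f g * π ⟨b, mb⟩ = π ⟨b, mb⟩ * f g := by
    intro g
    show π ⟨g, hle g.2⟩ * π ⟨b, mb⟩ = π ⟨b, mb⟩ * π ⟨g, hle g.2⟩
    rw [← map_mul, ← map_mul]
    congr 1
    exact Subtype.ext (mem_UU.1 g.2).2.2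
  let f' : UU M a b →* Subgroup.centralizer ({π ⟨a, ma⟩} : Set E) := f.codRestrict _ hf
  let θ : UU M a b →* PSU 6 F 2 := ψ.comp f'
  -- elements of `M` whose image commutes with both root involutions
  have hback : ∀ m : M, π m * π ⟨a, ma⟩ = π ⟨a, ma⟩ * π m → π m * π ⟨b, mb⟩ = π ⟨b, mb⟩ * π m →
      (m : G) ∈ UU M a b := by
    intro m h1 h2
    exact mem_UU.2 ⟨m.2, H.comm_of (x := ⟨a, ma⟩) ra ca h1, H.comm_of (x := ⟨b, mb⟩) rb cb h2⟩
  refine ⟨θ, ⟨?_, ?_, ?_, ?_, ?_⟩, ?_, ?_⟩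
  · intro u
    obtain ⟨x, hx, hu⟩ := C.surj _ rb ho u
    obtain ⟨m, hm⟩ := H.S.surj (x : E)
    have hmU := hback m (by rw [hm]; exact mem_cent.1 x.2) (by rw [hm]; exact hx)
    refine ⟨⟨m, hmU⟩, ?_⟩
    rw [← hu]
    show ψ _ = ψ x
    congr 1
    exact Subtype.ext hm
  · exact Subtype.ext H.S.sq
  · exact fun h => H.S.ne (congrArg Subtype.val h)
  · intro g
    constructor
    · intro h
      have h1 := C.inj _ rb ho (f' g) (hfb g) h
      have h2 : f g = 1 := congrArg Subtype.val h1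
      rcases (H.S.ker _).1 h2 with h3 | h3
      · left; exact Subtype.ext h3
      · right; exact Subtype.ext h3
    · intro h
      have h2 : f g = 1 := by
        apply (H.S.ker _).2
        rcases h with h | h
        · left; rw [h]; rfl
        · right; rw [h]; rfl
      have h3 : f' g = 1 := Subtype.ext h2
      show ψ (f' g) = 1
      rw [h3, map_one]
  · intro g
    exact Subtype.ext (H.S.comm _ (hle g.2))
  · intro g hg
    obtain ⟨⟨mg, rg⟩, -⟩ := H.rel_base.1 hg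
    rcases C.root (f' g) rg with h1 | h1
    · exfalso
      have h2 := C.inj _ rb ho (f' g) (hfb g) h1
      have h3 : f g = 1 := congrArg Subtype.val h2
      exact H.RF.ne _ rg h3
    · exact h1
  · intro u hu
    obtain ⟨x, hx, rfl⟩ := C.surj _ rb ho u
    have hxR := C.back _ rb ho x hx hu
    obtain ⟨m, hm, cm⟩ := H.exists_good hxR
    have hmU := hback m (by rw [hm]; exact mem_cent.1 x.2) (by rw [hm]; exact hx)
    refine ⟨⟨m, hmU⟩, ?_, H.rel_base.2 ⟨⟨m.2, by rw [Subtype.coe_eta, hm]; exact hxR⟩, cm⟩⟩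
    show ψ _ = ψ x
    congr 1
    exact Subtype.ext hm

theorem mem_UU_base (H : Pre hF t M π R) {a b : G} (ha : Rel t M π R t a) (hb : Rel t M π R t b) :
    t ∈ UU M a b := mem_UU.2 ⟨H.S.mem, H.rel_comm ha, H.rel_comm hb⟩

/-- The good lifts in `UU M a b` are conjugate. -/
theorem conj_UU (H : Pre hF t M π R) {a b : G} (ha : Rel t M π R t a) (hb : Rel t M π R t b)
    (hab : Opp a b) {x y : G} (hx : x ∈ UU M a b) (hy : y ∈ UU M a b) (rx : Rel t M π R t x)
    (ry : Rel t M π R t y) : ∃ g ∈ UU M a b, g * x * g⁻¹ = y := by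
  obtain ⟨θ, hE, hT, -⟩ := H.exists_chart ha hb hab (H.mem_UU_base ha hb)
  have h1 := hT ⟨x, hx⟩ rx
  have h2 := hT ⟨y, hy⟩ ry
  obtain ⟨d, -, hd⟩ := (isThreeTranspositionClass_TT (F := F) hF (n := 6) (by norm_num)).2.1
  rw [hd] at h1 h2
  have h3 : IsConj (θ ⟨x, hx⟩) (θ ⟨y, hy⟩) := (show IsConj d _ from h1).symm.trans (show IsConj d _ from h2)
  obtain ⟨c, hc⟩ := isConj_iff.1 h3
  obtain ⟨g, rfl⟩ := hE.surj c
  refine ⟨g, g.2, ?_⟩
  have h4 : θ (g * ⟨x, hx⟩ * g⁻¹) = θ ⟨y, hy⟩ := by rw [map_mul, map_mul, map_inv, hc]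
  obtain ⟨⟨my, Ry⟩, cy⟩ := H.rel_base.1 ry
  obtain ⟨⟨mx, Rx⟩, cx⟩ := H.rel_base.1 rx
  rcases hE.map_eq.1 h4 with h5 | h5
  · exact congrArg Subtype.val h5
  · exfalso
    have h6 : (g : G) * x * (g : G)⁻¹ = y * t := congrArg Subtype.val h5
    have h7 := H.W.xor ⟨y, my⟩ Ry
    have h8 : t * y = (g : G) * x * (g : G)⁻¹ := by rw [h6]; exact (H.S.comm y my).symm
    have h9 : ∃ k : G, k * t * k⁻¹ = t * ((⟨y, my⟩ : M) : G) := by
      obtain ⟨k, hk⟩ := cx
      refine ⟨g * k, ?_⟩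
      show (g : G) * k * t * ((g : G) * k)⁻¹ = t * y
      rw [h8, ← hk]; group
    rcases h7 with ⟨-, h10⟩ | ⟨-, h10⟩
    · exact h10 h9
    · exact h10 cy

/-- Two different commuting good lifts commuting with `a` and `b`. -/
theorem exists_two (H : Pre hF t M π R) {a b : G} (ha : Rel t M π R t a) (hb : Rel t M π R t b)
    (hab : Opp a b) : ∃ x ∈ UU M a b, ∃ y ∈ UU M a b, Rel t M π R t x ∧ Rel t M π R t y ∧ x ≠ y ∧
      x * y = y * x := by
  obtain ⟨θ, hE, hT, hB⟩ := H.exists_chart ha hb hab (H.mem_UU_base ha hb)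
  obtain ⟨v, w, v0, w0, vv, ww, vw, hne⟩ := exists_orth hF
  obtain ⟨x, hx, rx⟩ := hB _ (tau_mem hF v0 vv)
  obtain ⟨y, hy, ry⟩ := hB _ (tau_mem hF w0 ww)
  have hn : (x : G) ≠ y := by
    intro h
    have h1 : tau hF v = tau hF w := by rw [← hx, ← hy, Subtype.ext h]
    obtain ⟨c, -, hc⟩ := (tau_eq_iff hF (by norm_num) vv ww v0).1 h1
    exact hne c hc
  refine ⟨x, x.2, y, y.2, rx, ry, hn, ?_⟩
  have hc := (tau_commute_iff hF (by norm_num) vv ww v0).2 vw
  rw [← hx, ← hy] at hc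
  obtain ⟨⟨mx, Rx⟩, cx⟩ := H.rel_base.1 rx
  obtain ⟨⟨my, Ry⟩, cy⟩ := H.rel_base.1 ry
  -- `x y x⁻¹` is `y` or `y t`
  rcases hE.conj_of_commute hc with h5 | h5
  · have h6 : (x : G) * y * (x : G)⁻¹ = y := congrArg Subtype.val h5
    calc (x : G) * y = (x : G) * y * (x : G)⁻¹ * x := by group
      _ = y * x := by rw [h6]
  · exfalso
    have h6 : (x : G) * y * (x : G)⁻¹ = y * t := congrArg Subtype.val h5
    have h7 := H.W.xor ⟨y, my⟩ Ry
    have h8 : t * y = (x : G) * y * (x : G)⁻¹ := by rw [h6]; exact (H.S.comm y my).symm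
    have h9 : ∃ k : G, k * t * k⁻¹ = t * ((⟨y, my⟩ : M) : G) := by
      obtain ⟨k, hk⟩ := cy
      refine ⟨x * k, ?_⟩
      show (x : G) * k * t * ((x : G) * k)⁻¹ = t * y
      rw [h8, ← hk]; group
    rcases h7 with ⟨-, h10⟩ | ⟨-, h10⟩
    · exact h10 h9
    · exact h10 cy


theorem fuse (H : Pre hF t M π R) {a b : G} (ha : Rel t M π R t a) (hb : Rel t M π R t b)
    (hab : Opp a b) {x : G} (hx : x ∈ UU M a b) (rx : Rel t M π R t x) :
    ∃ g : G, g * a = a * g ∧ g * b = b * g ∧ g * t * g⁻¹ = x := by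
  -- another good lift commuting with `x`
  obtain ⟨s, hs, rs, hne, hcomm⟩ : ∃ s ∈ UU M a b, Rel t M π R t s ∧ s ≠ x ∧ s * x = x * s := by
    obtain ⟨x', hx', y', hy', rx', ry', hne, hc⟩ := H.exists_two ha hb hab
    obtain ⟨g, hg, rfl⟩ := H.conj_UU ha hb hab hx' hx rx' rx
    refine ⟨g * y' * g⁻¹, mul_mem (mul_mem hg hy') (inv_mem hg), ?_, ?_, ?_⟩
    · have h1 := ry'.equiv g
      have e : g * t * g⁻¹ = t := by
        rw [H.S.comm g (mem_UU.1 hg).1, mul_inv_cancel_right]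
      rwa [e] at h1
    · intro e
      apply hne
      have := congrArg (fun z => g⁻¹ * z * g) e
      simpa [mul_assoc] using this.symm
    · calc g * y' * g⁻¹ * (g * x' * g⁻¹) = g * (y' * x') * g⁻¹ := by group
        _ = g * (x' * y') * g⁻¹ := by rw [hc]
        _ = g * x' * g⁻¹ * (g * y' * g⁻¹) := by group
  obtain ⟨s1, s2, s3⟩ := mem_UU.1 hs
  obtain ⟨x1, x2, x3⟩ := mem_UU.1 hx
  have aa : a * a = 1 := H.rel_sq ha
  have bb : b * b = 1 := H.rel_sq hb
  have nab : a * b ≠ b * a := hab.not_comm aa bb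
  have nsa : s ≠ a := by rintro rfl; exact nab s3
  have nsb : s ≠ b := by rintro rfl; exact nab s2.symm
  obtain ⟨Ns, ρ, H', e1, e2, e3⟩ := H.at (H.conjR rs)
  have rsa : Rel s Ns ρ R s a := (e1 _ _).2 (H.star rs ha nsa s2)
  have rsb : Rel s Ns ρ R s b := (e1 _ _).2 (H.star rs hb nsb s3)
  have rst : Rel s Ns ρ R s t := (e1 _ _).2 (H.symm rs)
  have rsx : Rel s Ns ρ R s x := (e1 _ _).2 (H.star rs rx hne hcomm)
  have mt : t ∈ UU Ns a b :=
    mem_UU.2 ⟨H'.nn_base.1 (H'.nn_of_rel rst), H.rel_comm ha, H.rel_comm hb⟩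
  have mx : x ∈ UU Ns a b := mem_UU.2 ⟨H'.nn_base.1 (H'.nn_of_rel rsx), x2, x3⟩
  obtain ⟨g, hg, hgt⟩ := H'.conj_UU rsa rsb hab mt mx rst rsx
  obtain ⟨g1, g2, g3⟩ := mem_UU.1 hg
  exact ⟨g, g2, g3, hgt⟩

theorem perfect (H : Pre hF t M π R) {a b : G} (ha : Rel t M π R t a) (hb : Rel t M π R t b)
    (hab : Opp a b) : commutator (UU M a b) = ⊤ := by
  have ht := H.mem_UU_base ha hb
  obtain ⟨θ, hE, hT, hB⟩ := H.exists_chart ha hb hab ht
  have memY : ∀ g : G, g ∈ Subgroup.centralizer ({a} : Set G) ⊓ Subgroup.centralizer ({b} : Set G) ↔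
      g * a = a * g ∧ g * b = b * g := by
    intro g
    rw [Subgroup.mem_inf, Subgroup.mem_centralizer_singleton_iff, Subgroup.mem_centralizer_singleton_iff]
  have D : Data hF t (UU M a b) (Subgroup.centralizer ({a} : Set G) ⊓ Subgroup.centralizer ({b} : Set G)) ht θ
      (fun x y => Rel t M π R x y ∧ y ∈ Subgroup.centralizer ({a} : Set G) ⊓ Subgroup.centralizer ({b} : Set G)) :=
    { le := fun g hg => (memY g).2 (mem_UU.1 hg).2
      ext := hE
      mem := fun y hy => mem_UU.2 ⟨(H.rel_base.1 hy.1).1.1, (memY y).1 hy.2⟩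
      img := fun y h hy => hT ⟨y, h⟩ hy.1
      lift := fun u hu => by
        obtain ⟨g, hg, hr⟩ := hB u hu
        exact ⟨g, g.2, ⟨hr, (memY _).2 (mem_UU.1 g.2).2⟩, hg⟩
      inj := fun x y hx hy rx ry e => by
        rcases hE.map_eq.1 e with h1 | h1
        · exact congrArg Subtype.val h1
        · exfalso
          obtain ⟨⟨mx, Rx⟩, cx⟩ := H.rel_base.1 rx.1
          obtain ⟨⟨my, Ry⟩, cy⟩ := H.rel_base.1 ry.1
          have h2 : x = y * t := congrArg Subtype.val h1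
          have h3 : x = t * y := by rw [h2]; exact H.S.comm y my
          have h4 := H.W.xor ⟨y, my⟩ Ry
          have h5 : ∃ k : G, k * t * k⁻¹ = t * ((⟨y, my⟩ : M) : G) := by
            obtain ⟨k, hk⟩ := cx
            exact ⟨k, by rw [hk, h3]⟩
          rcases h4 with ⟨-, h6⟩ | ⟨-, h6⟩
          · exact h6 h5
          · exact h6 cy
      equiv := fun g hg x y h => ⟨h.1.equiv g, mul_mem (mul_mem hg h.2) (inv_mem hg)⟩
      star := fun x y hx hy hne hc => ⟨H.star' hx.1 hy.1 hne hc, hy.2⟩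
      fuse := fun x hx => by
        obtain ⟨g, g1, g2, g3⟩ := H.fuse ha hb hab (mem_UU.2 ⟨(H.rel_base.1 hx.1).1.1, (memY x).1 hx.2⟩) hx.1
        exact ⟨g, (memY g).2 ⟨g1, g2⟩, g3⟩ }
  exact D.perfect

end Pre

/-- **The preimage of the centraliser of an opposite pair is perfect.** -/
theorem perf2 (S : Setup t M π) (RF : RootFacts hF R) (W : FusW t M π R) :
    ∀ r ∈ R, ∀ s ∈ R, Opp r s →
    ⁅(Subgroup.centralizer ({r, s} : Set E)).comap π, (Subgroup.centralizer ({r, s} : Set E)).comap π⁆ =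
    (Subgroup.centralizer ({r, s} : Set E)).comap π := by
  intro r hr s hs hrs
  have H : Pre hF t M π R := ⟨S, RF, W⟩
  obtain ⟨a, ea, ca⟩ := H.exists_good hr
  obtain ⟨b, eb, cb⟩ := H.exists_good hs
  have ra : Rel t M π R t a := H.rel_base.2 ⟨⟨a.2, by rw [Subtype.coe_eta, ea]; exact hr⟩, ca⟩
  have rb : Rel t M π R t b := H.rel_base.2 ⟨⟨b.2, by rw [Subtype.coe_eta, eb]; exact hs⟩, cb⟩
  have hab : Opp (a : G) b := (H.opp_iff (by rw [ea]; exact hr) (by rw [eb]; exact hs) ca cb).1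
    (by rw [ea, eb]; exact hrs)
  have h1 := H.perfect ra rb hab
  have h2 : UU M a b = ((Subgroup.centralizer ({r, s} : Set E)).comap π).map M.subtype := by
    ext g
    rw [mem_UU]
    constructor
    · rintro ⟨g1, g2, g3⟩
      refine ⟨⟨g, g1⟩, ?_, rfl⟩
      show π _ ∈ Subgroup.centralizer _
      rw [Subgroup.mem_centralizer_iff]
      rintro x (rfl | rfl)
      · rw [← ea, ← map_mul, ← map_mul]
        congr 1
        exact Subtype.ext g2.symm
      · rw [← eb, ← map_mul, ← map_mul]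
        congr 1
        exact Subtype.ext g3.symm
    · rintro ⟨m, hm, rfl⟩
      have hm' : π m ∈ Subgroup.centralizer ({r, s} : Set E) := hm
      rw [Subgroup.mem_centralizer_iff] at hm'
      refine ⟨m.2, H.comm_of (by rw [ea]; exact hr) ca ?_, H.comm_of (by rw [eb]; exact hs) cb ?_⟩
      · rw [ea]; exact (hm' r (Or.inl rfl)).symm
      · rw [eb]; exact (hm' s (Or.inr rfl)).symm
  have h3 : ⁅UU M a b, UU M a b⁆ = UU M a b := by
    have h4 := congrArg (Subgroup.map (UU M a b).subtype) h1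
    rw [Subgroup.map_subtype_commutator, ← MonoidHom.range_eq_map, Subgroup.range_subtype] at h4
    exact h4
  rw [h2, ← Subgroup.map_commutator] at h3
  exact Subgroup.map_injective M.subtype_injective h3

/-- `Ident.Hyp` from the remaining hypotheses. -/
theorem hyp_of (S : Setup t M π) (RF : RootFacts hF R) (W : FusW t M π R)
    (perf1 : ∀ r ∈ R, ⁅(Subgroup.centralizer ({r} : Set E)).comap π, (Subgroup.centralizer ({r} : Set E)).comap π⁆ =
      (Subgroup.centralizer ({r} : Set E)).comap π) : Ident.Hyp hF t M π R where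
  S := S
  RF := RF
  W := W
  perf1 := perf1
  perf2 := perf2 S RF W

end Cfsg.Agent.BabyU.PerfTwo
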