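import Cfsg.Agent.BabyU.Lit
import Cfsg.Agent.BabyU.Key
import Cfsg.Agent.TwoESix.KeyExtra
import Cfsg.Agent.TwoESix.KeyQuad
import Cfsg.Agent.TwoESix.RootsInst
import Cfsg.Agent.TwoESix.LeviG
import Cfsg.Agent.TwoESix.LeviHyp
import Cfsg.Agent.BabyU.Perf1
import Cfsg.Agent.BabyU.PerfBridge
import Cfsg.Agent.S1070

/-!
# S1662: the inputs on `E = ²E₆(2)` plugged in
-/

set_option autoImplicit false

namespace Cfsg.Agent.BabyU.LitE6

open Cfsg.Lie Cfsg.Agent.BabyU.Lab Cfsg.Agent.BabyU.RootCfg Cfsg.Agent.BabyU.Clos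
open Cfsg.Agent.TwoESix Cfsg.Agent.TwoESix.Cox10 Cfsg.Agent.TwoESix.Lift Cfsg.Agent.TwoESix.Cover
open Cfsg.Agent.BabyU.Ident

universe u

/-- `Extra` for `²E₆(2)` -/
theorem extra (K : Type*) [Field K] [Fintype K] (hK : Fintype.card K = 4) {F' : Type*} [Field F'] [Fintype F']
    (hF' : Fintype.card F' = 2 ^ 2) : Key.Extra hF' (rootClass K) where
  opp_trans := fun r hr s hs r' hr' s' hs' h h' =>
    (ExtTwisted.basic K hK).opp_trans r hr s hs r' hr' s' hs' h.1 h.2 h'.1 h'.2
  spe := KeyExtra.spe hK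
  odd := KeyExtra.odd hK
  ker := KeyExtra.ker hK
  quad := KeyQuad.quad K hK

/-- the facts on `E` -/
theorem facts [Finite HB] (card : ∀ (K : Type) [Field K] [Fintype K], Fintype.card K = 4 →
      Nat.card HB ≤ Nat.card (twistedE6 K 2))
    (flag : ∀ (K : Type) [Field K] [Fintype K], Fintype.card K = 4 →
      ∃ (R S : Subgroup (twistedE6 K 2)) (b a c : twistedE6 K 2), FusGood.Flag (rootClass K) R S b a c)
    (K : Type) [Field K] [Fintype K] (hF : Fintype.card K = 2 ^ 2) : Lit.Facts2E6 K hF where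
  fin := inferInstance
  card := card K hF
  root := LeviG.rootFacts hF hF
  out := LeviHyp.outHyp (LeviG.rootFacts hF hF) (ExtTwisted.basic K hF).opp_trans
  roots := RootsInst.roots K hF
  flag := flag K hF
  simple := (Cfsg.Agent.S1070.result (q := 2) (K := K) Nat.prime_two.isPrimePow hF).1

variable {G : Type u} [Group G] {t : G} {M : Subgroup G} {K : Type} [Field K] [Fintype K]
  {π : M →* twistedE6 K 2}

/-- KEY for `M` -/
theorem key {hF : Fintype.card K = 2 ^ 2} (H : Ident.Hyp hF t M π (rootClass K))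
    (lifts : ∀ p q r, Key.Tri (rootClass K) p q r → ∃ x : M, π x = p * q * r ∧
      ∃ m : M, (m : G) * x * (m : G)⁻¹ = t * x) :
    KeyM.KeyE t M π (rootClass K) (Key.Tri (rootClass K)) where
  tri := fun p q r h => by
    obtain ⟨a, haR, ha, haq, har⟩ := h.ex
    have hn : ∀ x, a * x = x * a → p ≠ x := by
      rintro x hx rfl
      exact ha.not_comm (H.RF.sq a haR) (H.RF.sq p h.pR) hx
    exact ⟨h.pR, h.qR, h.rR, hn q haq, hn r har, h.qne, h.pq, h.pr, h.qr⟩
  key := fun f ff hf1 => by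
    rcases Key.key H.RF (extra K hF hF) f ff hf1 with h | ⟨a, b, h, e⟩ | ⟨p, q, r, h, e⟩
    · exact Or.inl h
    · exact Or.inr (Or.inl ⟨a, b, h, e⟩)
    · exact Or.inr (Or.inr ⟨p, q, r, h, e⟩)
  lifts := lifts

/-- **S1662** from the remaining inputs -/
theorem result [Finite HB] (card : ∀ (K : Type) [Field K] [Fintype K], Fintype.card K = 4 →
      Nat.card HB ≤ Nat.card (twistedE6 K 2))
    (flag : ∀ (K : Type) [Field K] [Fintype K], Fintype.card K = 4 →
      ∃ (R S : Subgroup (twistedE6 K 2)) (b a c : twistedE6 K 2), FusGood.Flag (rootClass K) R S b a c)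
    (lifts : ∀ {G : Type u} [Group G] [Finite G] {t : G} {M : Subgroup G} {K : Type} [Field K] [Fintype K]
      {π : M →* twistedE6 K 2} {hF : Fintype.card K = 2 ^ 2} (H : Ident.Hyp hF t M π (rootClass K)) (m : Fin 10 → M),
      ZRels m H.S.z → (∀ i, π (m i) ∈ rootClass K) →
      ∀ p q r, Key.Tri (rootClass K) p q r → ∃ x : M, π x = p * q * r ∧ ∃ m : M, (m : G) * x * (m : G)⁻¹ = t * x)
    (cent : CentralizerSt) {Γ : Type} [Group Γ] (model : Lit.ModelB Γ)
    {G : Type u} [Group G] [Finite G] [IsSimpleGroup G] (t : G) (ht : orderOf t = 2)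
    (M : Subgroup (Subgroup.centralizer ({t} : Set G))) [M.Normal] (hM : M.index = 2)
    (K : Type) [Field K] [Fintype K] (hK : Fintype.card K = 4)
    (hout : Subgroup.centralizer (M : Set (Subgroup.centralizer ({t} : Set G))) ≤ M)
    (hcov : Cfsg.IsNonsplitDoubleCover M (Cfsg.Lie.twistedE6 K 2)) : Cfsg.Spor.IsoB G :=
  Lit.result (fun K _ _ hF => facts card flag K hF) cent model (fun hK S => Perf1.perf1 hK S)
    (fun hK S W => PerfTwo.perf2 S (LeviG.rootFacts hK hK) W)
    (fun {G} _ _ {t M K} _ _ {π hF} H => by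
      obtain ⟨e, he, hgen, heT⟩ := Lit.exists_good hF
      obtain ⟨m, hz, hmT⟩ := Chain.exists_lifts H.S he hgen (card K hF) heT
      exact ⟨_, key H (lifts H m hz hmT)⟩)
    t ht M hM K hK hout hcov

end Cfsg.Agent.BabyU.LitE6
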