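import Cfsg.Agent.BabyU.Hexad
import Cfsg.Agent.BabyU.Key
import Cfsg.Agent.BabyU.KeyM

/-!
# The two lifts of an involution of the third type are conjugate
-/

set_option autoImplicit false

namespace Cfsg.Agent.BabyU.TriLifts

open Cfsg Cfsg.Agent.TwoESix.Cox10 Cfsg.Agent.TwoESix.Lift Cfsg.Agent.BabyU.Lab Cfsg.Agent.BabyU.Chain
open Cfsg.Agent.BabyU.Hexad Cfsg.Agent.BabyU.Key

/-- a root opposite to `P1`, commuting with `P2`, `P3` -/
def A1 : List (Fin 10) × Fin 10 := ([8, 1, 2, 3, 7, 5, 4, 3, 2, 1], 0)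
/-- a root opposite to `P4`, commuting with `P5`, `P6` -/
def A4 : List (Fin 10) × Fin 10 := ([8, 5, 4, 3, 7, 6, 5, 4, 3, 2], 1)
/-- a root opposite to `P3`, commuting with `P2` -/
def A3 : List (Fin 10) × Fin 10 := ([8], 7)
/-- a root opposite to `P6`, commuting with `P5` -/
def A6 : List (Fin 10) × Fin 10 := ([1], 0)

/-- conjugating words -/
def g1 : List (Fin 10) := [3, 4, 5, 2, 3, 4, 1, 2, 3, 0, 1, 2, 7, 3, 2, 4, 3, 1, 2, 0, 1, 5]
/-- conjugating words -/
def g4 : List (Fin 10) := [3, 4, 5, 2, 3, 4, 1, 2, 3, 7, 3, 4, 5, 2, 3, 4, 6, 5, 4, 3, 2, 1]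

section

variable {M E : Type*} [Group M] [Group E] {π : M →* E} {z : M} {T : Set E} {m : Fin 10 → M}

/-- An opposite pair from words. -/
theorem opp_word (C : Cover π z) (R : Roots E T) (hz : ZRels m z) (hT : ∀ i, π (m i) ∈ T) {g : List (Fin 10)}
    {p q : List (Fin 10) × Fin 10} {i j : Fin 10} (h1 : chk (g ++ pal p ++ g.reverse) [i] = true)
    (h2 : chk (g ++ pal q ++ g.reverse) [j] = true) (hij : Cfsg.Agent.TwoESix.Cox10.lab i j = 3) :
    RootCfg.Opp (π (ev m (pal p))) (π (ev m (pal q))) := by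
  have hs' : M10.IsLiftable (fun i => π (m i)) := by
    intro i j
    show (π (m i) * π (m j)) ^ _ = 1
    rw [← map_mul, ← map_pow, hz.lift i j, map_one]
  have h9' : ev (fun i => π (m i)) W321 ^ 9 = 1 := by
    rw [← ev_map, ← map_pow, hz.e321, C.map_t]
  have hne : π (m i) ≠ π (m j) := adj_ne hs' (fun i => R.ne_one _ (hT i)) h9' hij
  have h3 : (π (m i) * π (m j)) ^ 3 = 1 := by
    have := hs' i j
    rwa [M10_apply, hij] at this
  have d1 := congrArg π (ev_eq_ev hz.lift h1)
  have d2 := congrArg π (ev_eq_ev hz.lift h2)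
  rw [ev_append, ev_append, ev_reverse hz.lift, ev_cons, ev_nil, mul_one, map_mul, map_mul, map_inv] at d1 d2
  rw [← d1, ← d2] at hne h3
  set γ := π (ev m g)
  set x := π (ev m (pal p))
  set y := π (ev m (pal q))
  refine ⟨fun h => hne (by rw [h]), ?_⟩
  have h4 : γ * (x * y) ^ 3 * γ⁻¹ = 1 := by
    rw [← conj_pow]
    rw [← h3]
    congr 1
    group
  have h5 : (x * y) ^ 3 = γ⁻¹ * (γ * (x * y) ^ 3 * γ⁻¹) * γ := by group
  rw [h5, h4]
  group

/-- A commuting pair from words. -/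
theorem comm_word (hz : ZRels m z) {p q : List (Fin 10) × Fin 10}
    (h : chk (pal p ++ pal q) (pal q ++ pal p) = true) :
    π (ev m (pal p)) * π (ev m (pal q)) = π (ev m (pal q)) * π (ev m (pal p)) := by
  have := ev_eq_ev hz.lift h
  rw [ev_append, ev_append] at this
  rw [← map_mul, this, map_mul]

variable {F : Type*} [Field F] [Fintype F] {hF : Fintype.card F = 2 ^ 2}

theorem tri1 (C : Cover π z) (R : Roots E T) (RF : RootCfg.RootFacts hF T) (hz : ZRels m z)
    (hT : ∀ i, π (m i) ∈ T) : Tri T (π (ev m (pal P1))) (π (ev m (pal P2))) (π (ev m (pal P3))) where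
  pR := root_pal R hz.lift hT _
  qR := root_pal R hz.lift hT _
  rR := root_pal R hz.lift hT _
  pq := comm_word hz (by decide +kernel)
  pr := comm_word hz (by decide +kernel)
  qr := comm_word hz (by decide +kernel)
  qne := (Tri.not_mem RF (root_pal R hz.lift hT P3) (root_pal R hz.lift hT P2) (root_pal R hz.lift hT A3)
    (opp_word C R hz hT (g := [3, 4, 2, 3, 7, 1, 2, 0, 1]) (i := 8) (j := 7) (by decide +kernel) (by decide +kernel)
      (by decide)) (comm_word hz (by decide +kernel)) (comm_word hz (by decide +kernel))).1.symm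
  ex := ⟨_, root_pal R hz.lift hT A1, opp_word C R hz hT (g := g1) (i := 8) (j := 7) (by decide +kernel)
    (by decide +kernel) (by decide), comm_word hz (by decide +kernel), comm_word hz (by decide +kernel)⟩

theorem tri4 (C : Cover π z) (R : Roots E T) (RF : RootCfg.RootFacts hF T) (hz : ZRels m z)
    (hT : ∀ i, π (m i) ∈ T) : Tri T (π (ev m (pal P4))) (π (ev m (pal P5))) (π (ev m (pal P6))) where
  pR := root_pal R hz.lift hT _
  qR := root_pal R hz.lift hT _
  rR := root_pal R hz.lift hT _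
  pq := comm_word hz (by decide +kernel)
  pr := comm_word hz (by decide +kernel)
  qr := comm_word hz (by decide +kernel)
  qne := (Tri.not_mem RF (root_pal R hz.lift hT P6) (root_pal R hz.lift hT P5) (root_pal R hz.lift hT A6)
    (opp_word C R hz hT (g := [3, 7, 4, 5, 6, 3, 4, 5, 0]) (i := 1) (j := 2) (by decide +kernel) (by decide +kernel)
      (by decide)) (comm_word hz (by decide +kernel)) (comm_word hz (by decide +kernel))).1.symm
  ex := ⟨_, root_pal R hz.lift hT A4, opp_word C R hz hT (g := g4) (i := 8) (j := 7) (by decide +kernel)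
    (by decide +kernel) (by decide), comm_word hz (by decide +kernel), comm_word hz (by decide +kernel)⟩

/-- **The two lifts of an involution of the third type are conjugate.** -/
theorem tri_lifts (C : Cover π z) (R : Roots E T) (RF : RootCfg.RootFacts hF T) (X : Extra hF T) (hz : ZRels m z)
    (hT : ∀ i, π (m i) ∈ T) {p q r : E} (h : Tri T p q r) :
    ∃ n : M, n * (w π T p * w π T q * w π T r) * n⁻¹ = z * (w π T p * w π T q * w π T r) := by
  have t1 := tri1 C R RF hz hT
  have t4 := tri4 C R RF hz hT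
  obtain ⟨g, e1, e2, e3⟩ := tri_conj RF X t1 h
  obtain ⟨k, f1, f2, f3⟩ := tri_conj RF X t1 t4
  obtain ⟨n, rfl⟩ := C.surj g
  obtain ⟨k, rfl⟩ := C.surj k
  have hx := hexad C R hz hT
  have a1 := w_conj C R n t1.pR
  have a2 := w_conj C R n t1.qR
  have a3 := w_conj C R n t1.rR
  have b1 := w_conj C R k t1.pR
  have b2 := w_conj C R k t1.qR
  have b3 := w_conj C R k t1.rR
  rw [e1] at a1
  rw [e2] at a2
  rw [e3] at a3
  rw [f1] at b1
  rw [f2] at b2
  rw [f3] at b3
  rw [← a1, ← a2, ← a3]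
  rw [← b1, ← b2, ← b3] at hx
  set c1 := w π T (π (ev m (pal P1)))
  set c2 := w π T (π (ev m (pal P2)))
  set c3 := w π T (π (ev m (pal P3)))
  refine ⟨n * k * n⁻¹, ?_⟩
  have h1 : k * (c1 * c2 * c3) * k⁻¹ = z * (c1 * c2 * c3) := by
    calc k * (c1 * c2 * c3) * k⁻¹ = k * c1 * k⁻¹ * (k * c2 * k⁻¹) * (k * c3 * k⁻¹) := by group
      _ = z * (z * (k * c1 * k⁻¹ * (k * c2 * k⁻¹) * (k * c3 * k⁻¹))) := by rw [← mul_assoc z z, C.t_mul_t, one_mul]
      _ = z * (c1 * c2 * c3) := by rw [← hx]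
  calc n * k * n⁻¹ * (n * c1 * n⁻¹ * (n * c2 * n⁻¹) * (n * c3 * n⁻¹)) * (n * k * n⁻¹)⁻¹
      = n * (k * (c1 * c2 * c3) * k⁻¹) * n⁻¹ := by group
    _ = n * z * (c1 * c2 * c3) * n⁻¹ := by rw [h1]; group
    _ = z * (n * c1 * n⁻¹ * (n * c2 * n⁻¹) * (n * c3 * n⁻¹)) := by rw [C.central]; group

end

section setup

universe u v x

variable {G : Type u} [Group G] {E : Type v} [Group E] {F : Type x} [Field F] [Fintype F]
variable {hF : Fintype.card F = 2 ^ 2} {t : G} {M : Subgroup G} {π : M →* E} {R : Set E}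

/-- The list of the involutions in the form of `KeyM`. -/
theorem keyE (S : Setup t M π) (Rt : Roots E R) (RF : RootCfg.RootFacts hF R) (X : Extra hF R) {m : Fin 10 → M}
    (hz : ZRels m S.z) (hT : ∀ i, π (m i) ∈ R) : KeyM.KeyE t M π R (Tri R) where
  tri p q r h := ⟨h.pR, h.qR, h.rR, (h.sym12 RF).2.2.1, (h.sym13 RF).2.2.1, h.qne, h.pq, h.pr, h.qr⟩
  key f ff hf1 := key RF X f ff hf1
  lifts p q r h := by
    obtain ⟨n, hn⟩ := tri_lifts S.cover Rt RF X hz hT h
    refine ⟨w π R p * w π R q * w π R r, ?_, n, ?_⟩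
    · rw [map_mul, map_mul, map_w S.cover Rt h.pR, map_w S.cover Rt h.qR, map_w S.cover Rt h.rR]
    · have := congrArg (Subtype.val : M → G) hn
      exact this

end setup

end Cfsg.Agent.BabyU.TriLifts
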