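import Cfsg.Agent.BabyU.LitE6
import Cfsg.Agent.BabyU.TriLifts
import Cfsg.Agent.TwoESix.FlagInst

/-!
# S1662 from the order of the presented group `HB` and the model of the Baby Monster
-/

set_option autoImplicit false

namespace Cfsg.Agent.BabyU.LitFin

open Cfsg.Lie Cfsg.Agent.BabyU.Lab Cfsg.Agent.BabyU.RootCfg Cfsg.Agent.BabyU.Clos
open Cfsg.Agent.TwoESix Cfsg.Agent.TwoESix.Cox10 Cfsg.Agent.TwoESix.Lift Cfsg.Agent.TwoESix.Cover
open Cfsg.Agent.BabyU.Ident

universe u

/-- **S1662** from the remaining inputs -/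
theorem result [Finite HB] (card : ∀ (K : Type) [Field K] [Fintype K], Fintype.card K = 4 →
      Nat.card HB ≤ Nat.card (twistedE6 K 2))
    (cent : CentralizerSt) {Γ : Type} [Group Γ] (model : Lit.ModelB Γ)
    {G : Type u} [Group G] [Finite G] [IsSimpleGroup G] (t : G) (ht : orderOf t = 2)
    (M : Subgroup (Subgroup.centralizer ({t} : Set G))) [M.Normal] (hM : M.index = 2)
    (K : Type) [Field K] [Fintype K] (hK : Fintype.card K = 4)
    (hout : Subgroup.centralizer (M : Set (Subgroup.centralizer ({t} : Set G))) ≤ M)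
    (hcov : Cfsg.IsNonsplitDoubleCover M (Cfsg.Lie.twistedE6 K 2)) : Cfsg.Spor.IsoB G :=
  LitE6.result card (fun K _ _ hK => FlagInst.exists_flag K hK)
    (fun {_} _ _ {_ _ K} _ _ {_ hF} H _ hz hT =>
      (TriLifts.keyE H.S (RootsInst.roots K hF) H.RF (LitE6.extra K hF hF) hz hT).lifts)
    cent model t ht M hM K hK hout hcov

end Cfsg.Agent.BabyU.LitFin
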