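import Cfsg.Agent.BabyU.Setup
import Cfsg.Agent.BabyU.RootCfg

/-!
# U-B: the local hypotheses at an involution, and the change of the base point

`Hyp hF t M π R`: the hypotheses of the identification of the Baby Monster at the involution `t`.
`NN t M a b`: `b` is in the conjugate of `M` belonging to the conjugate `a` of `t`.
`Rel t M π R a b`: `b` is a good lift of a root involution in the conjugate of `M` belonging to the conjugate `a` of `t`.
-/

set_option autoImplicit false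
set_option linter.unusedSectionVars false

namespace Cfsg.Agent.BabyU.Ident

open Cfsg Cfsg.Agent.R01.Lifts Cfsg.Agent.BabyU.RootCfg Cfsg.Agent.R01.PSUSix

universe u v w

variable {G : Type u} [Group G] {E : Type v} [Group E] {F : Type w} [Field F] [Fintype F]

/-- The output of the fusion step, weak form. -/
structure FusW (t : G) (M : Subgroup G) (π : M →* E) (R : Set E) : Prop where
  /-- exactly one lift of a root involution is conjugate to `t` -/
  xor : ∀ m : M, π m ∈ R → Xor (∃ g : G, g * t * g⁻¹ = m) (∃ g : G, g * t * g⁻¹ = t * m)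
  /-- the centraliser of `t` preserves the root involutions -/
  inv : ∀ g : G, g * t = t * g → ∀ m m' : M, (m' : G) = g * m * g⁻¹ → π m ∈ R → π m' ∈ R
  /-- of two commuting good lifts, each is a good lift for the other one -/
  star : ∀ x y : M, π x ∈ R → π y ∈ R → x ≠ y → (x : G) * y = y * x → (∃ g : G, g * t * g⁻¹ = y) →
    ∀ g : G, g * t * g⁻¹ = x → ∃ m : M, (m : G) = g⁻¹ * y * g ∧ π m ∈ R

/-- The hypotheses of the identification. -/
structure Hyp (hF : Fintype.card F = 2 ^ 2) (t : G) (M : Subgroup G) (π : M →* E) (R : Set E) : Prop where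
  S : Setup t M π
  RF : RootFacts hF R
  W : FusW t M π R
  perf1 : ∀ r ∈ R, ⁅(Subgroup.centralizer ({r} : Set E)).comap π, (Subgroup.centralizer ({r} : Set E)).comap π⁆ =
    (Subgroup.centralizer ({r} : Set E)).comap π
  perf2 : ∀ r ∈ R, ∀ s ∈ R, Opp r s →
    ⁅(Subgroup.centralizer ({r, s} : Set E)).comap π, (Subgroup.centralizer ({r, s} : Set E)).comap π⁆ =
    (Subgroup.centralizer ({r, s} : Set E)).comap π

/-- the conjugate of `M` under `g` -/
def conjN (g : G) (M : Subgroup G) : Subgroup G := M.comap (MulAut.conj g⁻¹).toMonoidHom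

theorem mem_conjN {g : G} {M : Subgroup G} {x : G} : x ∈ conjN g M ↔ g⁻¹ * x * g ∈ M := by
  rw [conjN, Subgroup.mem_comap]
  show g⁻¹ * x * g⁻¹⁻¹ ∈ M ↔ _
  rw [inv_inv]

/-- the isomorphism of the conjugate with `M` -/
def conjE (g : G) (M : Subgroup G) : conjN g M ≃* M where
  toFun x := ⟨g⁻¹ * x * g, mem_conjN.1 x.2⟩
  invFun m := ⟨g * m * g⁻¹, mem_conjN.2 (by
    have : g⁻¹ * (g * m * g⁻¹) * g = (m : G) := by group
    rw [this]; exact m.2)⟩
  left_inv x := Subtype.ext (by show g * (g⁻¹ * x * g) * g⁻¹ = x; group)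
  right_inv m := Subtype.ext (by show g⁻¹ * (g * m * g⁻¹) * g = m; group)
  map_mul' x y := Subtype.ext (by show g⁻¹ * (x * y) * g = g⁻¹ * x * g * (g⁻¹ * y * g); group)

theorem coe_conjE (g : G) (M : Subgroup G) (x : conjN g M) : ((conjE g M x : M) : G) = g⁻¹ * x * g := rfl

theorem coe_conjE_symm (g : G) (M : Subgroup G) (m : M) :
    (((conjE g M).symm m : conjN g M) : G) = g * m * g⁻¹ := rfl

/-- the projection of the conjugate -/
def conjP (g : G) {M : Subgroup G} (π : M →* E) : conjN g M →* E := π.comp (conjE g M).toMonoidHom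

theorem conjP_apply (g : G) {M : Subgroup G} (π : M →* E) (x : conjN g M) :
    conjP g π x = π (conjE g M x) := rfl

section Setup

variable {t : G} {M : Subgroup G} {π : M →* E} {R : Set E}

theorem setup_conj (S : Setup t M π) (g : G) : Setup (g * t * g⁻¹) (conjN g M) (conjP g π) where
  ne := fun h => S.ne (by
    have : t = g⁻¹ * (g * t * g⁻¹) * g := by group
    rw [this, h]; group)
  sq := by
    have : g * t * g⁻¹ * (g * t * g⁻¹) = g * (t * t) * g⁻¹ := by group
    rw [this, S.sq]; group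
  mem := mem_conjN.2 (by
    have : g⁻¹ * (g * t * g⁻¹) * g = t := by group
    rw [this]; exact S.mem)
  comm := fun m hm => by
    have h := S.comm _ (mem_conjN.1 hm)
    calc m * (g * t * g⁻¹) = g * (g⁻¹ * m * g * t) * g⁻¹ := by group
      _ = g * (t * (g⁻¹ * m * g)) * g⁻¹ := by rw [h]
      _ = g * t * g⁻¹ * m := by group
  norm := fun h hh m hm => by
    rw [mem_conjN] at hm ⊢
    have h1 : (g⁻¹ * h * g) * t = t * (g⁻¹ * h * g) := by
      calc (g⁻¹ * h * g) * t = g⁻¹ * (h * (g * t * g⁻¹)) * g := by group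
        _ = g⁻¹ * ((g * t * g⁻¹) * h) * g := by rw [hh]
        _ = t * (g⁻¹ * h * g) := by group
    have h2 := S.norm _ h1 _ hm
    have : g⁻¹ * (h * m * h⁻¹) * g = g⁻¹ * h * g * (g⁻¹ * m * g) * (g⁻¹ * h * g)⁻¹ := by group
    rw [this]; exact h2
  index := fun a b ha hb ha' hb' => by
    rw [mem_conjN] at ha' hb' ⊢
    have key : ∀ h : G, h * (g * t * g⁻¹) = g * t * g⁻¹ * h → (g⁻¹ * h * g) * t = t * (g⁻¹ * h * g) := by
      intro h hh
      calc (g⁻¹ * h * g) * t = g⁻¹ * (h * (g * t * g⁻¹)) * g := by group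
        _ = g⁻¹ * ((g * t * g⁻¹) * h) * g := by rw [hh]
        _ = t * (g⁻¹ * h * g) := by group
    have h2 := S.index _ _ (key a ha) (key b hb) ha' hb'
    have : g⁻¹ * (a * b) * g = g⁻¹ * a * g * (g⁻¹ * b * g) := by group
    rw [this]; exact h2
  cent := fun h hh => by
    have h1 := S.cent (g⁻¹ * h * g) (fun m hm => by
      have h2 := hh (g * m * g⁻¹) (mem_conjN.2 (by
        have : g⁻¹ * (g * m * g⁻¹) * g = m := by group
        rw [this]; exact hm))
      calc g⁻¹ * h * g * m = g⁻¹ * (h * (g * m * g⁻¹)) * g := by group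
        _ = g⁻¹ * ((g * m * g⁻¹) * h) * g := by rw [h2]
        _ = m * (g⁻¹ * h * g) := by group)
    have e : h = g * (g⁻¹ * h * g) * g⁻¹ := by group
    rcases h1 with h1 | h1
    · left; rw [e, h1]; group
    · right; rw [e, h1]
  surj := fun e => by
    obtain ⟨m, hm⟩ := S.surj e
    refine ⟨(conjE g M).symm m, ?_⟩
    rw [conjP_apply, MulEquiv.apply_symm_apply, hm]
  ker := fun m => by
    rw [conjP_apply, S.ker, coe_conjE]
    constructor
    · rintro (h | h)
      · left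
        have : (m : G) = g * (g⁻¹ * m * g) * g⁻¹ := by group
        rw [this, h]; group
      · right
        have : (m : G) = g * (g⁻¹ * m * g) * g⁻¹ := by group
        rw [this, h]
    · rintro (h | h)
      · left; rw [h]; group
      · right; rw [h]; group
  nosec := fun σ hσ => S.nosec ((conjE g M).toMonoidHom.comp σ) hσ

theorem exists_conj_iff {g x : G} : (∃ h : G, h * (g * t * g⁻¹) * h⁻¹ = x) ↔ ∃ h : G, h * t * h⁻¹ = x := by
  constructor
  · rintro ⟨h, rfl⟩
    exact ⟨h * g, by group⟩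
  · rintro ⟨h, rfl⟩
    exact ⟨h * g⁻¹, by group⟩

theorem exists_conj_iff' {g x : G} : (∃ h : G, h * t * h⁻¹ = g⁻¹ * x * g) ↔ ∃ h : G, h * t * h⁻¹ = x := by
  constructor
  · rintro ⟨h, hh⟩
    refine ⟨g * h, ?_⟩
    calc g * h * t * (g * h)⁻¹ = g * (h * t * h⁻¹) * g⁻¹ := by group
      _ = x := by rw [hh]; group
  · rintro ⟨h, rfl⟩
    exact ⟨g⁻¹ * h, by group⟩

theorem fusW_conj (W : FusW t M π R) (g : G) : FusW (g * t * g⁻¹) (conjN g M) (conjP g π) R where
  xor := fun m hm => by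
    rw [conjP_apply] at hm
    have h := W.xor _ hm
    rw [coe_conjE, exists_conj_iff'] at h
    rw [exists_conj_iff, exists_conj_iff]
    have e : t * (g⁻¹ * m * g) = g⁻¹ * (g * t * g⁻¹ * m) * g := by group
    rwa [e, exists_conj_iff'] at h
  inv := fun h hh m m' e hm => by
    rw [conjP_apply] at hm ⊢
    have h1 : (g⁻¹ * h * g) * t = t * (g⁻¹ * h * g) := by
      calc (g⁻¹ * h * g) * t = g⁻¹ * (h * (g * t * g⁻¹)) * g := by group
        _ = g⁻¹ * ((g * t * g⁻¹) * h) * g := by rw [hh]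
        _ = t * (g⁻¹ * h * g) := by group
    refine W.inv _ h1 _ _ ?_ hm
    rw [coe_conjE, coe_conjE, e]; group
  star := fun x y hx hy hne hc hD h hh => by
    rw [conjP_apply] at hx hy
    have h1 := W.star (conjE g M x) (conjE g M y) hx hy (fun e => hne ((conjE g M).injective e))
      (by
        rw [coe_conjE, coe_conjE]
        calc g⁻¹ * x * g * (g⁻¹ * y * g) = g⁻¹ * ((x : G) * y) * g := by group
          _ = g⁻¹ * ((y : G) * x) * g := by rw [hc]
          _ = g⁻¹ * y * g * (g⁻¹ * x * g) := by group)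
      (by rw [coe_conjE, exists_conj_iff']; exact exists_conj_iff.1 hD)
      (g⁻¹ * h * g) (by rw [coe_conjE, ← hh]; group)
    obtain ⟨m, hm, hmR⟩ := h1
    refine ⟨(conjE g M).symm m, ?_, ?_⟩
    · rw [coe_conjE_symm, hm, coe_conjE]; group
    · rw [conjP_apply, MulEquiv.apply_symm_apply]; exact hmR

end Setup

theorem perf_comap {A B : Type*} [Group A] [Group B] (e : A ≃* B) {Q : Subgroup B} (h : ⁅Q, Q⁆ = Q) :
    ⁅Q.comap e.toMonoidHom, Q.comap e.toMonoidHom⁆ = Q.comap e.toMonoidHom := by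
  have h1 : Q.comap e.toMonoidHom = Q.map e.symm.toMonoidHom := by
    ext x
    rw [Subgroup.mem_comap, Subgroup.mem_map]
    constructor
    · intro hx
      exact ⟨e x, hx, e.symm_apply_apply x⟩
    · rintro ⟨y, hy, rfl⟩
      have : e.toMonoidHom (e.symm.toMonoidHom y) = y := e.apply_symm_apply y
      rw [this]; exact hy
  rw [h1, ← Subgroup.map_commutator, h]

variable {hF : Fintype.card F = 2 ^ 2} {t : G} {M : Subgroup G} {π : M →* E} {R : Set E}

/-- Change of the base point. -/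
theorem Hyp.conj (H : Hyp hF t M π R) (g : G) : Hyp hF (g * t * g⁻¹) (conjN g M) (conjP g π) R where
  S := setup_conj H.S g
  RF := H.RF
  W := fusW_conj H.W g
  perf1 := fun r hr => by
    rw [conjP, ← Subgroup.comap_comap]
    exact perf_comap _ (H.perf1 r hr)
  perf2 := fun r hr s hs h => by
    rw [conjP, ← Subgroup.comap_comap]
    exact perf_comap _ (H.perf2 r hr s hs h)

/-- `b` is in the conjugate of `M` belonging to the conjugate `a` of `t`. -/
def NN (t : G) (M : Subgroup G) (a b : G) : Prop := ∃ g : G, a = g * t * g⁻¹ ∧ g⁻¹ * b * g ∈ M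

/-- `b` is a good lift of a root involution with respect to the conjugate `a` of `t`. -/
def Rel (t : G) (M : Subgroup G) (π : M →* E) (R : Set E) (a b : G) : Prop :=
  ∃ g : G, a = g * t * g⁻¹ ∧ (∃ h : g⁻¹ * b * g ∈ M, π ⟨g⁻¹ * b * g, h⟩ ∈ R) ∧ ∃ h : G, h * t * h⁻¹ = b

theorem nn_conj {g a b : G} : NN (g * t * g⁻¹) (conjN g M) a b ↔ NN t M a b := by
  constructor
  · rintro ⟨h, h1, h2⟩
    refine ⟨h * g, by rw [h1]; group, ?_⟩
    rw [mem_conjN] at h2
    have : (h * g)⁻¹ * b * (h * g) = g⁻¹ * (h⁻¹ * b * h) * g := by group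
    rw [this]; exact h2
  · rintro ⟨h, h1, h2⟩
    refine ⟨h * g⁻¹, by rw [h1]; group, ?_⟩
    rw [mem_conjN]
    have : g⁻¹ * ((h * g⁻¹)⁻¹ * b * (h * g⁻¹)) * g = h⁻¹ * b * h := by group
    rw [this]; exact h2

theorem rel_conj {g a b : G} : Rel (g * t * g⁻¹) (conjN g M) (conjP g π) R a b ↔ Rel t M π R a b := by
  constructor
  · rintro ⟨h, h1, ⟨h2, h3⟩, h4⟩
    refine ⟨h * g, by rw [h1]; group, ?_, exists_conj_iff.1 h4⟩
    have e : (h * g)⁻¹ * b * (h * g) = g⁻¹ * (h⁻¹ * b * h) * g := by group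
    have h5 : (h * g)⁻¹ * b * (h * g) ∈ M := by rw [e]; exact mem_conjN.1 h2
    refine ⟨h5, ?_⟩
    have h6 : conjE g M ⟨h⁻¹ * b * h, h2⟩ = ⟨(h * g)⁻¹ * b * (h * g), h5⟩ := Subtype.ext e.symm
    rw [conjP_apply, h6] at h3
    exact h3
  · rintro ⟨h, h1, ⟨h2, h3⟩, h4⟩
    refine ⟨h * g⁻¹, by rw [h1]; group, ?_, exists_conj_iff.2 h4⟩
    have e : g⁻¹ * ((h * g⁻¹)⁻¹ * b * (h * g⁻¹)) * g = h⁻¹ * b * h := by group
    have h5 : (h * g⁻¹)⁻¹ * b * (h * g⁻¹) ∈ conjN g M := mem_conjN.2 (by rw [e]; exact h2)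
    refine ⟨h5, ?_⟩
    have h6 : conjE g M ⟨(h * g⁻¹)⁻¹ * b * (h * g⁻¹), h5⟩ = ⟨h⁻¹ * b * h, h2⟩ := Subtype.ext e
    rw [conjP_apply, h6]
    exact h3

theorem NN.equiv {a b : G} (h : NN t M a b) (g : G) : NN t M (g * a * g⁻¹) (g * b * g⁻¹) := by
  obtain ⟨k, h1, h2⟩ := h
  refine ⟨g * k, by rw [h1]; group, ?_⟩
  have : (g * k)⁻¹ * (g * b * g⁻¹) * (g * k) = k⁻¹ * b * k := by group
  rw [this]; exact h2

theorem Rel.equiv {a b : G} (h : Rel t M π R a b) (g : G) : Rel t M π R (g * a * g⁻¹) (g * b * g⁻¹) := by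
  obtain ⟨k, h1, ⟨h2, h3⟩, m, h4⟩ := h
  refine ⟨g * k, by rw [h1]; group, ?_, g * m, by rw [← h4]; group⟩
  have e : (g * k)⁻¹ * (g * b * g⁻¹) * (g * k) = k⁻¹ * b * k := by group
  refine ⟨by rw [e]; exact h2, ?_⟩
  have : (⟨(g * k)⁻¹ * (g * b * g⁻¹) * (g * k), by rw [e]; exact h2⟩ : M) = ⟨k⁻¹ * b * k, h2⟩ :=
    Subtype.ext e
  rw [this]; exact h3

/-- A base point at every conjugate of `t`. -/
theorem Hyp.at (H : Hyp hF t M π R) {d : G} (hd : ∃ g : G, g * t * g⁻¹ = d) :
    ∃ (N : Subgroup G) (ρ : N →* E), Hyp hF d N ρ R ∧ (∀ a b, Rel d N ρ R a b ↔ Rel t M π R a b) ∧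
      (∀ a b, NN d N a b ↔ NN t M a b) ∧ ∀ x, (∃ g : G, g * d * g⁻¹ = x) ↔ ∃ g : G, g * t * g⁻¹ = x := by
  obtain ⟨g, rfl⟩ := hd
  exact ⟨conjN g M, conjP g π, H.conj g, fun a b => rel_conj, fun a b => nn_conj, fun x => exists_conj_iff⟩

namespace Hyp

theorem nn_base (H : Hyp hF t M π R) {x : G} : NN t M t x ↔ x ∈ M := by
  constructor
  · rintro ⟨g, h1, h2⟩
    have h3 : g * t = t * g := by
      calc g * t = g * t * g⁻¹ * g := by group
        _ = t * g := by rw [← h1]
    have h4 := H.S.norm g h3 _ h2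
    have : g * (g⁻¹ * x * g) * g⁻¹ = x := by group
    rwa [this] at h4
  · intro h
    exact ⟨1, by group, by simpa using h⟩

theorem rel_base (H : Hyp hF t M π R) {x : G} :
    Rel t M π R t x ↔ (∃ h : x ∈ M, π ⟨x, h⟩ ∈ R) ∧ ∃ h : G, h * t * h⁻¹ = x := by
  constructor
  · rintro ⟨g, h1, ⟨h2, h3⟩, h4⟩
    have h5 : g * t = t * g := by
      calc g * t = g * t * g⁻¹ * g := by group
        _ = t * g := by rw [← h1]
    have h6 := H.S.norm g h5 _ h2
    have e : g * (g⁻¹ * x * g) * g⁻¹ = x := by group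
    rw [e] at h6
    exact ⟨⟨h6, H.W.inv g h5 ⟨_, h2⟩ ⟨x, h6⟩ e.symm h3⟩, h4⟩
  · rintro ⟨⟨h1, h2⟩, h3⟩
    refine ⟨1, by group, ?_, h3⟩
    have e : (1 : G)⁻¹ * x * 1 = x := by group
    refine ⟨by rw [e]; exact h1, ?_⟩
    have : (⟨(1 : G)⁻¹ * x * 1, by rw [e]; exact h1⟩ : M) = ⟨x, h1⟩ := Subtype.ext e
    rw [this]; exact h2

theorem tt (H : Hyp hF t M π R) {x : G} (h : ∃ g : G, g * t * g⁻¹ = x) : x * x = 1 := by
  obtain ⟨g, rfl⟩ := h
  have : g * t * g⁻¹ * (g * t * g⁻¹) = g * (t * t) * g⁻¹ := by group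
  rw [this, H.S.sq]; group

/-- Two elements of `M` with the same image. -/
theorem eq_or (H : Hyp hF t M π R) {x y : M} (h : π x = π y) : (x : G) = y ∨ (x : G) = t * y := by
  rcases H.S.ext.map_eq.1 h with h1 | h1
  · left; rw [h1]
  · right
    rw [h1]
    show (y : G) * t = t * y
    exact H.S.comm y y.2

/-- Good lifts of the same root involution are equal. -/
theorem eq_of_map (H : Hyp hF t M π R) {x y : M} (hx : π x ∈ R) (cx : ∃ g : G, g * t * g⁻¹ = x)
    (cy : ∃ g : G, g * t * g⁻¹ = y) (h : π x = π y) : (x : G) = y := by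
  rcases H.eq_or h.symm with h1 | h1
  · exact h1.symm
  · exfalso
    have h2 := H.W.xor x hx
    rw [← h1] at h2
    rcases h2 with ⟨-, h3⟩ | ⟨-, h3⟩
    · exact h3 cy
    · exact h3 cx

/-- Conjugation by an element whose image commutes with the root involution fixes the good lift. -/
theorem comm_of (H : Hyp hF t M π R) {x : M} (hx : π x ∈ R) (cx : ∃ g : G, g * t * g⁻¹ = x) {m : M}
    (h : π m * π x = π x * π m) : (m : G) * x = x * m := by
  have h1 : π (m * x * m⁻¹) = π x := by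
    rw [map_mul, map_mul, map_inv, h, mul_inv_cancel_right]
  have h2 : ((m * x * m⁻¹ : M) : G) = x := by
    refine H.eq_of_map (by rw [h1]; exact hx) ?_ cx h1
    obtain ⟨g, hg⟩ := cx
    refine ⟨m * g, ?_⟩
    show (m : G) * g * t * ((m : G) * g)⁻¹ = m * x * (m : G)⁻¹
    rw [← hg]; group
  have h3 : (m : G) * x * (m : G)⁻¹ = x := h2
  calc (m : G) * x = (m : G) * x * (m : G)⁻¹ * m := by group
    _ = x * m := by rw [h3]

/-- A good lift of a root involution. -/
theorem exists_good (H : Hyp hF t M π R) {r : E} (hr : r ∈ R) :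
    ∃ m : M, π m = r ∧ ∃ g : G, g * t * g⁻¹ = m := by
  obtain ⟨m, hm⟩ := H.S.surj r
  rcases H.W.xor m (by rw [hm]; exact hr) with ⟨h, -⟩ | ⟨h, -⟩
  · exact ⟨m, hm, h⟩
  · refine ⟨H.S.z * m, ?_, h⟩
    rw [map_mul, H.S.ext.mapz, one_mul, hm]

/-- Opposite root involutions have opposite good lifts. -/
theorem opp_iff (H : Hyp hF t M π R) {x y : M} (hx : π x ∈ R) (_hy : π y ∈ R)
    (cx : ∃ g : G, g * t * g⁻¹ = x) (cy : ∃ g : G, g * t * g⁻¹ = y) :
    Opp (π x) (π y) ↔ Opp (x : G) y := by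
  constructor
  · rintro ⟨h1, h2⟩
    refine ⟨fun h => h1 (by rw [Subtype.ext h]), ?_⟩
    have h3 : π ((x * y) ^ 3) = π 1 := by rw [map_pow, map_mul, h2, map_one]
    rcases H.eq_or h3 with h4 | h4
    · exact h4
    · exfalso
      -- `x y x = t (y x y)`
      have xx : (x : G) * x = 1 := H.tt cx
      have yy : (y : G) * y = 1 := H.tt cy
      have ct : ∀ m : M, (m : G) * t = t * m := fun m => H.S.comm m m.2
      have h5 : ((x : G) * y) ^ 3 = t := by
        have h6 : (((x * y) ^ 3 : M) : G) = t * ((1 : M) : G) := h4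
        rw [Subgroup.coe_one, mul_one] at h6
        exact h6
      have h6 : (x : G) * y * x = t * ((y : G) * x * y) := by
        have h7 : (x : G) * y * x * ((y : G) * x * y) = t := by
          rw [← h5, pow_succ, pow_two]; group
        calc (x : G) * y * x = (x : G) * y * x * ((y : G) * x * y) * ((y : G) * x * y)⁻¹ := by
              rw [mul_assoc _ _ ((y : G) * x * y)⁻¹, mul_inv_cancel, mul_one]
          _ = t * ((y : G) * x * y)⁻¹ := by rw [h7]
          _ = t * ((y : G) * x * y) := by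
            rw [mul_inv_rev, mul_inv_rev, inv_eq_of_mul_eq_one_left xx, inv_eq_of_mul_eq_one_left yy,
              mul_assoc (y : G)]
      have c1 : ∃ g : G, g * t * g⁻¹ = ((x * y * x : M) : G) := by
        obtain ⟨g, hg⟩ := cy
        refine ⟨x * g, ?_⟩
        show (x : G) * g * t * ((x : G) * g)⁻¹ = x * y * x
        rw [← hg]
        calc (x : G) * g * t * ((x : G) * g)⁻¹ = x * (g * t * g⁻¹) * (x : G)⁻¹ := by group
          _ = x * (g * t * g⁻¹) * x := by rw [inv_eq_of_mul_eq_one_left xx]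
      have c2 : ∃ g : G, g * t * g⁻¹ = ((y * x * y : M) : G) := by
        obtain ⟨g, hg⟩ := cx
        refine ⟨y * g, ?_⟩
        show (y : G) * g * t * ((y : G) * g)⁻¹ = y * x * y
        rw [← hg]
        calc (y : G) * g * t * ((y : G) * g)⁻¹ = y * (g * t * g⁻¹) * (y : G)⁻¹ := by group
          _ = y * (g * t * g⁻¹) * y := by rw [inv_eq_of_mul_eq_one_left yy]
      have h8 : π (y * x * y) ∈ R := by
        have h9 := H.RF.conj _ hx (π y)
        have h10 : (π y)⁻¹ = π y := by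
          rw [← map_inv]; congr 1
          exact Subtype.ext (inv_eq_of_mul_eq_one_left yy)
        rw [h10] at h9
        rwa [map_mul, map_mul]
      have h11 := H.W.xor _ h8
      have h12 : t * ((y * x * y : M) : G) = ((x * y * x : M) : G) := h6.symm
      rw [h12] at h11
      rcases h11 with ⟨-, h13⟩ | ⟨-, h13⟩
      · exact h13 c1
      · exact h13 c2
  · rintro ⟨h1, h2⟩
    refine ⟨fun h => h1 (H.eq_of_map hx cx cy h), ?_⟩
    have h3 : (x * y) ^ 3 = 1 := Subtype.ext h2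
    rw [← map_mul, ← map_pow, h3, map_one]

end Hyp

end Cfsg.Agent.BabyU.Ident
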