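import Cfsg.Agent.BabyU.Lit
import Cfsg.Agent.BabyU.F8Inner
import Cfsg.Agent.BM.KHAll
import Cfsg.Agent.BM.StageWConj

/-!
# The model of the Baby Monster for the closing of S1662
-/

set_option autoImplicit false

namespace Cfsg.Agent.BabyU.ModelInst

open Cfsg.Agent.BabyM Cfsg.Agent.BabyM.Model Cfsg.Agent.BabyU.Clos Cfsg.Agent.BabyU.ClosModel

theorem model : Lit.ModelB Inst.M.G := by
  refine ⟨⟨BM.KHAll.iso, PP Inst.M, MM Inst.M, zz Instance.all, tt Instance.all, ClosM2.t₁ KLink.link Instance.all,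
    F8Inner.inner, ?_, ?_⟩⟩
  · obtain ⟨g, hg⟩ := BM.StageW.exists_conj Instance.all Instance.ok Cfsg.Spor.BabyMonster.Gen.t1
    exact ⟨g, (BM.KHAll.iso_gB _).trans hg⟩
  · obtain ⟨g, hg, h⟩ := Instance.all.rep.neg
    refine ⟨⟨g, Instance.all.C_le_G hg⟩, ?_, ?_⟩
    · exact Subtype.ext (Instance.all.rep.t₀_comm g hg (Or.inr h))
    · intro hm
      have h1 : g Inst.M.d₀ = Inst.M.d₀ := hm
      exact ne_neg Instance.all Instance.all.d₀_mem (h1.symm.trans h)

end Cfsg.Agent.BabyU.ModelInst
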