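import Cfsg.Agent.BabyU.IsoOne
import Cfsg.Agent.BabyU.HexadOne
import Cfsg.Agent.BabyU.LineCfg
import Cfsg.Agent.BabyU.TriLifts
import Cfsg.Agent.TwoESix.KeyAll
import Cfsg.Agent.TwoESix.RootsInst
import Cfsg.Agent.TwoESix.GoodInst

/-!
# Fusion when `C_G(t)` is the double cover of `²E₆(2)`

`keyE`, `fuse`: if `C_G(t)` is a nonsplit double cover `M` of `E = ²E₆(2)` with centre `⟨t⟩` and `t` has a conjugate
different from `t` commuting with `t`, then `t` is conjugate to a lift of a root involution of `E`.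
-/

set_option autoImplicit false

namespace Cfsg.Agent.BabyU.OneModel

open Cfsg.Lie Cfsg.Agent.BabyU.Lab Cfsg.Agent.BabyU.RootCfg
open Cfsg.Agent.TwoESix Cfsg.Agent.TwoESix.Cox10 Cfsg.Agent.TwoESix.Lift Cfsg.Agent.TwoESix.Cover

variable {G : Type*} [Group G] {t : G} {M : Subgroup G} {K : Type*} [Field K] [Fintype K]
  {π : M →* twistedE6 K 2}

/-- The ten nodes over the root involutions. -/
theorem exists_m [Finite HB] (hcard : Nat.card HB ≤ Nat.card (twistedE6 K 2)) (hK : Fintype.card K = 4)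
    (S : Setup t M π) : ∃ m : Fin 10 → M, ZRels m S.z ∧ ∀ i, π (m i) ∈ rootClass K := by
  obtain ⟨e, r, h1, h2, h3, -, h5⟩ := GoodInst.exists_good K hK
  have heT : ∀ i, e i ∈ rootClass K := fun i => by
    obtain ⟨g, hg⟩ := h5 i
    exact ⟨g, r, h3, hg⟩
  exact Chain.exists_lifts S h1 h2 hcard heT

/-- The list of the involutions of `E` and the lifts of the involutions of the third type. -/
theorem keyE [Finite HB] (hcard : Nat.card HB ≤ Nat.card (twistedE6 K 2)) (hK : Fintype.card K = 4)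
    (S : Setup t M π) : KeyM.KeyE t M π (rootClass K) (Key.Tri (rootClass K)) := by
  have hF : Fintype.card K = 2 ^ 2 := by rw [hK]; rfl
  obtain ⟨m, hz, hmT⟩ := exists_m hcard hK S
  exact TriLifts.keyE S (RootsInst.roots K hK) (LeviG.rootFacts hK hF) (KeyAll.extra hK hF) hz hmT

/-- **Fusion when `C_G(t) = M`.** -/
theorem fuse [Finite HB] (hcard : Nat.card HB ≤ Nat.card (twistedE6 K 2)) (hK : Fintype.card K = 4)
    (S : Setup t M π) (hone : ∀ g, g * t = t * g → g ∈ M)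
    (hex : ∃ g : G, g * t * g⁻¹ ≠ t ∧ (g * t * g⁻¹) * t = t * (g * t * g⁻¹)) :
    ∃ m : M, π m ∈ rootClass K ∧ ∃ g : G, g * t * g⁻¹ = m := by
  have hF : Fintype.card K = 2 ^ 2 := by rw [hK]; rfl
  have R := RootsInst.roots K hK
  have RF : RootFacts hF (rootClass K) := LeviG.rootFacts hK hF
  have tc : ∀ p q r p' q' r', Key.Tri (rootClass K) p q r → Key.Tri (rootClass K) p' q' r' →
      ∃ g : twistedE6 K 2, g * p * g⁻¹ = p' ∧ g * q * g⁻¹ = q' ∧ g * r * g⁻¹ = r' :=
    fun p q r p' q' r' h h' => KeyAll.tri_conj hK h h'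
  obtain ⟨m, hz, hmT⟩ := exists_m hcard hK S
  obtain ⟨r, r', hr, hr', hp, hp'⟩ := HexadOne.exists_hexads S R RF tc hz hmT
  obtain ⟨a, ha, s, hs, b, hb, hl, -, hab, hsb, hne, hnot, hne2, hnot2, -⟩ :=
    LineCfg.exists_line S.cover R (LineCfg.exists_cfg hK)
  exact IsoOne.fuse_one S hone R (keyE hcard hK S) tc hr hr' hp hp' ha hs hl ⟨ha, hb, hne, hab, hnot⟩
    ⟨hl, hb, hne2, by rw [mul_assoc, hsb, ← mul_assoc, hab, mul_assoc], hnot2⟩ hex

end Cfsg.Agent.BabyU.OneModel
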