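import Cfsg.Agent.R01.PSUSix

/-!
# Chains of unitary transvections over the field with four elements

Seven transvections `c 0, …, c 6` of `PSU 6 F 2` forming a path: their centres can be scaled such that neighbours have
product one; six of them are a basis; two such chains differ by a unitary matrix, the reversed chain by one of square
one (hence of determinant one).  The node attached to the fourth and the sixth node of two disjoint paths.
-/

set_option autoImplicit false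
set_option linter.unusedSectionVars false

namespace Cfsg.Agent.BabyU.OutHerm

open Cfsg Cfsg.Agent.LieClassical.HermBasic Cfsg.Agent.ClassicalGeometry.UnitTransv
open Cfsg.Agent.SporadicStructure.UnitTwo Cfsg.Agent.R01.PSUSix
open Cfsg.Agent.ClassicalGeometry.UnitAutBasic (tau pr pr_surjective)
open scoped Matrix

variable {F : Type*} [Field F] [Fintype F] (hF : Fintype.card F = 2 ^ 2)
include hF

/-- The Gram condition for a basis. -/
def Nondeg (b : Fin 6 → Fin 6 → F) : Prop :=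
  ∀ c : Fin 6 → F, (∀ j, ∑ i, c i * hermForm 6 F 2 (b i) (b j) = 0) → c = 0

theorem linearIndependent {b : Fin 6 → Fin 6 → F} (hb : Nondeg b) : LinearIndependent F b := by
  rw [Fintype.linearIndependent_iff]
  intro c hc
  have : c = 0 := hb c fun j => by
    have h1 : hermForm 6 F 2 (∑ i, c i • b i) (b j) = 0 := by rw [hc, herm_zero_left]
    rw [herm_sum_left] at h1
    simpa only [herm_smul_left] using h1
  intro i
  rw [this]; rfl

/-- The basis. -/
noncomputable def basis {b : Fin 6 → Fin 6 → F} (hb : Nondeg b) : Module.Basis (Fin 6) F (Fin 6 → F) :=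
  basisOfLinearIndependentOfCardEqFinrank (linearIndependent hF hb) (by simp)

theorem basis_apply {b : Fin 6 → Fin 6 → F} (hb : Nondeg b) (i : Fin 6) : basis hF hb i = b i := by
  rw [basis, coe_basisOfLinearIndependentOfCardEqFinrank]

theorem sum_repr {b : Fin 6 → Fin 6 → F} (hb : Nondeg b) (x : Fin 6 → F) :
    ∑ i, (basis hF hb).repr x i • b i = x := by
  have := (basis hF hb).sum_repr x
  simpa only [basis_apply] using this

theorem eq_of_herm {b : Fin 6 → Fin 6 → F} (hb : Nondeg b) {x y : Fin 6 → F}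
    (h : ∀ j, hermForm 6 F 2 x (b j) = hermForm 6 F 2 y (b j)) : x = y := by
  rw [← sub_eq_zero]
  apply herm_nondeg hF
  intro v
  rw [← sum_repr hF hb v, herm_sum_right hF]
  refine Finset.sum_eq_zero fun i _ => ?_
  rw [herm_smul_right, herm_sub_left, h, sub_self, mul_zero]

theorem exists_unitary {b b' : Fin 6 → Fin 6 → F} (hb : Nondeg b)
    (h : ∀ i j, hermForm 6 F 2 (b' i) (b' j) = hermForm 6 F 2 (b i) (b j)) :
    ∃ A : Matrix (Fin 6) (Fin 6) F, (∀ x y, hermForm 6 F 2 (A *ᵥ x) (A *ᵥ y) = hermForm 6 F 2 x y) ∧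
      ∀ i, A *ᵥ b i = b' i := by
  let f : (Fin 6 → F) →ₗ[F] (Fin 6 → F) := (basis hF hb).constr F b'
  have hf : ∀ i, f (b i) = b' i := fun i => by
    have := (basis hF hb).constr_basis F b' i
    rwa [basis_apply] at this
  have hA : ∀ x, (LinearMap.toMatrix' f) *ᵥ x = f x := fun x => by
    rw [← Matrix.toLin'_apply, Matrix.toLin'_toMatrix']
  refine ⟨LinearMap.toMatrix' f, fun x y => ?_, fun i => by rw [hA, hf]⟩
  rw [hA, hA]
  rw [← sum_repr hF hb x, ← sum_repr hF hb y]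
  simp only [map_sum, map_smul, hf, herm_sum_left, herm_sum_right hF, herm_smul_left, herm_smul_right, h]

theorem det_ne_zero {A : Matrix (Fin 6) (Fin 6) F}
    (hA : ∀ x y, hermForm 6 F 2 (A *ᵥ x) (A *ᵥ y) = hermForm 6 F 2 x y) : A.det ≠ 0 := by
  intro h
  obtain ⟨v, hv, hv'⟩ := Matrix.exists_mulVec_eq_zero_iff.2 h
  apply hv
  apply herm_nondeg hF
  intro y
  rw [← hA, hv', herm_zero_left]

/-- Two unitary matrices of the same determinant differ by an element of `SU`. -/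
theorem exists_SU {A B : Matrix (Fin 6) (Fin 6) F}
    (hA : ∀ x y, hermForm 6 F 2 (A *ᵥ x) (A *ᵥ y) = hermForm 6 F 2 x y)
    (hB : ∀ x y, hermForm 6 F 2 (B *ᵥ x) (B *ᵥ y) = hermForm 6 F 2 x y) (h : A.det = B.det) :
    ∃ g : SU 6 F 2, ∀ x, act g (A *ᵥ x) = B *ᵥ x := by
  have hd := det_ne_zero hF hA
  have hu : IsUnit A.det := isUnit_iff_ne_zero.2 hd
  refine ⟨mk (B * A⁻¹) ?_ ?_, fun x => ?_⟩
  · rw [Matrix.det_mul, ← h, Matrix.det_nonsing_inv, Ring.mul_inverse_cancel _ hu]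
  · intro x y
    rw [← Matrix.mulVec_mulVec, ← Matrix.mulVec_mulVec, hB, ← hA, Matrix.mulVec_mulVec, Matrix.mulVec_mulVec,
      Matrix.mul_nonsing_inv _ hu, Matrix.one_mulVec, Matrix.one_mulVec]
  · rw [act_mk, Matrix.mulVec_mulVec, Matrix.mul_assoc, Matrix.nonsing_inv_mul _ hu, mul_one]

/-! ### Paths -/

/-- Adjacency in the path. -/
def pth (i j : Fin 7) : Bool := i.val + 1 == j.val || j.val + 1 == i.val

/-- A path of vectors. -/
structure Path (v : Fin 7 → Fin 6 → F) : Prop where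
  ne : ∀ i, v i ≠ 0
  gram : ∀ i j, hermForm 6 F 2 (v i) (v j) = if pth i j then 1 else 0

omit [Fintype F] hF in
theorem Path.iso {v : Fin 7 → Fin 6 → F} (h : Path v) (i : Fin 7) : hermForm 6 F 2 (v i) (v i) = 0 := by
  rw [h.gram, if_neg]
  simp [pth]

/-- The first six vectors. -/
def six (v : Fin 7 → Fin 6 → F) (i : Fin 6) : Fin 6 → F := v i.castSucc

omit [Fintype F] hF in
theorem nondeg_six {v : Fin 7 → Fin 6 → F} (h : Path v) : Nondeg (six v) := by
  intro c hc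
  simp only [six, h.gram] at hc
  have h0 := hc 0
  have h1 := hc 1
  have h2 := hc 2
  have h3 := hc 3
  have h4 := hc 4
  have h5 := hc 5
  rw [Fin.sum_univ_six] at h0 h1 h2 h3 h4 h5
  simp [pth] at h0 h1 h2 h3 h4 h5
  have e3 : c 3 = 0 := by rwa [h0, zero_add] at h2
  have e5 : c 5 = 0 := by rwa [e3, zero_add] at h4
  have e2 : c 2 = 0 := by rwa [h5, add_zero] at h3
  have e0 : c 0 = 0 := by rwa [e2, add_zero] at h1
  funext i
  fin_cases i
  · exact e0
  · exact h0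
  · exact e2
  · exact e3
  · exact h5
  · exact e5

/-- The last vector of a path. -/
theorem Path.last {v : Fin 7 → Fin 6 → F} (h : Path v) : v 6 = v 0 + v 2 + v 4 := by
  refine eq_of_herm hF (nondeg_six h) fun j => ?_
  rw [herm_add_left, herm_add_left]
  simp only [six, h.gram]
  have h2 := add_self hF (1 : F)
  fin_cases j <;> simp [pth, h2]

/-- Two paths differ by a unitary matrix. -/
theorem exists_path_map {v v' : Fin 7 → Fin 6 → F} (h : Path v) (h' : Path v') :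
    ∃ A : Matrix (Fin 6) (Fin 6) F, (∀ x y, hermForm 6 F 2 (A *ᵥ x) (A *ᵥ y) = hermForm 6 F 2 x y) ∧
      ∀ i, A *ᵥ v i = v' i := by
  obtain ⟨A, hA, hi⟩ := exists_unitary hF (nondeg_six h) (b' := six v') fun i j => by
    rw [six, six, six, six, h.gram, h'.gram]
  refine ⟨A, hA, fun i => ?_⟩
  refine Fin.lastCases ?_ (fun i => hi i) i
  show A *ᵥ v 6 = v' 6
  rw [h.last hF, h'.last hF, Matrix.mulVec_add, Matrix.mulVec_add]
  have h0 := hi 0
  have h2 := hi 2
  have h4 := hi 4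
  simp only [six] at h0 h2 h4
  exact congrArg₂ (· + ·) (congrArg₂ (· + ·) h0 h2) h4

/-- Reversal of the path. -/
def rv (i : Fin 7) : Fin 7 := Fin.rev i

omit [Field F] [Fintype F] hF in
theorem pth_rv : ∀ i j, pth (rv i) (rv j) = pth i j := by decide

omit [Fintype F] hF in
theorem Path.rev {v : Fin 7 → Fin 6 → F} (h : Path v) : Path (fun i => v (rv i)) :=
  ⟨fun i => h.ne _, fun i j => by rw [h.gram, pth_rv]⟩

theorem eq_one_of_fix {v : Fin 7 → Fin 6 → F} (h : Path v) {A : Matrix (Fin 6) (Fin 6) F}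
    (hA : ∀ i, A *ᵥ v i = v i) : A = 1 := by
  have key : ∀ x, A *ᵥ x = x := by
    intro x
    have h1 : A.mulVecLin (∑ i, (basis hF (nondeg_six h)).repr x i • six v i) =
        ∑ i, (basis hF (nondeg_six h)).repr x i • six v i := by
      rw [map_sum]
      refine Finset.sum_congr rfl fun i _ => ?_
      rw [map_smul, Matrix.mulVecLin_apply]
      congr 1
      exact hA _
    rw [sum_repr] at h1
    exact h1
  ext i j
  have := congrFun (key (Pi.single j 1)) i
  rw [Matrix.mulVec_single_one] at this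
  rw [Matrix.one_apply]
  simpa [Pi.single_apply] using this

/-- The reversal is realised by an element of `SU` of square one. -/
theorem exists_reversal {v : Fin 7 → Fin 6 → F} (h : Path v) :
    ∃ g : SU 6 F 2, g * g = 1 ∧ ∀ i, act g (v i) = v (rv i) := by
  obtain ⟨A, hA, hi⟩ := exists_path_map hF h h.rev
  have h1 : A * A = 1 := by
    apply eq_one_of_fix hF h
    intro i
    rw [← Matrix.mulVec_mulVec, hi, hi]
    congr 1
    exact Fin.rev_rev i
  have hd : A.det = 1 := by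
    have h2 : A.det * A.det = 1 := by rw [← Matrix.det_mul, h1, Matrix.det_one]
    have h3 : (A.det + 1) * (A.det + 1) = 0 := by
      linear_combination h2 + (A.det + 1) * two_eq_zero hF
    have h4 := mul_self_eq_zero.1 h3
    exact eq_of_add_eq_zero hF h4
  refine ⟨mk A hd hA, ?_, fun i => hi i⟩
  apply ext_act
  intro x
  rw [act_mul, act_one, act_mk, act_mk, Matrix.mulVec_mulVec, h1, Matrix.one_mulVec]

/-! ### Chains of transvections -/

/-- The next vector. -/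
theorem step {v : Fin 6 → F} (hv0 : v ≠ 0) (hv : hermForm 6 F 2 v v = 0) {c : PSU 6 F 2} (hc : c ∈ TT hF 6)
    (hn : ¬ Commute (tau hF v) c) : ∃ w : Fin 6 → F, w ≠ 0 ∧ hermForm 6 F 2 w w = 0 ∧ c = tau hF w ∧
      hermForm 6 F 2 v w = 1 ∧ hermForm 6 F 2 w v = 1 := by
  obtain ⟨w, hw0, hw, rfl⟩ := hc
  rw [tau_commute_iff hF (by norm_num) hv hw hv0] at hn
  set h := hermForm 6 F 2 v w with hh
  have h3 : h ^ 3 = 1 := pow_three hF hn
  have e1 : hermForm 6 F 2 v (h • w) = 1 := by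
    rw [herm_smul_right, ← hh]
    linear_combination h3
  refine ⟨h • w, ?_, herm_smul_self hF hw h, (tau_smul hF hw hn).symm, e1, ?_⟩
  · intro h0
    rcases smul_eq_zero.1 h0 with h0 | h0
    · exact hn h0
    · exact hw0 h0
  · rw [herm_swap hF v, e1, one_pow]

/-- A path of transvections. -/
theorem exists_path {c : Fin 7 → PSU 6 F 2} (hT : ∀ i, c i ∈ TT hF 6)
    (hadj : ∀ i j, pth i j = true → ¬ Commute (c i) (c j))
    (hnon : ∀ i j, pth i j = false → Commute (c i) (c j)) :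
    ∃ v : Fin 7 → Fin 6 → F, Path v ∧ ∀ i, c i = tau hF (v i) := by
  obtain ⟨v0, n0, i0, t0⟩ := hT 0
  obtain ⟨v1, n1, i1, t1, a01, a10⟩ := step hF n0 i0 (hT 1) (by rw [← t0]; exact hadj _ _ (by decide))
  obtain ⟨v2, n2, i2, t2, a12, a21⟩ := step hF n1 i1 (hT 2) (by rw [← t1]; exact hadj _ _ (by decide))
  obtain ⟨v3, n3, i3, t3, a23, a32⟩ := step hF n2 i2 (hT 3) (by rw [← t2]; exact hadj _ _ (by decide))
  obtain ⟨v4, n4, i4, t4, a34, a43⟩ := step hF n3 i3 (hT 4) (by rw [← t3]; exact hadj _ _ (by decide))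
  obtain ⟨v5, n5, i5, t5, a45, a54⟩ := step hF n4 i4 (hT 5) (by rw [← t4]; exact hadj _ _ (by decide))
  obtain ⟨v6, n6, i6, t6, a56, a65⟩ := step hF n5 i5 (hT 6) (by rw [← t5]; exact hadj _ _ (by decide))
  obtain ⟨v, hv⟩ : ∃ v : Fin 7 → Fin 6 → F, v = ![v0, v1, v2, v3, v4, v5, v6] := ⟨_, rfl⟩
  have e0 : v 0 = v0 := by rw [hv]; rfl
  have e1 : v 1 = v1 := by rw [hv]; rfl
  have e2 : v 2 = v2 := by rw [hv]; rfl
  have e3 : v 3 = v3 := by rw [hv]; rfl
  have e4 : v 4 = v4 := by rw [hv]; rfl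
  have e5 : v 5 = v5 := by rw [hv]; rfl
  have e6 : v 6 = v6 := by rw [hv]; rfl
  have hn : ∀ i, v i ≠ 0 := by
    intro i
    fin_cases i
    · exact e0 ▸ n0
    · exact e1 ▸ n1
    · exact e2 ▸ n2
    · exact e3 ▸ n3
    · exact e4 ▸ n4
    · exact e5 ▸ n5
    · exact e6 ▸ n6
  have hi : ∀ i, hermForm 6 F 2 (v i) (v i) = 0 := by
    intro i
    fin_cases i
    · exact e0 ▸ i0
    · exact e1 ▸ i1
    · exact e2 ▸ i2
    · exact e3 ▸ i3
    · exact e4 ▸ i4
    · exact e5 ▸ i5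
    · exact e6 ▸ i6
  have ht : ∀ i, c i = tau hF (v i) := by
    intro i
    fin_cases i
    · exact e0 ▸ t0
    · exact e1 ▸ t1
    · exact e2 ▸ t2
    · exact e3 ▸ t3
    · exact e4 ▸ t4
    · exact e5 ▸ t5
    · exact e6 ▸ t6
  have ha : ∀ i : Fin 6, hermForm 6 F 2 (v i.castSucc) (v i.succ) = 1 ∧
      hermForm 6 F 2 (v i.succ) (v i.castSucc) = 1 := by
    intro i
    fin_cases i
    · show hermForm 6 F 2 (v 0) (v 1) = 1 ∧ hermForm 6 F 2 (v 1) (v 0) = 1
      rw [e0, e1]; exact ⟨a01, a10⟩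
    · show hermForm 6 F 2 (v 1) (v 2) = 1 ∧ hermForm 6 F 2 (v 2) (v 1) = 1
      rw [e1, e2]; exact ⟨a12, a21⟩
    · show hermForm 6 F 2 (v 2) (v 3) = 1 ∧ hermForm 6 F 2 (v 3) (v 2) = 1
      rw [e2, e3]; exact ⟨a23, a32⟩
    · show hermForm 6 F 2 (v 3) (v 4) = 1 ∧ hermForm 6 F 2 (v 4) (v 3) = 1
      rw [e3, e4]; exact ⟨a34, a43⟩
    · show hermForm 6 F 2 (v 4) (v 5) = 1 ∧ hermForm 6 F 2 (v 5) (v 4) = 1
      rw [e4, e5]; exact ⟨a45, a54⟩
    · show hermForm 6 F 2 (v 5) (v 6) = 1 ∧ hermForm 6 F 2 (v 6) (v 5) = 1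
      rw [e5, e6]; exact ⟨a56, a65⟩
  refine ⟨v, ⟨hn, fun i j => ?_⟩, ht⟩
  by_cases hp : pth i j = true
  · rw [if_pos hp]
    have hp' : i.val + 1 = j.val ∨ j.val + 1 = i.val := by
      simpa [pth] using hp
    rcases hp' with h | h
    · have hlt : i.val < 6 := by omega
      have := (ha ⟨i.val, hlt⟩).1
      have ei : (⟨i.val, hlt⟩ : Fin 6).castSucc = i := Fin.ext rfl
      have ej : (⟨i.val, hlt⟩ : Fin 6).succ = j := Fin.ext h
      rwa [ei, ej] at this
    · have hlt : j.val < 6 := by omega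
      have := (ha ⟨j.val, hlt⟩).2
      have ei : (⟨j.val, hlt⟩ : Fin 6).castSucc = j := Fin.ext rfl
      have ej : (⟨j.val, hlt⟩ : Fin 6).succ = i := Fin.ext h
      rwa [ei, ej] at this
  · rw [if_neg hp]
    have hp' : pth i j = false := by simpa using hp
    have := hnon i j hp'
    rw [ht i, ht j] at this
    exact (tau_commute_iff hF (by norm_num) (hi i) (hi j) (hn i)).1 this

/-- Two chains of transvections in the same class are conjugate. -/
theorem conj_of_det {c c' : Fin 7 → PSU 6 F 2} {v v' : Fin 7 → Fin 6 → F} (hv : Path v)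
    (hc : ∀ i, c i = tau hF (v i)) (hc' : ∀ i, c' i = tau hF (v' i)) {u : Fin 7 → Fin 6 → F}
    {A A' : Matrix (Fin 6) (Fin 6) F} (hA : ∀ x y, hermForm 6 F 2 (A *ᵥ x) (A *ᵥ y) = hermForm 6 F 2 x y)
    (hA' : ∀ x y, hermForm 6 F 2 (A' *ᵥ x) (A' *ᵥ y) = hermForm 6 F 2 x y)
    (hu : ∀ i, A *ᵥ u i = v i) (hu' : ∀ i, A' *ᵥ u i = v' i) (hd : A.det = A'.det) :
    ∃ g : PSU 6 F 2, ∀ i, g * c i * g⁻¹ = c' i := by
  obtain ⟨g, hg⟩ := exists_SU hF hA hA' hd
  refine ⟨pr 6 F 2 g, fun i => ?_⟩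
  rw [hc, hc', conj_tau hF g (hv.iso i), ← hu, hg, hu']

/-- The reversal of a chain of transvections. -/
theorem exists_rev {c : Fin 7 → PSU 6 F 2} (hT : ∀ i, c i ∈ TT hF 6)
    (hadj : ∀ i j, pth i j = true → ¬ Commute (c i) (c j))
    (hnon : ∀ i j, pth i j = false → Commute (c i) (c j)) :
    ∃ g : PSU 6 F 2, g * g = 1 ∧ ∀ i, g * c i * g⁻¹ = c (rv i) := by
  obtain ⟨v, hv, ht⟩ := exists_path hF hT hadj hnon
  obtain ⟨g, hg, hi⟩ := exists_reversal hF hv
  refine ⟨pr 6 F 2 g, by rw [← map_mul, hg, map_one], fun i => ?_⟩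
  rw [ht, ht, conj_tau hF g (hv.iso i), hi]

/-! ### The node attached to two paths -/

/-- Two disjoint paths with four and two nodes. -/
def pq (i j : Fin 6) : Bool :=
  [(0, 1), (1, 0), (1, 2), (2, 1), (2, 3), (3, 2), (4, 5), (5, 4)].contains (i, j)

omit [Fintype F] hF in
theorem nondeg_pq {v : Fin 6 → Fin 6 → F} (h : ∀ i j, hermForm 6 F 2 (v i) (v j) = if pq i j then 1 else 0) :
    Nondeg v := by
  intro c hc
  simp only [h] at hc
  have h0 := hc 0
  have h1 := hc 1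
  have h2 := hc 2
  have h3 := hc 3
  have h4 := hc 4
  have h5 := hc 5
  rw [Fin.sum_univ_six] at h0 h1 h2 h3 h4 h5
  simp [pq] at h0 h1 h2 h3 h4 h5
  have e0 : c 0 = 0 := by rwa [h3, add_zero] at h1
  have e3 : c 3 = 0 := by rwa [h0, zero_add] at h2
  funext i
  fin_cases i
  · exact e0
  · exact h0
  · exact h3
  · exact e3
  · exact h5
  · exact h4

/-- Scaled centres of the two paths. -/
theorem exists_pq {c : Fin 6 → PSU 6 F 2} (hT : ∀ i, c i ∈ TT hF 6)
    (hadj : ∀ i j, pq i j = true → ¬ Commute (c i) (c j))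
    (hnon : ∀ i j, pq i j = false → Commute (c i) (c j)) :
    ∃ v : Fin 6 → Fin 6 → F, (∀ i j, hermForm 6 F 2 (v i) (v j) = if pq i j then 1 else 0) ∧
      (∀ i, v i ≠ 0) ∧ ∀ i, c i = tau hF (v i) := by
  obtain ⟨v0, n0, i0, t0⟩ := hT 0
  obtain ⟨v1, n1, i1, t1, a01, a10⟩ := step hF n0 i0 (hT 1) (by rw [← t0]; exact hadj _ _ (by decide))
  obtain ⟨v2, n2, i2, t2, a12, a21⟩ := step hF n1 i1 (hT 2) (by rw [← t1]; exact hadj _ _ (by decide))
  obtain ⟨v3, n3, i3, t3, a23, a32⟩ := step hF n2 i2 (hT 3) (by rw [← t2]; exact hadj _ _ (by decide))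
  obtain ⟨v4, n4, i4, t4⟩ := hT 4
  obtain ⟨v5, n5, i5, t5, a45, a54⟩ := step hF n4 i4 (hT 5) (by rw [← t4]; exact hadj _ _ (by decide))
  obtain ⟨v, hv⟩ : ∃ v : Fin 6 → Fin 6 → F, v = ![v0, v1, v2, v3, v4, v5] := ⟨_, rfl⟩
  have e0 : v 0 = v0 := by rw [hv]; rfl
  have e1 : v 1 = v1 := by rw [hv]; rfl
  have e2 : v 2 = v2 := by rw [hv]; rfl
  have e3 : v 3 = v3 := by rw [hv]; rfl
  have e4 : v 4 = v4 := by rw [hv]; rfl
  have e5 : v 5 = v5 := by rw [hv]; rfl
  have hn : ∀ i, v i ≠ 0 := by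
    intro i
    fin_cases i
    · exact e0 ▸ n0
    · exact e1 ▸ n1
    · exact e2 ▸ n2
    · exact e3 ▸ n3
    · exact e4 ▸ n4
    · exact e5 ▸ n5
  have hi : ∀ i, hermForm 6 F 2 (v i) (v i) = 0 := by
    intro i
    fin_cases i
    · exact e0 ▸ i0
    · exact e1 ▸ i1
    · exact e2 ▸ i2
    · exact e3 ▸ i3
    · exact e4 ▸ i4
    · exact e5 ▸ i5
  have ht : ∀ i, c i = tau hF (v i) := by
    intro i
    fin_cases i
    · exact e0 ▸ t0
    · exact e1 ▸ t1
    · exact e2 ▸ t2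
    · exact e3 ▸ t3
    · exact e4 ▸ t4
    · exact e5 ▸ t5
  refine ⟨v, fun i j => ?_, hn, ht⟩
  by_cases hp : pq i j = true
  · rw [if_pos hp]
    have hp' : (i, j) ∈ ([(0, 1), (1, 0), (1, 2), (2, 1), (2, 3), (3, 2), (4, 5), (5, 4)] : List (Fin 6 × Fin 6)) := by
      simpa [pq] using hp
    simp only [List.mem_cons, Prod.mk.injEq, List.not_mem_nil, or_false] at hp'
    rcases hp' with ⟨rfl, rfl⟩ | ⟨rfl, rfl⟩ | ⟨rfl, rfl⟩ | ⟨rfl, rfl⟩ | ⟨rfl, rfl⟩ | ⟨rfl, rfl⟩ | ⟨rfl, rfl⟩ | ⟨rfl, rfl⟩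
    · rw [e0, e1]; exact a01
    · rw [e0, e1]; exact a10
    · rw [e1, e2]; exact a12
    · rw [e1, e2]; exact a21
    · rw [e2, e3]; exact a23
    · rw [e2, e3]; exact a32
    · rw [e4, e5]; exact a45
    · rw [e4, e5]; exact a54
  · rw [if_neg hp]
    have hp' : pq i j = false := by simpa using hp
    have := hnon i j hp'
    rw [ht i, ht j] at this
    exact (tau_commute_iff hF (by norm_num) (hi i) (hi j) (hn i)).1 this

/-- Among four nodes attached to the fourth and the fifth node two are equal. -/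
theorem exists_eq {c : Fin 6 → PSU 6 F 2} (hT : ∀ i, c i ∈ TT hF 6)
    (hadj : ∀ i j, pq i j = true → ¬ Commute (c i) (c j))
    (hnon : ∀ i j, pq i j = false → Commute (c i) (c j)) {x : Fin 4 → PSU 6 F 2} (hx : ∀ k, x k ∈ TT hF 6)
    (h0 : ∀ k, Commute (x k) (c 0)) (h1 : ∀ k, Commute (x k) (c 1)) (h2 : ∀ k, Commute (x k) (c 2))
    (h3 : ∀ k, ¬ Commute (x k) (c 3)) (h4 : ∀ k, ¬ Commute (x k) (c 4)) (h5 : ∀ k, Commute (x k) (c 5)) :
    ∃ k l, k ≠ l ∧ x k = x l := by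
  obtain ⟨v, hg, hn, ht⟩ := exists_pq hF hT hadj hnon
  have hi : ∀ i, hermForm 6 F 2 (v i) (v i) = 0 := by
    intro i
    rw [hg, if_neg]
    revert i
    decide
  have key : ∀ k, ∃ l : Fˣ, x k = tau hF (v 0 + v 2 + (l : F) • v 5) := by
    intro k
    obtain ⟨w, w0, wi, wt, w1, w2⟩ := step hF (hn 3) (hi 3) (hx k)
      (by rw [← ht]; exact fun hc => h3 k hc.symm)
    have c0 : hermForm 6 F 2 w (v 0) = 0 := by
      rw [← tau_commute_iff hF (by norm_num) wi (hi 0) w0, ← wt, ← ht]; exact h0 k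
    have c1 : hermForm 6 F 2 w (v 1) = 0 := by
      rw [← tau_commute_iff hF (by norm_num) wi (hi 1) w0, ← wt, ← ht]; exact h1 k
    have c2 : hermForm 6 F 2 w (v 2) = 0 := by
      rw [← tau_commute_iff hF (by norm_num) wi (hi 2) w0, ← wt, ← ht]; exact h2 k
    have c5 : hermForm 6 F 2 w (v 5) = 0 := by
      rw [← tau_commute_iff hF (by norm_num) wi (hi 5) w0, ← wt, ← ht]; exact h5 k
    have c4 : hermForm 6 F 2 w (v 4) ≠ 0 := by
      rw [Ne, ← tau_commute_iff hF (by norm_num) wi (hi 4) w0, ← wt, ← ht]; exact h4 k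
    refine ⟨Units.mk0 _ c4, ?_⟩
    rw [wt]
    congr 1
    refine eq_of_herm hF (nondeg_pq hg) fun j => ?_
    rw [herm_add_left, herm_add_left, herm_smul_left, Units.val_mk0]
    have h2 := add_self hF (1 : F)
    fin_cases j
    · show hermForm 6 F 2 w (v 0) = _
      rw [c0]; simp [hg, pq]
    · show hermForm 6 F 2 w (v 1) = _
      rw [c1]; simp [hg, pq, h2]
    · show hermForm 6 F 2 w (v 2) = _
      rw [c2]; simp [hg, pq]
    · show hermForm 6 F 2 w (v 3) = _
      rw [w2]; simp [hg, pq]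
    · simp [hg, pq]
    · show hermForm 6 F 2 w (v 5) = _
      rw [c5]; simp [hg, pq]
  choose l hl using key
  classical
  have hcard : Fintype.card Fˣ < Fintype.card (Fin 4) := by
    rw [Fintype.card_units, hF, Fintype.card_fin]; norm_num
  obtain ⟨k, k', hkk, he⟩ := Fintype.exists_ne_map_eq_of_card_lt l hcard
  exact ⟨k, k', hkk, by rw [hl, hl, he]⟩

end Cfsg.Agent.BabyU.OutHerm
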