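import Cfsg.Agent.BabyU.Out

/-!
# Non-inner involutory automorphisms

`Arms.conj_inv`: under the hypotheses of `Out.auto` two non-inner automorphisms `α`, `β` of `E` with square one are
conjugate in the automorphism group up to an inner automorphism.
`Arms.exists_fix`: if `β` normalises the Sylow 2-subgroup `S` and `α = conj g * β`, `α * α = 1`, then
`α` is conjugate under an inner automorphism to `conj s * β`, `s ∈ S`.
-/

set_option autoImplicit false

namespace Cfsg.Agent.BabyU.OutInv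

open Cfsg Cfsg.Agent.TwoESix Cfsg.Agent.TwoESix.Cox10 Cfsg.Agent.TwoESix.Lift Cfsg.Agent.TwoESix.Cover
open Cfsg.Agent.R01.Lifts Cfsg.Agent.BabyU.OutCount Cfsg.Agent.BabyU.OutFree Cfsg.Agent.BabyU.Out

variable {F : Type*} [Field F] [Fintype F] {hF : Fintype.card F = 2 ^ 2}
variable {E : Type*} [Group E]

theorem P6_sq : ∀ k : Fin 6, ∃ n : Fin 6, (n = 0 ↔ (k = 0 ∨ k = 1 ∨ k = 2 ∨ k = 3)) ∧ ∀ i, P6 k (P6 k i) = P6 n i := by
  decide

theorem P6_tr : ∀ k l : Fin 6, (k = 1 ∨ k = 2 ∨ k = 3) → (l = 1 ∨ l = 2 ∨ l = 3) →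
    ∃ m m' : Fin 6, (∀ i, P6 m (P6 k (P6 m' i)) = P6 l i) ∧ (∀ i, P6 m (P6 m' i) = i) ∧
      ∀ i, P6 m' (P6 m i) = i := by decide

/-- automorphisms agreeing on generators -/
theorem aut_ext {f : Fin 10 → E} (hf : GG f) {α β : MulAut E} (h : ∀ i, α (f i) = β (f i)) : α = β := by
  apply MulEquiv.ext
  intro x
  have h2 : (α : E →* E) = (β : E →* E) := by
    refine MonoidHom.eq_of_eqOn_dense hf.2 ?_
    rintro _ ⟨i, rfl⟩
    exact h i
  exact DFunLike.congr_fun h2 x

/-- the arm of a non-inner involutory automorphism -/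
theorem arm_of [Finite HB] {M : Type*} [Group M] (hcov : IsNonsplitDoubleCover M E)
    (hcard : Nat.card HB ≤ Nat.card E) (hE : ∃ a b : E, ¬ Commute a b) {R : Set E} (H : Hyp hF R)
    {f : Fin 10 → E} (hf : GG f) (hfR : ∀ i, f i ∈ R) {α : MulAut E} (hR : ∀ r ∈ R, α r ∈ R)
    (hα : α * α = 1) (hn : ∀ g : E, α ≠ MulAut.conj g) :
    ∃ (x : E) (k : Fin 6) (A : MulAut E), (k = 1 ∨ k = 2 ∨ k = 3) ∧ (∀ i, A (f i) = f (P6 k i)) ∧
      α = MulAut.conj x * A := by
  obtain ⟨x, k, hx⟩ := auto hcov hcard hE H hf hfR α hR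
  have hA : ∀ i, (MulAut.conj x * α) (f i) = f (P6 k i) := hx
  refine ⟨x⁻¹, k, MulAut.conj x * α, ?_, hA, by rw [← mul_assoc, ← map_mul, inv_mul_cancel, map_one, one_mul]⟩
  obtain ⟨n, hn0, hn1⟩ := P6_sq k
  have hk0 : k ≠ 0 := by
    rintro rfl
    have h1 : α = MulAut.conj x⁻¹ := aut_ext hf fun i => by
      have h2 := hx i
      rw [P6_zero] at h2
      show α (f i) = x⁻¹ * f i * x⁻¹⁻¹
      calc α (f i) = x⁻¹ * (x * α (f i) * x⁻¹) * x⁻¹⁻¹ := by group
        _ = _ := by rw [h2]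
    exact hn _ h1
  by_cases hn2 : n = 0
  · rcases hn0.1 hn2 with h | h
    · exact absurd h hk0
    · exact h
  · exfalso
    -- the square of the arm automorphism is inner
    have h1 : ∀ i, (x * α x) * f i * (x * α x)⁻¹ = f (P6 n i) := by
      intro i
      have h2 := hA (P6 k i)
      rw [hn1] at h2
      rw [← h2, ← hA i]
      show _ = x * α (x * α (f i) * x⁻¹) * x⁻¹
      rw [map_mul, map_mul, map_inv]
      have h3 : α (α (f i)) = f i := by
        have := DFunLike.congr_fun hα (f i)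
        exact this
      rw [h3]; group
    exact not_inner hcov hcard hf hn2 _ h1

/-- **Two non-inner involutory automorphisms are conjugate in the automorphism group up to inner automorphisms.** -/
theorem conj_inv [Finite HB] {M : Type*} [Group M] (hcov : IsNonsplitDoubleCover M E)
    (hcard : Nat.card HB ≤ Nat.card E) (hE : ∃ a b : E, ¬ Commute a b) {R : Set E} (H : Hyp hF R)
    {f : Fin 10 → E} (hf : GG f) (hfR : ∀ i, f i ∈ R) {α β : MulAut E} (hR : ∀ r ∈ R, α r ∈ R)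
    (hα : α * α = 1) (hn : ∀ g : E, α ≠ MulAut.conj g) (hR' : ∀ r ∈ R, β r ∈ R)
    (hβ : β * β = 1) (hn' : ∀ g : E, β ≠ MulAut.conj g) :
    ∃ (A : MulAut E) (g : E), A * α * A⁻¹ = MulAut.conj g * β := by
  obtain ⟨x, k, B, hk, hB, rfl⟩ := arm_of hcov hcard hE H hf hfR hR hα hn
  obtain ⟨y, l, C, hl, hC, rfl⟩ := arm_of hcov hcard hE H hf hfR hR' hβ hn'
  obtain ⟨m, m', h1, h2, h3⟩ := P6_tr k l hk hl
  obtain ⟨A, hA⟩ := exists_auto hf (hf.P6 m) hcard
  refine ⟨A, A x * y⁻¹, ?_⟩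
  have hA' : ∀ i, (A : MulAut E)⁻¹ (f i) = f (P6 m' i) := by
    intro i
    have h4 : A (f (P6 m' i)) = f i := by rw [hA, h2]
    rw [← h4]
    exact MulEquiv.symm_apply_apply A _
  have h5 : A * B * A⁻¹ = C := aut_ext hf fun i => by
    show A (B ((A : MulAut E)⁻¹ (f i))) = C (f i)
    rw [hA', hB, hA, h1, hC]
  have h6 : A * MulAut.conj x * A⁻¹ = MulAut.conj (A x) := by
    apply MulEquiv.ext
    intro z
    show A (x * (A : MulAut E)⁻¹ z * x⁻¹) = A x * z * (A x)⁻¹
    have h7 : A ((A : MulAut E)⁻¹ z) = z := MulEquiv.apply_symm_apply A z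
    rw [map_mul, map_mul, map_inv, h7]
  calc A * (MulAut.conj x * B) * A⁻¹ = (A * MulAut.conj x * A⁻¹) * (A * B * A⁻¹) := by group
    _ = MulAut.conj (A x * y⁻¹) * (MulAut.conj y * C) := by
      rw [h5, h6, ← mul_assoc, ← map_mul, inv_mul_cancel_right]

/-! ### Sylow -/

/-- an involutory map of a finite set of odd cardinality has a fixed point -/
theorem exists_fixed {X : Type*} [Finite X] (h : ¬ 2 ∣ Nat.card X) (b : X → X) (hb : ∀ x, b (b x) = x) :
    ∃ x, b x = x := by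
  classical
  have := Fintype.ofFinite X
  have : Fact (Nat.Prime 2) := ⟨Nat.prime_two⟩
  rw [Nat.card_eq_fintype_card] at h
  let σ : Equiv.Perm X := ⟨b, b, hb, hb⟩
  have hσ : σ ^ 2 ^ 1 = 1 := by
    rw [pow_one, _root_.sq]
    ext x
    exact hb x
  exact Equiv.Perm.exists_fixed_point_of_prime h hσ

/-- **Conjugation into `S β`.** -/
theorem exists_fix [Finite E] {S : Subgroup E} (hS : ¬ 2 ∣ S.index) (hc : ∀ z : E, (∀ y, z * y = y * z) → z = 1)
    {β : MulAut E} (hβ : β * β = 1) (hβS : ∀ s ∈ S, β s ∈ S) {x : E}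
    (hα : (MulAut.conj x * β) * (MulAut.conj x * β) = 1) :
    ∃ g s : E, s ∈ S ∧ MulAut.conj g * (MulAut.conj x * β) * (MulAut.conj g)⁻¹ = MulAut.conj s * β := by
  have hbb : ∀ y, β (β y) = y := fun y => DFunLike.congr_fun hβ y
  -- `x * β x = 1`
  have hx : x * β x = 1 := by
    apply hc
    intro y
    have h1 := DFunLike.congr_fun hα y
    have h2 : x * β (x * β y * x⁻¹) * x⁻¹ = y := h1
    rw [map_mul, map_mul, map_inv, hbb] at h2
    calc x * β x * y = x * (β x * y * (β x)⁻¹) * x⁻¹ * (x * β x) := by group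
      _ = y * (x * β x) := by rw [h2]
  let b : E ⧸ S → E ⧸ S := Quotient.map' (fun g => x * β g) (by
    intro g h hgh
    rw [QuotientGroup.leftRel_apply] at hgh ⊢
    have := hβS _ hgh
    rw [map_mul, map_inv] at this
    have e : (x * β g)⁻¹ * (x * β h) = (β g)⁻¹ * β h := by group
    rw [e]; exact this)
  have hb : ∀ q, b (b q) = q := by
    intro q
    induction q using QuotientGroup.induction_on with
    | H g =>
      show ((x * β (x * β g) : E) : E ⧸ S) = g
      rw [map_mul, hbb, ← mul_assoc, hx, one_mul]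
  obtain ⟨q, hq⟩ := exists_fixed (X := E ⧸ S) (by rwa [← Subgroup.index]) b hb
  induction q using QuotientGroup.induction_on with
  | H g =>
    have h1 : ((x * β g : E) : E ⧸ S) = g := hq
    have h2 : g⁻¹ * (x * β g) ∈ S := QuotientGroup.eq.1 h1.symm
    refine ⟨g⁻¹, g⁻¹ * (x * β g), h2, ?_⟩
    apply MulEquiv.ext
    intro y
    rw [← map_inv, inv_inv]
    show g⁻¹ * (x * β (g * y * g⁻¹) * x⁻¹) * g⁻¹⁻¹ = g⁻¹ * (x * β g) * β y * (g⁻¹ * (x * β g))⁻¹
    rw [map_mul, map_mul, map_inv]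
    group

/-- A 2-element normalising the Sylow 2-subgroup `S` is in `S`. -/
theorem mem_of_normalizes [Finite E] {S : Subgroup E} (hS2 : IsPGroup 2 S) (hS : ¬ 2 ∣ S.index) {g : E}
    (hg : g * g = 1) (hgS : ∀ s ∈ S, g * s * g⁻¹ ∈ S) : g ∈ S := by
  have hginv : g⁻¹ = g := inv_eq_of_mul_eq_one_left hg
  have hN : Subgroup.zpowers g ≤ Subgroup.normalizer (S : Set E) := by
    rw [Subgroup.zpowers_le, Subgroup.mem_normalizer_iff]
    intro s
    refine ⟨fun h => hgS s h, fun h => ?_⟩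
    have := hgS _ h
    rw [hginv] at this
    rwa [show g * (g * s * g) * g = (g * g) * s * (g * g) by group, hg, one_mul, mul_one] at this
  have hZ : IsPGroup 2 (Subgroup.zpowers g) := by
    rintro ⟨y, hy⟩
    obtain ⟨k, rfl⟩ := Subgroup.mem_zpowers_iff.1 hy
    refine ⟨1, Subtype.ext ?_⟩
    show (g ^ k) ^ (2 ^ 1) = 1
    rw [pow_one, _root_.sq, ← (Commute.refl g).mul_zpow, hg, one_zpow]
  have hP := hZ.to_sup_of_normal_right' hS2 hN
  have : Fact (Nat.Prime 2) := ⟨Nat.prime_two⟩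
  have h1 := (hS2.toSylow hS).is_maximal' hP (le_sup_right)
  have h2 : g ∈ Subgroup.zpowers g ⊔ S := Subgroup.mem_sup_left (Subgroup.mem_zpowers g)
  rw [h1] at h2
  exact h2

end Cfsg.Agent.BabyU.OutInv
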