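import Cfsg.Agent.R01.Lifts
import Mathlib.GroupTheory.Transfer

/-!
# U-B, perf1 (abstract half): perfect subgroups of odd index lift to perfect subgroups

`perf_of_odd`: in a nonsplit extension `π : C →* E` with kernel `{1, z}` the preimage of a perfect subgroup of odd index is
perfect (transfer).
-/

set_option autoImplicit false

namespace Cfsg.Agent.BabyU.PerfOneA

open Cfsg.Agent.R01.Lifts

universe u v

variable {C : Type u} [Group C] {E : Type v} [Group E] {π : C →* E} {z : C}

/-- A perfect subgroup of odd index of the quotient of a nonsplit double cover has a perfect preimage. -/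
theorem perf_of_odd (h : Ext π z) (nosec : ∀ σ : E →* C, ¬ ∀ x, π (σ x) = x) (P : Subgroup E)
    (hP : ⁅P, P⁆ = P) (hodd : ¬ 2 ∣ P.index) : ⁅P.comap π, P.comap π⁆ = P.comap π := by
  classical
  have hle : ⁅P.comap π, P.comap π⁆ ≤ P.comap π :=
    Subgroup.commutator_le.2 fun a ha b hb =>
      (P.comap π).mul_mem ((P.comap π).mul_mem ((P.comap π).mul_mem ha hb) ((P.comap π).inv_mem ha))
        ((P.comap π).inv_mem hb)
  have hmap : (⁅P.comap π, P.comap π⁆).map π = P := by
    rw [Subgroup.map_commutator, Subgroup.map_comap_eq_self_of_surjective h.surj, hP]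
  have hzP : z ∈ P.comap π := by
    rw [Subgroup.mem_comap, h.mapz]; exact P.one_mem
  have dich : ∀ x ∈ P.comap π, ∃ l ∈ ⁅P.comap π, P.comap π⁆, x = l ∨ x = l * z := by
    intro x hx
    have hx' : π x ∈ (⁅P.comap π, P.comap π⁆).map π := by rw [hmap]; exact hx
    obtain ⟨l, hl, hlx⟩ := hx'
    exact ⟨l, hl, h.map_eq.1 hlx.symm⟩
  by_contra hne
  have hz : z ∉ ⁅P.comap π, P.comap π⁆ := by
    intro hz
    apply hne
    refine le_antisymm hle fun x hx => ?_
    obtain ⟨l, hl, rfl | rfl⟩ := dich x hx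
    · exact hl
    · exact Subgroup.mul_mem _ hl hz
  have hidx : (P.comap π).index = P.index := Subgroup.index_comap_of_surjective P h.surj
  have hodd' : ¬ 2 ∣ (P.comap π).index := by rw [hidx]; exact hodd
  haveI : (P.comap π).FiniteIndex := ⟨fun h0 => hodd' (h0 ▸ dvd_zero 2)⟩
  set ab : (P.comap π) →* Abelianization (P.comap π) := Abelianization.of with hab
  have hab1 : ∀ a : P.comap π, ab a = 1 ↔ (a : C) ∈ ⁅P.comap π, P.comap π⁆ := by
    intro a
    rw [hab, ← MonoidHom.mem_ker, Abelianization.ker_of, ← Subgroup.map_subtype_commutator]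
    constructor
    · intro ha; exact ⟨a, ha, rfl⟩
    · rintro ⟨b, hb, hba⟩
      have : b = a := Subtype.ext hba
      rw [← this]; exact hb
  set V : C →* Abelianization (P.comap π) := MonoidHom.transfer ab with hV
  have hpow : z ^ (P.comap π).index = z := by
    obtain ⟨k, hk⟩ : Odd (P.comap π).index := Nat.not_even_iff_odd.1 fun he => hodd' he.two_dvd
    rw [hk, pow_succ, pow_mul, pow_two, h.zz, one_pow, one_mul]
  have hVz : V z = ab ⟨z, hzP⟩ := by
    rw [hV, MonoidHom.transfer_eq_pow ab z (fun k g₀ _ => by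
      have hc : Commute g₀ (z ^ k) := Commute.pow_right (h.comm g₀) k
      rw [mul_assoc, ← hc.eq, inv_mul_cancel_left])]
    exact congrArg ab (Subtype.ext hpow)
  have hVz1 : V z ≠ 1 := by
    rw [hVz, Ne, hab1]; exact hz
  have hVzz : V z * V z = 1 := by rw [← map_mul, h.zz, map_one]
  have hVd : ∀ m, V m = 1 ∨ V (m * z) = 1 := by
    intro m
    obtain ⟨p, hp⟩ : ∃ p, ab p = V m := by
      have := QuotientGroup.mk_surjective (V m)
      exact this
    obtain ⟨l, hl, h1 | h1⟩ := dich p p.2
    · left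
      rw [← hp, hab1, h1]; exact hl
    · right
      have hp2 : p = ⟨l, hle hl⟩ * ⟨z, hzP⟩ := Subtype.ext h1
      have h2 : ab ⟨l, hle hl⟩ = 1 := (hab1 _).2 hl
      rw [map_mul, ← hp, hp2, map_mul, h2, one_mul, ← hVz, hVzz]
  have ex : ∀ x : E, ∃ m : C, π m = x ∧ V m = 1 := by
    intro x
    obtain ⟨m, rfl⟩ := h.surj x
    rcases hVd m with h1 | h1
    · exact ⟨m, rfl, h1⟩
    · exact ⟨m * z, by rw [map_mul, h.mapz, mul_one], h1⟩
  have uniq : ∀ m m' : C, π m = π m' → V m = 1 → V m' = 1 → m = m' := by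
    intro m m' hm h1 h2
    rcases h.map_eq.1 hm with h3 | h3
    · exact h3
    · exfalso
      apply hVz1
      rw [h3, map_mul, h2, one_mul] at h1
      exact h1
  choose σ hσ hσV using ex
  refine nosec { toFun := σ, map_one' := ?_, map_mul' := ?_ } hσ
  · exact uniq _ _ (by rw [hσ, map_one]) (hσV 1) (map_one V)
  · intro x y
    exact uniq _ _ (by rw [hσ, map_mul, hσ, hσ]) (hσV _) (by rw [map_mul, hσV, hσV, one_mul])

end Cfsg.Agent.BabyU.PerfOneA
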