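import Cfsg.Agent.BabyU.LitFin
import Cfsg.Agent.BabyU.IsoOne
import Cfsg.Agent.BabyU.LineCfg
import Cfsg.Agent.BabyU.HexadOne
import Cfsg.Agent.J2Type.SimpleRed

/-!
# The Baby Monster from a `Setup` of index one or two

`isoB` : a finite simple group `G` with `Setup t M π`, `π : M →* ²E₆(2)`, where `M` has index one or two in `C_G(t)`, is
the Baby Monster. For index two the first fusion is `FusFinal.fuse`, for index one it is `IsoOne.fuse_one`.
-/

set_option autoImplicit false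

namespace Cfsg.Agent.BabyU.SetupB

open Cfsg.Lie Cfsg.Agent.BabyU.Lab Cfsg.Agent.BabyU.RootCfg Cfsg.Agent.BabyU.Clos
open Cfsg.Agent.TwoESix Cfsg.Agent.TwoESix.Cox10 Cfsg.Agent.TwoESix.Lift Cfsg.Agent.TwoESix.Cover
open Cfsg.Agent.BabyU.Ident

universe u

variable {K : Type} [Field K] [Fintype K]

section

variable {hF : Fintype.card K = 2 ^ 2} (F : Lit.Facts2E6 K hF)
include F

variable {G : Type u} [Group G] {t : G} {M : Subgroup G} {π : M →* twistedE6 K 2}

/-- **Fusion**: `FusW` from one conjugate of `t` of root type. -/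
theorem fusW [Finite G] [IsSimpleGroup G] (S : Setup t M π)
    (hfuse : ∃ m : M, π m ∈ rootClass K ∧ ∃ g : G, g * t * g⁻¹ = m) : FusW t M π (rootClass K) := by
  have := F.fin
  have B := ExtTwisted.basic K hF
  obtain ⟨e, he, hgen, heT⟩ := Lit.exists_good hF
  obtain ⟨hperf, hchain⟩ := Chain.perf_chain S F.roots B.ord he hgen F.card heT
  obtain ⟨R, S', b, a, c, hflag⟩ := F.flag
  have H : FusGood.Hyp t M π (rootClass K) R S' b a c :=
    { set := S, roots := F.roots, flag := hflag, perf := hperf b hflag.b_mem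
      out := fun h hh m m' e hm => ExtTwisted.setup_inv B S h hh m m' e hm
      fuse := hfuse, chain := hchain }
  obtain ⟨h1, h2, h3⟩ := H.fusW
  refine ⟨h1, h2, ?_⟩
  intro x y hx hy hxy hc hyc g hg
  obtain ⟨h, hh⟩ := h3 x y hx hy hxy (Subtype.ext hc) hyc g hg.symm
  exact ⟨⟨g⁻¹ * y * g, h⟩, rfl, hh⟩

/-- **Recognition** from one conjugate of `t` of root type. -/
theorem isoB_of_fuse (cent : CentralizerSt) {Γ : Type} [Group Γ] (model : Lit.ModelB Γ)
    [Finite G] [IsSimpleGroup G] (S : Setup t M π)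
    (hfuse : ∃ m : M, π m ∈ rootClass K ∧ ∃ g : G, g * t * g⁻¹ = m) : Cfsg.Spor.IsoB G := by
  classical
  have hK : Fintype.card K = 4 := hF
  have := F.fin
  have W := fusW F S hfuse
  have p1 := Perf1.perf1 hK S
  have p2 := PerfTwo.perf2 S (LeviG.rootFacts hK hK) W
  have HH : Ident.Hyp hF t M π (rootClass K) := ⟨S, F.root, W, p1, p2⟩
  obtain ⟨e, he, hgen, heT⟩ := Lit.exists_good hF
  obtain ⟨m, hz, hmT⟩ := Chain.exists_lifts S he hgen F.card heT
  have rt := Lit.u1 F HH (TriLifts.keyE S F.roots F.root (LitE6.extra K hF hF) hz hmT)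
  obtain ⟨φ, hMφ, g, hg⟩ := Lit.exists_hom F S W p1 p2
  obtain ⟨hsimp, hfin, hcard⟩ := cent
  -- `φ` is injective
  have hinj : Function.Injective φ := by
    rw [← MonoidHom.ker_eq_bot_iff]
    rcases hsimp.eq_bot_or_eq_top_of_normal φ.ker inferInstance with h | h
    · exact h
    · exfalso
      have : φ (PresentedGroup.of .t1) = 1 := by
        have h1 : (PresentedGroup.of .t1 : Spor.BabyMonster) ∈ φ.ker := by rw [h]; trivial
        exact h1
      rw [this] at hg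
      have h2 : t = 1 := by
        have h3 : g⁻¹ * 1 * g = t := by rw [hg]; group
        rw [← h3]; group
      exact S.ne h2
  have hcent := Lit.cent_le hcard hK S hinj hg
  -- the model
  obtain ⟨f, P, M₁, z, τ, τ₁, I, ⟨γ, hγ⟩, ⟨κ, hκ, hκM⟩⟩ := model.iso
  set ψ : Γ →* G := φ.comp f.symm.toMonoidHom with hψ
  have hψinj : Function.Injective ψ := hinj.comp f.symm.injective
  have hrange : (⊤ : Subgroup Γ).map ψ = φ.range := by
    rw [← MonoidHom.range_eq_map]
    ext x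
    constructor
    · rintro ⟨y, rfl⟩
      exact ⟨f.symm y, rfl⟩
    · rintro ⟨y, rfl⟩
      exact ⟨f y, by show φ (f.symm (f y)) = φ y; rw [f.symm_apply_apply]⟩
  have I' := Inner.map I ψ hψinj
  have hx : ψ (γ * τ * γ⁻¹) = φ (PresentedGroup.of .t1) := by
    rw [← hγ]
    show φ (f.symm (f _)) = _
    rw [f.symm_apply_apply]
  have hτ : ((ψ γ)⁻¹ * g) * t * ((ψ γ)⁻¹ * g)⁻¹ = ψ τ := by
    have h1 : ψ γ * ψ τ * (ψ γ)⁻¹ = g * t * g⁻¹ := by
      rw [← hg, ← hx, map_mul, map_mul, map_inv]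
    calc ((ψ γ)⁻¹ * g) * t * ((ψ γ)⁻¹ * g)⁻¹ = (ψ γ)⁻¹ * (g * t * g⁻¹) * ψ γ := by group
      _ = ψ τ := by rw [← h1]; group
  have hψr : ∀ y : Γ, ψ y ∈ φ.range := fun y => ⟨f.symm y, rfl⟩
  have hc : ∀ x : G, x * ψ τ = ψ τ * x → x ∈ (⊤ : Subgroup Γ).map ψ := by
    intro x hx'
    rw [hrange]
    have h1 : ψ τ = (ψ γ)⁻¹ * φ (PresentedGroup.of .t1) * ψ γ := by
      rw [← hx, map_mul, map_mul, map_inv]; group
    have h2 := hcent (ψ γ * x * (ψ γ)⁻¹) (by
      have h3 : φ (PresentedGroup.of .t1) = ψ γ * ψ τ * (ψ γ)⁻¹ := by rw [h1]; group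
      rw [h3]
      calc ψ γ * x * (ψ γ)⁻¹ * (ψ γ * ψ τ * (ψ γ)⁻¹) = ψ γ * (x * ψ τ) * (ψ γ)⁻¹ := by group
        _ = ψ γ * (ψ τ * x) * (ψ γ)⁻¹ := by rw [hx']
        _ = ψ γ * ψ τ * (ψ γ)⁻¹ * (ψ γ * x * (ψ γ)⁻¹) := by group)
    have h4 := φ.range.mul_mem (φ.range.mul_mem (φ.range.inv_mem (hψr γ)) h2) (hψr γ)
    have e : (ψ γ)⁻¹ * (ψ γ * x * (ψ γ)⁻¹) * ψ γ = x := by group
    rwa [e] at h4
  have hprop : ∃ x : G, x * ψ τ = ψ τ * x ∧ x ∉ M₁.map ψ := by
    refine ⟨ψ κ, by rw [← map_mul, hκ, map_mul], ?_⟩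
    rintro ⟨y, hy, hyκ⟩
    exact hκM (hψinj hyκ ▸ hy)
  have := F.simple
  have hE : ∃ a b : twistedE6 K 2, a * b ≠ b * a := by
    obtain ⟨a, b, h⟩ := FusFinal.exists_not_commute F.roots
    exact ⟨a, b, h⟩
  have hperf := ClosGlue.perfect_setup S hE
  have htop := ClosGlue.eq_top S hperf W.xor F.root.one rt I' hτ hc hprop
  rw [hrange] at htop
  exact ⟨(MulEquiv.ofBijective φ ⟨hinj, MonoidHom.range_eq_top.1 htop⟩).symm⟩

/-- The first fusion if `C_G(t) = M`. -/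
theorem fuse_one [Finite G] [IsSimpleGroup G] (S : Setup t M π) (hone : ∀ g, g * t = t * g → g ∈ M) :
    ∃ m : M, π m ∈ rootClass K ∧ ∃ g : G, g * t * g⁻¹ = m := by
  have := F.fin
  have hK : Fintype.card K = 4 := hF
  obtain ⟨e, he, hgen, heT⟩ := Lit.exists_good hF
  obtain ⟨m, hz, hmT⟩ := Chain.exists_lifts S he hgen F.card heT
  have tc : ∀ p q r p' q' r' : twistedE6 K 2, Key.Tri (rootClass K) p q r → Key.Tri (rootClass K) p' q' r' →
      ∃ g : twistedE6 K 2, g * p * g⁻¹ = p' ∧ g * q * g⁻¹ = q' ∧ g * r * g⁻¹ = r' := fun _ _ _ _ _ _ h h' =>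
    Key.tri_conj F.root (LitE6.extra K hF hF) h h'
  obtain ⟨r, r', h1, h2, h3, h4⟩ := HexadOne.exists_hexads S F.roots F.root tc hz hmT
  obtain ⟨a, ha, s, hs, b, hb, has, -, hab, hsb, hne, hn, hne', hn', -⟩ :=
    LineCfg.exists_line S.cover F.roots (LineCfg.exists_cfg hK)
  have hasb : a * s * b = b * (a * s) := by
    rw [mul_assoc, hsb, ← mul_assoc, hab, mul_assoc]
  have hex : ∃ g : G, g * t * g⁻¹ ≠ t ∧ (g * t * g⁻¹) * t = t * (g * t * g⁻¹) := by
    by_contra hcon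
    push Not at hcon
    obtain ⟨x, y, hxy⟩ := FusFinal.exists_not_commute F.roots
    obtain ⟨x, rfl⟩ := S.surj x
    obtain ⟨y, rfl⟩ := S.surj y
    refine Cfsg.Agent.J2Type.SimpleRed.not_isolated t ⟨?_, fun g hg => ?_⟩ ⟨x, y, fun h => hxy ?_⟩
    · exact orderOf_eq_prime (by rw [pow_two]; exact S.sq) S.ne
    · by_contra hg'
      exact hcon g hg' hg.symm.eq
    · have h8 : x * y = y * x := Subtype.ext h
      show π x * π y = π y * π x
      rw [← map_mul, h8, map_mul]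
  exact IsoOne.fuse_one S hone F.roots (TriLifts.keyE S F.roots F.root (LitE6.extra K hF hF) hz hmT)
    tc h1 h2 h3 h4 ha hs has
    ⟨ha, hb, hne, hab, hn⟩ ⟨has, hb, hne', hasb, hn'⟩ hex

/-- **The Baby Monster from a `Setup`**, index one or two. -/
theorem isoB (cent : CentralizerSt) {Γ : Type} [Group Γ] (model : Lit.ModelB Γ) [Finite G] [IsSimpleGroup G]
    (S : Setup t M π) : Cfsg.Spor.IsoB G := by
  have := F.fin
  have hK : Fintype.card K = 4 := hF
  refine isoB_of_fuse F cent model S ?_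
  by_cases hidx : ∃ g : G, g * t = t * g ∧ g ∉ M
  · have B := ExtTwisted.basic K hF
    exact FusFinal.fuse hF S F.card F.out F.roots (fun g hg x hx => ExtTwisted.setup_inv B S g hg x _ rfl hx) hidx
  · push Not at hidx
    exact fuse_one F S hidx

end

end Cfsg.Agent.BabyU.SetupB
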