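import Cfsg.Agent.BabyU.SetupB
import Cfsg.Agent.BabyU.SetupOf

/-!
# The Baby Monster from a standard double cover of `²E₆(2)` which contains its centraliser

`isoB_of_standard` : `G` finite simple, `L` standard in `G`, `|Z(L)| = 2`, `L / Z(L)` isomorphic to `²E₆(2)` and
`C_G(L) ≤ L`; then `G` is the Baby Monster. Inputs: the order of the presented group `HB`, the centraliser and the model.
-/

set_option autoImplicit false

namespace Cfsg.Agent.BabyU.SetupFin

open Cfsg Cfsg.Lie Cfsg.Agent.BabyU.Lab Cfsg.Agent.BabyU.RootCfg Cfsg.Agent.BabyU.Clos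
open Cfsg.Agent.TwoESix Cfsg.Agent.TwoESix.Cox10 Cfsg.Agent.TwoESix.Lift Cfsg.Agent.TwoESix.Cover
open Cfsg.Agent.BabyU.Ident

universe u v

/-- **The Baby Monster from a standard double cover of `²E₆(2)`** which contains its centraliser. -/
theorem isoB_of_standard [Finite HB] (card : ∀ (K : Type) [Field K] [Fintype K], Fintype.card K = 4 →
      Nat.card HB ≤ Nat.card (twistedE6 K 2))
    (cent : CentralizerSt) {Γ : Type} [Group Γ] (model : Lit.ModelB Γ)
    {G : Type u} [Group G] [Finite G] [IsSimpleGroup G] (L : Subgroup G) (hL : IsStandardSubgroup L)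
    {K : Type v} [Field K] [Fintype K] (hK : Fintype.card K = 4) (h2 : Nat.card ↥(Subgroup.center ↥L) = 2)
    (hLX : Nonempty (↥L ⧸ Subgroup.center ↥L ≃* ↥(twistedE6 K 2)))
    (hC : ∀ g : G, (∀ m ∈ L, g * m = m * g) → g ∈ L) : Cfsg.Spor.IsoB G := by
  obtain ⟨K', _, _, hK', t, π, S⟩ := SetupOf.exists_setup card
    (fun K _ _ hK => FusFinal.exists_not_commute (RootsInst.roots K hK)) L hL hK h2 hLX hC
  exact SetupB.isoB (LitE6.facts card (fun K _ _ hK => FlagInst.exists_flag K hK) K' hK') cent model S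

end Cfsg.Agent.BabyU.SetupFin
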