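import Cfsg.Agent.BabyU.SetupFin
import Cfsg.Agent.BabyU.ModelInst
import Cfsg.Agent.BabyU.CentT1Model
import Cfsg.Agent.BM.HBFinal

/-!
# The Baby Monster from a standard double cover of `²E₆(2)` which contains its centraliser: all inputs plugged in
-/

set_option autoImplicit false

namespace Cfsg.Agent.BabyU.SetupFinal

open Cfsg Cfsg.Lie

universe u v

/-- **The Baby Monster from a standard double cover of `²E₆(2)`** which contains its centraliser. -/
theorem isoB {G : Type u} [Group G] [Finite G] [IsSimpleGroup G] (L : Subgroup G) (hL : IsStandardSubgroup L)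
    {K : Type v} [Field K] [Fintype K] (hK : Fintype.card K = 4) (h2 : Nat.card ↥(Subgroup.center ↥L) = 2)
    (hLX : Nonempty (↥L ⧸ Subgroup.center ↥L ≃* ↥(twistedE6 K 2)))
    (hC : ∀ g : G, (∀ m ∈ L, g * m = m * g) → g ∈ L) : Cfsg.Spor.IsoB G := by
  have := Cfsg.Agent.BM.HBFinal.finite_HB
  exact SetupFin.isoB_of_standard (fun K _ _ hK => Cfsg.Agent.BM.HBFinal.hcard K hK)
    (Cfsg.Agent.BabyU.CentT1.of_stageW Cfsg.Agent.BabyM.Instance.all Cfsg.Agent.BabyM.Instance.tr
      Cfsg.Agent.BabyM.Instance.ok Cfsg.Agent.BM.KHAll.isB Cfsg.Agent.BM.KHAll.surj)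
    Cfsg.Agent.BabyU.ModelInst.model L hL hK h2 hLX hC

end Cfsg.Agent.BabyU.SetupFinal
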