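import Cfsg.Agent.BabyU.Local

/-!
# U-B: symmetry of the relation "good lift of a root involution"
-/

set_option autoImplicit false
set_option linter.unusedSectionVars false

namespace Cfsg.Agent.BabyU.Ident

open Cfsg Cfsg.Agent.R01.Lifts Cfsg.Agent.BabyU.RootCfg Cfsg.Agent.R01.PSUSix
open Cfsg.Agent.LieClassical.HermBasic
open Cfsg.Agent.ClassicalGeometry.UnitAutBasic (tau)
open Cfsg.Agent.SporadicStructure.UnitTwo (two_eq_zero add_self exists_omega pow_three)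
open scoped commutatorElement

universe u v w

variable {G : Type u} [Group G] {E : Type v} [Group E] {F : Type w} [Field F] [Fintype F]
variable {hF : Fintype.card F = 2 ^ 2} {t : G} {M : Subgroup G} {π : M →* E} {R : Set E}

/-- Every root involution has an opposite one. -/
theorem _root_.Cfsg.Agent.BabyU.RootCfg.RootFacts.exists_opp (hR : RootFacts hF R) {r : E} (hr : r ∈ R) :
    ∃ s ∈ R, Opp r s := by
  obtain ⟨a, ha, b, hb, h⟩ := hR.opp
  obtain ⟨g, rfl⟩ := hR.one a ha r hr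
  exact ⟨g * b * g⁻¹, hR.conj b hb g, h.conj g⟩

/-- Two vectors spanning a totally isotropic line. -/
theorem exists_orth (hF : Fintype.card F = 2 ^ 2) : ∃ v w : Fin 6 → F, v ≠ 0 ∧ w ≠ 0 ∧ hermForm 6 F 2 v v = 0 ∧
    hermForm 6 F 2 w w = 0 ∧ hermForm 6 F 2 v w = 0 ∧ ∀ c : F, w ≠ c • v := by
  have h2 := two_eq_zero hF
  refine ⟨![1, 1, 0, 0, 0, 0], ![0, 0, 1, 1, 0, 0], ?_, ?_, ?_, ?_, ?_, ?_⟩
  · intro h; have := congrFun h 0; simp at this
  · intro h; have := congrFun h 2; simp at this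
  · rw [herm_def]; simp [Fin.sum_univ_succ]; linear_combination h2
  · rw [herm_def]; simp [Fin.sum_univ_succ]; linear_combination h2
  · rw [herm_def]; simp [Fin.sum_univ_succ]
  · intro c h; have := congrFun h 2; simp at this

/-- Two different commuting root involutions commuting with a given opposite pair. -/
theorem _root_.Cfsg.Agent.BabyU.RootCfg.RootFacts.exists_pair (hR : RootFacts hF R) {r s : E} (hr : r ∈ R)
    (hs : s ∈ R) (h : Opp r s) : ∃ a ∈ R, ∃ b ∈ R, a ≠ b ∧ a * b = b * a ∧ a * r = r * a ∧ a * s = s * a ∧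
      b * r = r * b ∧ b * s = s * b := by
  obtain ⟨ψ, C⟩ := hR.chart r hr
  obtain ⟨v, w, v0, w0, vv, ww, vw, hne⟩ := exists_orth hF
  obtain ⟨a, ha, has, hav⟩ := C.exists_root hs h v0 vv
  obtain ⟨b, hb, hbs, hbw⟩ := C.exists_root hs h w0 ww
  refine ⟨a, ha, b, hb, ?_, (C.comm_iff hs h hav hbw has hbs).2 vw, mem_cent.1 hav.2.2.1, has,
    mem_cent.1 hbw.2.2.1, hbs⟩
  rintro rfl
  obtain ⟨-, -, m, e⟩ := hav
  obtain ⟨-, -, m', e'⟩ := hbw
  have h1 : tau hF v = tau hF w := by rw [← e, ← e']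
  obtain ⟨c, -, hc⟩ := (tau_eq_iff hF (by norm_num) vv ww v0).1 h1
  exact hne c hc

namespace Hyp

theorem star' (H : Hyp hF t M π R) {x y : G} (hx : Rel t M π R t x) (hy : Rel t M π R t y) (hne : x ≠ y)
    (hc : x * y = y * x) : Rel t M π R x y := by
  obtain ⟨⟨mx, rx⟩, g, hg⟩ := H.rel_base.1 hx
  obtain ⟨⟨my, ry⟩, hD⟩ := H.rel_base.1 hy
  obtain ⟨m, hm, hmR⟩ := H.W.star ⟨x, mx⟩ ⟨y, my⟩ rx ry (fun h => hne (congrArg Subtype.val h)) hc hD g hg
  refine ⟨g, hg.symm, ?_, hD⟩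
  have h1 : g⁻¹ * y * g ∈ M := by
    have : (m : G) = g⁻¹ * y * g := hm
    rw [← this]; exact m.2
  refine ⟨h1, ?_⟩
  have : (⟨g⁻¹ * y * g, h1⟩ : M) = m := Subtype.ext hm.symm
  rw [this]; exact hmR

/-- a pair of commuting good lifts, each good for the other one -/
theorem exists_sym (H : Hyp hF t M π R) : ∃ x y : G, Rel t M π R x y ∧ Rel t M π R y x := by
  obtain ⟨r, hr, s, hs, h⟩ := H.RF.opp
  obtain ⟨a, ha, b, hb, hne, hab, -⟩ := H.RF.exists_pair hr hs h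
  obtain ⟨x, ex, cx⟩ := H.exists_good ha
  obtain ⟨y, ey, cy⟩ := H.exists_good hb
  have hxy : (x : G) * y = y * x :=
    H.comm_of (by rw [ey]; exact hb) cy (by rw [ex, ey]; exact hab)
  have rx : Rel t M π R t x := H.rel_base.2 ⟨⟨x.2, by rw [Subtype.coe_eta, ex]; exact ha⟩, cx⟩
  have ry : Rel t M π R t y := H.rel_base.2 ⟨⟨y.2, by rw [Subtype.coe_eta, ey]; exact hb⟩, cy⟩
  have hn : (x : G) ≠ y := fun e => hne (by rw [← ex, ← ey, Subtype.ext e])
  exact ⟨x, y, H.star' rx ry hn hxy, H.star' ry rx hn.symm hxy.symm⟩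

/-- transitivity on the pairs in the relation -/
theorem trans (H : Hyp hF t M π R) {x y : G} (hx : Rel t M π R t x) (hy : Rel t M π R t y) :
    ∃ m : M, (m : G) * x * (m : G)⁻¹ = y := by
  obtain ⟨⟨mx, rx⟩, cx⟩ := H.rel_base.1 hx
  obtain ⟨⟨my, ry⟩, cy⟩ := H.rel_base.1 hy
  obtain ⟨g, hg⟩ := H.RF.one _ rx _ ry
  obtain ⟨m, rfl⟩ := H.S.surj g
  refine ⟨m, ?_⟩
  have h1 : π (m * ⟨x, mx⟩ * m⁻¹) = π ⟨y, my⟩ := by rw [map_mul, map_mul, map_inv, hg]
  refine H.eq_of_map (x := m * ⟨x, mx⟩ * m⁻¹) (y := ⟨y, my⟩) (by rw [h1]; exact ry) ?_ cy h1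
  obtain ⟨k, hk⟩ := cx
  refine ⟨m * k, ?_⟩
  show (m : G) * k * t * ((m : G) * k)⁻¹ = m * x * (m : G)⁻¹
  rw [← hk]; group

theorem symm_base (H : Hyp hF t M π R) {c : G} (hc : Rel t M π R t c) : Rel t M π R c t := by
  obtain ⟨x, y, hxy, hyx⟩ := H.exists_sym
  obtain ⟨g, hg, -⟩ := id hxy
  have h1 := hxy.equiv g⁻¹
  have h2 := hyx.equiv g⁻¹
  have e : g⁻¹ * x * g⁻¹⁻¹ = t := by rw [hg]; group
  rw [e] at h1 h2
  obtain ⟨m, hm⟩ := H.trans h1 hc
  have h3 := h2.equiv m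
  rw [hm] at h3
  have e2 : (m : G) * t * (m : G)⁻¹ = t := by rw [H.S.comm m m.2]; group
  rwa [e2] at h3

theorem symm (H : Hyp hF t M π R) {a b : G} (h : Rel t M π R a b) : Rel t M π R b a := by
  obtain ⟨g, hg, -⟩ := id h
  have h1 := h.equiv g⁻¹
  have e : g⁻¹ * a * g⁻¹⁻¹ = t := by rw [hg]; group
  rw [e] at h1
  have h2 := (H.symm_base h1).equiv g
  have e1 : g * (g⁻¹ * b * g⁻¹⁻¹) * g⁻¹ = b := by group
  rw [e1, ← hg] at h2
  exact h2

theorem conjL (_H : Hyp hF t M π R) {a b : G} (h : Rel t M π R a b) : ∃ g : G, g * t * g⁻¹ = a := by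
  obtain ⟨g, hg, -⟩ := h
  exact ⟨g, hg.symm⟩

theorem conjR (_H : Hyp hF t M π R) {a b : G} (h : Rel t M π R a b) : ∃ g : G, g * t * g⁻¹ = b := by
  obtain ⟨g, -, -, h⟩ := h
  exact h

theorem star (H : Hyp hF t M π R) {c x y : G} (hx : Rel t M π R c x) (hy : Rel t M π R c y) (hne : x ≠ y)
    (hc : x * y = y * x) : Rel t M π R x y := by
  obtain ⟨N, ρ, H', h1, -, -⟩ := H.at (H.conjL hx)
  rw [← h1]
  exact H'.star' ((h1 _ _).2 hx) ((h1 _ _).2 hy) hne hc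

theorem nn_of_rel (_H : Hyp hF t M π R) {a b : G} (h : Rel t M π R a b) : NN t M a b := by
  obtain ⟨g, hg, ⟨h1, -⟩, -⟩ := h
  exact ⟨g, hg, h1⟩

theorem rel_comm (H : Hyp hF t M π R) {a b : G} (h : Rel t M π R a b) : a * b = b * a := by
  obtain ⟨g, hg, ⟨h1, -⟩, -⟩ := h
  have h2 := H.S.comm _ h1
  rw [hg]
  calc g * t * g⁻¹ * b = g * (t * (g⁻¹ * b * g)) * g⁻¹ := by group
    _ = g * (g⁻¹ * b * g * t) * g⁻¹ := by rw [h2]
    _ = b * (g * t * g⁻¹) := by group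

theorem rel_ne (H : Hyp hF t M π R) {a b : G} (h : Rel t M π R a b) : a ≠ b := by
  rintro rfl
  obtain ⟨g, hg, ⟨h1, h2⟩, -⟩ := h
  have e : g⁻¹ * a * g = t := by rw [hg]; group
  have h3 : (⟨g⁻¹ * a * g, h1⟩ : M) = H.S.z := Subtype.ext e
  rw [h3, H.S.ext.mapz] at h2
  exact H.RF.ne 1 h2 rfl

theorem nn_comm (H : Hyp hF t M π R) {a b : G} (h : NN t M a b) : a * b = b * a := by
  obtain ⟨g, hg, h1⟩ := h
  have h2 := H.S.comm _ h1
  rw [hg]
  calc g * t * g⁻¹ * b = g * (t * (g⁻¹ * b * g)) * g⁻¹ := by group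
    _ = g * (g⁻¹ * b * g * t) * g⁻¹ := by rw [h2]
    _ = b * (g * t * g⁻¹) := by group

/-- Commutators of elements of the centraliser are in `M`. -/
theorem comm_mem (H : Hyp hF t M π R) {g h : G} (hg : g * t = t * g) (hh : h * t = t * h) : ⁅g, h⁆ ∈ M := by
  have ginv : g⁻¹ * t = t * g⁻¹ := by
    calc g⁻¹ * t = g⁻¹ * (t * g) * g⁻¹ := by group
      _ = g⁻¹ * (g * t) * g⁻¹ := by rw [hg]
      _ = t * g⁻¹ := by group
  have hinv : h⁻¹ * t = t * h⁻¹ := by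
    calc h⁻¹ * t = h⁻¹ * (t * h) * h⁻¹ := by group
      _ = h⁻¹ * (h * t) * h⁻¹ := by rw [hh]
      _ = t * h⁻¹ := by group
  rw [commutatorElement_def]
  by_cases mg : g ∈ M
  · have h1 := H.S.norm h hh _ (M.inv_mem mg)
    have : g * h * g⁻¹ * h⁻¹ = g * (h * g⁻¹ * h⁻¹) := by group
    rw [this]; exact M.mul_mem mg h1
  · by_cases mh : h ∈ M
    · have h1 := H.S.norm g hg _ mh
      exact M.mul_mem h1 (M.inv_mem mh)
    · have h1 : g * h ∈ M := H.S.index g h hg hh mg mh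
      have h2 : g⁻¹ * h⁻¹ ∈ M := H.S.index _ _ ginv hinv (fun h => mg (by simpa using M.inv_mem h))
        (fun h' => mh (by simpa using M.inv_mem h'))
      have : g * h * g⁻¹ * h⁻¹ = g * h * (g⁻¹ * h⁻¹) := by group
      rw [this]; exact M.mul_mem h1 h2

/-- The centraliser in `M` of a good lift `c` lies in the conjugate of `M` belonging to `c`. -/
theorem cent_base (H : Hyp hF t M π R) {c g : G} (hc : Rel t M π R t c) (hg : g ∈ M) (hgc : g * c = c * g) :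
    NN t M c g := by
  obtain ⟨⟨mc, rc⟩, cc⟩ := H.rel_base.1 hc
  -- the base point `c`
  obtain ⟨N, ρ, H', h1, h2, h3⟩ := H.at cc
  rw [← h2, H'.nn_base]
  -- the preimage of the centraliser
  set P := (Subgroup.centralizer ({π ⟨c, mc⟩} : Set E)).comap π with hP
  have hPc : ∀ m ∈ P, (m : G) * c = c * m := by
    intro m hm
    exact H.comm_of (x := ⟨c, mc⟩) rc cc (mem_cent.1 hm)
  have hperf := H.perf1 _ rc
  rw [← hP] at hperf
  have hle : P ≤ N.comap M.subtype := by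
    rw [← hperf, Subgroup.commutator_le]
    intro x hx y hy
    show (⁅x, y⁆ : M).1 ∈ N
    have : ((⁅x, y⁆ : M) : G) = ⁅(x : G), (y : G)⁆ := rfl
    rw [this]
    exact H'.comm_mem (hPc x hx) (hPc y hy)
  have hgP : (⟨g, hg⟩ : M) ∈ P := by
    show π ⟨g, hg⟩ ∈ Subgroup.centralizer ({π ⟨c, mc⟩} : Set E)
    rw [mem_cent, ← map_mul, ← map_mul]
    congr 1
    exact Subtype.ext hgc
  exact hle hgP

theorem cent (H : Hyp hF t M π R) {a c g : G} (hc : Rel t M π R a c) (hg : NN t M a g) (hgc : g * c = c * g) :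
    NN t M c g := by
  obtain ⟨N, ρ, H', h1, h2, -⟩ := H.at (H.conjL hc)
  rw [← h2]
  exact H'.cent_base ((h1 _ _).2 hc) (H'.nn_base.1 ((h2 _ _).2 hg)) hgc

end Hyp

end Cfsg.Agent.BabyU.Ident
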