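import Cfsg.Agent.BabyU.Symm
import Cfsg.Agent.BabyU.FiNodes

/-!
# U-B: the subgroup `Y` of type `Fi22`

`a`, `b` opposite good lifts of root involutions with respect to `t`.  The centraliser in the conjugate of `M`
belonging to `a` of the element `b` is a group of type `Fi22`.
-/

set_option autoImplicit false
set_option linter.unusedSectionVars false

namespace Cfsg.Agent.BabyU.Ident

open Cfsg Cfsg.Agent.R01.Lifts Cfsg.Agent.BabyU.RootCfg Cfsg.Agent.R01.PSUSix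
open Cfsg.Agent.LieClassical.HermBasic
open Cfsg.Agent.ClassicalGeometry.UnitAutBasic (tau)
open Cfsg.Agent.BabyU.FiNodes
open Cfsg.Agent.R01.Start (zel)
open scoped commutatorElement

universe u v w

variable {G : Type u} [Group G] {E : Type v} [Group E] {F : Type w} [Field F] [Fintype F]
variable {hF : Fintype.card F = 2 ^ 2} {t : G} {M : Subgroup G} {π : M →* E} {R : Set E}

/-- The centraliser in `M` of `a` and `b`. -/
def UU (M : Subgroup G) (a b : G) : Subgroup G :=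
  M ⊓ Subgroup.centralizer ({a} : Set G) ⊓ Subgroup.centralizer ({b} : Set G)

theorem mem_UU {a b g : G} : g ∈ UU M a b ↔ g ∈ M ∧ g * a = a * g ∧ g * b = b * g := by
  rw [UU, Subgroup.mem_inf, Subgroup.mem_inf, Subgroup.mem_centralizer_singleton_iff,
    Subgroup.mem_centralizer_singleton_iff, and_assoc]

theorem comm_top_of_perf {A : Type*} [Group A] {U : Subgroup A} (h : ⁅U, U⁆ = U) : commutator U = ⊤ := by
  apply Subgroup.map_injective U.subtype_injective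
  rw [Subgroup.map_subtype_commutator, h, ← MonoidHom.range_eq_map, Subgroup.range_subtype]

namespace Hyp

theorem opp_base (H : Hyp hF t M π R) {a b : G} (ha : Rel t M π R t a) (hb : Rel t M π R t b) (hab : Opp a b)
    (ma : a ∈ M) (mb : b ∈ M) : Opp (π ⟨a, ma⟩) (π ⟨b, mb⟩) := by
  obtain ⟨⟨_, ra⟩, ca⟩ := H.rel_base.1 ha
  obtain ⟨⟨_, rb⟩, cb⟩ := H.rel_base.1 hb
  exact (H.opp_iff (x := ⟨a, ma⟩) (y := ⟨b, mb⟩) ra rb ca cb).2 hab

theorem rel_sq (H : Hyp hF t M π R) {a b : G} (h : Rel t M π R a b) : b * b = 1 := H.tt (H.conjR h)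

/-- The chart of `UU M a b`. -/
theorem exists_chart (H : Hyp hF t M π R) {a b : G} (ha : Rel t M π R t a) (hb : Rel t M π R t b)
    (hab : Opp a b) (ht : t ∈ UU M a b) : ∃ θ : UU M a b →* PSU 6 F 2, Ext θ ⟨t, ht⟩ ∧
      commutator (UU M a b) = ⊤ ∧ (∀ g : UU M a b, Rel t M π R t g → θ g ∈ TT hF 6) ∧
      ∀ u ∈ TT hF 6, ∃ g : UU M a b, θ g = u ∧ Rel t M π R t g := by
  obtain ⟨⟨ma, ra⟩, ca⟩ := H.rel_base.1 ha
  obtain ⟨⟨mb, rb⟩, cb⟩ := H.rel_base.1 hb
  have ho : Opp (π ⟨a, ma⟩) (π ⟨b, mb⟩) := H.opp_base ha hb hab ma mb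
  obtain ⟨ψ, C⟩ := H.RF.chart _ ra
  have hle : UU M a b ≤ M := fun g hg => (mem_UU.1 hg).1
  let f : UU M a b →* E := π.comp (Subgroup.inclusion hle)
  have hf : ∀ g : UU M a b, f g ∈ Subgroup.centralizer ({π ⟨a, ma⟩} : Set E) := by
    intro g
    rw [mem_cent]
    show π ⟨g, hle g.2⟩ * π ⟨a, ma⟩ = π ⟨a, ma⟩ * π ⟨g, hle g.2⟩
    rw [← map_mul, ← map_mul]
    congr 1
    exact Subtype.ext (mem_UU.1 g.2).2.1
  have hfb : ∀ g : UU M a b, f g * π ⟨b, mb⟩ = π ⟨b, mb⟩ * f g := by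
    intro g
    show π ⟨g, hle g.2⟩ * π ⟨b, mb⟩ = π ⟨b, mb⟩ * π ⟨g, hle g.2⟩
    rw [← map_mul, ← map_mul]
    congr 1
    exact Subtype.ext (mem_UU.1 g.2).2.2
  let f' : UU M a b →* Subgroup.centralizer ({π ⟨a, ma⟩} : Set E) := f.codRestrict _ hf
  let θ : UU M a b →* PSU 6 F 2 := ψ.comp f'
  -- elements of `M` whose image commutes with both root involutions
  have hback : ∀ m : M, π m * π ⟨a, ma⟩ = π ⟨a, ma⟩ * π m → π m * π ⟨b, mb⟩ = π ⟨b, mb⟩ * π m →
      (m : G) ∈ UU M a b := by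
    intro m h1 h2
    exact mem_UU.2 ⟨m.2, H.comm_of (x := ⟨a, ma⟩) ra ca h1, H.comm_of (x := ⟨b, mb⟩) rb cb h2⟩
  refine ⟨θ, ⟨?_, ?_, ?_, ?_, ?_⟩, ?_, ?_, ?_⟩
  · intro u
    obtain ⟨x, hx, hu⟩ := C.surj _ rb ho u
    obtain ⟨m, hm⟩ := H.S.surj (x : E)
    have hmU := hback m (by rw [hm]; exact mem_cent.1 x.2) (by rw [hm]; exact hx)
    refine ⟨⟨m, hmU⟩, ?_⟩
    rw [← hu]
    show ψ _ = ψ x
    congr 1
    exact Subtype.ext hm
  · exact Subtype.ext H.S.sq
  · exact fun h => H.S.ne (congrArg Subtype.val h)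
  · intro g
    constructor
    · intro h
      have h1 := C.inj _ rb ho (f' g) (hfb g) h
      have h2 : f g = 1 := congrArg Subtype.val h1
      rcases (H.S.ker _).1 h2 with h3 | h3
      · left; exact Subtype.ext h3
      · right; exact Subtype.ext h3
    · intro h
      have h2 : f g = 1 := by
        apply (H.S.ker _).2
        rcases h with h | h
        · left; rw [h]; rfl
        · right; rw [h]; rfl
      have h3 : f' g = 1 := Subtype.ext h2
      show ψ (f' g) = 1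
      rw [h3, map_one]
  · intro g
    exact Subtype.ext (H.S.comm _ (hle g.2))
  · apply comm_top_of_perf
    have h1 := H.perf2 _ ra _ rb ho
    have h2 : UU M a b = ((Subgroup.centralizer ({π ⟨a, ma⟩, π ⟨b, mb⟩} : Set E)).comap π).map M.subtype := by
      ext g
      constructor
      · intro hg
        refine ⟨⟨g, hle hg⟩, ?_, rfl⟩
        show π _ ∈ Subgroup.centralizer _
        rw [Subgroup.mem_centralizer_iff]
        rintro x (rfl | rfl)
        · exact (mem_cent.1 (hf ⟨g, hg⟩)).symm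
        · exact (hfb ⟨g, hg⟩).symm
      · rintro ⟨m, hm, rfl⟩
        have hm' : π m ∈ Subgroup.centralizer ({π ⟨a, ma⟩, π ⟨b, mb⟩} : Set E) := hm
        rw [Subgroup.mem_centralizer_iff] at hm'
        exact hback m (hm' _ (Or.inl rfl)).symm (hm' _ (Or.inr rfl)).symm
    rw [h2, ← Subgroup.map_commutator, h1]
  · intro g hg
    obtain ⟨⟨mg, rg⟩, -⟩ := H.rel_base.1 hg
    rcases C.root (f' g) rg with h1 | h1
    · exfalso
      have h2 := C.inj _ rb ho (f' g) (hfb g) h1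
      have h3 : f g = 1 := congrArg Subtype.val h2
      exact H.RF.ne _ rg h3
    · exact h1
  · intro u hu
    obtain ⟨x, hx, rfl⟩ := C.surj _ rb ho u
    have hxR := C.back _ rb ho x hx hu
    obtain ⟨m, hm, cm⟩ := H.exists_good hxR
    have hmU := hback m (by rw [hm]; exact mem_cent.1 x.2) (by rw [hm]; exact hx)
    refine ⟨⟨m, hmU⟩, ?_, H.rel_base.2 ⟨⟨m.2, by rw [Subtype.coe_eta, hm]; exact hxR⟩, cm⟩⟩
    show ψ _ = ψ x
    congr 1
    exact Subtype.ext hm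

theorem mem_UU_base (H : Hyp hF t M π R) {a b : G} (ha : Rel t M π R t a) (hb : Rel t M π R t b) :
    t ∈ UU M a b := mem_UU.2 ⟨H.S.mem, H.rel_comm ha, H.rel_comm hb⟩

/-- The good lifts in `UU M a b` are conjugate. -/
theorem conj_UU (H : Hyp hF t M π R) {a b : G} (ha : Rel t M π R t a) (hb : Rel t M π R t b)
    (hab : Opp a b) {x y : G} (hx : x ∈ UU M a b) (hy : y ∈ UU M a b) (rx : Rel t M π R t x)
    (ry : Rel t M π R t y) : ∃ g ∈ UU M a b, g * x * g⁻¹ = y := by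
  obtain ⟨θ, hE, -, hT, -⟩ := H.exists_chart ha hb hab (H.mem_UU_base ha hb)
  have h1 := hT ⟨x, hx⟩ rx
  have h2 := hT ⟨y, hy⟩ ry
  obtain ⟨d, -, hd⟩ := (isThreeTranspositionClass_TT (F := F) hF (n := 6) (by norm_num)).2.1
  rw [hd] at h1 h2
  have h3 : IsConj (θ ⟨x, hx⟩) (θ ⟨y, hy⟩) := (show IsConj d _ from h1).symm.trans (show IsConj d _ from h2)
  obtain ⟨c, hc⟩ := isConj_iff.1 h3
  obtain ⟨g, rfl⟩ := hE.surj c
  refine ⟨g, g.2, ?_⟩
  have h4 : θ (g * ⟨x, hx⟩ * g⁻¹) = θ ⟨y, hy⟩ := by rw [map_mul, map_mul, map_inv, hc]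
  obtain ⟨⟨my, Ry⟩, cy⟩ := H.rel_base.1 ry
  obtain ⟨⟨mx, Rx⟩, cx⟩ := H.rel_base.1 rx
  rcases hE.map_eq.1 h4 with h5 | h5
  · exact congrArg Subtype.val h5
  · exfalso
    have h6 : (g : G) * x * (g : G)⁻¹ = y * t := congrArg Subtype.val h5
    have h7 := H.W.xor ⟨y, my⟩ Ry
    have h8 : t * y = (g : G) * x * (g : G)⁻¹ := by rw [h6]; exact (H.S.comm y my).symm
    have h9 : ∃ k : G, k * t * k⁻¹ = t * ((⟨y, my⟩ : M) : G) := by
      obtain ⟨k, hk⟩ := cx
      refine ⟨g * k, ?_⟩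
      show (g : G) * k * t * ((g : G) * k)⁻¹ = t * y
      rw [h8, ← hk]; group
    rcases h7 with ⟨-, h10⟩ | ⟨-, h10⟩
    · exact h10 h9
    · exact h10 cy

/-- Two different commuting good lifts commuting with `a` and `b`. -/
theorem exists_two (H : Hyp hF t M π R) {a b : G} (ha : Rel t M π R t a) (hb : Rel t M π R t b)
    (hab : Opp a b) : ∃ x ∈ UU M a b, ∃ y ∈ UU M a b, Rel t M π R t x ∧ Rel t M π R t y ∧ x ≠ y ∧
      x * y = y * x := by
  obtain ⟨θ, hE, -, hT, hB⟩ := H.exists_chart ha hb hab (H.mem_UU_base ha hb)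
  obtain ⟨v, w, v0, w0, vv, ww, vw, hne⟩ := exists_orth hF
  obtain ⟨x, hx, rx⟩ := hB _ (tau_mem hF v0 vv)
  obtain ⟨y, hy, ry⟩ := hB _ (tau_mem hF w0 ww)
  have hn : (x : G) ≠ y := by
    intro h
    have h1 : tau hF v = tau hF w := by rw [← hx, ← hy, Subtype.ext h]
    obtain ⟨c, -, hc⟩ := (tau_eq_iff hF (by norm_num) vv ww v0).1 h1
    exact hne c hc
  refine ⟨x, x.2, y, y.2, rx, ry, hn, ?_⟩
  have hc := (tau_commute_iff hF (by norm_num) vv ww v0).2 vw
  rw [← hx, ← hy] at hc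
  obtain ⟨⟨mx, Rx⟩, cx⟩ := H.rel_base.1 rx
  obtain ⟨⟨my, Ry⟩, cy⟩ := H.rel_base.1 ry
  -- `x y x⁻¹` is `y` or `y t`
  rcases hE.conj_of_commute hc with h5 | h5
  · have h6 : (x : G) * y * (x : G)⁻¹ = y := congrArg Subtype.val h5
    calc (x : G) * y = (x : G) * y * (x : G)⁻¹ * x := by group
      _ = y * x := by rw [h6]
  · exfalso
    have h6 : (x : G) * y * (x : G)⁻¹ = y * t := congrArg Subtype.val h5
    have h7 := H.W.xor ⟨y, my⟩ Ry
    have h8 : t * y = (x : G) * y * (x : G)⁻¹ := by rw [h6]; exact (H.S.comm y my).symm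
    have h9 : ∃ k : G, k * t * k⁻¹ = t * ((⟨y, my⟩ : M) : G) := by
      obtain ⟨k, hk⟩ := cy
      refine ⟨x * k, ?_⟩
      show (x : G) * k * t * ((x : G) * k)⁻¹ = t * y
      rw [h8, ← hk]; group
    rcases h7 with ⟨-, h10⟩ | ⟨-, h10⟩
    · exact h10 h9
    · exact h10 cy

end Hyp

theorem ext_equiv {A C U : Type*} [Group A] [Group C] [Group U] {θ : C →* U} {z : C} (h : Ext θ z)
    (ε : A ≃* C) {z' : A} (hz : ε z' = z) : Ext (θ.comp ε.toMonoidHom) z' where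
  surj := h.surj.comp ε.surjective
  zz := ε.injective (by rw [map_mul, hz, h.zz, map_one])
  zne := fun e => h.zne (by rw [← hz, e, map_one])
  ker := fun c => by
    show θ (ε c) = 1 ↔ _
    rw [h.ker]
    constructor
    · rintro (e | e)
      · left; exact ε.injective (by rw [e, map_one])
      · right; exact ε.injective (by rw [e, hz])
    · rintro (rfl | rfl)
      · left; exact map_one ε
      · right; exact hz
  comm := fun c => ε.injective (by rw [map_mul, map_mul, hz, h.comm])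

theorem perf_equiv {A C : Type*} [Group A] [Group C] (ε : A ≃* C) (h : commutator C = ⊤) :
    commutator A = ⊤ := by
  have h1 : (⊤ : Subgroup A) = (⊤ : Subgroup C).map ε.symm.toMonoidHom := by
    rw [← MonoidHom.range_eq_map, eq_comm, MonoidHom.range_eq_top]
    exact ε.symm.surjective
  rw [commutator_def, h1, ← Subgroup.map_commutator, ← commutator_def, h]

namespace Hyp

/-- **The subgroup of type `Fi22`.** -/
theorem exists_Y [Finite G] (H : Hyp hF t M π R) {a b : G} (ha : Rel t M π R t a) (hb : Rel t M π R t b)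
    (hab : Opp a b) (N : Subgroup G) (hN : ∀ g, g ∈ N ↔ NN t M a g) :
    ∃ (ht : t ∈ N ⊓ Subgroup.centralizer ({b} : Set G))
      (y : ℕ → (N ⊓ Subgroup.centralizer ({b} : Set G) : Subgroup G)), Nodes ⟨t, ht⟩ y := by
  have memY : ∀ g, g ∈ N ⊓ Subgroup.centralizer ({b} : Set G) ↔ NN t M a g ∧ g * b = b * g := by
    intro g
    rw [Subgroup.mem_inf, hN, Subgroup.mem_centralizer_singleton_iff]
  have sa := H.symm ha
  have ht : t ∈ N ⊓ Subgroup.centralizer ({b} : Set G) :=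
    (memY t).2 ⟨H.nn_of_rel sa, H.rel_comm hb⟩
  refine ⟨ht, ?_⟩
  generalize hY : N ⊓ Subgroup.centralizer ({b} : Set G) = Y at memY ht
  set d : Y := ⟨t, ht⟩ with hd
  -- the centraliser of `t` in `Y`
  have h1 : ∀ z : Subgroup.centralizer ({d} : Set Y), ((z : Y) : G) ∈ UU M a b := by
    intro z
    have hz : ((z : Y) : G) * t = t * (z : Y) := congrArg Subtype.val (Subgroup.mem_centralizer_singleton_iff.1 z.2)
    obtain ⟨n1, n2⟩ := (memY _).1 (z : Y).2
    refine mem_UU.2 ⟨H.nn_base.1 (H.cent sa n1 hz), (H.nn_comm n1).symm, n2⟩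
  have h2 : ∀ g ∈ UU M a b, g ∈ Y := by
    intro g hg
    obtain ⟨g1, g2, g3⟩ := mem_UU.1 hg
    exact (memY g).2 ⟨H.cent ha (H.nn_base.2 g1) g2, g3⟩
  have h3 : ∀ g (hg : g ∈ UU M a b), (⟨g, h2 g hg⟩ : Y) ∈ Subgroup.centralizer ({d} : Set Y) := by
    intro g hg
    rw [Subgroup.mem_centralizer_singleton_iff]
    exact Subtype.ext (H.S.comm g (mem_UU.1 hg).1)
  let ε : Subgroup.centralizer ({d} : Set Y) ≃* UU M a b :=
    { toFun := fun z => ⟨(z : Y), h1 z⟩
      invFun := fun g => ⟨⟨g, h2 g g.2⟩, h3 g g.2⟩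
      left_inv := fun z => rfl
      right_inv := fun g => rfl
      map_mul' := fun x y => rfl }
  obtain ⟨θ, hE, hperf, -, -⟩ := H.exists_chart ha hb hab (H.mem_UU_base ha hb)
  have hE' := ext_equiv hE ε (z' := zel d) rfl
  have hperf' := perf_equiv ε hperf
  refine exists_nodes d hF _ hE' hperf' ?_
  -- `t` is not weakly closed
  obtain ⟨s, hs, s', hs', rs, rs', hne, hcomm⟩ := H.exists_two ha hb hab
  obtain ⟨s1, s2, s3⟩ := mem_UU.1 hs
  obtain ⟨s1', s2', s3'⟩ := mem_UU.1 hs'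
  have aa : a * a = 1 := H.rel_sq ha
  have bb : b * b = 1 := H.rel_sq hb
  have nab : a * b ≠ b * a := hab.not_comm aa bb
  have nsa : s ≠ a := by rintro rfl; exact nab s3
  have nsb : s ≠ b := by rintro rfl; exact nab s2.symm
  obtain ⟨Ns, ρ, H', e1, e2, e3⟩ := H.at (H.conjR rs)
  have rsa : Rel s Ns ρ R s a := (e1 _ _).2 (H.star rs ha nsa s2)
  have rsb : Rel s Ns ρ R s b := (e1 _ _).2 (H.star rs hb nsb s3)
  have rst : Rel s Ns ρ R s t := (e1 _ _).2 (H.symm rs)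
  have rss' : Rel s Ns ρ R s s' := (e1 _ _).2 (H.star rs rs' hne hcomm)
  have mt : t ∈ UU Ns a b :=
    mem_UU.2 ⟨H'.nn_base.1 (H'.nn_of_rel rst), H.rel_comm ha, H.rel_comm hb⟩
  have ms' : s' ∈ UU Ns a b := mem_UU.2 ⟨H'.nn_base.1 (H'.nn_of_rel rss'), s2', s3'⟩
  obtain ⟨g, hg, hgt⟩ := H'.conj_UU rsa rsb hab mt ms' rst rss'
  obtain ⟨g1, g2, g3⟩ := mem_UU.1 hg
  have hgY : g ∈ Y := (memY g).2 ⟨(e2 _ _).1 (H'.cent rsa (H'.nn_base.2 g1) g2), g3⟩
  refine ⟨⟨g, hgY⟩, ?_, ?_⟩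
  · rw [Subgroup.mem_centralizer_singleton_iff]
    apply Subtype.ext
    show g * t * g⁻¹ * t = t * (g * t * g⁻¹)
    rw [hgt]
    exact H.S.comm s' s1'
  · intro h
    have h4 : g * t * g⁻¹ = t := congrArg Subtype.val h
    rw [hgt] at h4
    exact H.rel_ne rs' h4.symm

end Hyp

end Cfsg.Agent.BabyU.Ident
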